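import Cfsg.Agent.H470.PiRad.CosetSys_m3
import Cfsg.Agent.H35.ExcIdxTw_m3
import Cfsg.Agent.H470.EPK.ParOfVJ
import Cfsg.Agent.KFacts.RgdFiltChev
import Cfsg.Agent.KFacts.RgdFiltTwAll
import Cfsg.Agent.S1030
import Mathlib
import Cfsg.Agent.ChevFast.E6
import Cfsg.Agent.ChevFast.E7
import Cfsg.Agent.ChevFast.E8
import Cfsg.Agent.ChevFast.F4
import Cfsg.Agent.Schreier.BNGraph
import Cfsg.Agent.H542.Pi.G2Cases
import Cfsg.Agent.H320.Cyc.Main
import Cfsg.Agent.H957.InvU5
import Cfsg.Agent.H957.T5Main_m3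
import Cfsg.Agent.H365.PiFi.Base_mg
import Cfsg.Agent.H51.Rad3.Ru
import Cfsg.Agent.H173.SK.Ru_m3
import Cfsg.Agent.H820.Outer
import Cfsg.Agent.Lib.FinFast
import Cfsg.Agent.H31.TwoCyc.MThirteen
import Cfsg.Agent.H96.Wf.M
import Cfsg.Agent.H478.RadTools_m3
import Cfsg.Agent.H296.FFourFix
import Cfsg.Agent.H73.OI.InnerChev
import Cfsg.Agent.ClassicalGeometry.AutPSL.Main
import Cfsg.Agent.H383.Pi.GoodSU
import Cfsg.Agent.H548.BS.LinExt
import Cfsg.Agent.H716.S5.PSL
import Cfsg.Agent.CpAut.Descent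
import Cfsg.Agent.H104.Closed_m3
import Cfsg.Agent.H110.Fpr.Small
import Cfsg.Agent.H460.IFO.Fac
import Cfsg.Agent.S1025
import Cfsg.Agent.ChevalleyStructure.RootVec
import Cfsg.Agent.ChevalleyStructure.Elts
import Cfsg.Agent.S1035
import Cfsg.Agent.FastGrp
import Cfsg.Agent.Prune
set_option linter.all false

section
prune_inst 0x7ffde9f8bbb889dfdfff7e77a6d4cffc38901fffa4dff9437fe061ff0bdf030809c5ab8d09e010fe0ed6401410a87803fb7ece7fe06bdc7ffffd5ff45ffbee0fa5e7bd08519688340fb80fff63f0778e7f3fffffffffffffffffffffffffffaeffbdffffffff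

-- part: H470/PiRad/Dat
section
prune_inst 0x1600040170002000018859291002c166e0004200063000099a00d0206865f63050327617c001f101b0aa065003d0040001800f00010000020000200411901a0800a72861340a10466000980b887180c00000000000000000000000000051004000000000
set_option linter.all false
open scoped Cfsg.Agent.FastGrp

-- part: H470/PiRad/Par
section
/-!
# S4324: parabolic subgroups invariant under conjugates of a type preserving automorphism (helper470)

`K` finite with a (B,N)-pair `P`, `x : MulAut K`.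

* `Kill P s A` : no `s'`-subgroup normalised by `B` covers `P_A / B`; `kill_of_index`, `kill_of_gen`;
* `core_le_sdiff` : `O_{s'}(P_J) ≤ P_{J \ A}` for `A ⊆ J` connected with `Kill P s A`;
* `FP P x J` : a conjugate of `x` normalises `P_J`;
* `FP.mono` : overgroups (type preserving `x`); `FP.sdiff` : from `J` to `J \ A` (`PC s x`, `Kill P s A`);
  `FP.of_not_dvd` : from `J` to `L ⊆ J` if `|x| = p` does not divide `|P_J : P_L|`;
* `false_of_leaves` : `x = 1` if a conjugate of `x` normalises `B` and two maximal parabolics have connected type with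
  `Kill`.
-/

set_option autoImplicit false
set_option linter.unusedSectionVars false

namespace Cfsg.Agent.H470.PiRad.Par

open Cfsg Subgroup Cfsg.Agent.H216.Pi Cfsg.Agent.H459.Gallery Cfsg.Agent.Schreier.BNSch
open Cfsg.Agent.H470.PiRad.Gal Cfsg.Agent.H470.PiRad.CosetSys

variable {K : Type*} [Group K] [Finite K] {s : ℕ} (P : BNPair K)

/-- no `s'`-subgroup normalised by `B` covers `P_A / B` -/
def Kill (s : ℕ) (A : Set K) : Prop :=
  ∀ R : Subgroup K, (∀ b ∈ P.B, ∀ r ∈ R, b * r * b⁻¹ ∈ R) → (Nat.card R).Coprime s → ¬ P.parabolic A ≤ R ⊔ P.B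

variable {P}

theorem Kill.mono {A A' : Set K} (h : Kill P s A) (hA : A ⊆ A') : Kill P s A' :=
  fun R h1 h2 h3 => h R h1 h2 ((parabolic_mono P hA).trans h3)

theorem mem_normalizer_of {R : Subgroup K} {b : K} (h : ∀ r ∈ R, b * r * b⁻¹ ∈ R) : b ∈ normalizer (R : Set K) := by
  refine Cfsg.Agent.H459.Reduce.mem_normalizer_of_cj ?_
  refine Subgroup.eq_of_le_of_card_ge ?_ (le_of_eq (Subgroup.card_map_of_injective
    (K := R) (MulAut.conj b).injective).symm)
  rintro _ ⟨a, ha, rfl⟩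
  exact h a ha

theorem exists_of_mem_sup {R : Subgroup K} (hn : ∀ b ∈ P.B, ∀ r ∈ R, b * r * b⁻¹ ∈ R) {m : K} (hm : m ∈ R ⊔ P.B) :
    ∃ a ∈ R, ∃ z ∈ P.B, m = a * z := by
  have h2 : m ∈ ((R ⊔ P.B : Subgroup K) : Set K) := hm
  rw [Subgroup.coe_mul_of_right_le_normalizer_left] at h2
  · obtain ⟨a, ha, z, hz, e⟩ := h2
    exact ⟨a, ha, z, hz, e.symm⟩
  · intro b hb
    exact mem_normalizer_of (hn b hb)

theorem kill_of_index (hs : s.Prime) {A : Set K} (hd : s ∣ P.B.relIndex (P.parabolic A)) : Kill P s A := by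
  intro R hn hR hle
  have h1 : P.B.relIndex R = P.B.relIndex (R ⊔ P.B) :=
    relIndex_eq_of_mul le_sup_left fun m hm => exists_of_mem_sup hn hm
  have h2 := Subgroup.relIndex_mul_relIndex P.B (P.parabolic A) (R ⊔ P.B) (B_le_parabolic P _) hle
  have h3 : s ∣ P.B.relIndex R := by
    rw [h1, ← h2]
    exact Dvd.dvd.mul_right hd _
  exact hs.one_lt.ne' (Nat.Coprime.eq_one_of_dvd hR.symm (h3.trans (Subgroup.relIndex_dvd_card _ _)))

/-- `U` an `s'`-subgroup normal in `B`, `Y` in the normal closure of `U` in `P_A`. -/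
theorem kill_of_gen (hs : s.Prime) {A : Set K} {U Y : Subgroup K} (hUB : U ≤ P.B)
    (hUn : ∀ b ∈ P.B, ∀ u ∈ U, b * u * b⁻¹ ∈ U) (hUs : (Nat.card U).Coprime s)
    (hY : ∀ V : Subgroup K, U ≤ V → (∀ g ∈ P.parabolic A, ∀ v ∈ V, g * v * g⁻¹ ∈ V) → Y ≤ V) (hd : s ∣ Nat.card Y) :
    Kill P s A := by
  intro R hn hR hle
  set! V : Subgroup K := R ⊔ U with hV
  have hRV : R ≤ V := le_sup_left
  have hUV : U ≤ V := le_sup_right
  have hRn : ∀ g ∈ R, ∀ v ∈ V, g * v * g⁻¹ ∈ V := fun g hg v hv =>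
      mul_mem (mul_mem (hRV hg) hv) (inv_mem (hRV hg))
  have hBn : ∀ g ∈ P.B, ∀ v ∈ V, g * v * g⁻¹ ∈ V := by
    intro g hg
    have h1 : V ≤ V.comap (MulAut.conj g).toMonoidHom := by
      refine sup_le ?_ ?_
      · intro r hr
        exact hRV (hn g hg r hr)
      · intro u hu
        exact hUV (hUn g hg u hu)
    exact fun v hv => h1 hv
  have hVn : ∀ g ∈ P.parabolic A, ∀ v ∈ V, g * v * g⁻¹ ∈ V := by
    intro g hg v hv
    obtain ⟨a, ha, z, hz, rfl⟩ := exists_of_mem_sup hn (hle hg)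
    have h1 : a * z * v * (a * z)⁻¹ = a * (z * v * z⁻¹) * a⁻¹ := by group
    rw [h1]
    exact hRn a ha _ (hBn z hz v hv)
  have hYV := hY V hUV hVn
  have hcard : (Nat.card V).Coprime s := by
    have hcN : (R.subgroupOf V).Normal := by
      refine ⟨fun n hn' a => ?_⟩
      rw [mem_subgroupOf] at hn' ⊢
      have haV : (a : K) ∈ R ⊔ U := a.2
      have h1 : (R ⊔ U : Subgroup K) ≤ normalizer (R : Set K) :=
        sup_le le_normalizer (fun u hu => mem_normalizer_of (hn u (hUB hu)))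
      exact (Subgroup.mem_normalizer_iff.1 (h1 haV) n).1 hn'
    have h7 := Lib.Cores.card_sup_dvd (R.subgroupOf V) (U.subgroupOf V) hcN
    have h8 : R.subgroupOf V ⊔ U.subgroupOf V = ⊤ := by
      rw [← Subgroup.subgroupOf_sup le_sup_left le_sup_right, Subgroup.subgroupOf_self]
    rw [h8, Subgroup.card_top, Nat.card_congr (subgroupOfEquivOfLe (le_sup_left : R ≤ V)).toEquiv,
      Nat.card_congr (subgroupOfEquivOfLe (le_sup_right : U ≤ V)).toEquiv] at h7
    exact Nat.Coprime.coprime_dvd_left h7 (Nat.Coprime.mul_left hR hUs)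
  exact hs.one_lt.ne' (Nat.Coprime.eq_one_of_dvd hcard.symm (hd.trans (Subgroup.card_dvd_of_le hYV)))

/-- **`O_{s'}(P_J) ≤ P_{J \ A}`**, `A ⊆ J` connected with `Kill P s A`. -/
theorem core_le_sdiff {J A : Set K} (hJ : J ⊆ P.S) (hA : A ⊆ J) (hconn : Conn P A) (hk : Kill P s A) :
    coreIn s (P.parabolic J) ≤ P.parabolic (J \ A) := by
  set G' := P.parabolic J with hG'
  set! Q : BNPair G' := Cfsg.Agent.LieRecognition.BNCox.sub P J hJ with hQ
  have hQB : Q.B = P.B.subgroupOf G' := rfl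
  have hQS : Q.S = {x : G' | (x : K) ∈ J} := rfl
  have hBG : P.B ≤ G' := B_le_parabolic P _
  set R := coreIn s G' with hR
  have hRJ : R ≤ G' := coreIn_le _
  have hRn : ∀ g ∈ G', ∀ r ∈ R, g * r * g⁻¹ ∈ R := fun g hg r hr => coreIn_conj_mem hg hr
  have hn : (R.subgroupOf G').Normal := by
    refine ⟨fun n hn g => ?_⟩
    rw [mem_subgroupOf] at hn ⊢
    exact hRn g g.2 n hn
  obtain ⟨J', hJ'S, hJ'e⟩ := Cfsg.Agent.S0311.result Q (R.subgroupOf G' ⊔ Q.B) le_sup_right
  have hsup : R.subgroupOf G' ⊔ Q.B = (R ⊔ P.B).subgroupOf G' := by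
    rw [hQB, ← Subgroup.subgroupOf_sup hRJ hBG]
  -- the type of `R B`
  set! J'' : Set K := Subtype.val '' J' with hJ''
  have himg : J'' ⊆ J := by
    rintro _ ⟨j, hj, rfl⟩
    have h1 := hJ'S hj
    rw [hQS] at h1
    exact h1
  have hRB : R ⊔ P.B = P.parabolic J'' := by
    have h1 : (R ⊔ P.B).subgroupOf G' = (P.parabolic J'').subgroupOf G' := by
      rw [← hsup, hJ'e]
      show Q.B ⊔ _root_.Subgroup.closure J' = _
      have h2 : P.parabolic J'' ≤ G' := parabolic_mono P himg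
      have h3 : (_root_.Subgroup.closure J').map G'.subtype = closure J'' := by
        rw [MonoidHom.map_closure]; rfl
      apply Subgroup.map_injective G'.subtype_injective
      rw [Subgroup.map_sup, h3, Subgroup.map_subgroupOf_eq_of_le h2, hQB, Subgroup.map_subgroupOf_eq_of_le hBG]
      rfl
    have h4 := congrArg (Subgroup.map G'.subtype) h1
    rwa [Subgroup.map_subgroupOf_eq_of_le (sup_le hRJ hBG), Subgroup.map_subgroupOf_eq_of_le (parabolic_mono P himg)] at h4
  have hdisj : ∀ a ∈ A, a ∉ J'' := by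
    by_contra hcon
    push Not at hcon
    obtain ⟨a, haA, haJ⟩ := hcon
    have hall : A ∩ J'' = A := by
      by_contra hne
      obtain ⟨a, ⟨haA, a', ha', rfl⟩, b, ⟨hbA, hb'⟩, hab⟩ := hconn (A ∩ J'') Set.inter_subset_left ⟨a, haA, haJ⟩ hne
      have hbJ : b ∈ J := hA hbA
      have hbG : b ∈ G' := (le_sup_right : _root_.Subgroup.closure J ≤ G') (Subgroup.subset_closure hbJ)
      have h1 := Cfsg.Agent.S0319.commute_of_normal Q (R.subgroupOf G') hJ'S hJ'e ha'
        (s' := ⟨b, hbG⟩) ⟨by rw [hQS]; exact hbJ, fun h => hb' ⟨hbA, ⟨_, h, rfl⟩⟩⟩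
      rw [hQB, mem_subgroupOf] at h1
      exact hab h1
    refine hk R (fun b hb r hr => hRn b (hBG hb) r hr) (coreIn_coprime _) ?_
    rw [hRB]
    refine parabolic_mono P ?_
    rw [← hall]
    exact Set.inter_subset_right
  refine (le_sup_left : R ≤ R ⊔ P.B).trans ?_
  rw [hRB]
  exact parabolic_mono P fun j hj => ⟨himg hj, fun hjA => hdisj j hjA hj⟩

variable (P)

/-- a conjugate of `x` normalises `P_J` -/
def FP (x : MulAut K) (J : Set K) : Prop := ∃ g : K, Iv (cx x g) (P.parabolic J)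

variable {P}

/-- `TB`-automorphisms normalise all standard parabolic subgroups -/
theorem iv_of_TB {z : MulAut K} (hz : TB P z) {J : Set K} (hJ : J ⊆ P.S) : Iv z (P.parabolic J) := by
  have h1 : P.parabolic J ≤ (P.parabolic J).comap z.toMonoidHom := by
    refine sup_le (fun b hb => B_le_parabolic P _ (hz.1 b hb)) ((closure_le _).2 fun j hj => ?_)
    exact parabolic_mono P (Set.singleton_subset_iff.2 hj) (hz.2 j (hJ hj) j (mem_parabolic_self P j))
  exact fun a ha => h1 ha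

theorem tp_cx {x : MulAut K} (h : TP P x) (g : K) : TP P (cx x g) := by
  have h1 := ((TP.conj (P := P) g⁻¹).mul h).mul (TP.conj g)
  have h2 : cx x g = MulAut.conj g⁻¹ * x * MulAut.conj g := by
    unfold cx
    rw [map_inv]
  rw [h2]
  exact h1

/-- the translation part of a type preserving automorphism normalising `P_J` lies in `P_J` -/
theorem mem_of_iv {x : MulAut K} {J : Set K} (hJ : J ⊆ P.S) (hx : Iv x (P.parabolic J)) {c : K}
    (hc : TB P ((MulAut.conj c)⁻¹ * x)) : c ∈ P.parabolic J := by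
  have h1 := iv_of_TB hc hJ
  have h2 : Iv ((MulAut.conj c)⁻¹) (P.parabolic J) := by
    have h3 := iv_mul h1 (iv_inv hx)
    rwa [mul_inv_cancel_right] at h3
  have h4 : Iv (MulAut.conj c) (P.parabolic J) := by
    have h5 := iv_inv h2
    rwa [inv_inv] at h5
  have h6 : c ∈ normalizer (P.parabolic J : Set K) := mem_normalizer_of fun r hr => h4 r hr
  rwa [S0312.result P hJ] at h6

/-- overgroups -/
theorem iv_mono {x : MulAut K} (hTP : TP P x) {J L : Set K} (hJL : J ⊆ L) (hL : L ⊆ P.S)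
    (hx : Iv x (P.parabolic J)) : Iv x (P.parabolic L) := by
  obtain ⟨c, hc⟩ := hTP
  have h1 : c ∈ P.parabolic L := parabolic_mono P hJL (mem_of_iv (hJL.trans hL) hx hc)
  have h2 := iv_mul (x := MulAut.conj c) (fun a ha => mul_mem (mul_mem h1 ha) (inv_mem h1)) (iv_of_TB hc hL)
  rwa [mul_inv_cancel_left] at h2

theorem FP.mono {x : MulAut K} (hTP : TP P x) {J L : Set K} (hL : L ⊆ P.S) (hx : FP P x J) (hJL : J ⊆ L) :
    FP P x L := by
  obtain ⟨g, hg⟩ := hx
  exact ⟨g, iv_mono (tp_cx hTP g) hJL hL hg⟩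

/-- **removing a component** -/
theorem FP.sdiff {x : MulAut K} (h : PC s x) {J A : Set K} (hJ : J ⊆ P.S) (hne : P.parabolic J ≠ ⊤) (hA : A ⊆ J)
    (hconn : Conn P A) (hk : Kill P s A) (hx : FP P x J) : FP P x (J \ A) := by
  obtain ⟨g, hg⟩ := hx
  refine ⟨g, fun m hm => ?_⟩
  have h1 := core_le_sdiff hJ hA hconn hk
  have h2 := pc_cx h g _ hne hg m (parabolic_mono P Set.sdiff_subset hm)
  have h3 : cx x g m = m * (m⁻¹ * cx x g m) := by group
  rw [h3]
  exact mul_mem hm (h1 h2)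

/-- **fixed points** : from `J` to `L ⊆ J` if `p` does not divide `|P_J : P_L|` -/
theorem FP.of_not_dvd {x : MulAut K} {p : ℕ} (hp : p.Prime) (hxp : x ^ p = 1) (hTP : TP P x) {J L : Set K}
    (hJ : J ⊆ P.S) (hLJ : L ⊆ J) (hd : ¬ p ∣ (P.parabolic L).relIndex (P.parabolic J)) (hx : FP P x J) :
    FP P x L := by
  classical
  obtain ⟨g₀, hg₀⟩ := hx
  have : Fact p.Prime := ⟨hp⟩
  set y := cx x g₀ with hy
  have hyp : y ^ p = 1 := by
    have h1 : y = MulAut.conj (MulAut.conj g₀)⁻¹ x := by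
      rw [MulAut.conj_apply, inv_inv]; rfl
    rw [h1, ← map_pow, hxp, map_one]
  have hyTP : TP P y := tp_cx hTP g₀
  obtain ⟨c, hc⟩ := hyTP
  set z := (MulAut.conj c)⁻¹ * y with hz
  have hyz : y = MulAut.conj c * z := by rw [hz, mul_inv_cancel_left]
  set G := P.parabolic J with hG
  set H := P.parabolic L with hH
  have hHG : H ≤ G := parabolic_mono P hLJ
  have hcG : c ∈ G := mem_of_iv hJ hg₀ hc
  have hzH : Iv z H := iv_of_TB hc (hLJ.trans hJ)
  have hzG : Iv z G := iv_of_TB hc hJ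
  have hyG : ∀ a ∈ G, y a ∈ G := hg₀
  -- the action on the cosets
  let σ : G ⧸ H.subgroupOf G → G ⧸ H.subgroupOf G :=
    Quotient.map' (fun g : G => (⟨y g * c, mul_mem (hyG g g.2) hcG⟩ : G)) (by
      intro a b hab
      rw [QuotientGroup.leftRel_apply] at hab ⊢
      rw [mem_subgroupOf] at hab ⊢
      show (y a * c)⁻¹ * (y b * c) ∈ H
      have h1 : (y a * c)⁻¹ * (y b * c) = z ((a : K)⁻¹ * b) := by
        rw [hz, MulAut.mul_apply, MulAut.conj_inv_apply, map_mul, map_inv]
        group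
      rw [h1]
      exact hzH _ hab)
  have hσmk : ∀ g : G, σ (QuotientGroup.mk g) = QuotientGroup.mk (⟨y g * c, mul_mem (hyG g g.2) hcG⟩ : G) := fun g => rfl
  have hpow : ∀ k : ℕ, ∃ ck : K, (ck ∈ G) ∧ Iv ((MulAut.conj ck)⁻¹ * y ^ k) H ∧ ∀ g : G, ∃ (hm : (y ^ k) g * ck ∈ G),
      σ^[k] (QuotientGroup.mk g) = QuotientGroup.mk (⟨(y ^ k) g * ck, hm⟩ : G) := by
    intro k
    induction k with
    | zero =>
      refine ⟨1, one_mem _, ?_, fun g => ⟨by simpa using g.2, ?_⟩⟩
      · intro a ha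
        simp only [map_one, inv_one, pow_zero, mul_one, MulAut.one_apply]
        exact ha
      · simp
    | succ k ih =>
      obtain ⟨ck, h1, h2, h3⟩ := ih
      refine ⟨y ck * c, mul_mem (hyG _ h1) hcG, ?_, fun g => ?_⟩
      · have h4 : (MulAut.conj (y ck * c))⁻¹ * y ^ (k + 1) = z * ((MulAut.conj ck)⁻¹ * y ^ k) := by
          have h5 := conj_mul_eq y ck⁻¹
          rw [map_inv, map_inv, map_inv] at h5
          rw [hz, map_mul, mul_inv_rev, pow_succ', mul_assoc, mul_assoc, ← mul_assoc _ y, ← h5]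
          group
        rw [h4]
        exact iv_mul hzH h2
      · obtain ⟨hm, h4⟩ := h3 g
        have h5 : (y ^ (k + 1)) g * (y ck * c) = y ((y ^ k) g * ck) * c := by
          rw [map_mul, pow_succ', MulAut.mul_apply]; group
        have h6 : y ((y ^ k) g * ck) * c ∈ G := mul_mem (hyG _ hm) hcG
        refine ⟨by rw [h5]; exact h6, ?_⟩
        rw [Function.iterate_succ_apply', h4, hσmk]
        congr 1
        exact Subtype.ext h5.symm
  have hinv : σ^[p] = id := by
    obtain ⟨ck, h1, h2, h3⟩ := hpow p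
    have hck : ck ∈ H := by
      rw [hyp, mul_one] at h2
      have h5 := iv_inv h2
      rw [inv_inv] at h5
      have h6 : ck ∈ normalizer (P.parabolic L : Set K) := mem_normalizer_of fun r hr => h5 r hr
      rwa [S0312.result P (hLJ.trans hJ)] at h6
    funext w
    obtain ⟨g, rfl⟩ := QuotientGroup.mk_surjective w
    obtain ⟨hm, h4⟩ := h3 g
    rw [h4, id, QuotientGroup.eq, mem_subgroupOf]
    show ((y ^ p) g * ck)⁻¹ * g ∈ H
    rw [hyp, MulAut.one_apply]
    have h5 : ((g : K) * ck)⁻¹ * g = ck⁻¹ := by group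
    rw [h5]
    exact inv_mem hck
  have hp1 : p = p - 1 + 1 := by have := hp.pos; omega
  let e : Equiv.Perm (G ⧸ H.subgroupOf G) :=
    { toFun := σ
      invFun := σ^[p - 1]
      left_inv := fun w => by
        have h1 := congrFun hinv w
        rw [hp1, Function.iterate_succ_apply] at h1
        exact h1
      right_inv := fun w => by
        have h1 := congrFun hinv w
        rw [hp1, Function.iterate_succ_apply'] at h1
        exact h1 }
  have hep : e ^ p ^ 1 = 1 := by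
    ext w
    rw [pow_one, ← Equiv.Perm.iterate_eq_pow]
    exact congrFun hinv w
  have : Fintype (G ⧸ H.subgroupOf G) := Fintype.ofFinite _
  have hcard : ¬ p ∣ Fintype.card (G ⧸ H.subgroupOf G) := by
    rw [← Nat.card_eq_fintype_card]
    exact hd
  obtain ⟨w, hw⟩ := Equiv.Perm.exists_fixed_point_of_prime hcard hep
  obtain ⟨g, rfl⟩ := QuotientGroup.mk_surjective w
  have h1 : σ (QuotientGroup.mk g) = QuotientGroup.mk g := hw
  rw [hσmk, eq_comm, QuotientGroup.eq, mem_subgroupOf] at h1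
  have h2 : (g : K)⁻¹ * (y g * c) ∈ H := h1
  refine ⟨g₀ * g, fun a ha => ?_⟩
  rw [← cx_cx, ← hy, cx_apply]
  have h3 : (g : K)⁻¹ * y (g * a * (g : K)⁻¹) * g = ((g : K)⁻¹ * (y g * c)) * z a * ((g : K)⁻¹ * (y g * c))⁻¹ := by
    rw [hz, MulAut.mul_apply, MulAut.conj_inv_apply, map_mul, map_mul, map_inv]
    group
  rw [h3]
  exact mul_mem (mul_mem h2 (hzH a ha)) (inv_mem h2)

/-- the parabolic subgroups of the leaves -/
theorem eq_one_of_leaves {x : MulAut K} (h : PC s x) (hTP : TP P x) (hcB : P.B.normalCore = ⊥)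
    (hx : FP P x ∅) (𝓙 : Set (Set K)) (hJ : ∀ J ∈ 𝓙, J ⊆ P.S ∧ P.parabolic J ≠ ⊤ ∧ Conn P J ∧ Kill P s J)
    (hcov : ∀ t ∈ P.S, ∃ J ∈ 𝓙, t ∈ J) : x = 1 := by
  obtain ⟨g, hg⟩ := hx
  have hNB : normalizer (P.B : Set K) = P.B := by
    have h3 := S0312.result P (J := ∅) (Set.empty_subset _)
    rwa [parabolic_empty] at h3
  have h1 : cx x g = 1 := by
    refine Gal.eq_one_of_cover P (pc_cx h g) hcB hNB (by rwa [parabolic_empty] at hg) 𝓙 (fun J hJJ => ?_) hcov
    obtain ⟨h1, h2, h3, h4⟩ := hJ J hJJ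
    refine ⟨h2, ?_, iv_mono (tp_cx hTP g) (Set.empty_subset _) h1 hg⟩
    have h5 := core_le_sdiff h1 (le_refl _) h3 h4
    rwa [Set.sdiff_self, parabolic_empty] at h5
  have h3 : x = MulAut.conj g * cx x g * (MulAut.conj g)⁻¹ := by
    unfold cx
    group
  rw [h3, h1, mul_one, mul_inv_cancel]

end Cfsg.Agent.H470.PiRad.Par
end

-- part: H470/PiRad/Orb
section
/-!
# Orders of parabolic subgroups of root group data: orbit tables for arbitrary types (helper470, S4324)

* `Nd`, `orbOK` : a table of the orbit of the fundamental weight `k` under `W_J`, checked by computation;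
* `sum_orb`, `card_orb` : `|P_J| = (∑ q ^ a) |P_{J \ {k}}|`.
-/

set_option autoImplicit false
set_option linter.unusedSectionVars false

namespace Cfsg.Agent.H470.PiRad.Orb

open CoxeterSystem Cfsg.Agent.ChevalleyStructure.CoxeterGeom Cfsg.Agent.Tits.Roots Cfsg.Agent.Tits.Core
  Cfsg.Agent.Tits.RootComb Cfsg.Agent.Nodes.Comb Cfsg.Agent.Nodes.Reps Cfsg.Agent.Nodes.BNOf
  Cfsg.Agent.Nodes.StabComb Cfsg.Agent.Nodes.Bruhat Cfsg.Agent.Nodes.LeviDec Cfsg.Agent.H35.Poin
  Cfsg.Agent.ChevalleyStructure.WeylAbstract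

/-- a weight of the orbit : vector, exponent, parent, reflection -/
structure Nd where
  v : List ℤ
  a : ℕ
  par : ℕ
  idx : ℕ

/-- default node -/
def Nd.dflt : Nd := ⟨[], 0, 0, 0⟩

/-- reflected weight -/
def actL (row : List ℤ) (c : ℤ) (v : List ℤ) : List ℤ := List.zipWith (fun x y => x - c * y) v row

/-- unit vector -/
def unitL (l k : ℕ) : List ℤ := (List.range l).map fun j => if j = k then 1 else 0

/-- equality of vectors -/
def eqL : List ℤ → List ℤ → Bool
  | [], [] => true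
  | a :: l, b :: m => decide (a = b) && eqL l m
  | _, _ => false

theorem eq_of_eqL : ∀ {l m : List ℤ}, eqL l m = true → l = m
  | [], [], _ => rfl
  | a :: l, b :: m, h => by
    simp only [eqL, Bool.and_eq_true, decide_eq_true_eq] at h
    rw [h.1, eq_of_eqL h.2]
  | [], _ :: _, h => by simp [eqL] at h
  | _ :: _, [], h => by simp [eqL] at h

theorem eqL_self : ∀ l : List ℤ, eqL l l = true
  | [] => rfl
  | a :: l => by simp [eqL, eqL_self l]

/-- the images under the reflections of `J` are in the table -/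
def nbOK (l : ℕ) (J : List ℕ) (A : List (List ℤ)) (L : List Nd) (nd : Nd) : Bool :=
  (nd.v.length == l) && J.all fun i =>
    L.any fun nd' => eqL nd'.v (actL (A.getD i []) (nd.v.getD i 0) nd.v)

/-- the node is obtained from its parent -/
def parOK (J : List ℕ) (cl : List ℕ) (A : List (List ℤ)) (L : List Nd) (m : ℕ) (nd : Nd) : Bool :=
  match L.getD nd.par Nd.dflt with
  | ⟨pv, pa, _, _⟩ =>
    decide (nd.par < m) && J.contains nd.idx && decide (0 < pv.getD nd.idx 0) &&
    eqL nd.v (actL (A.getD nd.idx []) (pv.getD nd.idx 0) pv) && (nd.a == pa + cl.getD nd.idx 0)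

/-- parents of all nodes from position `m` on -/
def parsOK (J : List ℕ) (cl : List ℕ) (A : List (List ℤ)) (L : List Nd) : ℕ → List Nd → Bool
  | _, [] => true
  | m, nd :: l => parOK J cl A L m nd && parsOK J cl A L (m + 1) l

/-- the vectors are pairwise distinct -/
def nodupOK : List Nd → Bool
  | [] => true
  | nd :: l => (l.all fun nd' => !(eqL nd.v nd'.v)) && nodupOK l

/-- the whole check -/
def orbOK (l k : ℕ) (J : List ℕ) (cl : List ℕ) (A : List (List ℤ)) (L : List Nd) : Bool :=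
  (match L with
    | [] => false
    | nd :: l' => eqL nd.v (unitL l k) && nd.a == 0 && parsOK J cl A L 1 l') &&
  (L.all fun nd => nbOK l J A L nd) && nodupOK L

/-- the vector of a node as a function -/
def fv {l : ℕ} (v : List ℤ) : Fin l → ℤ := fun j => v.getD j 0

theorem fv_actL {l : ℕ} (row v : List ℤ) (c : ℤ) (hr : row.length = l) (hv : v.length = l)
    (j : Fin l) : (fv (actL row c v) : Fin l → ℤ) j = v.getD j 0 - c * row.getD j 0 := by
  unfold fv actL
  have h1 : (j : ℕ) < v.length := by rw [hv]; exact j.2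
  have h2 : (j : ℕ) < row.length := by rw [hr]; exact j.2
  simp only [List.getD_eq_getElem?_getD, List.getElem?_zipWith, List.getElem?_eq_getElem h1,
    List.getElem?_eq_getElem h2, Option.getD_some]

theorem fv_unitL {l : ℕ} (k : Fin l) : (fv (unitL l k) : Fin l → ℤ) = Pi.single k 1 := by
  funext j
  unfold fv unitL
  simp only [List.getD_eq_getElem?_getD, List.getElem?_map, List.getElem?_range j.2,
    Option.map_some, Option.getD_some, Pi.single_apply, Fin.ext_iff]

section Dat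

variable {l : ℕ} {Φ : Type*} (R : RData (Fin l) Φ)

omit R in
theorem fv_inj {v v' : List ℤ} (h : v.length = l) (h' : v'.length = l)
    (e : (fv v : Fin l → ℤ) = fv v') : v = v' := by
  apply List.ext_getElem (by rw [h, h'])
  intro n h1 h2
  have := congrFun e ⟨n, by rw [← h]; exact h1⟩
  unfold fv at this
  simp only [List.getD_eq_getElem?_getD, List.getElem?_eq_getElem h1,
    List.getElem?_eq_getElem h2, Option.getD_some] at this
  exact this

/-- The facts extracted from the check. -/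
structure Facts (l k : ℕ) (J cl : List ℕ) (A : List (List ℤ)) (L : List Nd) : Prop where
  pos : 0 < L.length
  head : (L.getD 0 Nd.dflt).v = unitL l k ∧ (L.getD 0 Nd.dflt).a = 0
  par : ∀ m, 0 < m → m < L.length → parOK J cl A L m (L.getD m Nd.dflt) = true
  nb : ∀ nd ∈ L, nbOK l J A L nd = true
  nodup : (L.map Nd.v).Nodup

theorem parsOK_spec (J cl : List ℕ) (A : List (List ℤ)) (L : List Nd) :
    ∀ (l : List Nd) (m : ℕ), parsOK J cl A L m l = true → ∀ j, j < l.length →
      parOK J cl A L (m + j) (l.getD j Nd.dflt) = true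
  | [], m => by simp
  | nd :: l, m => by
    intro h j hj
    simp only [parsOK, Bool.and_eq_true] at h
    cases j with
    | zero => simpa using h.1
    | succ j =>
      have := parsOK_spec J cl A L l (m + 1) h.2 j (by simpa using hj)
      rw [show m + (j + 1) = m + 1 + j by ring]
      simpa only [_root_.List.getD_eq_getElem?_getD, _root_.List.getElem?_cons_succ] using this

theorem nodupOK_spec : ∀ (L : List Nd), nodupOK L = true → (L.map Nd.v).Nodup
  | [] => by simp
  | nd :: l => by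
    intro h
    simp only [nodupOK, Bool.and_eq_true, List.all_eq_true, Bool.not_eq_true'] at h
    rw [List.map_cons, List.nodup_cons]
    refine ⟨?_, nodupOK_spec l h.2⟩
    rw [List.mem_map]
    rintro ⟨nd', h1, h2⟩
    have h3 := h.1 nd' h1
    rw [h2, eqL_self] at h3
    exact absurd h3 (by simp)

theorem facts_of_orbOK {k : ℕ} {J cl : List ℕ} {A : List (List ℤ)} {L : List Nd}
    (h : orbOK l k J cl A L = true) : Facts l k J cl A L := by
  unfold orbOK at h
  rw [Bool.and_eq_true, Bool.and_eq_true] at h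
  obtain ⟨⟨h1, h2⟩, h3⟩ := h
  cases L with
  | nil => simp at h1
  | cons nd L' =>
    simp only [Bool.and_eq_true, beq_iff_eq] at h1
    obtain ⟨⟨h4, h5⟩, h7⟩ := h1
    refine ⟨by simp, ⟨by simpa using eq_of_eqL h4, by simpa using h5⟩, ?_, ?_,
      nodupOK_spec _ h3⟩
    · intro m hm hm'
      have := parsOK_spec J cl A (nd :: L') L' 1 h7 (m - 1) (by simp at hm'; omega)
      rw [show 1 + (m - 1) = m by omega] at this
      have e : (nd :: L').getD m Nd.dflt = L'.getD (m - 1) Nd.dflt := by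
        obtain ⟨m', rfl⟩ : ∃ m', m = m' + 1 := ⟨m - 1, by omega⟩
        simp only [_root_.List.getD_eq_getElem?_getD, _root_.List.getElem?_cons_succ, _root_.add_tsub_cancel_right]
      rw [e]
      exact this
    · intro nd' hnd'
      rw [List.all_eq_true] at h2
      exact h2 nd' hnd'

/-- the sum over the orbit -/
def S (q : ℕ) (L : List Nd) : ℕ := (L.map fun nd => q ^ nd.a).sum

variable [Fintype Φ]

/-- The orbit sum computed from a checked table. -/
theorem sum_orb (A : List (List ℤ)) (hA : ∀ i j : Fin l, (A.getD i []).getD j 0 = R.A i j)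
    (hAl : ∀ i : Fin l, (A.getD i []).length = l) (cl : List ℕ) (k : Fin l) (JL : List ℕ)
    (L : List Nd) (hok : orbOK l k JL cl A L = true) (q : ℕ) (x : Φ → ℕ)
    (hx : ∀ i r, x (R.refl i r) = x r) (hxn : ∀ r, x (R.neg r) = x r)
    (hxs : ∀ i : Fin l, x (R.simple i) = q ^ cl.getD i 0)
    (J : Set (Fin l)) (hJ : ∀ i : Fin l, i ∈ J ↔ (i : ℕ) ∈ JL) (hJl : ∀ i ∈ JL, i < l) :
    ∑ᶠ w ∈ (R.W J : Set (Equiv.Perm Φ)), R.Q x w =
      S q L * ∑ᶠ v ∈ (R.W (J \ {k}) : Set (Equiv.Perm Φ)), R.Q x v := by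
  classical
  have F := facts_of_orbOK hok
  have hlen' : ∀ nd ∈ L, nd.v.length = l := by
    intro nd hnd
    have := F.nb nd hnd
    unfold nbOK at this
    rw [Bool.and_eq_true, beq_iff_eq] at this
    exact this.1
  have hact : ∀ (i : Fin l) (v : List ℤ), v.length = l →
      (fv (actL (A.getD i []) (v.getD i 0) v) : Fin l → ℤ) = R.act i (fv v) := by
    intro i v hv
    funext j
    rw [fv_actL _ _ _ (hAl i) hv, hA]
    rfl
  have hmem : ∀ nd ∈ L, ∃ m, m < L.length ∧ L.getD m Nd.dflt = nd := by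
    intro nd hnd
    obtain ⟨m, hm, h⟩ := List.getElem_of_mem hnd
    exact ⟨m, hm, by rw [List.getD_eq_getElem?_getD, List.getElem?_eq_getElem hm, Option.getD_some, h]⟩
  have hget : ∀ m, m < L.length → L.getD m Nd.dflt ∈ L := by
    intro m hm
    rw [List.getD_eq_getElem?_getD, List.getElem?_eq_getElem hm, Option.getD_some]
    exact List.getElem_mem hm
  have hlen : ∀ m, m < L.length → (L.getD m Nd.dflt).v.length = l := fun m hm => hlen' _ (hget m hm)
  -- induction along parents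
  have hpar : ∀ m, m < L.length →
      R.Reach J k (fv (L.getD m Nd.dflt).v) ∧
      R.Qw x (fv (L.getD m Nd.dflt).v) = q ^ (L.getD m Nd.dflt).a := by
    intro m
    induction m using Nat.strong_induction_on with
    | _ m ih =>
      intro hm
      by_cases hm0 : m = 0
      · subst hm0
        rw [F.head.1, F.head.2, fv_unitL]
        refine ⟨RData.Reach.base, ?_⟩
        rw [Cfsg.Agent.H35.Poin.Qw_single, pow_zero]
      · have h := F.par m (by omega) hm
        unfold parOK at h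
        generalize hp : L.getD (L.getD m Nd.dflt).par Nd.dflt = p at h
        obtain ⟨pv, pa, pp, pi⟩ := p
        simp only [Bool.and_eq_true, decide_eq_true_eq, List.contains_iff_mem, beq_iff_eq] at h
        obtain ⟨⟨⟨⟨h1, h2⟩, h3⟩, h4⟩, h5⟩ := h
        have h4 := eq_of_eqL h4
        have hplt : (L.getD m Nd.dflt).par < L.length := by omega
        obtain ⟨ih1, ih2⟩ := ih _ h1 hplt
        have hpl := hlen _ hplt
        rw [hp] at ih1 ih2 hpl
        simp only at ih1 ih2 hpl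
        have hik : (L.getD m Nd.dflt).idx < l := hJl _ h2
        set! i : Fin l := ⟨(L.getD m Nd.dflt).idx, hik⟩ with hi
        have hv : (fv (L.getD m Nd.dflt).v : Fin l → ℤ) = R.act i (fv pv) := by
          rw [h4]
          exact hact i pv hpl
        have hpos : 0 < (fv pv : Fin l → ℤ) i := h3
        rw [hv]
        refine ⟨RData.Reach.step i _ ((hJ i).2 h2) ih1, ?_⟩
        rw [Cfsg.Agent.H35.Poin.Qw_act R x hx i _ hpos, ih2, hxs, h5, ← pow_add, add_comm]
  rw [R.sum_step x hx hxn (J := J) (k := k) ((L.map fun nd => (fv nd.v : Fin l → ℤ)).toFinset)]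
  · congr 1
    unfold S
    rw [List.sum_toFinset]
    · rw [List.map_map]
      congr 1
      apply List.map_congr_left
      intro nd hnd
      obtain ⟨m, hm, rfl⟩ := hmem nd hnd
      exact (hpar m hm).2
    · have h1 : (L.map fun nd => (fv nd.v : Fin l → ℤ)) = (L.map Nd.v).map fv := by
        rw [List.map_map]; rfl
      rw [h1]
      apply List.Nodup.map_on _ F.nodup
      intro v hv v' hv' e
      obtain ⟨nd, hnd, rfl⟩ := List.mem_map.1 hv
      obtain ⟨nd', hnd', rfl⟩ := List.mem_map.1 hv'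
      exact fv_inj (hlen' _ hnd) (hlen' _ hnd') e
  · rw [List.mem_toFinset, List.mem_map]
    exact ⟨L.getD 0 Nd.dflt, hget 0 F.pos, by rw [F.head.1, fv_unitL]⟩
  · intro μ hμ j hj
    rw [List.mem_toFinset, List.mem_map] at hμ ⊢
    obtain ⟨nd, hnd, rfl⟩ := hμ
    have h := F.nb nd hnd
    unfold nbOK at h
    rw [Bool.and_eq_true, List.all_eq_true] at h
    have h2 := h.2 j ((hJ j).1 hj)
    rw [List.any_eq_true] at h2
    obtain ⟨nd', h3, h4⟩ := h2
    exact ⟨nd', h3, by rw [eq_of_eqL h4, hact j _ (hlen' _ hnd)]⟩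
  · intro μ hμ
    rw [List.mem_toFinset, List.mem_map] at hμ
    obtain ⟨nd, hnd, rfl⟩ := hμ
    obtain ⟨m, hm, rfl⟩ := hmem nd hnd
    exact (hpar m hm).1

end Dat

section Rgd

variable {l : ℕ} {W Y : Type*} [Group W] [Group Y] {M : CoxeterMatrix (Fin l)}
  {cs : CoxeterSystem M W} {A : Fin l → Fin l → ℤ} {h : IsCartan M A} {p : ℕ} {T : Subgroup Y} {n : Fin l → Y}
  {X : (Fin l → ℤ) → Subgroup Y} (R : RGD cs h p T n X)

include R in
/-- **The order of a parabolic subgroup: one step.** -/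
theorem card_orb [Finite W] [Finite Y] (AL : List (List ℤ)) (hA : ∀ i j : Fin l, (AL.getD i []).getD j 0 = A i j)
    (hAl : ∀ i : Fin l, (AL.getD i []).length = l) (cl : List ℕ) (q : ℕ)
    (hq : ∀ i, Nat.card (X (sr i)) = q ^ cl.getD i 0) {k : Fin l} {JL : List ℕ} {L : List Nd}
    (hok : orbOK l k JL cl AL L = true) {J : Set (Fin l)} (hJ : ∀ i : Fin l, i ∈ J ↔ (i : ℕ) ∈ JL)
    (hJl : ∀ i ∈ JL, i < l) :
    Nat.card ↥(PJ cs h T X J) = S q L * Nat.card ↥(PJ cs h T X (J \ {k})) := by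
  classical
  have : Finite (Rt cs h) := finite_rt cs h
  have : Fintype (Rt cs h) := Fintype.ofFinite _
  rw [card_PJ_sum R J, card_PJ_sum R, sum_orb (rdata cs h) AL hA hAl cl k JL L hok q (fun r => Nat.card (X r.1))
    ?_ ?_ hq J hJ hJl]
  · ring
  · intro i r
    exact Cfsg.Agent.Nodes.CardSup.card_X_rep R _ r.2
  · intro r
    exact card_X_neg R r.2

end Rgd

end Cfsg.Agent.H470.PiRad.Orb
end

-- part: H470/PiRad/Mod
section
/-!
# S4324: parabolic subgroups of root group data invariant under automorphisms: rules with finite sets of nodes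
(helper470)

`R : RGD cs h r T n X`, nodes `Fin l`, `J : Finset (Fin l)`.

* `FF R hgen x J` : a conjugate of `x` normalises `P_J`; `KK`, `CC` : `Kill`, `Conn`;
* `FF.up`, `FF.dn`, `FF.fx` : the rules; `exists_FF` : Borel–Tits; `false_of_FF` : the conclusion;
* `relIndex_orb` : `|P_J : P_{J \ {k}}|` from an orbit table; `kk_of_orb`, `kk_of_tor`;
* `cc_of_list` : connectedness by computation.
-/

set_option autoImplicit false
set_option linter.unusedSectionVars false

namespace Cfsg.Agent.H470.PiRad.Mod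

open Cfsg Subgroup Cfsg.Agent.H216.Pi Cfsg.Agent.H459.Gallery Cfsg.Agent.Schreier.BNSch
open Cfsg.Agent.H470.PiRad.CosetSys Cfsg.Agent.H470.PiRad.Par Cfsg.Agent.H470.PiRad.Orb
open CoxeterSystem Cfsg.Agent.ChevalleyStructure.CoxeterGeom Cfsg.Agent.Tits.Roots
  Cfsg.Agent.Nodes.Reps Cfsg.Agent.Nodes.BNOf Cfsg.Agent.Nodes.LeviDec Cfsg.Agent.Nodes.Bruhat
  Cfsg.Agent.KFacts.RgdCharP Cfsg.Agent.KFacts.RgdVJ
open Cfsg.Agent.H459.Iface (FixR)

variable {G : Type*} [Group G] {l : ℕ} {M : CoxeterMatrix (Fin l)} {W : Type*} [Group W]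
  {cs : CoxeterSystem M W} {A : Fin l → Fin l → ℤ} {h : IsCartan M A} {r : ℕ} {T : Subgroup G} {n : Fin l → G}
  {X : (Fin l → ℤ) → Subgroup G}

section

variable [Finite W] (R : RGD cs h r T n X) (hgen : RGD.B cs h T X ⊔ NN cs R.nsys = ⊤)

theorem img_sub (J : Set (Fin l)) : n '' J ⊆ (R.bnPair hgen).S := by
  rintro _ ⟨i, -, rfl⟩
  exact ⟨i, rfl⟩

/-- the standard parabolic subgroups of the (B,N)-pair -/
theorem par_eq (hG : GG cs h T X = ⊤) (J : Set (Fin l)) : (R.bnPair hgen).parabolic (n '' J) = PJ cs h T X J := by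
  have h1 : RGD.B cs h T X ≤ (R.bnPair hgen).parabolic (n '' J) := B_le_parabolic (R.bnPair hgen) _
  have h2 := inf_eq_PJ R h1
  rw [hG, inf_top_eq] at h2
  rw [h2]
  congr 1
  ext i
  constructor
  · intro hi
    have h3 : (R.bnPair hgen).parabolic (insert (n i) (n '' J)) = (R.bnPair hgen).parabolic (n '' J) := by
      apply le_antisymm
      · refine sup_le (B_le_parabolic _ _) ((Subgroup.closure_le _).2 ?_)
        rintro y (rfl | hy)
        · exact hi
        · exact (le_sup_right : Subgroup.closure _ ≤ (R.bnPair hgen).parabolic (n '' J)) (Subgroup.subset_closure hy)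
      · exact parabolic_mono _ (Set.subset_insert _ _)
    have h4 : insert (n i) (n '' J) ⊆ (R.bnPair hgen).S := by
      rw [← Set.image_insert_eq]
      exact img_sub R hgen _
    have h5 := S0314.result (R.bnPair hgen) h4 (img_sub R hgen J) h3
    have h6 : n i ∈ n '' J := by rw [← h5]; exact Set.mem_insert _ _
    obtain ⟨j, hj, hji⟩ := h6
    rwa [← R.n_injective hji]
  · intro hi
    exact (le_sup_right : Subgroup.closure _ ≤ (R.bnPair hgen).parabolic (n '' J)) (Subgroup.subset_closure ⟨i, hi, rfl⟩)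

/-- a conjugate of `x` normalises `P_J` -/
def FF (x : MulAut G) (J : Finset (Fin l)) : Prop := FP (R.bnPair hgen) x (n '' (J : Set (Fin l)))

/-- no `s'`-subgroup normalised by `B` covers `P_J / B` -/
def KK (s : ℕ) (J : Finset (Fin l)) : Prop := Kill (R.bnPair hgen) s (n '' (J : Set (Fin l)))

/-- connectedness -/
def CC (J : Finset (Fin l)) : Prop := Gal.Conn (R.bnPair hgen) (n '' (J : Set (Fin l)))

variable {R hgen}

theorem img_sdiff (J A : Finset (Fin l)) : n '' (J : Set (Fin l)) \ n '' (A : Set (Fin l)) = n '' ((J \ A : Finset (Fin l)) : Set (Fin l)) ∨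
    ¬ Function.Injective n := by
  by_cases hn : Function.Injective n
  · left
    rw [Finset.coe_sdiff, Set.image_sdiff hn]
  · exact Or.inr hn

theorem par_ne_top {J : Finset (Fin l)} (hJ : J ≠ Finset.univ) :
    (R.bnPair hgen).parabolic (n '' (J : Set (Fin l))) ≠ ⊤ := by
  intro he
  apply hJ
  have h1 : (R.bnPair hgen).parabolic (R.bnPair hgen).S = ⊤ := sup_closure_eq_top _
  have h2 := S0314.result (R.bnPair hgen) (img_sub R hgen _) le_rfl (he.trans h1.symm)
  ext i
  refine ⟨fun _ => Finset.mem_univ _, fun _ => ?_⟩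
  have h3 : n i ∈ n '' (J : Set (Fin l)) := by rw [h2]; exact ⟨i, rfl⟩
  obtain ⟨j, hj, hji⟩ := h3
  rw [← R.n_injective hji]
  exact hj

theorem FF.up [Finite G] {x : MulAut G} (hTP : TP (R.bnPair hgen) x) {J L : Finset (Fin l)} (hx : FF R hgen x J)
    (hJL : J ⊆ L) : FF R hgen x L :=
  Par.FP.mono hTP (img_sub R hgen _) hx (Set.image_mono (Finset.coe_subset.2 hJL))

theorem KK.mono [Finite G] {s : ℕ} {J L : Finset (Fin l)} (h : KK R hgen s J) (hJL : J ⊆ L) : KK R hgen s L :=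
  Kill.mono h (Set.image_mono (Finset.coe_subset.2 hJL))

theorem FF.dn [Finite G] {s : ℕ} {x : MulAut G} (hPC : PC s x) {J A : Finset (Fin l)} (hx : FF R hgen x J)
    (hJ : J ≠ Finset.univ) (hA : A ⊆ J) (hc : CC R hgen A) (hk : KK R hgen s A) : FF R hgen x (J \ A) := by
  have h1 := Par.FP.sdiff hPC (img_sub R hgen _) (par_ne_top hJ) (Set.image_mono (Finset.coe_subset.2 hA)) hc hk hx
  rcases img_sdiff (n := n) J A with h2 | h2
  · unfold FF
    rwa [← h2]
  · exact absurd R.n_injective h2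

theorem FF.fx [Finite G] {x : MulAut G} {p : ℕ} (hp : p.Prime) (hxp : x ^ p = 1) (hTP : TP (R.bnPair hgen) x)
    {J L : Finset (Fin l)} (hx : FF R hgen x J) (hLJ : L ⊆ J)
    (hd : ¬ p ∣ ((R.bnPair hgen).parabolic (n '' (L : Set (Fin l)))).relIndex
      ((R.bnPair hgen).parabolic (n '' (J : Set (Fin l))))) : FF R hgen x L :=
  Par.FP.of_not_dvd hp hxp hTP (img_sub R hgen _) (Set.image_mono (Finset.coe_subset.2 hLJ)) hd hx

/-- two coprime indices -/
theorem FF.two [Finite G] {x : MulAut G} {p : ℕ} (hp : p.Prime) (hxp : x ^ p = 1) (hTP : TP (R.bnPair hgen) x)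
    {J L L' : Finset (Fin l)} (hx : FF R hgen x J) (hLJ : L ⊆ J) (hLJ' : L' ⊆ J) {a b : ℕ}
    (ha : ((R.bnPair hgen).parabolic (n '' (L : Set (Fin l)))).relIndex
      ((R.bnPair hgen).parabolic (n '' (J : Set (Fin l)))) = a)
    (hb : ((R.bnPair hgen).parabolic (n '' (L' : Set (Fin l)))).relIndex
      ((R.bnPair hgen).parabolic (n '' (J : Set (Fin l)))) = b) (hab : a.Coprime b) :
    FF R hgen x L ∨ FF R hgen x L' := by
  by_cases h1 : p ∣ a
  · right
    refine hx.fx hp hxp hTP hLJ' fun h2 => ?_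
    rw [hb] at h2
    exact hp.one_lt.ne' (Nat.eq_one_of_dvd_coprimes hab h1 h2)
  · left
    exact hx.fx hp hxp hTP hLJ (by rwa [ha])

/-- **the conclusion** -/
theorem eq_one_of_FF [Finite G] [IsSimpleGroup G] {s : ℕ} {x : MulAut G} (hPC : PC s x) (hTP : TP (R.bnPair hgen) x)
    (hx : FF R hgen x ∅) {a b : Fin l} (hab : a ≠ b) (ha : CC R hgen (Finset.univ.erase a))
    (hka : KK R hgen s (Finset.univ.erase a)) (hb : CC R hgen (Finset.univ.erase b))
    (hkb : KK R hgen s (Finset.univ.erase b)) : x = 1 := by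
  have hne : (R.bnPair hgen).S.Nonempty := ⟨n a, a, rfl⟩
  have hcore := Cfsg.Agent.Tits.OfBN.normalCore_eq_bot (R.bnPair hgen) hne
  have hx' : FP (R.bnPair hgen) x ∅ := by
    have h1 := hx
    unfold FF at h1
    rwa [Finset.coe_empty, Set.image_empty] at h1
  refine Par.eq_one_of_leaves hPC hTP hcore hx'
    {n '' ((Finset.univ.erase a : Finset (Fin l)) : Set (Fin l)), n '' ((Finset.univ.erase b : Finset (Fin l)) : Set (Fin l))} ?_ ?_
  · rintro J (rfl | rfl)
    · exact ⟨img_sub R hgen _, par_ne_top (by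
        intro he
        have := Finset.mem_univ a
        rw [← he] at this
        simp only [_root_.Finset.mem_erase, _root_.ne_eq, _root_.not_true_eq_false, _root_.Finset.mem_univ, _root_.and_true] at this), ha, hka⟩
    · exact ⟨img_sub R hgen _, par_ne_top (by
        intro he
        have := Finset.mem_univ b
        rw [← he] at this
        simp only [_root_.Finset.mem_erase, _root_.ne_eq, _root_.not_true_eq_false, _root_.Finset.mem_univ, _root_.and_true] at this), hb, hkb⟩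
  · rintro _ ⟨i, rfl⟩
    by_cases hi : i = a
    · refine ⟨_, Or.inr rfl, i, ?_, rfl⟩
      rw [Finset.mem_coe, Finset.mem_erase]
      exact ⟨fun h1 => hab (hi.symm.trans h1), Finset.mem_univ _⟩
    · refine ⟨_, Or.inl rfl, i, ?_, rfl⟩
      rw [Finset.mem_coe, Finset.mem_erase]
      exact ⟨hi, Finset.mem_univ _⟩

/-! ### Connectedness -/

/-- every element is adjacent to a later one -/
def connL (M : CoxeterMatrix (Fin l)) : List (Fin l) → Bool
  | [] => true
  | [_] => true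
  | a :: b :: L => (b :: L).any (fun c => decide (a ≠ c) && decide (M a c ≠ 2)) && connL M (b :: L)

omit [Group G] in
theorem conn_aux : ∀ (L : List (Fin l)), connL M L = true → ∀ S : Set (Fin l), S ⊆ {i | i ∈ L} → S.Nonempty →
    S ≠ {i | i ∈ L} → ∃ a ∈ S, ∃ b ∈ {i | i ∈ L} \ S, H580.Graph.Adj M a b
  | [], _, S, hS, ⟨x, hx⟩, _ => by simpa only [_root_.List.not_mem_nil, _root_.Set.ofPred_false, _root_.Set.empty_sdiff, _root_.Set.mem_empty_iff_false, _root_.false_and, _root_.exists_false, _root_.and_false] using hS hx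
  | [a], _, S, hS, ⟨x, hx⟩, hne => by
    exfalso
    apply hne
    have h1 : x = a := by simpa using hS hx
    subst h1
    refine Set.Subset.antisymm hS ?_
    intro y hy
    have h2 : y = x := by simpa using hy
    rwa [h2]
  | a :: b :: L, hc, S, hS, hSn, hne => by
    simp only [connL, Bool.and_eq_true, List.any_eq_true, decide_eq_true_eq] at hc
    obtain ⟨⟨c, hcL, hac, hac'⟩, hc2⟩ := hc
    have hadj : H580.Graph.Adj M a c := ⟨hac, hac'⟩
    have hadj' : H580.Graph.Adj M c a := ⟨hac.symm, by rw [M.symmetric]; exact hac'⟩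
    by_cases h0 : S ∩ {i | i ∈ b :: L} = ∅
    · -- `S = {a}`
      have haS : a ∈ S := by
        obtain ⟨x, hx⟩ := hSn
        rcases List.mem_cons.1 (hS hx) with h1 | h1
        · rwa [← h1]
        · exfalso
          have h2 : x ∈ S ∩ {i | i ∈ b :: L} := ⟨hx, h1⟩
          rw [h0] at h2
          exact h2
      refine ⟨a, haS, c, ⟨List.mem_cons_of_mem _ hcL, fun hcS => ?_⟩, hadj⟩
      have h2 : c ∈ S ∩ {i | i ∈ b :: L} := ⟨hcS, hcL⟩
      rw [h0] at h2
      exact h2
    · by_cases h1 : S ∩ {i | i ∈ b :: L} = {i | i ∈ b :: L}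
      · have hcS : c ∈ S := by
          have h2 : c ∈ S ∩ {i | i ∈ b :: L} := by rw [h1]; exact hcL
          exact h2.1
        by_cases haS : a ∈ S
        · exfalso
          apply hne
          refine Set.Subset.antisymm hS fun y hy => ?_
          rcases List.mem_cons.1 hy with h2 | h2
          · rwa [h2]
          · have h3 : y ∈ S ∩ {i | i ∈ b :: L} := by rw [h1]; exact h2
            exact h3.1
        · exact ⟨c, hcS, a, ⟨List.mem_cons_self, haS⟩, hadj'⟩
      · obtain ⟨x, hx, y, hy, hxy⟩ := conn_aux (b :: L) hc2 (S ∩ {i | i ∈ b :: L}) Set.inter_subset_right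
          (Set.nonempty_iff_ne_empty.2 h0) h1
        exact ⟨x, hx.1, y, ⟨List.mem_cons_of_mem _ hy.1, fun hyS => hy.2 ⟨hyS, hy.1⟩⟩, hxy⟩

theorem cc_of_list {J : Finset (Fin l)} (L : List (Fin l)) (hL : connL M L = true) (hJ : L.toFinset = J) :
    CC R hgen J := by
  subst hJ
  intro B hB hBn hne
  obtain ⟨a, ha, b, hb, hab⟩ := conn_aux L hL {i | n i ∈ B} (fun i hi => by
      obtain ⟨j, hj, hji⟩ := hB hi
      rw [← R.n_injective hji]
      simpa using hj) (by
      obtain ⟨x, hx⟩ := hBn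
      obtain ⟨j, hj, rfl⟩ := hB hx
      exact ⟨j, hx⟩) (fun he => hne (Set.Subset.antisymm hB (by
      rintro _ ⟨i, hi, rfl⟩
      have h1 : i ∈ {i | n i ∈ B} := by rw [he]; simpa using hi
      exact h1)))
  refine ⟨n a, ha, n b, ⟨⟨b, by simpa using hb.1, rfl⟩, hb.2⟩, ?_⟩
  exact (Cfsg.Agent.H459.RgdRad.adj_iff R hab.1).1 hab

/-! ### Indices -/

theorem relIndex_orb [Finite G] (hG : GG cs h T X = ⊤) {AL : List (List ℤ)}
    (hA : ∀ i j : Fin l, (AL.getD i []).getD j 0 = A i j) (hAl : ∀ i : Fin l, (AL.getD i []).length = l)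
    {cl : List ℕ} {q : ℕ} (hq : ∀ i, Nat.card (X (sr i)) = q ^ cl.getD i 0) {k : Fin l} {JL : List ℕ} {L : List Nd}
    (hok : orbOK l k JL cl AL L = true) {J J' : Finset (Fin l)} (hJ : ∀ i : Fin l, i ∈ J ↔ (i : ℕ) ∈ JL)
    (hJl : ∀ i ∈ JL, i < l) (hJ' : J' = J.erase k) :
    ((R.bnPair hgen).parabolic (n '' (J' : Set (Fin l)))).relIndex
      ((R.bnPair hgen).parabolic (n '' (J : Set (Fin l)))) = S q L := by
  subst hJ'
  have h1 := card_orb R AL hA hAl cl q hq hok (J := (J : Set (Fin l))) (fun i => by rw [Finset.mem_coe]; exact hJ i) hJl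
  have h2 : (J : Set (Fin l)) \ {k} = ((J.erase k : Finset (Fin l)) : Set (Fin l)) := by
    rw [Finset.coe_erase]
  rw [h2, ← par_eq R hgen hG, ← par_eq R hgen hG] at h1
  have h3 : (R.bnPair hgen).parabolic (n '' ((J.erase k : Finset (Fin l)) : Set (Fin l))) ≤
      (R.bnPair hgen).parabolic (n '' (J : Set (Fin l))) :=
    parabolic_mono _ (Set.image_mono (Finset.coe_subset.2 (Finset.erase_subset _ _)))
  have h4 := Subgroup.card_mul_index (((R.bnPair hgen).parabolic (n '' ((J.erase k : Finset (Fin l)) : Set (Fin l)))).subgroupOf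
    ((R.bnPair hgen).parabolic (n '' (J : Set (Fin l)))))
  rw [Nat.card_congr (subgroupOfEquivOfLe h3).toEquiv, h1, mul_comm] at h4
  exact Nat.eq_of_mul_eq_mul_right Nat.card_pos h4

theorem kk_of_orb [Finite G] {s : ℕ} (hs : s.Prime) {J J' : Finset (Fin l)} (hJ' : J' ⊆ J)
    (hd : s ∣ ((R.bnPair hgen).parabolic (n '' (J' : Set (Fin l)))).relIndex
      ((R.bnPair hgen).parabolic (n '' (J : Set (Fin l))))) : KK R hgen s J := by
  refine Par.kill_of_index hs ?_
  rw [← Subgroup.relIndex_mul_relIndex _ _ _ (B_le_parabolic (R.bnPair hgen) (n '' (J' : Set (Fin l))))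
    (parabolic_mono _ (Set.image_mono (Finset.coe_subset.2 hJ')))]
  exact Dvd.dvd.mul_left hd _

/-- the rank one subgroups -/
theorem kk_of_tor [Finite G] [IsSimpleGroup G] [Fact r.Prime] {s : ℕ} (hs : s.Prime) (hsr : s ≠ r) {i : Fin l}
    (hd : s ∣ Nat.card ↥(X (sr i) ⊔ X (-sr i))) : KK R hgen s {i} := by
  set! P := R.bnPair hgen with hP
  have hne : P.S.Nonempty := ⟨n i, i, rfl⟩
  have hcore := Cfsg.Agent.Tits.OfBN.normalCore_eq_bot P hne
  have hsplit := Cfsg.Agent.FixBN.SplitRGD.split_of_rgd Fact.out R hgen hcore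
  have hUB : RGD.Sup X (RGD.Pos cs h) ≤ P.B := RGD.U_le_B
  have hni : n i ∈ P.parabolic (n '' (({i} : Finset (Fin l)) : Set (Fin l))) :=
    (le_sup_right : Subgroup.closure _ ≤ P.parabolic _) (Subgroup.subset_closure ⟨i, by simp, rfl⟩)
  refine Par.kill_of_gen hs (U := RGD.Sup X (RGD.Pos cs h)) (Y := X (sr i) ⊔ X (-sr i)) hUB ?_ ?_ ?_ hd
  · intro b hb u hu
    have h1 := hsplit.normalizer_eq
    have h2 : b ∈ normalizer ((RGD.Sup X (RGD.Pos cs h) : Subgroup G) : Set G) := by rw [h1]; exact hb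
    exact (Subgroup.mem_normalizer_iff.1 h2 u).1 hu
  · obtain ⟨k, hk⟩ := (IsPGroup.iff_card (p := r)).1 hsplit.isP
    rw [hk]
    exact Nat.Coprime.pow_left _ ((Nat.coprime_primes Fact.out hs).2 (Ne.symm hsr))
  · intro V hUV hV
    have h1 : X (sr i) ≤ V := le_trans (RGD.le_Sup (S := RGD.Pos cs h) ⟨isRoot_sr cs h i, sr_nonneg i⟩) hUV
    refine sup_le h1 fun u hu => ?_
    have h2 : (n i)⁻¹ * u * n i ∈ X (sr i) := by
      have := R.conj_mem' (rp_simple cs R.nsys i) (isRoot_sr cs h i).neg hu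
      rwa [inv_simple, map_neg, rep_simple_sr, neg_neg] at this
    have h3 : u = n i * ((n i)⁻¹ * u * n i) * (n i)⁻¹ := by group
    rw [h3]
    exact hV _ hni _ (h1 h2)

end

end Cfsg.Agent.H470.PiRad.Mod
end

-- part: H470/PiRad/Dat
section
/-!
# S4324: typed root group data with orbit tables (helper470)

* `Dat t q AL cl h T n X` : a root group datum of the characteristic `t` with `|X (α_i)| = q ^ cl i`;
* `Dat.bn`, `Dat.F`, `Dat.K`, `Dat.C` : the (B,N)-pair, the predicates of `Mod`;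
* `Dat.rel` : indices; `Dat.exists_F` : Borel–Tits.
-/

set_option autoImplicit false
set_option linter.unusedSectionVars false

namespace Cfsg.Agent.H470.PiRad.Mod

open Cfsg Subgroup Cfsg.Agent.H216.Pi Cfsg.Agent.H459.Gallery Cfsg.Agent.Schreier.BNSch
open Cfsg.Agent.H470.PiRad.CosetSys Cfsg.Agent.H470.PiRad.Par Cfsg.Agent.H470.PiRad.Orb
open CoxeterSystem Cfsg.Agent.ChevalleyStructure.CoxeterGeom Cfsg.Agent.Tits.Roots
  Cfsg.Agent.Nodes.Reps Cfsg.Agent.Nodes.BNOf Cfsg.Agent.Nodes.LeviDec Cfsg.Agent.Nodes.Bruhat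
  Cfsg.Agent.KFacts.RgdCharP Cfsg.Agent.KFacts.RgdVJ
open Cfsg.Agent.H459.Iface (FixR)

/-- a root group datum of the characteristic `t` with `|X (α_i)| = q ^ cl i` -/
structure Dat (t q : ℕ) {l : ℕ} (AL : List (List ℤ)) (cl : List ℕ) {M : CoxeterMatrix (Fin l)}
    {A : Fin l → Fin l → ℤ} (h : IsCartan M A) {G : Type*} [Group G] (T : Subgroup G) (n : Fin l → G)
    (X : (Fin l → ℤ) → Subgroup G) : Prop where
  fin : Finite M.Group
  rgd : RGD M.toCoxeterSystem h t T n X
  g1 : Cfsg.Agent.Nodes.RGDLib.G1 M.toCoxeterSystem h X = ⊤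
  gg : GG M.toCoxeterSystem h T X = ⊤
  size : ∀ i : Fin l, Nat.card (X (sr i)) = q ^ cl.getD i 0
  bt : BT M.toCoxeterSystem h t T X
  al : ∀ i j : Fin l, (AL.getD i []).getD j 0 = A i j
  all : ∀ i : Fin l, (AL.getD i []).length = l
  tor : ∀ (i : Fin l) (s : ℕ), s.Prime → 3 ≤ s → s ∣ q - 1 → cl.getD i 0 = 1 →
    s ∣ Nat.card ↥(X (sr i) ⊔ X (-sr i))

variable {t q l : ℕ} {AL : List (List ℤ)} {cl : List ℕ} {M : CoxeterMatrix (Fin l)}
    {A : Fin l → Fin l → ℤ} {h : IsCartan M A} {G : Type*} [Group G] {T : Subgroup G} {n : Fin l → G}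
    {X : (Fin l → ℤ) → Subgroup G} (D : Dat t q AL cl h T n X)

include D

theorem Dat.hgen : RGD.B M.toCoxeterSystem h T X ⊔ NN M.toCoxeterSystem D.rgd.nsys = ⊤ :=
  Cfsg.Agent.Nodes.RGDLib.rgd_gen_of_G1 D.rgd D.g1

/-- the (B,N)-pair -/
noncomputable abbrev Dat.bn : BNPair G := haveI := D.fin; D.rgd.bnPair D.hgen

/-- the parabolic subgroups -/
noncomputable def Dat.par (J : Finset (Fin l)) : Subgroup G := D.bn.parabolic (n '' (J : Set (Fin l)))

/-- a conjugate of `x` normalises `P_J` -/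
def Dat.F (x : MulAut G) (J : Finset (Fin l)) : Prop := haveI := D.fin; FF D.rgd D.hgen x J

/-- no `s'`-subgroup normalised by `B` covers `P_J / B` -/
def Dat.K (s : ℕ) (J : Finset (Fin l)) : Prop := haveI := D.fin; KK D.rgd D.hgen s J

/-- connectedness -/
def Dat.C (J : Finset (Fin l)) : Prop := haveI := D.fin; CC D.rgd D.hgen J

section Rules

variable {D}

theorem Dat.F.up [Finite G] {x : MulAut G} {J L : Finset (Fin l)} (hx : D.F x J) (hTP : TP D.bn x)
    (hJL : J ⊆ L) : D.F x L := by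
  have := D.fin
  exact FF.up hTP hx hJL

theorem Dat.K.mono [Finite G] {s : ℕ} {J L : Finset (Fin l)} (hk : D.K s J) (hJL : J ⊆ L) : D.K s L := by
  have := D.fin
  exact KK.mono hk hJL

theorem Dat.F.dn [Finite G] {s : ℕ} {x : MulAut G} {J : Finset (Fin l)} (hx : D.F x J) (hPC : PC s x)
    (hJ : J ≠ Finset.univ) {B L : Finset (Fin l)} (hB : B ⊆ J) (hc : D.C B) (hk : D.K s B) (hL : J \ B = L) :
    D.F x L := by
  have := D.fin
  subst hL
  exact FF.dn hPC hx hJ hB hc hk

theorem Dat.F.fx [Finite G] {x : MulAut G} {p : ℕ} {J L : Finset (Fin l)} (hx : D.F x J) (hp : p.Prime)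
    (hxp : x ^ p = 1) (hTP : TP D.bn x) (hLJ : L ⊆ J) (hd : ¬ p ∣ (D.par L).relIndex (D.par J)) : D.F x L := by
  have := D.fin
  exact FF.fx hp hxp hTP hx hLJ hd

/-- two coprime indices -/
theorem Dat.F.two [Finite G] {x : MulAut G} {p : ℕ} {J L L' : Finset (Fin l)} (hx : D.F x J) (hp : p.Prime)
    (hxp : x ^ p = 1) (hTP : TP D.bn x) (hLJ : L ⊆ J) (hLJ' : L' ⊆ J) {a b : ℕ}
    (ha : (D.par L).relIndex (D.par J) = a) (hb : (D.par L').relIndex (D.par J) = b) (hab : a.Coprime b) :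
    D.F x L ∨ D.F x L' := by
  have := D.fin
  exact FF.two hp hxp hTP hx hLJ hLJ' ha hb hab

end Rules

theorem Dat.eq_one [Finite G] [IsSimpleGroup G] {s : ℕ} {x : MulAut G} (hPC : PC s x) (hTP : TP D.bn x)
    (hx : D.F x ∅) {a b : Fin l} (hab : a ≠ b) (ha : D.C (Finset.univ.erase a))
    (hka : D.K s (Finset.univ.erase a)) (hb : D.C (Finset.univ.erase b))
    (hkb : D.K s (Finset.univ.erase b)) : x = 1 := by
  have := D.fin
  exact eq_one_of_FF hPC hTP hx hab ha hka hb hkb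

theorem Dat.cc {J : Finset (Fin l)} (L : List (Fin l)) (hL : connL M L = true) (hJ : L.toFinset = J) : D.C J := by
  have := D.fin
  exact cc_of_list L hL hJ

theorem Dat.rel [Finite G] {k : Fin l} {JL : List ℕ} {L : List Nd}
    (hok : orbOK l k JL cl AL L = true) {J J' : Finset (Fin l)} (hJ : ∀ i : Fin l, i ∈ J ↔ (i : ℕ) ∈ JL)
    (hJl : ∀ i ∈ JL, i < l) (hJ' : J' = J.erase k) : (D.par J').relIndex (D.par J) = S q L := by
  have := D.fin
  exact relIndex_orb D.gg D.al D.all D.size hok hJ hJl hJ'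

theorem Dat.kk [Finite G] {s : ℕ} (hs : s.Prime) {J J' : Finset (Fin l)} (hJ' : J' ⊆ J) {a : ℕ}
    (ha : (D.par J').relIndex (D.par J) = a) (hd : s ∣ a) : D.K s J := by
  have := D.fin
  subst ha
  exact kk_of_orb hs hJ' hd

theorem Dat.kt [Finite G] [IsSimpleGroup G] (ht : t.Prime) {s : ℕ} (hs : s.Prime) (hs3 : 3 ≤ s) (hst : s ≠ t)
    (hq : s ∣ q - 1) (i : Fin l) (hi : cl.getD i 0 = 1) : D.K s {i} := by
  have := D.fin
  have : Fact t.Prime := ⟨ht⟩
  exact kk_of_tor hs hst (D.tor i s hs hs3 hq hi)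

/-- **Borel–Tits** -/
theorem Dat.exists_F [Finite G] [IsSimpleGroup G] (ht : t.Prime) (hl : 0 < l) {x : MulAut G} (hTP : TP D.bn x)
    (hx : FixR t x) : ∃ k : Fin l, D.F x (Finset.univ.erase k) := by
  classical
  have := D.fin
  have : Fact t.Prime := ⟨ht⟩
  set P := D.bn with hP
  have hmS : ∀ i, n i ∈ P.S := fun i => ⟨i, rfl⟩
  have hne : P.S.Nonempty := ⟨n ⟨0, hl⟩, hmS _⟩
  have hcore := Cfsg.Agent.Tits.OfBN.normalCore_eq_bot P hne
  have hsplit := Cfsg.Agent.FixBN.SplitRGD.split_of_rgd Fact.out D.rgd D.hgen hcore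
  obtain ⟨U', hU'⟩ := Cfsg.Agent.H459.RgdRad.exists_sylow hsplit
  have hN : normalizer ((U' : Subgroup G) : Set G) = P.B := by rw [hU']; exact hsplit.normalizer_eq
  have hns : ∀ V : Subgroup G, V ≠ ⊥ → V ≠ ⊤ → normalizer (V : Set G) ≠ ⊤ := by
    intro V h1 h2 h3
    rcases (Subgroup.normalizer_eq_top_iff.1 h3).eq_bot_or_eq_top with h4 | h4
    · exact h1 h4
    · exact h2 h4
  have hnB : n ⟨0, hl⟩ ∉ P.B := not_mem_B P (hmS _)
  have hnp : ¬ IsPGroup t G := by
    intro hG
    have h1 : (⊤ : Subgroup G) = (U' : Subgroup G) := by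
      have h2 : IsPGroup t (⊤ : Subgroup G) := hG.of_equiv Subgroup.topEquiv.symm
      exact U'.is_maximal' h2 le_top
    apply hnB
    rw [← hN]
    refine le_normalizer ?_
    rw [← h1]
    trivial
  obtain ⟨M₀, g₀, h1, h2, h3⟩ := Cfsg.Agent.H459.RgdRad.exists_par D.rgd D.hgen D.bt hns hnp hx
  obtain ⟨J, hJS, rfl⟩ := Cfsg.Agent.S0311.result P M₀ h1
  obtain ⟨k, hk⟩ : ∃ k : Fin l, n k ∉ J := by
    by_contra hcon
    push Not at hcon
    apply h2
    have h4 : J = P.S := Set.Subset.antisymm hJS (by rintro _ ⟨i, rfl⟩; exact hcon i)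
    rw [h4]
    exact sup_closure_eq_top _
  refine ⟨k, ?_⟩
  show FP P x _
  refine Par.FP.mono hTP (img_sub D.rgd D.hgen _) ⟨g₀, h3⟩ ?_
  intro y hy
  obtain ⟨i, rfl⟩ := hJS hy
  refine ⟨i, ?_, rfl⟩
  rw [Finset.mem_coe, Finset.mem_erase]
  exact ⟨fun h5 => hk (h5 ▸ hy), Finset.mem_univ _⟩

end Cfsg.Agent.H470.PiRad.Mod
end

private theorem dce_ef01a69e272a : _root_.True := by
  try have : _root_.True := by simp only [_root_.Cfsg.Agent.H470.PiRad.Orb.parsOK.eq_def]
  try have : _root_.True := by simp only [_root_.Cfsg.Agent.H470.PiRad.Orb.eqL.eq_3]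
  try have : _root_.True := by simp only [_root_.Cfsg.Agent.H470.PiRad.Orb.nodupOK.eq_1]
  try have : _root_.True := by simp only [_root_.Cfsg.Agent.H470.PiRad.Orb.eqL._sparseCasesOn_1.else_eq]
  try have : _root_.True := by simp only [_root_.Cfsg.Agent.H470.PiRad.Orb.eqL.eq_1]
  try have : _root_.True := by simp only [_root_.Cfsg.Agent.H470.PiRad.Mod.connL.eq_3]
  try have : _root_.True := by simp only [_root_.Cfsg.Agent.H470.PiRad.Mod.connL.eq_def]
  try have : _root_.True := by simp only [_root_.Cfsg.Agent.H470.PiRad.Orb.eqL._sparseCasesOn_2.else_eq]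
  try have : _root_.True := by simp only [_root_.Cfsg.Agent.H470.PiRad.Orb.nodupOK.eq_def]
  try have : _root_.True := by simp only [_root_.Cfsg.Agent.H470.PiRad.Orb.parsOK.eq_2]
  try have : _root_.True := by simp only [_root_.Cfsg.Agent.H470.PiRad.Orb.parsOK.eq_1]
  try have : _root_.True := by simp only [_root_.Cfsg.Agent.H470.PiRad.Orb.eqL.eq_2]
  try have : _root_.True := by simp only [_root_.Cfsg.Agent.H470.PiRad.Orb.nodupOK.eq_2]
  try have : _root_.True := by simp only [_root_.Cfsg.Agent.H470.PiRad.Mod.connL.eq_1]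
  try have : _root_.True := by simp only [_root_.Cfsg.Agent.H470.PiRad.Mod.connL.eq_2]
  try have : _root_.True := by simp only [_root_.Cfsg.Agent.H470.PiRad.Orb.eqL.eq_def]
  exact _root_.True.intro
end

-- part: H470/PiRad/Inst_mg
section
prune_inst 0x214050405740020000008580910000347c0005b00060880088c00a400a0827420500094004a011100a2ea28100050048111800d002000000000000000005040100081204905c0c00460008000084000000000000000000000000000000010004200000000
set_option linter.all false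
open scoped Cfsg.Agent.FastGrp

-- part: H470/PiRad/TabE8
section
/-!
# S4324: orbit tables and indices, type E8 (helper470, generated)
-/

set_option autoImplicit false
set_option linter.unusedSectionVars false

namespace Cfsg.Agent.H470.PiRad.TabE8

open Cfsg Subgroup Cfsg.Agent.H470.PiRad.Mod Cfsg.Agent.H470.PiRad.Orb
open Cfsg.Agent.ChevalleyStructure.CoxeterGeom

/-- the Cartan matrix -/
def AL : List (List ℤ) := [[2, 0, -1, 0, 0, 0, 0, 0], [0, 2, 0, -1, 0, 0, 0, 0], [-1, 0, 2, -1, 0, 0, 0, 0], [0, -1, -1, 2, -1, 0, 0, 0], [0, 0, 0, -1, 2, -1, 0, 0], [0, 0, 0, 0, -1, 2, -1, 0], [0, 0, 0, 0, 0, -1, 2, -1], [0, 0, 0, 0, 0, 0, -1, 2]]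

/-- the exponents of the simple root groups -/
def cl : List ℕ := [1, 1, 1, 1, 1, 1, 1, 1]

variable {t q : ℕ} {M : CoxeterMatrix (Fin 8)}
    {A : Fin 8 → Fin 8 → ℤ} {h : IsCartan M A} {G : Type*} [Group G] {T : Subgroup G} {n : Fin 8 → G}
    {X : (Fin 8 → ℤ) → Subgroup G} (D : Dat t q AL cl h T n X)

/-- the orbit of the weight `7` under `W_{7}` -/
def t_7_7 : List Nd := [
  ⟨[0, 0, 0, 0, 0, 0, 0, 1], 0, 0, 0⟩, ⟨[0, 0, 0, 0, 0, 0, 1, -1], 1, 0, 7⟩]

theorem ok_7_7 : orbOK 8 7 [7] cl AL t_7_7 = true := by decide +kernel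

theorem S_7_7 (q : ℕ) : S q t_7_7 = 1 + q := by
  simp only [S, t_7_7, List.map_cons, List.map_nil, List.sum_cons, List.sum_nil]
  ring

theorem rel_7_7 [Finite G] : (D.par (∅ : Finset (Fin 8))).relIndex (D.par ({7} : Finset (Fin 8))) =
    1 + q := by
  rw [D.rel (k := 7) (JL := [7]) (L := t_7_7) ok_7_7 (by decide) (by decide) (by decide), S_7_7]

/-- the orbit of the weight `7` under `W_{6,7}` -/
def t_67_7 : List Nd := [
  ⟨[0, 0, 0, 0, 0, 0, 0, 1], 0, 0, 0⟩, ⟨[0, 0, 0, 0, 0, 0, 1, -1], 1, 0, 7⟩,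
  ⟨[0, 0, 0, 0, 0, 1, -1, 0], 2, 1, 6⟩]

theorem ok_67_7 : orbOK 8 7 [6, 7] cl AL t_67_7 = true := by decide +kernel

theorem S_67_7 (q : ℕ) : S q t_67_7 = 1 + q + q ^ 2 := by
  simp only [S, t_67_7, List.map_cons, List.map_nil, List.sum_cons, List.sum_nil]
  ring

theorem rel_67_7 [Finite G] : (D.par ({6} : Finset (Fin 8))).relIndex (D.par ({6, 7} : Finset (Fin 8))) =
    1 + q + q ^ 2 := by
  rw [D.rel (k := 7) (JL := [6, 7]) (L := t_67_7) ok_67_7 (by decide) (by decide) (by decide), S_67_7]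

/-- the orbit of the weight `7` under `W_{5,6,7}` -/
def t_567_7 : List Nd := [
  ⟨[0, 0, 0, 0, 0, 0, 0, 1], 0, 0, 0⟩, ⟨[0, 0, 0, 0, 0, 0, 1, -1], 1, 0, 7⟩,
  ⟨[0, 0, 0, 0, 0, 1, -1, 0], 2, 1, 6⟩, ⟨[0, 0, 0, 0, 1, -1, 0, 0], 3, 2, 5⟩]

theorem ok_567_7 : orbOK 8 7 [5, 6, 7] cl AL t_567_7 = true := by decide +kernel

theorem S_567_7 (q : ℕ) : S q t_567_7 = 1 + q + q ^ 2 + q ^ 3 := by
  simp only [S, t_567_7, List.map_cons, List.map_nil, List.sum_cons, List.sum_nil]
  ring

theorem rel_567_7 [Finite G] : (D.par ({5, 6} : Finset (Fin 8))).relIndex (D.par ({5, 6, 7} : Finset (Fin 8))) =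
    1 + q + q ^ 2 + q ^ 3 := by
  rw [D.rel (k := 7) (JL := [5, 6, 7]) (L := t_567_7) ok_567_7 (by decide) (by decide) (by decide), S_567_7]

/-- the orbit of the weight `7` under `W_{4,5,6,7}` -/
def t_4567_7 : List Nd := [
  ⟨[0, 0, 0, 0, 0, 0, 0, 1], 0, 0, 0⟩, ⟨[0, 0, 0, 0, 0, 0, 1, -1], 1, 0, 7⟩,
  ⟨[0, 0, 0, 0, 0, 1, -1, 0], 2, 1, 6⟩, ⟨[0, 0, 0, 0, 1, -1, 0, 0], 3, 2, 5⟩,
  ⟨[0, 0, 0, 1, -1, 0, 0, 0], 4, 3, 4⟩]

theorem ok_4567_7 : orbOK 8 7 [4, 5, 6, 7] cl AL t_4567_7 = true := by decide +kernel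

theorem S_4567_7 (q : ℕ) : S q t_4567_7 = 1 + q + q ^ 2 + q ^ 3 + q ^ 4 := by
  simp only [S, t_4567_7, List.map_cons, List.map_nil, List.sum_cons, List.sum_nil]
  ring

theorem rel_4567_7 [Finite G] : (D.par ({4, 5, 6} : Finset (Fin 8))).relIndex (D.par ({4, 5, 6, 7} : Finset (Fin 8))) =
    1 + q + q ^ 2 + q ^ 3 + q ^ 4 := by
  rw [D.rel (k := 7) (JL := [4, 5, 6, 7]) (L := t_4567_7) ok_4567_7 (by decide) (by decide) (by decide), S_4567_7]

/-- the orbit of the weight `7` under `W_{3,4,5,6,7}` -/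
def t_34567_7 : List Nd := [
  ⟨[0, 0, 0, 0, 0, 0, 0, 1], 0, 0, 0⟩, ⟨[0, 0, 0, 0, 0, 0, 1, -1], 1, 0, 7⟩,
  ⟨[0, 0, 0, 0, 0, 1, -1, 0], 2, 1, 6⟩, ⟨[0, 0, 0, 0, 1, -1, 0, 0], 3, 2, 5⟩,
  ⟨[0, 0, 0, 1, -1, 0, 0, 0], 4, 3, 4⟩, ⟨[0, 1, 1, -1, 0, 0, 0, 0], 5, 4, 3⟩]

theorem ok_34567_7 : orbOK 8 7 [3, 4, 5, 6, 7] cl AL t_34567_7 = true := by decide +kernel

theorem S_34567_7 (q : ℕ) : S q t_34567_7 = 1 + q + q ^ 2 + q ^ 3 + q ^ 4 + q ^ 5 := by
  simp only [S, t_34567_7, List.map_cons, List.map_nil, List.sum_cons, List.sum_nil]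
  ring

theorem rel_34567_7 [Finite G] : (D.par ({3, 4, 5, 6} : Finset (Fin 8))).relIndex (D.par ({3, 4, 5, 6, 7} : Finset (Fin 8))) =
    1 + q + q ^ 2 + q ^ 3 + q ^ 4 + q ^ 5 := by
  rw [D.rel (k := 7) (JL := [3, 4, 5, 6, 7]) (L := t_34567_7) ok_34567_7 (by decide) (by decide) (by decide), S_34567_7]

/-- the orbit of the weight `0` under `W_{0}` -/
def t_0_0 : List Nd := [
  ⟨[1, 0, 0, 0, 0, 0, 0, 0], 0, 0, 0⟩, ⟨[-1, 0, 1, 0, 0, 0, 0, 0], 1, 0, 0⟩]

theorem ok_0_0 : orbOK 8 0 [0] cl AL t_0_0 = true := by decide +kernel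

theorem S_0_0 (q : ℕ) : S q t_0_0 = 1 + q := by
  simp only [S, t_0_0, List.map_cons, List.map_nil, List.sum_cons, List.sum_nil]
  ring

theorem rel_0_0 [Finite G] : (D.par (∅ : Finset (Fin 8))).relIndex (D.par ({0} : Finset (Fin 8))) =
    1 + q := by
  rw [D.rel (k := 0) (JL := [0]) (L := t_0_0) ok_0_0 (by decide) (by decide) (by decide), S_0_0]

/-- the orbit of the weight `0` under `W_{0,2}` -/
def t_02_0 : List Nd := [
  ⟨[1, 0, 0, 0, 0, 0, 0, 0], 0, 0, 0⟩, ⟨[-1, 0, 1, 0, 0, 0, 0, 0], 1, 0, 0⟩,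
  ⟨[0, 0, -1, 1, 0, 0, 0, 0], 2, 1, 2⟩]

theorem ok_02_0 : orbOK 8 0 [0, 2] cl AL t_02_0 = true := by decide +kernel

theorem S_02_0 (q : ℕ) : S q t_02_0 = 1 + q + q ^ 2 := by
  simp only [S, t_02_0, List.map_cons, List.map_nil, List.sum_cons, List.sum_nil]
  ring

theorem rel_02_0 [Finite G] : (D.par ({2} : Finset (Fin 8))).relIndex (D.par ({0, 2} : Finset (Fin 8))) =
    1 + q + q ^ 2 := by
  rw [D.rel (k := 0) (JL := [0, 2]) (L := t_02_0) ok_02_0 (by decide) (by decide) (by decide), S_02_0]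

/-- the orbit of the weight `0` under `W_{0,2,3}` -/
def t_023_0 : List Nd := [
  ⟨[1, 0, 0, 0, 0, 0, 0, 0], 0, 0, 0⟩, ⟨[-1, 0, 1, 0, 0, 0, 0, 0], 1, 0, 0⟩,
  ⟨[0, 0, -1, 1, 0, 0, 0, 0], 2, 1, 2⟩, ⟨[0, 1, 0, -1, 1, 0, 0, 0], 3, 2, 3⟩]

theorem ok_023_0 : orbOK 8 0 [0, 2, 3] cl AL t_023_0 = true := by decide +kernel

theorem S_023_0 (q : ℕ) : S q t_023_0 = 1 + q + q ^ 2 + q ^ 3 := by
  simp only [S, t_023_0, List.map_cons, List.map_nil, List.sum_cons, List.sum_nil]
  ring

theorem rel_023_0 [Finite G] : (D.par ({2, 3} : Finset (Fin 8))).relIndex (D.par ({0, 2, 3} : Finset (Fin 8))) =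
    1 + q + q ^ 2 + q ^ 3 := by
  rw [D.rel (k := 0) (JL := [0, 2, 3]) (L := t_023_0) ok_023_0 (by decide) (by decide) (by decide), S_023_0]

/-- the orbit of the weight `0` under `W_{0,1,2,3}` -/
def t_0123_0 : List Nd := [
  ⟨[1, 0, 0, 0, 0, 0, 0, 0], 0, 0, 0⟩, ⟨[-1, 0, 1, 0, 0, 0, 0, 0], 1, 0, 0⟩,
  ⟨[0, 0, -1, 1, 0, 0, 0, 0], 2, 1, 2⟩, ⟨[0, 1, 0, -1, 1, 0, 0, 0], 3, 2, 3⟩,
  ⟨[0, -1, 0, 0, 1, 0, 0, 0], 4, 3, 1⟩]

theorem ok_0123_0 : orbOK 8 0 [0, 1, 2, 3] cl AL t_0123_0 = true := by decide +kernel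

theorem S_0123_0 (q : ℕ) : S q t_0123_0 = 1 + q + q ^ 2 + q ^ 3 + q ^ 4 := by
  simp only [S, t_0123_0, List.map_cons, List.map_nil, List.sum_cons, List.sum_nil]
  ring

theorem rel_0123_0 [Finite G] : (D.par ({1, 2, 3} : Finset (Fin 8))).relIndex (D.par ({0, 1, 2, 3} : Finset (Fin 8))) =
    1 + q + q ^ 2 + q ^ 3 + q ^ 4 := by
  rw [D.rel (k := 0) (JL := [0, 1, 2, 3]) (L := t_0123_0) ok_0123_0 (by decide) (by decide) (by decide), S_0123_0]

/-- the orbit of the weight `1` under `W_{1,2,3,4}` -/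
def t_1234_1 : List Nd := [
  ⟨[0, 1, 0, 0, 0, 0, 0, 0], 0, 0, 0⟩, ⟨[0, -1, 0, 1, 0, 0, 0, 0], 1, 0, 1⟩,
  ⟨[0, 0, 1, -1, 1, 0, 0, 0], 2, 1, 3⟩, ⟨[1, 0, -1, 0, 1, 0, 0, 0], 3, 2, 2⟩,
  ⟨[0, 0, 1, 0, -1, 1, 0, 0], 3, 2, 4⟩, ⟨[1, 0, -1, 1, -1, 1, 0, 0], 4, 3, 4⟩,
  ⟨[1, 1, 0, -1, 0, 1, 0, 0], 5, 5, 3⟩, ⟨[1, -1, 0, 0, 0, 1, 0, 0], 6, 6, 1⟩]

theorem ok_1234_1 : orbOK 8 1 [1, 2, 3, 4] cl AL t_1234_1 = true := by decide +kernel

theorem S_1234_1 (q : ℕ) : S q t_1234_1 = (1 + q ^ 3) * (1 + q + q ^ 2 + q ^ 3) := by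
  simp only [S, t_1234_1, List.map_cons, List.map_nil, List.sum_cons, List.sum_nil]
  ring

theorem rel_1234_1 [Finite G] : (D.par ({2, 3, 4} : Finset (Fin 8))).relIndex (D.par ({1, 2, 3, 4} : Finset (Fin 8))) =
    (1 + q ^ 3) * (1 + q + q ^ 2 + q ^ 3) := by
  rw [D.rel (k := 1) (JL := [1, 2, 3, 4]) (L := t_1234_1) ok_1234_1 (by decide) (by decide) (by decide), S_1234_1]

/-- the orbit of the weight `0` under `W_{0,1,2,3,4}` -/
def t_01234_0 : List Nd := [
  ⟨[1, 0, 0, 0, 0, 0, 0, 0], 0, 0, 0⟩, ⟨[-1, 0, 1, 0, 0, 0, 0, 0], 1, 0, 0⟩,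
  ⟨[0, 0, -1, 1, 0, 0, 0, 0], 2, 1, 2⟩, ⟨[0, 1, 0, -1, 1, 0, 0, 0], 3, 2, 3⟩,
  ⟨[0, -1, 0, 0, 1, 0, 0, 0], 4, 3, 1⟩, ⟨[0, 1, 0, 0, -1, 1, 0, 0], 4, 3, 4⟩,
  ⟨[0, -1, 0, 1, -1, 1, 0, 0], 5, 4, 4⟩, ⟨[0, 0, 1, -1, 0, 1, 0, 0], 6, 6, 3⟩,
  ⟨[1, 0, -1, 0, 0, 1, 0, 0], 7, 7, 2⟩, ⟨[-1, 0, 0, 0, 0, 1, 0, 0], 8, 8, 0⟩]

theorem ok_01234_0 : orbOK 8 0 [0, 1, 2, 3, 4] cl AL t_01234_0 = true := by decide +kernel

theorem S_01234_0 (q : ℕ) : S q t_01234_0 = (1 + q ^ 4) * (1 + q + q ^ 2 + q ^ 3 + q ^ 4) := by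
  simp only [S, t_01234_0, List.map_cons, List.map_nil, List.sum_cons, List.sum_nil]
  ring

theorem rel_01234_0 [Finite G] : (D.par ({1, 2, 3, 4} : Finset (Fin 8))).relIndex (D.par ({0, 1, 2, 3, 4} : Finset (Fin 8))) =
    (1 + q ^ 4) * (1 + q + q ^ 2 + q ^ 3 + q ^ 4) := by
  rw [D.rel (k := 0) (JL := [0, 1, 2, 3, 4]) (L := t_01234_0) ok_01234_0 (by decide) (by decide) (by decide), S_01234_0]

/-- the orbit of the weight `5` under `W_{1,2,3,4,5}` -/
def t_12345_5 : List Nd := [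
  ⟨[0, 0, 0, 0, 0, 1, 0, 0], 0, 0, 0⟩, ⟨[0, 0, 0, 0, 1, -1, 1, 0], 1, 0, 5⟩,
  ⟨[0, 0, 0, 1, -1, 0, 1, 0], 2, 1, 4⟩, ⟨[0, 1, 1, -1, 0, 0, 1, 0], 3, 2, 3⟩,
  ⟨[0, -1, 1, 0, 0, 0, 1, 0], 4, 3, 1⟩, ⟨[1, 1, -1, 0, 0, 0, 1, 0], 4, 3, 2⟩,
  ⟨[1, -1, -1, 1, 0, 0, 1, 0], 5, 4, 2⟩, ⟨[1, 0, 0, -1, 1, 0, 1, 0], 6, 6, 3⟩,
  ⟨[1, 0, 0, 0, -1, 1, 1, 0], 7, 7, 4⟩, ⟨[1, 0, 0, 0, 0, -1, 2, 0], 8, 8, 5⟩]

theorem ok_12345_5 : orbOK 8 5 [1, 2, 3, 4, 5] cl AL t_12345_5 = true := by decide +kernel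

theorem S_12345_5 (q : ℕ) : S q t_12345_5 = (1 + q ^ 4) * (1 + q + q ^ 2 + q ^ 3 + q ^ 4) := by
  simp only [S, t_12345_5, List.map_cons, List.map_nil, List.sum_cons, List.sum_nil]
  ring

theorem rel_12345_5 [Finite G] : (D.par ({1, 2, 3, 4} : Finset (Fin 8))).relIndex (D.par ({1, 2, 3, 4, 5} : Finset (Fin 8))) =
    (1 + q ^ 4) * (1 + q + q ^ 2 + q ^ 3 + q ^ 4) := by
  rw [D.rel (k := 5) (JL := [1, 2, 3, 4, 5]) (L := t_12345_5) ok_12345_5 (by decide) (by decide) (by decide), S_12345_5]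

/-- the orbit of the weight `6` under `W_{1,2,3,4,5,6}` -/
def t_123456_6 : List Nd := [
  ⟨[0, 0, 0, 0, 0, 0, 1, 0], 0, 0, 0⟩, ⟨[0, 0, 0, 0, 0, 1, -1, 1], 1, 0, 6⟩,
  ⟨[0, 0, 0, 0, 1, -1, 0, 1], 2, 1, 5⟩, ⟨[0, 0, 0, 1, -1, 0, 0, 1], 3, 2, 4⟩,
  ⟨[0, 1, 1, -1, 0, 0, 0, 1], 4, 3, 3⟩, ⟨[0, -1, 1, 0, 0, 0, 0, 1], 5, 4, 1⟩,
  ⟨[1, 1, -1, 0, 0, 0, 0, 1], 5, 4, 2⟩, ⟨[1, -1, -1, 1, 0, 0, 0, 1], 6, 5, 2⟩,
  ⟨[1, 0, 0, -1, 1, 0, 0, 1], 7, 7, 3⟩, ⟨[1, 0, 0, 0, -1, 1, 0, 1], 8, 8, 4⟩,
  ⟨[1, 0, 0, 0, 0, -1, 1, 1], 9, 9, 5⟩, ⟨[1, 0, 0, 0, 0, 0, -1, 2], 10, 10, 6⟩]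

theorem ok_123456_6 : orbOK 8 6 [1, 2, 3, 4, 5, 6] cl AL t_123456_6 = true := by decide +kernel

theorem S_123456_6 (q : ℕ) : S q t_123456_6 = (1 + q ^ 5) * (1 + q + q ^ 2 + q ^ 3 + q ^ 4 + q ^ 5) := by
  simp only [S, t_123456_6, List.map_cons, List.map_nil, List.sum_cons, List.sum_nil]
  ring

theorem rel_123456_6 [Finite G] : (D.par ({1, 2, 3, 4, 5} : Finset (Fin 8))).relIndex (D.par ({1, 2, 3, 4, 5, 6} : Finset (Fin 8))) =
    (1 + q ^ 5) * (1 + q + q ^ 2 + q ^ 3 + q ^ 4 + q ^ 5) := by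
  rw [D.rel (k := 6) (JL := [1, 2, 3, 4, 5, 6]) (L := t_123456_6) ok_123456_6 (by decide) (by decide) (by decide), S_123456_6]

/-- the orbit of the weight `7` under `W_{1,2,3,4,5,6,7}` -/
def t_1234567_7 : List Nd := [
  ⟨[0, 0, 0, 0, 0, 0, 0, 1], 0, 0, 0⟩, ⟨[0, 0, 0, 0, 0, 0, 1, -1], 1, 0, 7⟩,
  ⟨[0, 0, 0, 0, 0, 1, -1, 0], 2, 1, 6⟩, ⟨[0, 0, 0, 0, 1, -1, 0, 0], 3, 2, 5⟩,
  ⟨[0, 0, 0, 1, -1, 0, 0, 0], 4, 3, 4⟩, ⟨[0, 1, 1, -1, 0, 0, 0, 0], 5, 4, 3⟩,
  ⟨[0, -1, 1, 0, 0, 0, 0, 0], 6, 5, 1⟩, ⟨[1, 1, -1, 0, 0, 0, 0, 0], 6, 5, 2⟩,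
  ⟨[1, -1, -1, 1, 0, 0, 0, 0], 7, 6, 2⟩, ⟨[1, 0, 0, -1, 1, 0, 0, 0], 8, 8, 3⟩,
  ⟨[1, 0, 0, 0, -1, 1, 0, 0], 9, 9, 4⟩, ⟨[1, 0, 0, 0, 0, -1, 1, 0], 10, 10, 5⟩,
  ⟨[1, 0, 0, 0, 0, 0, -1, 1], 11, 11, 6⟩, ⟨[1, 0, 0, 0, 0, 0, 0, -1], 12, 12, 7⟩]

theorem ok_1234567_7 : orbOK 8 7 [1, 2, 3, 4, 5, 6, 7] cl AL t_1234567_7 = true := by decide +kernel

theorem S_1234567_7 (q : ℕ) : S q t_1234567_7 = (1 + q ^ 6) * (1 + q + q ^ 2 + q ^ 3 + q ^ 4 + q ^ 5 + q ^ 6) := by
  simp only [S, t_1234567_7, List.map_cons, List.map_nil, List.sum_cons, List.sum_nil]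
  ring

theorem rel_1234567_7 [Finite G] : (D.par ({1, 2, 3, 4, 5, 6} : Finset (Fin 8))).relIndex (D.par ({1, 2, 3, 4, 5, 6, 7} : Finset (Fin 8))) =
    (1 + q ^ 6) * (1 + q + q ^ 2 + q ^ 3 + q ^ 4 + q ^ 5 + q ^ 6) := by
  rw [D.rel (k := 7) (JL := [1, 2, 3, 4, 5, 6, 7]) (L := t_1234567_7) ok_1234567_7 (by decide) (by decide) (by decide), S_1234567_7]

/-- the orbit of the weight `0` under `W_{0,1,2,3,4,5}` -/
def t_012345_0 : List Nd := [
  ⟨[1, 0, 0, 0, 0, 0, 0, 0], 0, 0, 0⟩, ⟨[-1, 0, 1, 0, 0, 0, 0, 0], 1, 0, 0⟩,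
  ⟨[0, 0, -1, 1, 0, 0, 0, 0], 2, 1, 2⟩, ⟨[0, 1, 0, -1, 1, 0, 0, 0], 3, 2, 3⟩,
  ⟨[0, -1, 0, 0, 1, 0, 0, 0], 4, 3, 1⟩, ⟨[0, 1, 0, 0, -1, 1, 0, 0], 4, 3, 4⟩,
  ⟨[0, -1, 0, 1, -1, 1, 0, 0], 5, 4, 4⟩, ⟨[0, 1, 0, 0, 0, -1, 1, 0], 5, 5, 5⟩,
  ⟨[0, 0, 1, -1, 0, 1, 0, 0], 6, 6, 3⟩, ⟨[0, -1, 0, 1, 0, -1, 1, 0], 6, 6, 5⟩,
  ⟨[1, 0, -1, 0, 0, 1, 0, 0], 7, 8, 2⟩, ⟨[0, 0, 1, -1, 1, -1, 1, 0], 7, 8, 5⟩,
  ⟨[-1, 0, 0, 0, 0, 1, 0, 0], 8, 10, 0⟩, ⟨[1, 0, -1, 0, 1, -1, 1, 0], 8, 10, 5⟩,
  ⟨[0, 0, 1, 0, -1, 0, 1, 0], 8, 11, 4⟩, ⟨[-1, 0, 0, 0, 1, -1, 1, 0], 9, 12, 5⟩,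
  ⟨[1, 0, -1, 1, -1, 0, 1, 0], 9, 13, 4⟩, ⟨[-1, 0, 0, 1, -1, 0, 1, 0], 10, 15, 4⟩,
  ⟨[1, 1, 0, -1, 0, 0, 1, 0], 10, 16, 3⟩, ⟨[-1, 1, 1, -1, 0, 0, 1, 0], 11, 17, 3⟩,
  ⟨[1, -1, 0, 0, 0, 0, 1, 0], 11, 18, 1⟩, ⟨[-1, -1, 1, 0, 0, 0, 1, 0], 12, 19, 1⟩,
  ⟨[0, 1, -1, 0, 0, 0, 1, 0], 12, 19, 2⟩, ⟨[0, -1, -1, 1, 0, 0, 1, 0], 13, 21, 2⟩,
  ⟨[0, 0, 0, -1, 1, 0, 1, 0], 14, 23, 3⟩, ⟨[0, 0, 0, 0, -1, 1, 1, 0], 15, 24, 4⟩,
  ⟨[0, 0, 0, 0, 0, -1, 2, 0], 16, 25, 5⟩]

theorem ok_012345_0 : orbOK 8 0 [0, 1, 2, 3, 4, 5] cl AL t_012345_0 = true := by decide +kernel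

theorem S_012345_0 (q : ℕ) : S q t_012345_0 = (1 + q ^ 4 + q ^ 8) * (1 + q + q ^ 2 + q ^ 3 + q ^ 4 + q ^ 5 + q ^ 6 + q ^ 7 + q ^ 8) := by
  simp only [S, t_012345_0, List.map_cons, List.map_nil, List.sum_cons, List.sum_nil]
  ring

theorem rel_012345_0 [Finite G] : (D.par ({1, 2, 3, 4, 5} : Finset (Fin 8))).relIndex (D.par ({0, 1, 2, 3, 4, 5} : Finset (Fin 8))) =
    (1 + q ^ 4 + q ^ 8) * (1 + q + q ^ 2 + q ^ 3 + q ^ 4 + q ^ 5 + q ^ 6 + q ^ 7 + q ^ 8) := by
  rw [D.rel (k := 0) (JL := [0, 1, 2, 3, 4, 5]) (L := t_012345_0) ok_012345_0 (by decide) (by decide) (by decide), S_012345_0]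

/-- the orbit of the weight `7` under `W_{0,2,3,4,5,6,7}` -/
def t_0234567_7 : List Nd := [
  ⟨[0, 0, 0, 0, 0, 0, 0, 1], 0, 0, 0⟩, ⟨[0, 0, 0, 0, 0, 0, 1, -1], 1, 0, 7⟩,
  ⟨[0, 0, 0, 0, 0, 1, -1, 0], 2, 1, 6⟩, ⟨[0, 0, 0, 0, 1, -1, 0, 0], 3, 2, 5⟩,
  ⟨[0, 0, 0, 1, -1, 0, 0, 0], 4, 3, 4⟩, ⟨[0, 1, 1, -1, 0, 0, 0, 0], 5, 4, 3⟩,
  ⟨[1, 1, -1, 0, 0, 0, 0, 0], 6, 5, 2⟩, ⟨[-1, 1, 0, 0, 0, 0, 0, 0], 7, 6, 0⟩]

theorem ok_0234567_7 : orbOK 8 7 [0, 2, 3, 4, 5, 6, 7] cl AL t_0234567_7 = true := by decide +kernel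

theorem S_0234567_7 (q : ℕ) : S q t_0234567_7 = 1 + q + q ^ 2 + q ^ 3 + q ^ 4 + q ^ 5 + q ^ 6 + q ^ 7 := by
  simp only [S, t_0234567_7, List.map_cons, List.map_nil, List.sum_cons, List.sum_nil]
  ring

theorem rel_0234567_7 [Finite G] : (D.par ({0, 2, 3, 4, 5, 6} : Finset (Fin 8))).relIndex (D.par ({0, 2, 3, 4, 5, 6, 7} : Finset (Fin 8))) =
    1 + q + q ^ 2 + q ^ 3 + q ^ 4 + q ^ 5 + q ^ 6 + q ^ 7 := by
  rw [D.rel (k := 7) (JL := [0, 2, 3, 4, 5, 6, 7]) (L := t_0234567_7) ok_0234567_7 (by decide) (by decide) (by decide), S_0234567_7]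

/-- the orbit of the weight `0` under `W_{0,1,3,4,5,6,7}` -/
def t_0134567_0 : List Nd := [
  ⟨[1, 0, 0, 0, 0, 0, 0, 0], 0, 0, 0⟩, ⟨[-1, 0, 1, 0, 0, 0, 0, 0], 1, 0, 0⟩]

theorem ok_0134567_0 : orbOK 8 0 [0, 1, 3, 4, 5, 6, 7] cl AL t_0134567_0 = true := by decide +kernel

theorem S_0134567_0 (q : ℕ) : S q t_0134567_0 = 1 + q := by
  simp only [S, t_0134567_0, List.map_cons, List.map_nil, List.sum_cons, List.sum_nil]
  ring

theorem rel_0134567_0 [Finite G] : (D.par ({1, 3, 4, 5, 6, 7} : Finset (Fin 8))).relIndex (D.par ({0, 1, 3, 4, 5, 6, 7} : Finset (Fin 8))) =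
    1 + q := by
  rw [D.rel (k := 0) (JL := [0, 1, 3, 4, 5, 6, 7]) (L := t_0134567_0) ok_0134567_0 (by decide) (by decide) (by decide), S_0134567_0]

/-- the orbit of the weight `7` under `W_{0,1,3,4,5,6,7}` -/
def t_0134567_7 : List Nd := [
  ⟨[0, 0, 0, 0, 0, 0, 0, 1], 0, 0, 0⟩, ⟨[0, 0, 0, 0, 0, 0, 1, -1], 1, 0, 7⟩,
  ⟨[0, 0, 0, 0, 0, 1, -1, 0], 2, 1, 6⟩, ⟨[0, 0, 0, 0, 1, -1, 0, 0], 3, 2, 5⟩,
  ⟨[0, 0, 0, 1, -1, 0, 0, 0], 4, 3, 4⟩, ⟨[0, 1, 1, -1, 0, 0, 0, 0], 5, 4, 3⟩,
  ⟨[0, -1, 1, 0, 0, 0, 0, 0], 6, 5, 1⟩]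

theorem ok_0134567_7 : orbOK 8 7 [0, 1, 3, 4, 5, 6, 7] cl AL t_0134567_7 = true := by decide +kernel

theorem S_0134567_7 (q : ℕ) : S q t_0134567_7 = 1 + q + q ^ 2 + q ^ 3 + q ^ 4 + q ^ 5 + q ^ 6 := by
  simp only [S, t_0134567_7, List.map_cons, List.map_nil, List.sum_cons, List.sum_nil]
  ring

theorem rel_0134567_7 [Finite G] : (D.par ({0, 1, 3, 4, 5, 6} : Finset (Fin 8))).relIndex (D.par ({0, 1, 3, 4, 5, 6, 7} : Finset (Fin 8))) =
    1 + q + q ^ 2 + q ^ 3 + q ^ 4 + q ^ 5 + q ^ 6 := by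
  rw [D.rel (k := 7) (JL := [0, 1, 3, 4, 5, 6, 7]) (L := t_0134567_7) ok_0134567_7 (by decide) (by decide) (by decide), S_0134567_7]

/-- the orbit of the weight `0` under `W_{0,1,2,4,5,6,7}` -/
def t_0124567_0 : List Nd := [
  ⟨[1, 0, 0, 0, 0, 0, 0, 0], 0, 0, 0⟩, ⟨[-1, 0, 1, 0, 0, 0, 0, 0], 1, 0, 0⟩,
  ⟨[0, 0, -1, 1, 0, 0, 0, 0], 2, 1, 2⟩]

theorem ok_0124567_0 : orbOK 8 0 [0, 1, 2, 4, 5, 6, 7] cl AL t_0124567_0 = true := by decide +kernel

theorem S_0124567_0 (q : ℕ) : S q t_0124567_0 = 1 + q + q ^ 2 := by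
  simp only [S, t_0124567_0, List.map_cons, List.map_nil, List.sum_cons, List.sum_nil]
  ring

theorem rel_0124567_0 [Finite G] : (D.par ({1, 2, 4, 5, 6, 7} : Finset (Fin 8))).relIndex (D.par ({0, 1, 2, 4, 5, 6, 7} : Finset (Fin 8))) =
    1 + q + q ^ 2 := by
  rw [D.rel (k := 0) (JL := [0, 1, 2, 4, 5, 6, 7]) (L := t_0124567_0) ok_0124567_0 (by decide) (by decide) (by decide), S_0124567_0]

/-- the orbit of the weight `7` under `W_{0,1,2,4,5,6,7}` -/
def t_0124567_7 : List Nd := [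
  ⟨[0, 0, 0, 0, 0, 0, 0, 1], 0, 0, 0⟩, ⟨[0, 0, 0, 0, 0, 0, 1, -1], 1, 0, 7⟩,
  ⟨[0, 0, 0, 0, 0, 1, -1, 0], 2, 1, 6⟩, ⟨[0, 0, 0, 0, 1, -1, 0, 0], 3, 2, 5⟩,
  ⟨[0, 0, 0, 1, -1, 0, 0, 0], 4, 3, 4⟩]

theorem ok_0124567_7 : orbOK 8 7 [0, 1, 2, 4, 5, 6, 7] cl AL t_0124567_7 = true := by decide +kernel

theorem S_0124567_7 (q : ℕ) : S q t_0124567_7 = 1 + q + q ^ 2 + q ^ 3 + q ^ 4 := by
  simp only [S, t_0124567_7, List.map_cons, List.map_nil, List.sum_cons, List.sum_nil]
  ring

theorem rel_0124567_7 [Finite G] : (D.par ({0, 1, 2, 4, 5, 6} : Finset (Fin 8))).relIndex (D.par ({0, 1, 2, 4, 5, 6, 7} : Finset (Fin 8))) =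
    1 + q + q ^ 2 + q ^ 3 + q ^ 4 := by
  rw [D.rel (k := 7) (JL := [0, 1, 2, 4, 5, 6, 7]) (L := t_0124567_7) ok_0124567_7 (by decide) (by decide) (by decide), S_0124567_7]

/-- the orbit of the weight `0` under `W_{0,1,2,3,5,6,7}` -/
def t_0123567_0 : List Nd := [
  ⟨[1, 0, 0, 0, 0, 0, 0, 0], 0, 0, 0⟩, ⟨[-1, 0, 1, 0, 0, 0, 0, 0], 1, 0, 0⟩,
  ⟨[0, 0, -1, 1, 0, 0, 0, 0], 2, 1, 2⟩, ⟨[0, 1, 0, -1, 1, 0, 0, 0], 3, 2, 3⟩,
  ⟨[0, -1, 0, 0, 1, 0, 0, 0], 4, 3, 1⟩]

theorem ok_0123567_0 : orbOK 8 0 [0, 1, 2, 3, 5, 6, 7] cl AL t_0123567_0 = true := by decide +kernel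

theorem S_0123567_0 (q : ℕ) : S q t_0123567_0 = 1 + q + q ^ 2 + q ^ 3 + q ^ 4 := by
  simp only [S, t_0123567_0, List.map_cons, List.map_nil, List.sum_cons, List.sum_nil]
  ring

theorem rel_0123567_0 [Finite G] : (D.par ({1, 2, 3, 5, 6, 7} : Finset (Fin 8))).relIndex (D.par ({0, 1, 2, 3, 5, 6, 7} : Finset (Fin 8))) =
    1 + q + q ^ 2 + q ^ 3 + q ^ 4 := by
  rw [D.rel (k := 0) (JL := [0, 1, 2, 3, 5, 6, 7]) (L := t_0123567_0) ok_0123567_0 (by decide) (by decide) (by decide), S_0123567_0]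

/-- the orbit of the weight `7` under `W_{0,1,2,3,5,6,7}` -/
def t_0123567_7 : List Nd := [
  ⟨[0, 0, 0, 0, 0, 0, 0, 1], 0, 0, 0⟩, ⟨[0, 0, 0, 0, 0, 0, 1, -1], 1, 0, 7⟩,
  ⟨[0, 0, 0, 0, 0, 1, -1, 0], 2, 1, 6⟩, ⟨[0, 0, 0, 0, 1, -1, 0, 0], 3, 2, 5⟩]

theorem ok_0123567_7 : orbOK 8 7 [0, 1, 2, 3, 5, 6, 7] cl AL t_0123567_7 = true := by decide +kernel

theorem S_0123567_7 (q : ℕ) : S q t_0123567_7 = 1 + q + q ^ 2 + q ^ 3 := by
  simp only [S, t_0123567_7, List.map_cons, List.map_nil, List.sum_cons, List.sum_nil]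
  ring

theorem rel_0123567_7 [Finite G] : (D.par ({0, 1, 2, 3, 5, 6} : Finset (Fin 8))).relIndex (D.par ({0, 1, 2, 3, 5, 6, 7} : Finset (Fin 8))) =
    1 + q + q ^ 2 + q ^ 3 := by
  rw [D.rel (k := 7) (JL := [0, 1, 2, 3, 5, 6, 7]) (L := t_0123567_7) ok_0123567_7 (by decide) (by decide) (by decide), S_0123567_7]

/-- the orbit of the weight `0` under `W_{0,1,2,3,4,6,7}` -/
def t_0123467_0 : List Nd := [
  ⟨[1, 0, 0, 0, 0, 0, 0, 0], 0, 0, 0⟩, ⟨[-1, 0, 1, 0, 0, 0, 0, 0], 1, 0, 0⟩,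
  ⟨[0, 0, -1, 1, 0, 0, 0, 0], 2, 1, 2⟩, ⟨[0, 1, 0, -1, 1, 0, 0, 0], 3, 2, 3⟩,
  ⟨[0, -1, 0, 0, 1, 0, 0, 0], 4, 3, 1⟩, ⟨[0, 1, 0, 0, -1, 1, 0, 0], 4, 3, 4⟩,
  ⟨[0, -1, 0, 1, -1, 1, 0, 0], 5, 4, 4⟩, ⟨[0, 0, 1, -1, 0, 1, 0, 0], 6, 6, 3⟩,
  ⟨[1, 0, -1, 0, 0, 1, 0, 0], 7, 7, 2⟩, ⟨[-1, 0, 0, 0, 0, 1, 0, 0], 8, 8, 0⟩]

theorem ok_0123467_0 : orbOK 8 0 [0, 1, 2, 3, 4, 6, 7] cl AL t_0123467_0 = true := by decide +kernel

theorem S_0123467_0 (q : ℕ) : S q t_0123467_0 = (1 + q ^ 4) * (1 + q + q ^ 2 + q ^ 3 + q ^ 4) := by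
  simp only [S, t_0123467_0, List.map_cons, List.map_nil, List.sum_cons, List.sum_nil]
  ring

theorem rel_0123467_0 [Finite G] : (D.par ({1, 2, 3, 4, 6, 7} : Finset (Fin 8))).relIndex (D.par ({0, 1, 2, 3, 4, 6, 7} : Finset (Fin 8))) =
    (1 + q ^ 4) * (1 + q + q ^ 2 + q ^ 3 + q ^ 4) := by
  rw [D.rel (k := 0) (JL := [0, 1, 2, 3, 4, 6, 7]) (L := t_0123467_0) ok_0123467_0 (by decide) (by decide) (by decide), S_0123467_0]

/-- the orbit of the weight `7` under `W_{0,1,2,3,4,6,7}` -/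
def t_0123467_7 : List Nd := [
  ⟨[0, 0, 0, 0, 0, 0, 0, 1], 0, 0, 0⟩, ⟨[0, 0, 0, 0, 0, 0, 1, -1], 1, 0, 7⟩,
  ⟨[0, 0, 0, 0, 0, 1, -1, 0], 2, 1, 6⟩]

theorem ok_0123467_7 : orbOK 8 7 [0, 1, 2, 3, 4, 6, 7] cl AL t_0123467_7 = true := by decide +kernel

theorem S_0123467_7 (q : ℕ) : S q t_0123467_7 = 1 + q + q ^ 2 := by
  simp only [S, t_0123467_7, List.map_cons, List.map_nil, List.sum_cons, List.sum_nil]
  ring

theorem rel_0123467_7 [Finite G] : (D.par ({0, 1, 2, 3, 4, 6} : Finset (Fin 8))).relIndex (D.par ({0, 1, 2, 3, 4, 6, 7} : Finset (Fin 8))) =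
    1 + q + q ^ 2 := by
  rw [D.rel (k := 7) (JL := [0, 1, 2, 3, 4, 6, 7]) (L := t_0123467_7) ok_0123467_7 (by decide) (by decide) (by decide), S_0123467_7]

/-- the orbit of the weight `7` under `W_{0,1,2,3,4,5,7}` -/
def t_0123457_7 : List Nd := [
  ⟨[0, 0, 0, 0, 0, 0, 0, 1], 0, 0, 0⟩, ⟨[0, 0, 0, 0, 0, 0, 1, -1], 1, 0, 7⟩]

theorem ok_0123457_7 : orbOK 8 7 [0, 1, 2, 3, 4, 5, 7] cl AL t_0123457_7 = true := by decide +kernel

theorem S_0123457_7 (q : ℕ) : S q t_0123457_7 = 1 + q := by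
  simp only [S, t_0123457_7, List.map_cons, List.map_nil, List.sum_cons, List.sum_nil]
  ring

theorem rel_0123457_7 [Finite G] : (D.par ({0, 1, 2, 3, 4, 5} : Finset (Fin 8))).relIndex (D.par ({0, 1, 2, 3, 4, 5, 7} : Finset (Fin 8))) =
    1 + q := by
  rw [D.rel (k := 7) (JL := [0, 1, 2, 3, 4, 5, 7]) (L := t_0123457_7) ok_0123457_7 (by decide) (by decide) (by decide), S_0123457_7]

theorem cop_2 (q : ℕ) : Nat.Coprime (1 + q) (1 + q + q ^ 2 + q ^ 3 + q ^ 4 + q ^ 5 + q ^ 6) := by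
  rw [← Nat.isCoprime_iff_coprime]
  push_cast
  refine ⟨(-1) * (q : ℤ) + (-1) * (q : ℤ) ^ 3 + (-1) * (q : ℤ) ^ 5, (1), ?_⟩
  ring

theorem cop_3 (q : ℕ) : Nat.Coprime (1 + q + q ^ 2) (1 + q + q ^ 2 + q ^ 3 + q ^ 4) := by
  rw [← Nat.isCoprime_iff_coprime]
  push_cast
  refine ⟨(1) + (1) * (q : ℤ) ^ 3, (-1) * (q : ℤ), ?_⟩
  ring

theorem cop_4 (q : ℕ) : Nat.Coprime (1 + q + q ^ 2 + q ^ 3 + q ^ 4) (1 + q + q ^ 2 + q ^ 3) := by
  rw [← Nat.isCoprime_iff_coprime]
  push_cast
  refine ⟨(1), (-1) * (q : ℤ), ?_⟩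
  ring

theorem cop_5 (q : ℕ) : Nat.Coprime ((1 + q ^ 4) * (1 + q + q ^ 2 + q ^ 3 + q ^ 4)) (1 + q + q ^ 2) := by
  rw [← Nat.isCoprime_iff_coprime]
  push_cast
  refine ⟨(-1) + (-1) * (q : ℤ), (2) + (2) * (q : ℤ) ^ 3 + (1) * (q : ℤ) ^ 4 + (1) * (q : ℤ) ^ 6 + (1) * (q : ℤ) ^ 7, ?_⟩
  ring

end Cfsg.Agent.H470.PiRad.TabE8
end

-- part: H470/PiRad/TabE7
section
/-!
# S4324: orbit tables and indices, type E7 (helper470, generated)
-/

set_option autoImplicit false
set_option linter.unusedSectionVars false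

namespace Cfsg.Agent.H470.PiRad.TabE7

open Cfsg Subgroup Cfsg.Agent.H470.PiRad.Mod Cfsg.Agent.H470.PiRad.Orb
open Cfsg.Agent.ChevalleyStructure.CoxeterGeom

/-- the Cartan matrix -/
def AL : List (List ℤ) := [[2, 0, -1, 0, 0, 0, 0], [0, 2, 0, -1, 0, 0, 0], [-1, 0, 2, -1, 0, 0, 0], [0, -1, -1, 2, -1, 0, 0], [0, 0, 0, -1, 2, -1, 0], [0, 0, 0, 0, -1, 2, -1], [0, 0, 0, 0, 0, -1, 2]]

/-- the exponents of the simple root groups -/
def cl : List ℕ := [1, 1, 1, 1, 1, 1, 1]

variable {t q : ℕ} {M : CoxeterMatrix (Fin 7)}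
    {A : Fin 7 → Fin 7 → ℤ} {h : IsCartan M A} {G : Type*} [Group G] {T : Subgroup G} {n : Fin 7 → G}
    {X : (Fin 7 → ℤ) → Subgroup G} (D : Dat t q AL cl h T n X)

/-- the orbit of the weight `6` under `W_{6}` -/
def t_6_6 : List Nd := [
  ⟨[0, 0, 0, 0, 0, 0, 1], 0, 0, 0⟩, ⟨[0, 0, 0, 0, 0, 1, -1], 1, 0, 6⟩]

theorem ok_6_6 : orbOK 7 6 [6] cl AL t_6_6 = true := by decide +kernel

theorem S_6_6 (q : ℕ) : S q t_6_6 = 1 + q := by
  simp only [S, t_6_6, List.map_cons, List.map_nil, List.sum_cons, List.sum_nil]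
  ring

theorem rel_6_6 [Finite G] : (D.par (∅ : Finset (Fin 7))).relIndex (D.par ({6} : Finset (Fin 7))) =
    1 + q := by
  rw [D.rel (k := 6) (JL := [6]) (L := t_6_6) ok_6_6 (by decide) (by decide) (by decide), S_6_6]

/-- the orbit of the weight `6` under `W_{5,6}` -/
def t_56_6 : List Nd := [
  ⟨[0, 0, 0, 0, 0, 0, 1], 0, 0, 0⟩, ⟨[0, 0, 0, 0, 0, 1, -1], 1, 0, 6⟩, ⟨[0, 0, 0, 0, 1, -1, 0], 2, 1, 5⟩]

theorem ok_56_6 : orbOK 7 6 [5, 6] cl AL t_56_6 = true := by decide +kernel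

theorem S_56_6 (q : ℕ) : S q t_56_6 = 1 + q + q ^ 2 := by
  simp only [S, t_56_6, List.map_cons, List.map_nil, List.sum_cons, List.sum_nil]
  ring

theorem rel_56_6 [Finite G] : (D.par ({5} : Finset (Fin 7))).relIndex (D.par ({5, 6} : Finset (Fin 7))) =
    1 + q + q ^ 2 := by
  rw [D.rel (k := 6) (JL := [5, 6]) (L := t_56_6) ok_56_6 (by decide) (by decide) (by decide), S_56_6]

/-- the orbit of the weight `6` under `W_{4,5,6}` -/
def t_456_6 : List Nd := [
  ⟨[0, 0, 0, 0, 0, 0, 1], 0, 0, 0⟩, ⟨[0, 0, 0, 0, 0, 1, -1], 1, 0, 6⟩, ⟨[0, 0, 0, 0, 1, -1, 0], 2, 1, 5⟩,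
  ⟨[0, 0, 0, 1, -1, 0, 0], 3, 2, 4⟩]

theorem ok_456_6 : orbOK 7 6 [4, 5, 6] cl AL t_456_6 = true := by decide +kernel

theorem S_456_6 (q : ℕ) : S q t_456_6 = 1 + q + q ^ 2 + q ^ 3 := by
  simp only [S, t_456_6, List.map_cons, List.map_nil, List.sum_cons, List.sum_nil]
  ring

theorem rel_456_6 [Finite G] : (D.par ({4, 5} : Finset (Fin 7))).relIndex (D.par ({4, 5, 6} : Finset (Fin 7))) =
    1 + q + q ^ 2 + q ^ 3 := by
  rw [D.rel (k := 6) (JL := [4, 5, 6]) (L := t_456_6) ok_456_6 (by decide) (by decide) (by decide), S_456_6]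

/-- the orbit of the weight `6` under `W_{2,3,4,5,6}` -/
def t_23456_6 : List Nd := [
  ⟨[0, 0, 0, 0, 0, 0, 1], 0, 0, 0⟩, ⟨[0, 0, 0, 0, 0, 1, -1], 1, 0, 6⟩, ⟨[0, 0, 0, 0, 1, -1, 0], 2, 1, 5⟩,
  ⟨[0, 0, 0, 1, -1, 0, 0], 3, 2, 4⟩, ⟨[0, 1, 1, -1, 0, 0, 0], 4, 3, 3⟩, ⟨[1, 1, -1, 0, 0, 0, 0], 5, 4, 2⟩]

theorem ok_23456_6 : orbOK 7 6 [2, 3, 4, 5, 6] cl AL t_23456_6 = true := by decide +kernel

theorem S_23456_6 (q : ℕ) : S q t_23456_6 = 1 + q + q ^ 2 + q ^ 3 + q ^ 4 + q ^ 5 := by
  simp only [S, t_23456_6, List.map_cons, List.map_nil, List.sum_cons, List.sum_nil]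
  ring

theorem rel_23456_6 [Finite G] : (D.par ({2, 3, 4, 5} : Finset (Fin 7))).relIndex (D.par ({2, 3, 4, 5, 6} : Finset (Fin 7))) =
    1 + q + q ^ 2 + q ^ 3 + q ^ 4 + q ^ 5 := by
  rw [D.rel (k := 6) (JL := [2, 3, 4, 5, 6]) (L := t_23456_6) ok_23456_6 (by decide) (by decide) (by decide), S_23456_6]

/-- the orbit of the weight `6` under `W_{1,3,4,5,6}` -/
def t_13456_6 : List Nd := [
  ⟨[0, 0, 0, 0, 0, 0, 1], 0, 0, 0⟩, ⟨[0, 0, 0, 0, 0, 1, -1], 1, 0, 6⟩, ⟨[0, 0, 0, 0, 1, -1, 0], 2, 1, 5⟩,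
  ⟨[0, 0, 0, 1, -1, 0, 0], 3, 2, 4⟩, ⟨[0, 1, 1, -1, 0, 0, 0], 4, 3, 3⟩, ⟨[0, -1, 1, 0, 0, 0, 0], 5, 4, 1⟩]

theorem ok_13456_6 : orbOK 7 6 [1, 3, 4, 5, 6] cl AL t_13456_6 = true := by decide +kernel

theorem S_13456_6 (q : ℕ) : S q t_13456_6 = 1 + q + q ^ 2 + q ^ 3 + q ^ 4 + q ^ 5 := by
  simp only [S, t_13456_6, List.map_cons, List.map_nil, List.sum_cons, List.sum_nil]
  ring

theorem rel_13456_6 [Finite G] : (D.par ({1, 3, 4, 5} : Finset (Fin 7))).relIndex (D.par ({1, 3, 4, 5, 6} : Finset (Fin 7))) =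
    1 + q + q ^ 2 + q ^ 3 + q ^ 4 + q ^ 5 := by
  rw [D.rel (k := 6) (JL := [1, 3, 4, 5, 6]) (L := t_13456_6) ok_13456_6 (by decide) (by decide) (by decide), S_13456_6]

/-- the orbit of the weight `0` under `W_{0}` -/
def t_0_0 : List Nd := [
  ⟨[1, 0, 0, 0, 0, 0, 0], 0, 0, 0⟩, ⟨[-1, 0, 1, 0, 0, 0, 0], 1, 0, 0⟩]

theorem ok_0_0 : orbOK 7 0 [0] cl AL t_0_0 = true := by decide +kernel

theorem S_0_0 (q : ℕ) : S q t_0_0 = 1 + q := by
  simp only [S, t_0_0, List.map_cons, List.map_nil, List.sum_cons, List.sum_nil]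
  ring

theorem rel_0_0 [Finite G] : (D.par (∅ : Finset (Fin 7))).relIndex (D.par ({0} : Finset (Fin 7))) =
    1 + q := by
  rw [D.rel (k := 0) (JL := [0]) (L := t_0_0) ok_0_0 (by decide) (by decide) (by decide), S_0_0]

/-- the orbit of the weight `0` under `W_{0,2}` -/
def t_02_0 : List Nd := [
  ⟨[1, 0, 0, 0, 0, 0, 0], 0, 0, 0⟩, ⟨[-1, 0, 1, 0, 0, 0, 0], 1, 0, 0⟩, ⟨[0, 0, -1, 1, 0, 0, 0], 2, 1, 2⟩]

theorem ok_02_0 : orbOK 7 0 [0, 2] cl AL t_02_0 = true := by decide +kernel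

theorem S_02_0 (q : ℕ) : S q t_02_0 = 1 + q + q ^ 2 := by
  simp only [S, t_02_0, List.map_cons, List.map_nil, List.sum_cons, List.sum_nil]
  ring

theorem rel_02_0 [Finite G] : (D.par ({2} : Finset (Fin 7))).relIndex (D.par ({0, 2} : Finset (Fin 7))) =
    1 + q + q ^ 2 := by
  rw [D.rel (k := 0) (JL := [0, 2]) (L := t_02_0) ok_02_0 (by decide) (by decide) (by decide), S_02_0]

/-- the orbit of the weight `0` under `W_{0,2,3}` -/
def t_023_0 : List Nd := [
  ⟨[1, 0, 0, 0, 0, 0, 0], 0, 0, 0⟩, ⟨[-1, 0, 1, 0, 0, 0, 0], 1, 0, 0⟩, ⟨[0, 0, -1, 1, 0, 0, 0], 2, 1, 2⟩,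
  ⟨[0, 1, 0, -1, 1, 0, 0], 3, 2, 3⟩]

theorem ok_023_0 : orbOK 7 0 [0, 2, 3] cl AL t_023_0 = true := by decide +kernel

theorem S_023_0 (q : ℕ) : S q t_023_0 = 1 + q + q ^ 2 + q ^ 3 := by
  simp only [S, t_023_0, List.map_cons, List.map_nil, List.sum_cons, List.sum_nil]
  ring

theorem rel_023_0 [Finite G] : (D.par ({2, 3} : Finset (Fin 7))).relIndex (D.par ({0, 2, 3} : Finset (Fin 7))) =
    1 + q + q ^ 2 + q ^ 3 := by
  rw [D.rel (k := 0) (JL := [0, 2, 3]) (L := t_023_0) ok_023_0 (by decide) (by decide) (by decide), S_023_0]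

/-- the orbit of the weight `0` under `W_{0,2,3,4,5}` -/
def t_02345_0 : List Nd := [
  ⟨[1, 0, 0, 0, 0, 0, 0], 0, 0, 0⟩, ⟨[-1, 0, 1, 0, 0, 0, 0], 1, 0, 0⟩, ⟨[0, 0, -1, 1, 0, 0, 0], 2, 1, 2⟩,
  ⟨[0, 1, 0, -1, 1, 0, 0], 3, 2, 3⟩, ⟨[0, 1, 0, 0, -1, 1, 0], 4, 3, 4⟩, ⟨[0, 1, 0, 0, 0, -1, 1], 5, 4, 5⟩]

theorem ok_02345_0 : orbOK 7 0 [0, 2, 3, 4, 5] cl AL t_02345_0 = true := by decide +kernel

theorem S_02345_0 (q : ℕ) : S q t_02345_0 = 1 + q + q ^ 2 + q ^ 3 + q ^ 4 + q ^ 5 := by
  simp only [S, t_02345_0, List.map_cons, List.map_nil, List.sum_cons, List.sum_nil]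
  ring

theorem rel_02345_0 [Finite G] : (D.par ({2, 3, 4, 5} : Finset (Fin 7))).relIndex (D.par ({0, 2, 3, 4, 5} : Finset (Fin 7))) =
    1 + q + q ^ 2 + q ^ 3 + q ^ 4 + q ^ 5 := by
  rw [D.rel (k := 0) (JL := [0, 2, 3, 4, 5]) (L := t_02345_0) ok_02345_0 (by decide) (by decide) (by decide), S_02345_0]

/-- the orbit of the weight `1` under `W_{1,2,3,4}` -/
def t_1234_1 : List Nd := [
  ⟨[0, 1, 0, 0, 0, 0, 0], 0, 0, 0⟩, ⟨[0, -1, 0, 1, 0, 0, 0], 1, 0, 1⟩, ⟨[0, 0, 1, -1, 1, 0, 0], 2, 1, 3⟩,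
  ⟨[1, 0, -1, 0, 1, 0, 0], 3, 2, 2⟩, ⟨[0, 0, 1, 0, -1, 1, 0], 3, 2, 4⟩, ⟨[1, 0, -1, 1, -1, 1, 0], 4, 3, 4⟩,
  ⟨[1, 1, 0, -1, 0, 1, 0], 5, 5, 3⟩, ⟨[1, -1, 0, 0, 0, 1, 0], 6, 6, 1⟩]

theorem ok_1234_1 : orbOK 7 1 [1, 2, 3, 4] cl AL t_1234_1 = true := by decide +kernel

theorem S_1234_1 (q : ℕ) : S q t_1234_1 = (1 + q ^ 3) * (1 + q + q ^ 2 + q ^ 3) := by
  simp only [S, t_1234_1, List.map_cons, List.map_nil, List.sum_cons, List.sum_nil]
  ring

theorem rel_1234_1 [Finite G] : (D.par ({2, 3, 4} : Finset (Fin 7))).relIndex (D.par ({1, 2, 3, 4} : Finset (Fin 7))) =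
    (1 + q ^ 3) * (1 + q + q ^ 2 + q ^ 3) := by
  rw [D.rel (k := 1) (JL := [1, 2, 3, 4]) (L := t_1234_1) ok_1234_1 (by decide) (by decide) (by decide), S_1234_1]

/-- the orbit of the weight `0` under `W_{0,1,2,4,5,6}` -/
def t_012456_0 : List Nd := [
  ⟨[1, 0, 0, 0, 0, 0, 0], 0, 0, 0⟩, ⟨[-1, 0, 1, 0, 0, 0, 0], 1, 0, 0⟩, ⟨[0, 0, -1, 1, 0, 0, 0], 2, 1, 2⟩]

theorem ok_012456_0 : orbOK 7 0 [0, 1, 2, 4, 5, 6] cl AL t_012456_0 = true := by decide +kernel

theorem S_012456_0 (q : ℕ) : S q t_012456_0 = 1 + q + q ^ 2 := by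
  simp only [S, t_012456_0, List.map_cons, List.map_nil, List.sum_cons, List.sum_nil]
  ring

theorem rel_012456_0 [Finite G] : (D.par ({1, 2, 4, 5, 6} : Finset (Fin 7))).relIndex (D.par ({0, 1, 2, 4, 5, 6} : Finset (Fin 7))) =
    1 + q + q ^ 2 := by
  rw [D.rel (k := 0) (JL := [0, 1, 2, 4, 5, 6]) (L := t_012456_0) ok_012456_0 (by decide) (by decide) (by decide), S_012456_0]

/-- the orbit of the weight `6` under `W_{0,1,2,4,5,6}` -/
def t_012456_6 : List Nd := [
  ⟨[0, 0, 0, 0, 0, 0, 1], 0, 0, 0⟩, ⟨[0, 0, 0, 0, 0, 1, -1], 1, 0, 6⟩, ⟨[0, 0, 0, 0, 1, -1, 0], 2, 1, 5⟩,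
  ⟨[0, 0, 0, 1, -1, 0, 0], 3, 2, 4⟩]

theorem ok_012456_6 : orbOK 7 6 [0, 1, 2, 4, 5, 6] cl AL t_012456_6 = true := by decide +kernel

theorem S_012456_6 (q : ℕ) : S q t_012456_6 = 1 + q + q ^ 2 + q ^ 3 := by
  simp only [S, t_012456_6, List.map_cons, List.map_nil, List.sum_cons, List.sum_nil]
  ring

theorem rel_012456_6 [Finite G] : (D.par ({0, 1, 2, 4, 5} : Finset (Fin 7))).relIndex (D.par ({0, 1, 2, 4, 5, 6} : Finset (Fin 7))) =
    1 + q + q ^ 2 + q ^ 3 := by
  rw [D.rel (k := 6) (JL := [0, 1, 2, 4, 5, 6]) (L := t_012456_6) ok_012456_6 (by decide) (by decide) (by decide), S_012456_6]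

/-- the orbit of the weight `0` under `W_{0,1,2,3,5,6}` -/
def t_012356_0 : List Nd := [
  ⟨[1, 0, 0, 0, 0, 0, 0], 0, 0, 0⟩, ⟨[-1, 0, 1, 0, 0, 0, 0], 1, 0, 0⟩, ⟨[0, 0, -1, 1, 0, 0, 0], 2, 1, 2⟩,
  ⟨[0, 1, 0, -1, 1, 0, 0], 3, 2, 3⟩, ⟨[0, -1, 0, 0, 1, 0, 0], 4, 3, 1⟩]

theorem ok_012356_0 : orbOK 7 0 [0, 1, 2, 3, 5, 6] cl AL t_012356_0 = true := by decide +kernel

theorem S_012356_0 (q : ℕ) : S q t_012356_0 = 1 + q + q ^ 2 + q ^ 3 + q ^ 4 := by
  simp only [S, t_012356_0, List.map_cons, List.map_nil, List.sum_cons, List.sum_nil]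
  ring

theorem rel_012356_0 [Finite G] : (D.par ({1, 2, 3, 5, 6} : Finset (Fin 7))).relIndex (D.par ({0, 1, 2, 3, 5, 6} : Finset (Fin 7))) =
    1 + q + q ^ 2 + q ^ 3 + q ^ 4 := by
  rw [D.rel (k := 0) (JL := [0, 1, 2, 3, 5, 6]) (L := t_012356_0) ok_012356_0 (by decide) (by decide) (by decide), S_012356_0]

/-- the orbit of the weight `6` under `W_{0,1,2,3,5,6}` -/
def t_012356_6 : List Nd := [
  ⟨[0, 0, 0, 0, 0, 0, 1], 0, 0, 0⟩, ⟨[0, 0, 0, 0, 0, 1, -1], 1, 0, 6⟩, ⟨[0, 0, 0, 0, 1, -1, 0], 2, 1, 5⟩]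

theorem ok_012356_6 : orbOK 7 6 [0, 1, 2, 3, 5, 6] cl AL t_012356_6 = true := by decide +kernel

theorem S_012356_6 (q : ℕ) : S q t_012356_6 = 1 + q + q ^ 2 := by
  simp only [S, t_012356_6, List.map_cons, List.map_nil, List.sum_cons, List.sum_nil]
  ring

theorem rel_012356_6 [Finite G] : (D.par ({0, 1, 2, 3, 5} : Finset (Fin 7))).relIndex (D.par ({0, 1, 2, 3, 5, 6} : Finset (Fin 7))) =
    1 + q + q ^ 2 := by
  rw [D.rel (k := 6) (JL := [0, 1, 2, 3, 5, 6]) (L := t_012356_6) ok_012356_6 (by decide) (by decide) (by decide), S_012356_6]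

theorem cop_3 (q : ℕ) : Nat.Coprime (1 + q + q ^ 2) (1 + q + q ^ 2 + q ^ 3) := by
  rw [← Nat.isCoprime_iff_coprime]
  push_cast
  refine ⟨(-1) * (q : ℤ), (1), ?_⟩
  ring

theorem cop_4 (q : ℕ) : Nat.Coprime (1 + q + q ^ 2 + q ^ 3 + q ^ 4) (1 + q + q ^ 2) := by
  rw [← Nat.isCoprime_iff_coprime]
  push_cast
  refine ⟨(-1) * (q : ℤ), (1) + (1) * (q : ℤ) ^ 3, ?_⟩
  ring

end Cfsg.Agent.H470.PiRad.TabE7
end

-- part: H470/PiRad/TabE6
section
/-!
# S4324: orbit tables and indices, type E6 (helper470, generated)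
-/

set_option autoImplicit false
set_option linter.unusedSectionVars false

namespace Cfsg.Agent.H470.PiRad.TabE6

open Cfsg Subgroup Cfsg.Agent.H470.PiRad.Mod Cfsg.Agent.H470.PiRad.Orb
open Cfsg.Agent.ChevalleyStructure.CoxeterGeom

/-- the Cartan matrix -/
def AL : List (List ℤ) := [[2, 0, -1, 0, 0, 0], [0, 2, 0, -1, 0, 0], [-1, 0, 2, -1, 0, 0], [0, -1, -1, 2, -1, 0], [0, 0, 0, -1, 2, -1], [0, 0, 0, 0, -1, 2]]

/-- the exponents of the simple root groups -/
def cl : List ℕ := [1, 1, 1, 1, 1, 1]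

variable {t q : ℕ} {M : CoxeterMatrix (Fin 6)}
    {A : Fin 6 → Fin 6 → ℤ} {h : IsCartan M A} {G : Type*} [Group G] {T : Subgroup G} {n : Fin 6 → G}
    {X : (Fin 6 → ℤ) → Subgroup G} (D : Dat t q AL cl h T n X)

/-- the orbit of the weight `5` under `W_{5}` -/
def t_5_5 : List Nd := [
  ⟨[0, 0, 0, 0, 0, 1], 0, 0, 0⟩, ⟨[0, 0, 0, 0, 1, -1], 1, 0, 5⟩]

theorem ok_5_5 : orbOK 6 5 [5] cl AL t_5_5 = true := by decide +kernel

theorem S_5_5 (q : ℕ) : S q t_5_5 = 1 + q := by
  simp only [S, t_5_5, List.map_cons, List.map_nil, List.sum_cons, List.sum_nil]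
  ring

theorem rel_5_5 [Finite G] : (D.par (∅ : Finset (Fin 6))).relIndex (D.par ({5} : Finset (Fin 6))) =
    1 + q := by
  rw [D.rel (k := 5) (JL := [5]) (L := t_5_5) ok_5_5 (by decide) (by decide) (by decide), S_5_5]

/-- the orbit of the weight `5` under `W_{4,5}` -/
def t_45_5 : List Nd := [
  ⟨[0, 0, 0, 0, 0, 1], 0, 0, 0⟩, ⟨[0, 0, 0, 0, 1, -1], 1, 0, 5⟩, ⟨[0, 0, 0, 1, -1, 0], 2, 1, 4⟩]

theorem ok_45_5 : orbOK 6 5 [4, 5] cl AL t_45_5 = true := by decide +kernel

theorem S_45_5 (q : ℕ) : S q t_45_5 = 1 + q + q ^ 2 := by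
  simp only [S, t_45_5, List.map_cons, List.map_nil, List.sum_cons, List.sum_nil]
  ring

theorem rel_45_5 [Finite G] : (D.par ({4} : Finset (Fin 6))).relIndex (D.par ({4, 5} : Finset (Fin 6))) =
    1 + q + q ^ 2 := by
  rw [D.rel (k := 5) (JL := [4, 5]) (L := t_45_5) ok_45_5 (by decide) (by decide) (by decide), S_45_5]

/-- the orbit of the weight `5` under `W_{3,4,5}` -/
def t_345_5 : List Nd := [
  ⟨[0, 0, 0, 0, 0, 1], 0, 0, 0⟩, ⟨[0, 0, 0, 0, 1, -1], 1, 0, 5⟩, ⟨[0, 0, 0, 1, -1, 0], 2, 1, 4⟩,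
  ⟨[0, 1, 1, -1, 0, 0], 3, 2, 3⟩]

theorem ok_345_5 : orbOK 6 5 [3, 4, 5] cl AL t_345_5 = true := by decide +kernel

theorem S_345_5 (q : ℕ) : S q t_345_5 = 1 + q + q ^ 2 + q ^ 3 := by
  simp only [S, t_345_5, List.map_cons, List.map_nil, List.sum_cons, List.sum_nil]
  ring

theorem rel_345_5 [Finite G] : (D.par ({3, 4} : Finset (Fin 6))).relIndex (D.par ({3, 4, 5} : Finset (Fin 6))) =
    1 + q + q ^ 2 + q ^ 3 := by
  rw [D.rel (k := 5) (JL := [3, 4, 5]) (L := t_345_5) ok_345_5 (by decide) (by decide) (by decide), S_345_5]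

/-- the orbit of the weight `0` under `W_{0}` -/
def t_0_0 : List Nd := [
  ⟨[1, 0, 0, 0, 0, 0], 0, 0, 0⟩, ⟨[-1, 0, 1, 0, 0, 0], 1, 0, 0⟩]

theorem ok_0_0 : orbOK 6 0 [0] cl AL t_0_0 = true := by decide +kernel

theorem S_0_0 (q : ℕ) : S q t_0_0 = 1 + q := by
  simp only [S, t_0_0, List.map_cons, List.map_nil, List.sum_cons, List.sum_nil]
  ring

theorem rel_0_0 [Finite G] : (D.par (∅ : Finset (Fin 6))).relIndex (D.par ({0} : Finset (Fin 6))) =
    1 + q := by
  rw [D.rel (k := 0) (JL := [0]) (L := t_0_0) ok_0_0 (by decide) (by decide) (by decide), S_0_0]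

/-- the orbit of the weight `0` under `W_{0,2}` -/
def t_02_0 : List Nd := [
  ⟨[1, 0, 0, 0, 0, 0], 0, 0, 0⟩, ⟨[-1, 0, 1, 0, 0, 0], 1, 0, 0⟩, ⟨[0, 0, -1, 1, 0, 0], 2, 1, 2⟩]

theorem ok_02_0 : orbOK 6 0 [0, 2] cl AL t_02_0 = true := by decide +kernel

theorem S_02_0 (q : ℕ) : S q t_02_0 = 1 + q + q ^ 2 := by
  simp only [S, t_02_0, List.map_cons, List.map_nil, List.sum_cons, List.sum_nil]
  ring

theorem rel_02_0 [Finite G] : (D.par ({2} : Finset (Fin 6))).relIndex (D.par ({0, 2} : Finset (Fin 6))) =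
    1 + q + q ^ 2 := by
  rw [D.rel (k := 0) (JL := [0, 2]) (L := t_02_0) ok_02_0 (by decide) (by decide) (by decide), S_02_0]

/-- the orbit of the weight `0` under `W_{0,2,3}` -/
def t_023_0 : List Nd := [
  ⟨[1, 0, 0, 0, 0, 0], 0, 0, 0⟩, ⟨[-1, 0, 1, 0, 0, 0], 1, 0, 0⟩, ⟨[0, 0, -1, 1, 0, 0], 2, 1, 2⟩,
  ⟨[0, 1, 0, -1, 1, 0], 3, 2, 3⟩]

theorem ok_023_0 : orbOK 6 0 [0, 2, 3] cl AL t_023_0 = true := by decide +kernel

theorem S_023_0 (q : ℕ) : S q t_023_0 = 1 + q + q ^ 2 + q ^ 3 := by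
  simp only [S, t_023_0, List.map_cons, List.map_nil, List.sum_cons, List.sum_nil]
  ring

theorem rel_023_0 [Finite G] : (D.par ({2, 3} : Finset (Fin 6))).relIndex (D.par ({0, 2, 3} : Finset (Fin 6))) =
    1 + q + q ^ 2 + q ^ 3 := by
  rw [D.rel (k := 0) (JL := [0, 2, 3]) (L := t_023_0) ok_023_0 (by decide) (by decide) (by decide), S_023_0]

/-- the orbit of the weight `1` under `W_{1,2,3,4}` -/
def t_1234_1 : List Nd := [
  ⟨[0, 1, 0, 0, 0, 0], 0, 0, 0⟩, ⟨[0, -1, 0, 1, 0, 0], 1, 0, 1⟩, ⟨[0, 0, 1, -1, 1, 0], 2, 1, 3⟩,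
  ⟨[1, 0, -1, 0, 1, 0], 3, 2, 2⟩, ⟨[0, 0, 1, 0, -1, 1], 3, 2, 4⟩, ⟨[1, 0, -1, 1, -1, 1], 4, 3, 4⟩,
  ⟨[1, 1, 0, -1, 0, 1], 5, 5, 3⟩, ⟨[1, -1, 0, 0, 0, 1], 6, 6, 1⟩]

theorem ok_1234_1 : orbOK 6 1 [1, 2, 3, 4] cl AL t_1234_1 = true := by decide +kernel

theorem S_1234_1 (q : ℕ) : S q t_1234_1 = (1 + q ^ 3) * (1 + q + q ^ 2 + q ^ 3) := by
  simp only [S, t_1234_1, List.map_cons, List.map_nil, List.sum_cons, List.sum_nil]
  ring

theorem rel_1234_1 [Finite G] : (D.par ({2, 3, 4} : Finset (Fin 6))).relIndex (D.par ({1, 2, 3, 4} : Finset (Fin 6))) =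
    (1 + q ^ 3) * (1 + q + q ^ 2 + q ^ 3) := by
  rw [D.rel (k := 1) (JL := [1, 2, 3, 4]) (L := t_1234_1) ok_1234_1 (by decide) (by decide) (by decide), S_1234_1]

/-- the orbit of the weight `5` under `W_{0,2,3,4,5}` -/
def t_02345_5 : List Nd := [
  ⟨[0, 0, 0, 0, 0, 1], 0, 0, 0⟩, ⟨[0, 0, 0, 0, 1, -1], 1, 0, 5⟩, ⟨[0, 0, 0, 1, -1, 0], 2, 1, 4⟩,
  ⟨[0, 1, 1, -1, 0, 0], 3, 2, 3⟩, ⟨[1, 1, -1, 0, 0, 0], 4, 3, 2⟩, ⟨[-1, 1, 0, 0, 0, 0], 5, 4, 0⟩]

theorem ok_02345_5 : orbOK 6 5 [0, 2, 3, 4, 5] cl AL t_02345_5 = true := by decide +kernel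

theorem S_02345_5 (q : ℕ) : S q t_02345_5 = 1 + q + q ^ 2 + q ^ 3 + q ^ 4 + q ^ 5 := by
  simp only [S, t_02345_5, List.map_cons, List.map_nil, List.sum_cons, List.sum_nil]
  ring

theorem rel_02345_5 [Finite G] : (D.par ({0, 2, 3, 4} : Finset (Fin 6))).relIndex (D.par ({0, 2, 3, 4, 5} : Finset (Fin 6))) =
    1 + q + q ^ 2 + q ^ 3 + q ^ 4 + q ^ 5 := by
  rw [D.rel (k := 5) (JL := [0, 2, 3, 4, 5]) (L := t_02345_5) ok_02345_5 (by decide) (by decide) (by decide), S_02345_5]

/-- the orbit of the weight `0` under `W_{0,1,3,4,5}` -/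
def t_01345_0 : List Nd := [
  ⟨[1, 0, 0, 0, 0, 0], 0, 0, 0⟩, ⟨[-1, 0, 1, 0, 0, 0], 1, 0, 0⟩]

theorem ok_01345_0 : orbOK 6 0 [0, 1, 3, 4, 5] cl AL t_01345_0 = true := by decide +kernel

theorem S_01345_0 (q : ℕ) : S q t_01345_0 = 1 + q := by
  simp only [S, t_01345_0, List.map_cons, List.map_nil, List.sum_cons, List.sum_nil]
  ring

theorem rel_01345_0 [Finite G] : (D.par ({1, 3, 4, 5} : Finset (Fin 6))).relIndex (D.par ({0, 1, 3, 4, 5} : Finset (Fin 6))) =
    1 + q := by
  rw [D.rel (k := 0) (JL := [0, 1, 3, 4, 5]) (L := t_01345_0) ok_01345_0 (by decide) (by decide) (by decide), S_01345_0]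

/-- the orbit of the weight `5` under `W_{0,1,3,4,5}` -/
def t_01345_5 : List Nd := [
  ⟨[0, 0, 0, 0, 0, 1], 0, 0, 0⟩, ⟨[0, 0, 0, 0, 1, -1], 1, 0, 5⟩, ⟨[0, 0, 0, 1, -1, 0], 2, 1, 4⟩,
  ⟨[0, 1, 1, -1, 0, 0], 3, 2, 3⟩, ⟨[0, -1, 1, 0, 0, 0], 4, 3, 1⟩]

theorem ok_01345_5 : orbOK 6 5 [0, 1, 3, 4, 5] cl AL t_01345_5 = true := by decide +kernel

theorem S_01345_5 (q : ℕ) : S q t_01345_5 = 1 + q + q ^ 2 + q ^ 3 + q ^ 4 := by
  simp only [S, t_01345_5, List.map_cons, List.map_nil, List.sum_cons, List.sum_nil]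
  ring

theorem rel_01345_5 [Finite G] : (D.par ({0, 1, 3, 4} : Finset (Fin 6))).relIndex (D.par ({0, 1, 3, 4, 5} : Finset (Fin 6))) =
    1 + q + q ^ 2 + q ^ 3 + q ^ 4 := by
  rw [D.rel (k := 5) (JL := [0, 1, 3, 4, 5]) (L := t_01345_5) ok_01345_5 (by decide) (by decide) (by decide), S_01345_5]

/-- the orbit of the weight `0` under `W_{0,1,2,3,5}` -/
def t_01235_0 : List Nd := [
  ⟨[1, 0, 0, 0, 0, 0], 0, 0, 0⟩, ⟨[-1, 0, 1, 0, 0, 0], 1, 0, 0⟩, ⟨[0, 0, -1, 1, 0, 0], 2, 1, 2⟩,
  ⟨[0, 1, 0, -1, 1, 0], 3, 2, 3⟩, ⟨[0, -1, 0, 0, 1, 0], 4, 3, 1⟩]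

theorem ok_01235_0 : orbOK 6 0 [0, 1, 2, 3, 5] cl AL t_01235_0 = true := by decide +kernel

theorem S_01235_0 (q : ℕ) : S q t_01235_0 = 1 + q + q ^ 2 + q ^ 3 + q ^ 4 := by
  simp only [S, t_01235_0, List.map_cons, List.map_nil, List.sum_cons, List.sum_nil]
  ring

theorem rel_01235_0 [Finite G] : (D.par ({1, 2, 3, 5} : Finset (Fin 6))).relIndex (D.par ({0, 1, 2, 3, 5} : Finset (Fin 6))) =
    1 + q + q ^ 2 + q ^ 3 + q ^ 4 := by
  rw [D.rel (k := 0) (JL := [0, 1, 2, 3, 5]) (L := t_01235_0) ok_01235_0 (by decide) (by decide) (by decide), S_01235_0]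

/-- the orbit of the weight `5` under `W_{0,1,2,3,5}` -/
def t_01235_5 : List Nd := [
  ⟨[0, 0, 0, 0, 0, 1], 0, 0, 0⟩, ⟨[0, 0, 0, 0, 1, -1], 1, 0, 5⟩]

theorem ok_01235_5 : orbOK 6 5 [0, 1, 2, 3, 5] cl AL t_01235_5 = true := by decide +kernel

theorem S_01235_5 (q : ℕ) : S q t_01235_5 = 1 + q := by
  simp only [S, t_01235_5, List.map_cons, List.map_nil, List.sum_cons, List.sum_nil]
  ring

theorem rel_01235_5 [Finite G] : (D.par ({0, 1, 2, 3} : Finset (Fin 6))).relIndex (D.par ({0, 1, 2, 3, 5} : Finset (Fin 6))) =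
    1 + q := by
  rw [D.rel (k := 5) (JL := [0, 1, 2, 3, 5]) (L := t_01235_5) ok_01235_5 (by decide) (by decide) (by decide), S_01235_5]

/-- the orbit of the weight `1` under `W_{0,1,2,4,5}` -/
def t_01245_1 : List Nd := [
  ⟨[0, 1, 0, 0, 0, 0], 0, 0, 0⟩, ⟨[0, -1, 0, 1, 0, 0], 1, 0, 1⟩]

theorem ok_01245_1 : orbOK 6 1 [0, 1, 2, 4, 5] cl AL t_01245_1 = true := by decide +kernel

theorem S_01245_1 (q : ℕ) : S q t_01245_1 = 1 + q := by
  simp only [S, t_01245_1, List.map_cons, List.map_nil, List.sum_cons, List.sum_nil]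
  ring

theorem rel_01245_1 [Finite G] : (D.par ({0, 2, 4, 5} : Finset (Fin 6))).relIndex (D.par ({0, 1, 2, 4, 5} : Finset (Fin 6))) =
    1 + q := by
  rw [D.rel (k := 1) (JL := [0, 1, 2, 4, 5]) (L := t_01245_1) ok_01245_1 (by decide) (by decide) (by decide), S_01245_1]

/-- the orbit of the weight `0` under `W_{0,1,2,4,5}` -/
def t_01245_0 : List Nd := [
  ⟨[1, 0, 0, 0, 0, 0], 0, 0, 0⟩, ⟨[-1, 0, 1, 0, 0, 0], 1, 0, 0⟩, ⟨[0, 0, -1, 1, 0, 0], 2, 1, 2⟩]

theorem ok_01245_0 : orbOK 6 0 [0, 1, 2, 4, 5] cl AL t_01245_0 = true := by decide +kernel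

theorem S_01245_0 (q : ℕ) : S q t_01245_0 = 1 + q + q ^ 2 := by
  simp only [S, t_01245_0, List.map_cons, List.map_nil, List.sum_cons, List.sum_nil]
  ring

theorem rel_01245_0 [Finite G] : (D.par ({1, 2, 4, 5} : Finset (Fin 6))).relIndex (D.par ({0, 1, 2, 4, 5} : Finset (Fin 6))) =
    1 + q + q ^ 2 := by
  rw [D.rel (k := 0) (JL := [0, 1, 2, 4, 5]) (L := t_01245_0) ok_01245_0 (by decide) (by decide) (by decide), S_01245_0]

theorem cop_2 (q : ℕ) : Nat.Coprime (1 + q) (1 + q + q ^ 2 + q ^ 3 + q ^ 4) := by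
  rw [← Nat.isCoprime_iff_coprime]
  push_cast
  refine ⟨(-1) * (q : ℤ) + (-1) * (q : ℤ) ^ 3, (1), ?_⟩
  ring

theorem cop_4 (q : ℕ) : Nat.Coprime (1 + q + q ^ 2 + q ^ 3 + q ^ 4) (1 + q) := by
  rw [← Nat.isCoprime_iff_coprime]
  push_cast
  refine ⟨(1), (-1) * (q : ℤ) + (-1) * (q : ℤ) ^ 3, ?_⟩
  ring

theorem cop_3 (q : ℕ) : Nat.Coprime (1 + q) (1 + q + q ^ 2) := by
  rw [← Nat.isCoprime_iff_coprime]
  push_cast
  refine ⟨(-1) * (q : ℤ), (1), ?_⟩
  ring

end Cfsg.Agent.H470.PiRad.TabE6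
end

-- part: H470/PiRad/TabF4
section
/-!
# S4324: orbit tables and indices, type F4 (helper470, generated)
-/

set_option autoImplicit false
set_option linter.unusedSectionVars false

namespace Cfsg.Agent.H470.PiRad.TabF4

open Cfsg Subgroup Cfsg.Agent.H470.PiRad.Mod Cfsg.Agent.H470.PiRad.Orb
open Cfsg.Agent.ChevalleyStructure.CoxeterGeom

/-- the Cartan matrix -/
def AL : List (List ℤ) := [[2, -1, 0, 0], [-1, 2, -2, 0], [0, -1, 2, -1], [0, 0, -1, 2]]

/-- the exponents of the simple root groups -/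
def cl : List ℕ := [1, 1, 1, 1]

variable {t q : ℕ} {M : CoxeterMatrix (Fin 4)}
    {A : Fin 4 → Fin 4 → ℤ} {h : IsCartan M A} {G : Type*} [Group G] {T : Subgroup G} {n : Fin 4 → G}
    {X : (Fin 4 → ℤ) → Subgroup G} (D : Dat t q AL cl h T n X)

/-- the orbit of the weight `3` under `W_{3}` -/
def t_3_3 : List Nd := [
  ⟨[0, 0, 0, 1], 0, 0, 0⟩, ⟨[0, 0, 1, -1], 1, 0, 3⟩]

theorem ok_3_3 : orbOK 4 3 [3] cl AL t_3_3 = true := by decide +kernel

theorem S_3_3 (q : ℕ) : S q t_3_3 = 1 + q := by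
  simp only [S, t_3_3, List.map_cons, List.map_nil, List.sum_cons, List.sum_nil]
  ring

theorem rel_3_3 [Finite G] : (D.par (∅ : Finset (Fin 4))).relIndex (D.par ({3} : Finset (Fin 4))) =
    1 + q := by
  rw [D.rel (k := 3) (JL := [3]) (L := t_3_3) ok_3_3 (by decide) (by decide) (by decide), S_3_3]

/-- the orbit of the weight `3` under `W_{2,3}` -/
def t_23_3 : List Nd := [
  ⟨[0, 0, 0, 1], 0, 0, 0⟩, ⟨[0, 0, 1, -1], 1, 0, 3⟩, ⟨[0, 1, -1, 0], 2, 1, 2⟩]

theorem ok_23_3 : orbOK 4 3 [2, 3] cl AL t_23_3 = true := by decide +kernel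

theorem S_23_3 (q : ℕ) : S q t_23_3 = 1 + q + q ^ 2 := by
  simp only [S, t_23_3, List.map_cons, List.map_nil, List.sum_cons, List.sum_nil]
  ring

theorem rel_23_3 [Finite G] : (D.par ({2} : Finset (Fin 4))).relIndex (D.par ({2, 3} : Finset (Fin 4))) =
    1 + q + q ^ 2 := by
  rw [D.rel (k := 3) (JL := [2, 3]) (L := t_23_3) ok_23_3 (by decide) (by decide) (by decide), S_23_3]

/-- the orbit of the weight `0` under `W_{0}` -/
def t_0_0 : List Nd := [
  ⟨[1, 0, 0, 0], 0, 0, 0⟩, ⟨[-1, 1, 0, 0], 1, 0, 0⟩]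

theorem ok_0_0 : orbOK 4 0 [0] cl AL t_0_0 = true := by decide +kernel

theorem S_0_0 (q : ℕ) : S q t_0_0 = 1 + q := by
  simp only [S, t_0_0, List.map_cons, List.map_nil, List.sum_cons, List.sum_nil]
  ring

theorem rel_0_0 [Finite G] : (D.par (∅ : Finset (Fin 4))).relIndex (D.par ({0} : Finset (Fin 4))) =
    1 + q := by
  rw [D.rel (k := 0) (JL := [0]) (L := t_0_0) ok_0_0 (by decide) (by decide) (by decide), S_0_0]

/-- the orbit of the weight `0` under `W_{0,1}` -/
def t_01_0 : List Nd := [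
  ⟨[1, 0, 0, 0], 0, 0, 0⟩, ⟨[-1, 1, 0, 0], 1, 0, 0⟩, ⟨[0, -1, 2, 0], 2, 1, 1⟩]

theorem ok_01_0 : orbOK 4 0 [0, 1] cl AL t_01_0 = true := by decide +kernel

theorem S_01_0 (q : ℕ) : S q t_01_0 = 1 + q + q ^ 2 := by
  simp only [S, t_01_0, List.map_cons, List.map_nil, List.sum_cons, List.sum_nil]
  ring

theorem rel_01_0 [Finite G] : (D.par ({1} : Finset (Fin 4))).relIndex (D.par ({0, 1} : Finset (Fin 4))) =
    1 + q + q ^ 2 := by
  rw [D.rel (k := 0) (JL := [0, 1]) (L := t_01_0) ok_01_0 (by decide) (by decide) (by decide), S_01_0]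

/-- the orbit of the weight `1` under `W_{1,2}` -/
def t_12_1 : List Nd := [
  ⟨[0, 1, 0, 0], 0, 0, 0⟩, ⟨[1, -1, 2, 0], 1, 0, 1⟩, ⟨[1, 1, -2, 2], 2, 1, 2⟩, ⟨[2, -1, 0, 2], 3, 2, 1⟩]

theorem ok_12_1 : orbOK 4 1 [1, 2] cl AL t_12_1 = true := by decide +kernel

theorem S_12_1 (q : ℕ) : S q t_12_1 = 1 + q + q ^ 2 + q ^ 3 := by
  simp only [S, t_12_1, List.map_cons, List.map_nil, List.sum_cons, List.sum_nil]
  ring

theorem rel_12_1 [Finite G] : (D.par ({2} : Finset (Fin 4))).relIndex (D.par ({1, 2} : Finset (Fin 4))) =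
    1 + q + q ^ 2 + q ^ 3 := by
  rw [D.rel (k := 1) (JL := [1, 2]) (L := t_12_1) ok_12_1 (by decide) (by decide) (by decide), S_12_1]

/-- the orbit of the weight `3` under `W_{1,2,3}` -/
def t_123_3 : List Nd := [
  ⟨[0, 0, 0, 1], 0, 0, 0⟩, ⟨[0, 0, 1, -1], 1, 0, 3⟩, ⟨[0, 1, -1, 0], 2, 1, 2⟩, ⟨[1, -1, 1, 0], 3, 2, 1⟩,
  ⟨[1, 0, -1, 1], 4, 3, 2⟩, ⟨[1, 0, 0, -1], 5, 4, 3⟩]

theorem ok_123_3 : orbOK 4 3 [1, 2, 3] cl AL t_123_3 = true := by decide +kernel

theorem S_123_3 (q : ℕ) : S q t_123_3 = 1 + q + q ^ 2 + q ^ 3 + q ^ 4 + q ^ 5 := by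
  simp only [S, t_123_3, List.map_cons, List.map_nil, List.sum_cons, List.sum_nil]
  ring

theorem rel_123_3 [Finite G] : (D.par ({1, 2} : Finset (Fin 4))).relIndex (D.par ({1, 2, 3} : Finset (Fin 4))) =
    1 + q + q ^ 2 + q ^ 3 + q ^ 4 + q ^ 5 := by
  rw [D.rel (k := 3) (JL := [1, 2, 3]) (L := t_123_3) ok_123_3 (by decide) (by decide) (by decide), S_123_3]

/-- the orbit of the weight `0` under `W_{0,1,2}` -/
def t_012_0 : List Nd := [
  ⟨[1, 0, 0, 0], 0, 0, 0⟩, ⟨[-1, 1, 0, 0], 1, 0, 0⟩, ⟨[0, -1, 2, 0], 2, 1, 1⟩, ⟨[0, 1, -2, 2], 3, 2, 2⟩,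
  ⟨[1, -1, 0, 2], 4, 3, 1⟩, ⟨[-1, 0, 0, 2], 5, 4, 0⟩]

theorem ok_012_0 : orbOK 4 0 [0, 1, 2] cl AL t_012_0 = true := by decide +kernel

theorem S_012_0 (q : ℕ) : S q t_012_0 = 1 + q + q ^ 2 + q ^ 3 + q ^ 4 + q ^ 5 := by
  simp only [S, t_012_0, List.map_cons, List.map_nil, List.sum_cons, List.sum_nil]
  ring

theorem rel_012_0 [Finite G] : (D.par ({1, 2} : Finset (Fin 4))).relIndex (D.par ({0, 1, 2} : Finset (Fin 4))) =
    1 + q + q ^ 2 + q ^ 3 + q ^ 4 + q ^ 5 := by
  rw [D.rel (k := 0) (JL := [0, 1, 2]) (L := t_012_0) ok_012_0 (by decide) (by decide) (by decide), S_012_0]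

/-- the orbit of the weight `0` under `W_{0,2,3}` -/
def t_023_0 : List Nd := [
  ⟨[1, 0, 0, 0], 0, 0, 0⟩, ⟨[-1, 1, 0, 0], 1, 0, 0⟩]

theorem ok_023_0 : orbOK 4 0 [0, 2, 3] cl AL t_023_0 = true := by decide +kernel

theorem S_023_0 (q : ℕ) : S q t_023_0 = 1 + q := by
  simp only [S, t_023_0, List.map_cons, List.map_nil, List.sum_cons, List.sum_nil]
  ring

theorem rel_023_0 [Finite G] : (D.par ({2, 3} : Finset (Fin 4))).relIndex (D.par ({0, 2, 3} : Finset (Fin 4))) =
    1 + q := by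
  rw [D.rel (k := 0) (JL := [0, 2, 3]) (L := t_023_0) ok_023_0 (by decide) (by decide) (by decide), S_023_0]

/-- the orbit of the weight `3` under `W_{0,2,3}` -/
def t_023_3 : List Nd := [
  ⟨[0, 0, 0, 1], 0, 0, 0⟩, ⟨[0, 0, 1, -1], 1, 0, 3⟩, ⟨[0, 1, -1, 0], 2, 1, 2⟩]

theorem ok_023_3 : orbOK 4 3 [0, 2, 3] cl AL t_023_3 = true := by decide +kernel

theorem S_023_3 (q : ℕ) : S q t_023_3 = 1 + q + q ^ 2 := by
  simp only [S, t_023_3, List.map_cons, List.map_nil, List.sum_cons, List.sum_nil]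
  ring

theorem rel_023_3 [Finite G] : (D.par ({0, 2} : Finset (Fin 4))).relIndex (D.par ({0, 2, 3} : Finset (Fin 4))) =
    1 + q + q ^ 2 := by
  rw [D.rel (k := 3) (JL := [0, 2, 3]) (L := t_023_3) ok_023_3 (by decide) (by decide) (by decide), S_023_3]

/-- the orbit of the weight `0` under `W_{0,1,3}` -/
def t_013_0 : List Nd := [
  ⟨[1, 0, 0, 0], 0, 0, 0⟩, ⟨[-1, 1, 0, 0], 1, 0, 0⟩, ⟨[0, -1, 2, 0], 2, 1, 1⟩]

theorem ok_013_0 : orbOK 4 0 [0, 1, 3] cl AL t_013_0 = true := by decide +kernel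

theorem S_013_0 (q : ℕ) : S q t_013_0 = 1 + q + q ^ 2 := by
  simp only [S, t_013_0, List.map_cons, List.map_nil, List.sum_cons, List.sum_nil]
  ring

theorem rel_013_0 [Finite G] : (D.par ({1, 3} : Finset (Fin 4))).relIndex (D.par ({0, 1, 3} : Finset (Fin 4))) =
    1 + q + q ^ 2 := by
  rw [D.rel (k := 0) (JL := [0, 1, 3]) (L := t_013_0) ok_013_0 (by decide) (by decide) (by decide), S_013_0]

/-- the orbit of the weight `3` under `W_{0,1,3}` -/
def t_013_3 : List Nd := [
  ⟨[0, 0, 0, 1], 0, 0, 0⟩, ⟨[0, 0, 1, -1], 1, 0, 3⟩]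

theorem ok_013_3 : orbOK 4 3 [0, 1, 3] cl AL t_013_3 = true := by decide +kernel

theorem S_013_3 (q : ℕ) : S q t_013_3 = 1 + q := by
  simp only [S, t_013_3, List.map_cons, List.map_nil, List.sum_cons, List.sum_nil]
  ring

theorem rel_013_3 [Finite G] : (D.par ({0, 1} : Finset (Fin 4))).relIndex (D.par ({0, 1, 3} : Finset (Fin 4))) =
    1 + q := by
  rw [D.rel (k := 3) (JL := [0, 1, 3]) (L := t_013_3) ok_013_3 (by decide) (by decide) (by decide), S_013_3]

theorem cop_1 (q : ℕ) : Nat.Coprime (1 + q) (1 + q + q ^ 2) := by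
  rw [← Nat.isCoprime_iff_coprime]
  push_cast
  refine ⟨(-1) * (q : ℤ), (1), ?_⟩
  ring

theorem cop_2 (q : ℕ) : Nat.Coprime (1 + q + q ^ 2) (1 + q) := by
  rw [← Nat.isCoprime_iff_coprime]
  push_cast
  refine ⟨(1), (-1) * (q : ℤ), ?_⟩
  ring

end Cfsg.Agent.H470.PiRad.TabF4
end

-- part: H470/PiRad/TabTw
section
/-!
# S4324: orbit tables and indices, type Tw (helper470, generated)
-/

set_option autoImplicit false
set_option linter.unusedSectionVars false

namespace Cfsg.Agent.H470.PiRad.TabTw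

open Cfsg Subgroup Cfsg.Agent.H470.PiRad.Mod Cfsg.Agent.H470.PiRad.Orb
open Cfsg.Agent.ChevalleyStructure.CoxeterGeom

/-- the Cartan matrix -/
def AL : List (List ℤ) := [[2, -1, 0, 0], [-1, 2, -1, 0], [0, -2, 2, -1], [0, 0, -1, 2]]

/-- the exponents of the simple root groups -/
def cl : List ℕ := [1, 1, 2, 2]

variable {t q : ℕ} {M : CoxeterMatrix (Fin 4)}
    {A : Fin 4 → Fin 4 → ℤ} {h : IsCartan M A} {G : Type*} [Group G] {T : Subgroup G} {n : Fin 4 → G}
    {X : (Fin 4 → ℤ) → Subgroup G} (D : Dat t q AL cl h T n X)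

/-- the orbit of the weight `0` under `W_{0}` -/
def t_0_0 : List Nd := [
  ⟨[1, 0, 0, 0], 0, 0, 0⟩, ⟨[-1, 1, 0, 0], 1, 0, 0⟩]

theorem ok_0_0 : orbOK 4 0 [0] cl AL t_0_0 = true := by decide +kernel

theorem S_0_0 (q : ℕ) : S q t_0_0 = 1 + q := by
  simp only [S, t_0_0, List.map_cons, List.map_nil, List.sum_cons, List.sum_nil]
  ring

theorem rel_0_0 [Finite G] : (D.par (∅ : Finset (Fin 4))).relIndex (D.par ({0} : Finset (Fin 4))) =
    1 + q := by
  rw [D.rel (k := 0) (JL := [0]) (L := t_0_0) ok_0_0 (by decide) (by decide) (by decide), S_0_0]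

/-- the orbit of the weight `0` under `W_{0,1}` -/
def t_01_0 : List Nd := [
  ⟨[1, 0, 0, 0], 0, 0, 0⟩, ⟨[-1, 1, 0, 0], 1, 0, 0⟩, ⟨[0, -1, 1, 0], 2, 1, 1⟩]

theorem ok_01_0 : orbOK 4 0 [0, 1] cl AL t_01_0 = true := by decide +kernel

theorem S_01_0 (q : ℕ) : S q t_01_0 = 1 + q + q ^ 2 := by
  simp only [S, t_01_0, List.map_cons, List.map_nil, List.sum_cons, List.sum_nil]
  ring

theorem rel_01_0 [Finite G] : (D.par ({1} : Finset (Fin 4))).relIndex (D.par ({0, 1} : Finset (Fin 4))) =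
    1 + q + q ^ 2 := by
  rw [D.rel (k := 0) (JL := [0, 1]) (L := t_01_0) ok_01_0 (by decide) (by decide) (by decide), S_01_0]

/-- the orbit of the weight `1` under `W_{1}` -/
def t_1_1 : List Nd := [
  ⟨[0, 1, 0, 0], 0, 0, 0⟩, ⟨[1, -1, 1, 0], 1, 0, 1⟩]

theorem ok_1_1 : orbOK 4 1 [1] cl AL t_1_1 = true := by decide +kernel

theorem S_1_1 (q : ℕ) : S q t_1_1 = 1 + q := by
  simp only [S, t_1_1, List.map_cons, List.map_nil, List.sum_cons, List.sum_nil]
  ring

theorem rel_1_1 [Finite G] : (D.par (∅ : Finset (Fin 4))).relIndex (D.par ({1} : Finset (Fin 4))) =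
    1 + q := by
  rw [D.rel (k := 1) (JL := [1]) (L := t_1_1) ok_1_1 (by decide) (by decide) (by decide), S_1_1]

/-- the orbit of the weight `3` under `W_{2,3}` -/
def t_23_3 : List Nd := [
  ⟨[0, 0, 0, 1], 0, 0, 0⟩, ⟨[0, 0, 1, -1], 2, 0, 3⟩, ⟨[0, 2, -1, 0], 4, 1, 2⟩]

theorem ok_23_3 : orbOK 4 3 [2, 3] cl AL t_23_3 = true := by decide +kernel

theorem S_23_3 (q : ℕ) : S q t_23_3 = 1 + q ^ 2 + q ^ 4 := by
  simp only [S, t_23_3, List.map_cons, List.map_nil, List.sum_cons, List.sum_nil]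
  ring

theorem rel_23_3 [Finite G] : (D.par ({2} : Finset (Fin 4))).relIndex (D.par ({2, 3} : Finset (Fin 4))) =
    1 + q ^ 2 + q ^ 4 := by
  rw [D.rel (k := 3) (JL := [2, 3]) (L := t_23_3) ok_23_3 (by decide) (by decide) (by decide), S_23_3]

/-- the orbit of the weight `3` under `W_{3}` -/
def t_3_3 : List Nd := [
  ⟨[0, 0, 0, 1], 0, 0, 0⟩, ⟨[0, 0, 1, -1], 2, 0, 3⟩]

theorem ok_3_3 : orbOK 4 3 [3] cl AL t_3_3 = true := by decide +kernel

theorem S_3_3 (q : ℕ) : S q t_3_3 = 1 + q ^ 2 := by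
  simp only [S, t_3_3, List.map_cons, List.map_nil, List.sum_cons, List.sum_nil]
  ring

theorem rel_3_3 [Finite G] : (D.par (∅ : Finset (Fin 4))).relIndex (D.par ({3} : Finset (Fin 4))) =
    1 + q ^ 2 := by
  rw [D.rel (k := 3) (JL := [3]) (L := t_3_3) ok_3_3 (by decide) (by decide) (by decide), S_3_3]

/-- the orbit of the weight `2` under `W_{2}` -/
def t_2_2 : List Nd := [
  ⟨[0, 0, 1, 0], 0, 0, 0⟩, ⟨[0, 2, -1, 1], 2, 0, 2⟩]

theorem ok_2_2 : orbOK 4 2 [2] cl AL t_2_2 = true := by decide +kernel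

theorem S_2_2 (q : ℕ) : S q t_2_2 = 1 + q ^ 2 := by
  simp only [S, t_2_2, List.map_cons, List.map_nil, List.sum_cons, List.sum_nil]
  ring

theorem rel_2_2 [Finite G] : (D.par (∅ : Finset (Fin 4))).relIndex (D.par ({2} : Finset (Fin 4))) =
    1 + q ^ 2 := by
  rw [D.rel (k := 2) (JL := [2]) (L := t_2_2) ok_2_2 (by decide) (by decide) (by decide), S_2_2]

/-- the orbit of the weight `2` under `W_{0,1,2}` -/
def t_012_2 : List Nd := [
  ⟨[0, 0, 1, 0], 0, 0, 0⟩, ⟨[0, 2, -1, 1], 2, 0, 2⟩, ⟨[2, -2, 1, 1], 3, 1, 1⟩, ⟨[-2, 0, 1, 1], 4, 2, 0⟩,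
  ⟨[2, 0, -1, 2], 5, 2, 2⟩, ⟨[-2, 2, -1, 2], 6, 3, 2⟩, ⟨[0, -2, 1, 2], 7, 5, 1⟩, ⟨[0, 0, -1, 3], 9, 6, 2⟩]

theorem ok_012_2 : orbOK 4 2 [0, 1, 2] cl AL t_012_2 = true := by decide +kernel

theorem S_012_2 (q : ℕ) : S q t_012_2 = (1 + q ^ 3) * (1 + q ^ 2) * (1 + q ^ 4) := by
  simp only [S, t_012_2, List.map_cons, List.map_nil, List.sum_cons, List.sum_nil]
  ring

theorem rel_012_2 [Finite G] : (D.par ({0, 1} : Finset (Fin 4))).relIndex (D.par ({0, 1, 2} : Finset (Fin 4))) =
    (1 + q ^ 3) * (1 + q ^ 2) * (1 + q ^ 4) := by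
  rw [D.rel (k := 2) (JL := [0, 1, 2]) (L := t_012_2) ok_012_2 (by decide) (by decide) (by decide), S_012_2]

/-- the orbit of the weight `0` under `W_{0,1,3}` -/
def t_013_0 : List Nd := [
  ⟨[1, 0, 0, 0], 0, 0, 0⟩, ⟨[-1, 1, 0, 0], 1, 0, 0⟩, ⟨[0, -1, 1, 0], 2, 1, 1⟩]

theorem ok_013_0 : orbOK 4 0 [0, 1, 3] cl AL t_013_0 = true := by decide +kernel

theorem S_013_0 (q : ℕ) : S q t_013_0 = 1 + q + q ^ 2 := by
  simp only [S, t_013_0, List.map_cons, List.map_nil, List.sum_cons, List.sum_nil]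
  ring

theorem rel_013_0 [Finite G] : (D.par ({1, 3} : Finset (Fin 4))).relIndex (D.par ({0, 1, 3} : Finset (Fin 4))) =
    1 + q + q ^ 2 := by
  rw [D.rel (k := 0) (JL := [0, 1, 3]) (L := t_013_0) ok_013_0 (by decide) (by decide) (by decide), S_013_0]

/-- the orbit of the weight `3` under `W_{0,1,3}` -/
def t_013_3 : List Nd := [
  ⟨[0, 0, 0, 1], 0, 0, 0⟩, ⟨[0, 0, 1, -1], 2, 0, 3⟩]

theorem ok_013_3 : orbOK 4 3 [0, 1, 3] cl AL t_013_3 = true := by decide +kernel

theorem S_013_3 (q : ℕ) : S q t_013_3 = 1 + q ^ 2 := by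
  simp only [S, t_013_3, List.map_cons, List.map_nil, List.sum_cons, List.sum_nil]
  ring

theorem rel_013_3 [Finite G] : (D.par ({0, 1} : Finset (Fin 4))).relIndex (D.par ({0, 1, 3} : Finset (Fin 4))) =
    1 + q ^ 2 := by
  rw [D.rel (k := 3) (JL := [0, 1, 3]) (L := t_013_3) ok_013_3 (by decide) (by decide) (by decide), S_013_3]

theorem cop_2 (q : ℕ) : Nat.Coprime (1 + q + q ^ 2) (1 + q ^ 2) := by
  rw [← Nat.isCoprime_iff_coprime]
  push_cast
  refine ⟨(-1) * (q : ℤ), (1) + (1) * (q : ℤ), ?_⟩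
  ring

end Cfsg.Agent.H470.PiRad.TabTw
end

-- part: H470/PiRad/Inst
section
/-!
# S4324: the typed root group data of `F₄(q)`, `E₆(q)`, `E₇(q)`, `E₈(q)`, `²E₆(q)` (helper470)

* `exists_elt` : an element of order `s ∣ q - 1` in `⟨X_r, X_{-r}⟩`;
* `dat_split`, `dat_F4`, `dat_E6`, `dat_E7`, `dat_E8`, `dat_Tw`.
-/

set_option autoImplicit false
set_option linter.unusedSectionVars false

namespace Cfsg.Agent.H470.PiRad.Inst

open Cfsg Subgroup Cfsg.Agent.H470.PiRad.Mod
open CoxeterSystem Cfsg.Agent.ChevalleyStructure.CoxeterGeom Cfsg.Agent.Tits.Roots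
  Cfsg.Agent.Nodes.Reps Cfsg.Agent.Nodes.BNOf Cfsg.Agent.Nodes.LeviDec Cfsg.Agent.Nodes.Bruhat
  Cfsg.Agent.KFacts.RgdCharP Cfsg.Agent.KFacts.RgdVJ Cfsg.Agent.KFacts.RgdFilt
open Cfsg.Lie Cfsg.Agent.ChevalleyStructure Cfsg.Agent.ChevalleyStructure.Elts
  Cfsg.Agent.ChevalleyStructure.RootVec Cfsg.Agent.ChevalleyStructure.RootVecTab
  Cfsg.Agent.ChevalleyStructure.NPerm Cfsg.Agent.ChevalleyStructure.CoxeterGeomTypes
open Cfsg.Agent.Nodes.RGDChev Cfsg.Agent.H35.ExcIdx

/-! ### Elements of the torus of `⟨X_r, X_{-r}⟩` -/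

section Elt

variable {F : Type*} [Field F]

/-- upper unipotent matrices -/
def eU (t : F) : Matrix.SpecialLinearGroup (Fin 2) F := ⟨!![1, t; 0, 1], by rw [Matrix.det_fin_two_of]; ring⟩

/-- lower unipotent matrices -/
def eL (t : F) : Matrix.SpecialLinearGroup (Fin 2) F := ⟨!![1, 0; t, 1], by rw [Matrix.det_fin_two_of]; ring⟩

/-- diagonal matrices -/
def eD (u : Fˣ) : Matrix.SpecialLinearGroup (Fin 2) F :=
  ⟨!![(u : F), 0; 0, ((u⁻¹ : Fˣ) : F)], by rw [Matrix.det_fin_two_of]; simp⟩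

theorem eD_eq (u : Fˣ) : eD u = eU (u : F) * eL (-((u⁻¹ : Fˣ) : F)) * eU (u : F) * (eU (-1) * eL 1 * eU (-1)) := by
  apply Subtype.ext
  show !![(u : F), 0; 0, ((u⁻¹ : Fˣ) : F)] = !![1, (u : F); 0, 1] * !![1, 0; -((u⁻¹ : Fˣ) : F), 1] *
    !![1, (u : F); 0, 1] * (!![1, (-1 : F); 0, 1] * !![1, 0; 1, 1] * !![1, (-1 : F); 0, 1])
  have hu : (u : F) * ((u⁻¹ : Fˣ) : F) = 1 := by simp
  simp only [Matrix.mul_fin_two]
  have h1 : ∀ a b c d a' b' c' d' : F, a = a' → b = b' → c = c' → d = d' → (!![a, b; c, d] : Matrix (Fin 2) (Fin 2) F) =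
      !![a', b'; c', d'] := by
    rintro a b c d _ _ _ _ rfl rfl rfl rfl; rfl
  apply h1
  · linear_combination (u : F) * hu
  · linear_combination (-1 : F) * hu
  · linear_combination hu
  · ring

theorem eD_mul (u v : Fˣ) : eD u * eD v = eD (u * v) := by
  apply Subtype.ext
  show !![(u : F), 0; 0, ((u⁻¹ : Fˣ) : F)] * !![(v : F), 0; 0, ((v⁻¹ : Fˣ) : F)] =
    !![((u * v : Fˣ) : F), 0; 0, (((u * v)⁻¹ : Fˣ) : F)]
  rw [Matrix.mul_fin_two, mul_inv, Units.val_mul, Units.val_mul]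
  simp only [_root_.MulZeroClass.mul_zero, _root_.add_zero, _root_.Units.val_inv_eq_inv_val, _root_.MulZeroClass.zero_mul, _root_.zero_add]

theorem eD_one : eD (1 : Fˣ) = 1 := by
  apply Subtype.ext
  show !![((1 : Fˣ) : F), 0; 0, (((1 : Fˣ)⁻¹ : Fˣ) : F)] = 1
  simp [Matrix.one_fin_two]

theorem eD_pow (u : Fˣ) (k : ℕ) : eD u ^ k = eD (u ^ k) := by
  induction k with
  | zero => rw [pow_zero, pow_zero, eD_one]
  | succ k ih => rw [pow_succ, pow_succ, ih, eD_mul]

theorem eD_conj (u : Fˣ) : eD u * eU 1 * (eD u)⁻¹ = eU ((u : F) ^ 2) := by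
  rw [mul_inv_eq_iff_eq_mul]
  apply Subtype.ext
  show !![(u : F), 0; 0, ((u⁻¹ : Fˣ) : F)] * !![1, (1 : F); 0, 1] =
    !![1, (u : F) ^ 2; 0, 1] * !![(u : F), 0; 0, ((u⁻¹ : Fˣ) : F)]
  have hu : (u : F) * ((u⁻¹ : Fˣ) : F) = 1 := by simp
  simp only [Matrix.mul_fin_two]
  have h1 : ∀ a b c d a' b' c' d' : F, a = a' → b = b' → c = c' → d = d' → (!![a, b; c, d] : Matrix (Fin 2) (Fin 2) F) =
      !![a', b'; c', d'] := by
    rintro a b c d _ _ _ _ rfl rfl rfl rfl; rfl
  apply h1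
  · ring
  · linear_combination (-1 : F) * (u : F) * hu
  · ring
  · ring

end Elt

/-- an element of order `s` in `⟨X_r, X_{-r}⟩` -/
theorem exists_elt {D : ChevalleyDatum} (hD : InList D) {r : ℕ} (hr : r < D.nroots) {F : Type*} [Field F] {u : Fˣ}
    {s : ℕ} (hs : s.Prime) (hs3 : 3 ≤ s) (hu : orderOf u = s) {V : Subgroup (GL D.Idx F)}
    (h1 : xG hD r (u : F) ∈ V) (h2 : xG hD (D.neg r) (-((u⁻¹ : Fˣ) : F)) ∈ V) (h3 : xG hD r (-1 : F) ∈ V)
    (h4 : xG hD (D.neg r) (1 : F) ∈ V) : ∃ w ∈ V, orderOf w = s := by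
  obtain ⟨φ, -, hφ⟩ := Cfsg.Agent.S1030.result (F := F) D hD r hr
  have hU : ∀ t : F, φ (eU t) = xG hD r t := fun t => Units.ext ((hφ (eU t) t).1 rfl)
  have hL : ∀ t : F, φ (eL t) = xG hD (D.neg r) t := fun t => Units.ext ((hφ (eL t) t).2 rfl)
  refine ⟨φ (eD u), ?_, ?_⟩
  · rw [eD_eq, map_mul, map_mul, map_mul, map_mul, map_mul, hU, hL, hU, hL]
    exact mul_mem (mul_mem (mul_mem h1 h2) h1) (mul_mem (mul_mem h3 h4) h3)
  · refine orderOf_eq_prime ?_ ?_ (hp := ⟨hs⟩)
    · rw [← map_pow, eD_pow, ← hu, pow_orderOf_eq_one, eD_one, map_one]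
    · intro h5
      have h6 := congrArg φ (eD_conj u)
      rw [map_mul, map_mul, h5, one_mul, map_inv, h5, inv_one, mul_one, hU, hU] at h6
      have h7 := xG_injective hD hr h6
      have h8 : u ^ 2 = 1 := by
        apply Units.ext
        rw [Units.val_pow_eq_pow_val, ← h7, Units.val_one]
      have h9 := orderOf_dvd_of_pow_eq_one h8
      rw [hu] at h9
      have := Nat.le_of_dvd (by norm_num) h9
      omega


/-! ### The split groups -/

section Split

variable {D : ChevalleyDatum} {l : ℕ} {M : CoxeterMatrix (Fin l)} (hp : IsType D l M) (F : Type*) [Field F]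
  [Fintype F] (t : ℕ) [Fact t.Prime] [CharP F t]

include hp in
theorem tor_split (i : Fin l) {s : ℕ} (hs : s.Prime) (hs3 : 3 ≤ s) (hd : s ∣ Fintype.card F - 1) :
    s ∣ Nat.card ↥(XX D l F (sr i) ⊔ XX D l F (-sr i)) := by
  classical
  have : Fact s.Prime := ⟨hs⟩
  have h0 : s ∣ Nat.card Fˣ := by
    rw [Nat.card_eq_fintype_card, Fintype.card_units]
    exact hd
  obtain ⟨u, hu⟩ := exists_prime_orderOf_dvd_card' s h0
  have hr : D.simple i < D.nroots := _root_.Cfsg.Agent.ChevalleyStructure.RootVec.simple_lt hp.checked (lt_rank hp i)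
  obtain ⟨w, hw, hws⟩ := exists_elt hp.inList hr hs hs3 hu
    (V := D.rootSubgroup F (D.simple i) ⊔ D.rootSubgroup F (D.neg (D.simple i)))
    ((le_sup_left : D.rootSubgroup F (D.simple i) ≤ _) (xG_mem_rootSubgroup _ _ _))
    ((le_sup_right : D.rootSubgroup F (D.neg (D.simple i)) ≤ _) (xG_mem_rootSubgroup _ _ _))
    ((le_sup_left : D.rootSubgroup F (D.simple i) ≤ _) (xG_mem_rootSubgroup _ _ _))
    ((le_sup_right : D.rootSubgroup F (D.neg (D.simple i)) ≤ _) (xG_mem_rootSubgroup _ _ _))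
  have h1 : XV D l F (sr i) ≤ D.group F := XV_le_group hp _
  have h2 : XV D l F (-sr i) ≤ D.group F := XV_le_group hp _
  have h3 : XX D l F (sr i) ⊔ XX D l F (-sr i) = (XV D l F (sr i) ⊔ XV D l F (-sr i)).subgroupOf (D.group F) :=
    (Subgroup.subgroupOf_sup h1 h2).symm
  rw [h3, Nat.card_congr (subgroupOfEquivOfLe (sup_le h1 h2)).toEquiv, XV_sr hp, XV_neg_sr hp, ← hws]
  exact Subgroup.orderOf_dvd_natCard _ hw

/-- **The typed root group datum of a split group.** -/
theorem dat_split {AL : List (List ℤ)} {cl : List ℕ}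
    (hA : ∀ i j : Fin l, (AL.getD i []).getD j 0 = cartanOf D l i j)
    (hAl : ∀ i : Fin l, (AL.getD i []).length = l) (hcl : ∀ i : Fin l, cl.getD i 0 = 1) :
    Dat t (Fintype.card F) AL cl hp.isCartan (TT D F)
      (fun i => (⟨nn hp F i, nn_mem_group hp i⟩ : ↥(D.group F))) (XX D l F) where
  fin := finite_W hp M.toCoxeterSystem
  rgd := rgd (K := F) hp M.toCoxeterSystem t
  g1 := G1_eq_top hp _
  gg := _root_.Cfsg.Agent.H35.ExcIdx.GG_eq_top hp F _
  size i := by
    rw [card_XX hp F M.toCoxeterSystem (isRoot_sr _ _ i), Nat.card_eq_fintype_card, hcl, pow_one]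
  bt := by
    have := finite_W hp M.toCoxeterSystem
    exact fun K hK h1 => borel_tits_of_filt (Cfsg.Agent.KFacts.RgdFiltChev.filt hp M.toCoxeterSystem t)
      (G1_eq_top hp _) hK h1
  al := hA
  all := hAl
  tor i s hs hs3 hd _ := tor_split hp F i hs hs3 hd

end Split

section Inst

variable (F : Type*) [Field F] [Fintype F] (t : ℕ) [Fact t.Prime] [CharP F t]

theorem dat_F4 : Dat t (Fintype.card F) TabF4.AL TabF4.cl hpF4.isCartan (TT chevF4 F)
    (fun i => (⟨nn hpF4 F i, nn_mem_group hpF4 i⟩ : ↥(chevF4.group F))) (XX chevF4 4 F) :=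
  dat_split hpF4 F t (by (delta Cfsg.Agent.ChevalleyStructure.CoxeterGeomTypes.cartanOf; rewrite [Cfsg.Agent.ChevFast.F4.cartan]; decide +kernel)) (by decide) (by decide)

theorem dat_E6 : Dat t (Fintype.card F) TabE6.AL TabE6.cl hpE6.isCartan (TT chevE6 F)
    (fun i => (⟨nn hpE6 F i, nn_mem_group hpE6 i⟩ : ↥(chevE6.group F))) (XX chevE6 6 F) :=
  dat_split hpE6 F t (by (delta Cfsg.Agent.ChevalleyStructure.CoxeterGeomTypes.cartanOf; rewrite [Cfsg.Agent.ChevFast.E6.cartan]; decide +kernel)) (by decide) (by decide)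

theorem dat_E7 : Dat t (Fintype.card F) TabE7.AL TabE7.cl hpE7.isCartan (TT chevE7 F)
    (fun i => (⟨nn hpE7 F i, nn_mem_group hpE7 i⟩ : ↥(chevE7.group F))) (XX chevE7 7 F) :=
  dat_split hpE7 F t (by (delta Cfsg.Agent.ChevalleyStructure.CoxeterGeomTypes.cartanOf; rewrite [Cfsg.Agent.ChevFast.E7.cartan]; decide +kernel)) (by decide) (by decide)

theorem dat_E8 : Dat t (Fintype.card F) TabE8.AL TabE8.cl hpE8.isCartan (TT chevE8 F)
    (fun i => (⟨nn hpE8 F i, nn_mem_group hpE8 i⟩ : ↥(chevE8.group F))) (XX chevE8 8 F) :=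
  dat_split hpE8 F t (by (delta Cfsg.Agent.ChevalleyStructure.CoxeterGeomTypes.cartanOf; rewrite [Cfsg.Agent.ChevFast.E8.cartan]; decide +kernel)) (by decide) (by decide)

end Inst

/-! ### `²E₆(q)` -/

section Tw

open Cfsg.Agent.ChevalleyStructure.TwE6BN
open Cfsg.Agent.ChevalleyStructure.TwE6Basic (posE negE sg fix n exists_frob twisted_le_fix)

variable {F : Type*} [Field F] [Fintype F] {q : ℕ} {φ : F →+* F}

theorem tor_aux (t : ℕ) [Fact t.Prime] [CharP F t] (hφ : ∀ x, φ x = x ^ q) (hqq : ∀ t : F, (t ^ q) ^ q = t) (i : Fin 4) {r : ℕ}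
    (hr : r < chevE6.nroots) (hri : r ∈ posE i) (hri' : chevE6.neg r ∈ negE i) (hr1 : r ∈ [46, 25, 39, 32])
    (hr2 : chevE6.neg r ∈ [46, 25, 39, 32]) {s : ℕ} (hs : s.Prime)
    (hs3 : 3 ≤ s) (hd : s ∣ q - 1) (hq : 1 < q) (hK : Fintype.card F = q ^ 2) :
    s ∣ Nat.card ↥(Cfsg.Agent.Nodes.RGDTwE6.X φ q (sr i) ⊔ Cfsg.Agent.Nodes.RGDTwE6.X φ q (-sr i)) := by
  classical
  have : Fact s.Prime := ⟨hs⟩
  have h0 : s ∣ Nat.card Fˣ := by
    rw [Nat.card_eq_fintype_card, Fintype.card_units, hK]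
    have h1 : q ^ 2 - 1 = (q - 1) * (q + 1) := by
      obtain ⟨x, rfl⟩ := Nat.exists_eq_add_of_lt hq
      have h2 : 1 + x + 1 - 1 = x + 1 := by omega
      rw [h2]
      apply Nat.sub_eq_of_eq_add
      ring
    rw [h1]
    exact Dvd.dvd.mul_right hd _
  obtain ⟨u, hu⟩ := exists_prime_orderOf_dvd_card' s h0
  have huq : ∀ v : Fˣ, v ^ s = 1 → (v : F) ^ q = v := by
    intro v hv
    have h1 : v ^ q = v := by
      obtain ⟨c, hc⟩ := hd
      have h2 : q = s * c + 1 := by omega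
      rw [h2, pow_succ, pow_mul, hv, one_pow, one_mul]
    rw [← Units.val_pow_eq_pow_val, h1]
  have hmone : (-1 : F) ^ q = -1 := by
    rw [← hφ, map_neg, map_one]
  have huq' : (u : F) ^ q = u := huq u (by rw [← hu]; exact pow_orderOf_eq_one u)
  have huq'' : (-((u⁻¹ : Fˣ) : F)) ^ q = -((u⁻¹ : Fˣ) : F) := by
    rw [← hφ, map_neg, hφ, huq u⁻¹ (by rw [inv_pow, ← hu, pow_orderOf_eq_one, inv_one])]
  have hle := twisted_le_fix φ hφ hqq
  have hp1 : ∀ v : F, v ^ q = v → xG TwE6Basic.hE6 r v ∈ rs F (posE i) ⊓ fix φ := fun v hv =>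
    ⟨x_mem_rs hri v, hle (TwE6Basic.single_mem hv hr1)⟩
  have hp2 : ∀ v : F, v ^ q = v → xG TwE6Basic.hE6 (chevE6.neg r) v ∈ rs F (negE i) ⊓ fix φ := fun v hv =>
    ⟨x_mem_rs hri' v, hle (TwE6Basic.single_mem hv hr2)⟩
  obtain ⟨w, hw, hws⟩ := exists_elt TwE6Basic.hE6 hr hs hs3 hu
    (V := (rs F (posE i) ⊓ fix φ) ⊔ (rs F (negE i) ⊓ fix φ))
    ((le_sup_left : rs F (posE i) ⊓ fix φ ≤ _) (hp1 _ huq'))
    ((le_sup_right : rs F (negE i) ⊓ fix φ ≤ _) (hp2 _ huq''))
    ((le_sup_left : rs F (posE i) ⊓ fix φ ≤ _) (hp1 _ hmone))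
    ((le_sup_right : rs F (negE i) ⊓ fix φ ≤ _) (hp2 _ (one_pow q)))
  have hRle : ∀ z : Fin 4 → ℤ, IsRoot CoxeterMatrix.F₄.toCoxeterSystem Cfsg.Agent.Nodes.RGDTwE6.isCartan z →
      Cfsg.Agent.Nodes.RGDFold.R chevE6 Cfsg.Agent.Nodes.RGDTwE6.hp F Cfsg.Agent.Nodes.RGDTwE6.J (sg φ) z ≤
        twistedE6 F q := fun z hz =>
    Cfsg.Agent.Nodes.RGDFold.R_le CoxeterMatrix.F₄.toCoxeterSystem Cfsg.Agent.Nodes.RGDTwE6.isCartan
      Cfsg.Agent.Nodes.RGDTwE6.foldData (Cfsg.Agent.Nodes.RGDTwE6.foldGrp hφ hqq) t hz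
  have h1 : rs F (posE i) ⊓ fix φ ≤ twistedE6 F q := by
    rw [← Cfsg.Agent.Nodes.RGDTwE6.R_pos]
    exact hRle _ (isRoot_sr _ _ i)
  have h2 : rs F (negE i) ⊓ fix φ ≤ twistedE6 F q := by
    rw [← Cfsg.Agent.Nodes.RGDTwE6.R_neg]
    exact hRle _ (isRoot_sr _ _ i).neg
  have h3 : Cfsg.Agent.Nodes.RGDTwE6.X φ q (sr i) ⊔ Cfsg.Agent.Nodes.RGDTwE6.X φ q (-sr i) =
      ((rs F (posE i) ⊓ fix φ) ⊔ (rs F (negE i) ⊓ fix φ)).subgroupOf (twistedE6 F q) := by
    unfold Cfsg.Agent.Nodes.RGDTwE6.X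
    rw [Cfsg.Agent.Nodes.RGDTwE6.R_pos, Cfsg.Agent.Nodes.RGDTwE6.R_neg]
    exact (Subgroup.subgroupOf_sup h1 h2).symm
  rw [h3, Nat.card_congr (subgroupOfEquivOfLe (sup_le h1 h2)).toEquiv, ← hws]
  exact Subgroup.orderOf_dvd_natCard _ hw

/-- **The typed root group datum of `²E₆(q)`.** -/
theorem dat_Tw (t : ℕ) [Fact t.Prime] [CharP F t] (hq : 1 < q) (hφ : ∀ x, φ x = x ^ q) (hqq : ∀ t : F, (t ^ q) ^ q = t) (hK : Fintype.card F = q ^ 2) :
    Dat t q TabTw.AL TabTw.cl Cfsg.Agent.Nodes.RGDTwE6.isCartan (Cfsg.Agent.Nodes.RGDTwE6.T F q)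
      (Cfsg.Agent.Nodes.RGDTwE6.nn hφ) (Cfsg.Agent.Nodes.RGDTwE6.X φ q) where
  fin := Cfsg.Agent.Nodes.RGDFold.finite_W (hp := Cfsg.Agent.Nodes.RGDTwE6.hp)
    CoxeterMatrix.F₄.toCoxeterSystem Cfsg.Agent.Nodes.RGDTwE6.isCartan Cfsg.Agent.Nodes.RGDTwE6.foldData
  rgd := Cfsg.Agent.Nodes.RGDTwE6.rgd CoxeterMatrix.F₄.toCoxeterSystem hφ hqq t
  g1 := Cfsg.Agent.Nodes.RGDTwE6.G1_eq_top _ hφ hqq
  gg := by
    rw [eq_top_iff, ← Cfsg.Agent.Nodes.RGDTwE6.G1_eq_top CoxeterMatrix.F₄.toCoxeterSystem hφ hqq]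
    exact le_sup_right
  size i := by
    rw [card_X_tw (φ := φ) hφ hqq hq hK]
    fin_cases i
    · exact (pow_one q).symm
    · exact (pow_one q).symm
    · rfl
    · rfl
  bt := by
    have := Cfsg.Agent.Nodes.RGDFold.finite_W (hp := Cfsg.Agent.Nodes.RGDTwE6.hp)
      CoxeterMatrix.F₄.toCoxeterSystem Cfsg.Agent.Nodes.RGDTwE6.isCartan Cfsg.Agent.Nodes.RGDTwE6.foldData
    exact fun K hK h1 => borel_tits_of_filt (Cfsg.Agent.KFacts.RgdFiltTwAll.filt_fold CoxeterMatrix.F₄.toCoxeterSystem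
      Cfsg.Agent.Nodes.RGDTwE6.isCartan Cfsg.Agent.Nodes.RGDTwE6.foldData (Cfsg.Agent.Nodes.RGDTwE6.foldGrp hφ hqq) t)
      (Cfsg.Agent.Nodes.RGDTwE6.G1_eq_top _ hφ hqq) hK h1
  al := by decide
  all := by decide
  tor i s hs hs3 hd hi := by
    have h1 : i = 0 ∨ i = 1 := by
      revert hi
      fin_cases i <;> decide
    rcases h1 with rfl | rfl
    · exact tor_aux t hφ hqq 0 (r := 46) (by decide +kernel) (by decide) (by decide +kernel) (by decide)
        (by decide +kernel) hs hs3 hd hq hK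
    · exact tor_aux t hφ hqq 1 (r := 39) (by decide +kernel) (by decide) (by decide +kernel) (by decide)
        (by decide +kernel) hs hs3 hd hq hK

end Tw

end Cfsg.Agent.H470.PiRad.Inst
end

-- part: H470/PiRad/Num
section
/-!
# Divisibility of cyclotomic values (helper470, S4324)
-/

set_option autoImplicit false

namespace Cfsg.Agent.H470.PiRad.Num

variable {s q : ℕ}

/-- `s ∣ 1 + q^k + … + q^(k (m - 1))` if the order of `q` modulo `s` is `k m` -/
theorem dv (hs : s.Prime) (k m : ℕ) (h : orderOf (q : ZMod s) = k * m) (hk : 0 < k) (hm : 1 < m) :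
    s ∣ ∑ i ∈ Finset.range m, q ^ (k * i) := by
  have : Fact s.Prime := ⟨hs⟩
  rw [← ZMod.natCast_eq_zero_iff]
  push_cast
  set a : ZMod s := (q : ZMod s) with ha
  have h1 : (a ^ k) ^ m = 1 := by
    rw [← pow_mul, ← h]; exact pow_orderOf_eq_one a
  have h2 : a ^ k ≠ 1 := by
    intro h3
    have h4 := orderOf_dvd_of_pow_eq_one h3
    rw [h] at h4
    have h5 := Nat.le_of_dvd hk h4
    nlinarith only [hk, hm, h5]
  have h3 : (a ^ k - 1) * ∑ i ∈ Finset.range m, (a ^ k) ^ i = 0 := by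
    rw [mul_geom_sum, h1, sub_self]
  rcases mul_eq_zero.1 h3 with h4 | h4
  · exact absurd (sub_eq_zero.1 h4) h2
  · simp_rw [pow_mul]
    exact h4

theorem dvd_sub_one (hs : s.Prime) (hq : 1 ≤ q) (h : orderOf (q : ZMod s) = 1) : s ∣ q - 1 := by
  rw [orderOf_eq_one_iff] at h
  rw [← ZMod.natCast_eq_zero_iff, Nat.cast_sub hq, h, Nat.cast_one, sub_self]

variable (hs : s.Prime)
include hs

theorem g2 (h : orderOf (q : ZMod s) = 2) : s ∣ 1 + q := by
  have h1 := dv hs 1 2 (by rw [h]) one_pos (by norm_num)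
  simpa only [Finset.sum_range_succ, _root_.one_mul, _root_.Finset.range_one, _root_.Finset.sum_singleton, _root_.pow_zero, _root_.pow_one] using h1

theorem g3 (h : orderOf (q : ZMod s) = 3) : s ∣ 1 + q + q ^ 2 := by
  have h1 := dv hs 1 3 (by rw [h]) one_pos (by norm_num)
  simpa only [Finset.sum_range_succ, _root_.one_mul, _root_.Finset.range_one, _root_.Finset.sum_singleton, _root_.pow_zero, _root_.pow_one] using h1

theorem g4 (h : orderOf (q : ZMod s) = 4) : s ∣ 1 + q + q ^ 2 + q ^ 3 := by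
  have h1 := dv hs 1 4 (by rw [h]) one_pos (by norm_num)
  simpa only [Finset.sum_range_succ, _root_.one_mul, _root_.Finset.range_one, _root_.Finset.sum_singleton, _root_.pow_zero, _root_.pow_one] using h1

theorem g5 (h : orderOf (q : ZMod s) = 5) : s ∣ 1 + q + q ^ 2 + q ^ 3 + q ^ 4 := by
  have h1 := dv hs 1 5 (by rw [h]) one_pos (by norm_num)
  simpa only [Finset.sum_range_succ, _root_.one_mul, _root_.Finset.range_one, _root_.Finset.sum_singleton, _root_.pow_zero, _root_.pow_one] using h1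

theorem g6 (h : orderOf (q : ZMod s) = 6) : s ∣ 1 + q + q ^ 2 + q ^ 3 + q ^ 4 + q ^ 5 := by
  have h1 := dv hs 1 6 (by rw [h]) one_pos (by norm_num)
  simpa only [Finset.sum_range_succ, _root_.one_mul, _root_.Finset.range_one, _root_.Finset.sum_singleton, _root_.pow_zero, _root_.pow_one] using h1

theorem g8 (h : orderOf (q : ZMod s) = 8) : s ∣ 1 + q + q ^ 2 + q ^ 3 + q ^ 4 + q ^ 5 + q ^ 6 + q ^ 7 := by
  have h1 := dv hs 1 8 (by rw [h]) one_pos (by norm_num)
  simpa only [Finset.sum_range_succ, _root_.one_mul, _root_.Finset.range_one, _root_.Finset.sum_singleton, _root_.pow_zero, _root_.pow_one] using h1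

theorem c4 (h : orderOf (q : ZMod s) = 4) : s ∣ 1 + q ^ 2 := by
  have h1 := dv hs 2 2 (by rw [h]) two_pos (by norm_num)
  simpa only [Finset.sum_range_succ, _root_.Finset.range_one, _root_.Finset.sum_singleton, _root_.MulZeroClass.mul_zero, _root_.pow_zero, _root_.mul_one] using h1

theorem c6 (h : orderOf (q : ZMod s) = 6) : s ∣ 1 + q ^ 3 := by
  have h1 := dv hs 3 2 (by rw [h]) (by norm_num) (by norm_num)
  simpa only [Finset.sum_range_succ, _root_.Finset.range_one, _root_.Finset.sum_singleton, _root_.MulZeroClass.mul_zero, _root_.pow_zero, _root_.mul_one] using h1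

theorem c8 (h : orderOf (q : ZMod s) = 8) : s ∣ 1 + q ^ 4 := by
  have h1 := dv hs 4 2 (by rw [h]) (by norm_num) (by norm_num)
  simpa only [Finset.sum_range_succ, _root_.Finset.range_one, _root_.Finset.sum_singleton, _root_.MulZeroClass.mul_zero, _root_.pow_zero, _root_.mul_one] using h1

theorem c10 (h : orderOf (q : ZMod s) = 10) : s ∣ 1 + q ^ 5 := by
  have h1 := dv hs 5 2 (by rw [h]) (by norm_num) (by norm_num)
  simpa only [Finset.sum_range_succ, _root_.Finset.range_one, _root_.Finset.sum_singleton, _root_.MulZeroClass.mul_zero, _root_.pow_zero, _root_.mul_one] using h1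

theorem c12 (h : orderOf (q : ZMod s) = 12) : s ∣ 1 + q ^ 6 := by
  have h1 := dv hs 6 2 (by rw [h]) (by norm_num) (by norm_num)
  simpa only [Finset.sum_range_succ, _root_.Finset.range_one, _root_.Finset.sum_singleton, _root_.MulZeroClass.mul_zero, _root_.pow_zero, _root_.mul_one] using h1

theorem d6 (h : orderOf (q : ZMod s) = 6) : s ∣ 1 + q ^ 2 + q ^ 4 := by
  have h1 := dv hs 2 3 (by rw [h]) two_pos (by norm_num)
  simpa only [Finset.sum_range_succ, _root_.Finset.range_one, _root_.Finset.sum_singleton, _root_.MulZeroClass.mul_zero, _root_.pow_zero, _root_.mul_one, _root_.Nat.reduceMul] using h1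

theorem d3 (h : orderOf (q : ZMod s) = 3) : s ∣ 1 + q ^ 2 + q ^ 4 := by
  obtain ⟨c, hc⟩ := g3 hs h
  have h1 : (1 + q ^ 2 + q ^ 4) + q * (1 + q + q ^ 2) = (1 + q + q ^ 2) * (1 + q ^ 2) := by ring
  have h2 : s ∣ (1 + q + q ^ 2) * (1 + q ^ 2) := Dvd.dvd.mul_right ⟨c, hc⟩ _
  rw [← h1] at h2
  exact (Nat.dvd_add_left (Dvd.dvd.mul_left ⟨c, hc⟩ _)).1 h2

theorem d12 (h : orderOf (q : ZMod s) = 12) : s ∣ 1 + q ^ 4 + q ^ 8 := by
  have h1 := dv hs 4 3 (by rw [h]) (by norm_num) (by norm_num)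
  simpa only [Finset.sum_range_succ, _root_.Finset.range_one, _root_.Finset.sum_singleton, _root_.MulZeroClass.mul_zero, _root_.pow_zero, _root_.mul_one, _root_.Nat.reduceMul] using h1

end Cfsg.Agent.H470.PiRad.Num
end

-- part: H470/PiRad/RowE8
section
/-!
# S4324: `E₈(q)`, the primes `s` with `ord_s(q) ∈ {1,2,3,4,5,6,8,10,12}`: fixed chambers (helper470)

* `core` : `F (univ \ {k}) → F ∅` except for `k = 1`, `ord_s(q) ∈ {10, 12}` and `k = 6`, `ord_s(q) = 10`;
* `false_of_empty` : the conclusion.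
Nodes `0, …, 7` (`0 - 2 - 3 - 4 - 5 - 6 - 7`, `1 - 3`).
-/

set_option autoImplicit false
set_option linter.unusedSectionVars false

namespace Cfsg.Agent.H470.PiRad.RowE8

open Cfsg Subgroup Cfsg.Agent.H216.Pi Cfsg.Agent.H470.PiRad.Mod Cfsg.Agent.H470.PiRad.Orb Cfsg.Agent.H470.PiRad.TabE8
open Cfsg.Agent.ChevalleyStructure.CoxeterGeom Cfsg.Agent.H470.PiRad.CosetSys

variable {t q s : ℕ}
    {A : Fin 8 → Fin 8 → ℤ} {h : IsCartan CoxeterMatrix.E₈ A} {G : Type*} [Group G] [Finite G] [IsSimpleGroup G]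
    {T : Subgroup G} {n : Fin 8 → G} {X : (Fin 8 → ℤ) → Subgroup G} (D : Dat t q AL cl h T n X)

/-- the orders of `q` modulo `s` -/
def L8 : Finset ℕ := {1, 2, 3, 4, 5, 6, 8, 10, 12}

section Kills

variable (ht : t.Prime) (hs : s.Prime) (hs3 : 3 ≤ s) (hst : s ≠ t) (hq : 1 ≤ q)

include hs hs3 hst hq ht

theorem k_right {e : ℕ} (he : orderOf (q : ZMod s) = e) (h0 : 1 ≤ e) (h5 : e ≤ 5) : D.K s {4, 5, 6, 7} := by
  interval_cases e
  · exact (D.kt ht hs hs3 hst (Num.dvd_sub_one hs hq he) 7 rfl).mono (by decide)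
  · exact (D.kk hs (by decide) (rel_7_7 D) (Num.g2 hs he)).mono (by decide)
  · exact (D.kk hs (by decide) (rel_67_7 D) (Num.g3 hs he)).mono (by decide)
  · exact (D.kk hs (by decide) (rel_567_7 D) (Num.g4 hs he)).mono (by decide)
  · exact D.kk hs (by decide) (rel_4567_7 D) (Num.g5 hs he)

theorem k_left {e : ℕ} (he : orderOf (q : ZMod s) = e) (h0 : 1 ≤ e) (h5 : e ≤ 5) : D.K s {0, 1, 2, 3} := by
  interval_cases e
  · exact (D.kt ht hs hs3 hst (Num.dvd_sub_one hs hq he) 0 rfl).mono (by decide)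
  · exact (D.kk hs (by decide) (rel_0_0 D) (Num.g2 hs he)).mono (by decide)
  · exact (D.kk hs (by decide) (rel_02_0 D) (Num.g3 hs he)).mono (by decide)
  · exact (D.kk hs (by decide) (rel_023_0 D) (Num.g4 hs he)).mono (by decide)
  · exact D.kk hs (by decide) (rel_0123_0 D) (Num.g5 hs he)

/-- `D₇` -/
theorem k_D7 {e : ℕ} (he : orderOf (q : ZMod s) = e) (h0 : e ∈ L8) : D.K s (Finset.univ.erase 0) := by
  simp only [L8, Finset.mem_insert, Finset.mem_singleton] at h0
  rcases h0 with h1 | h1 | h1 | h1 | h1 | h1 | h1 | h1 | h1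
  · exact (k_right D ht hs hs3 hst hq he (by omega) (by omega)).mono (by decide)
  · exact (k_right D ht hs hs3 hst hq he (by omega) (by omega)).mono (by decide)
  · exact (k_right D ht hs hs3 hst hq he (by omega) (by omega)).mono (by decide)
  · exact (k_right D ht hs hs3 hst hq he (by omega) (by omega)).mono (by decide)
  · exact (k_right D ht hs hs3 hst hq he (by omega) (by omega)).mono (by decide)
  · exact (D.kk hs (by decide) (rel_34567_7 D) (Num.g6 hs (he.trans h1))).mono (by decide)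
  · exact (D.kk hs (by decide) (rel_12345_5 D) (Dvd.dvd.mul_right (Num.c8 hs (he.trans h1)) _)).mono (by decide)
  · exact (D.kk hs (by decide) (rel_123456_6 D) (Dvd.dvd.mul_right (Num.c10 hs (he.trans h1)) _)).mono (by decide)
  · exact (D.kk hs (by decide) (rel_1234567_7 D) (Dvd.dvd.mul_right (Num.c12 hs (he.trans h1)) _)).mono (by decide)

/-- `D₅` -/
theorem k_D5 {e : ℕ} (he : orderOf (q : ZMod s) = e) (h0 : e ∈ L8) (h8 : e ≤ 8) : D.K s {0, 1, 2, 3, 4} := by
  simp only [L8, Finset.mem_insert, Finset.mem_singleton] at h0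
  rcases h0 with h1 | h1 | h1 | h1 | h1 | h1 | h1 | h1 | h1
  · exact (k_left D ht hs hs3 hst hq he (by omega) (by omega)).mono (by decide)
  · exact (k_left D ht hs hs3 hst hq he (by omega) (by omega)).mono (by decide)
  · exact (k_left D ht hs hs3 hst hq he (by omega) (by omega)).mono (by decide)
  · exact (k_left D ht hs hs3 hst hq he (by omega) (by omega)).mono (by decide)
  · exact (k_left D ht hs hs3 hst hq he (by omega) (by omega)).mono (by decide)
  · exact (D.kk hs (by decide) (rel_1234_1 D) (Dvd.dvd.mul_right (Num.c6 hs (he.trans h1)) _)).mono (by decide)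
  · exact D.kk hs (by decide) (rel_01234_0 D) (Dvd.dvd.mul_right (Num.c8 hs (he.trans h1)) _)
  · omega
  · omega

/-- `E₆` -/
theorem k_E6 {e : ℕ} (he : orderOf (q : ZMod s) = e) (h0 : e ∈ L8) (h10 : e ≠ 10) : D.K s {0, 1, 2, 3, 4, 5} := by
  by_cases h8 : e ≤ 8
  · exact (k_D5 D ht hs hs3 hst hq he h0 h8).mono (by decide)
  · simp only [L8, Finset.mem_insert, Finset.mem_singleton] at h0
    have h1 : e = 12 := by omega
    exact D.kk hs (by decide) (rel_012345_0 D) (Dvd.dvd.mul_right (Num.d12 hs (he.trans h1)) _)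

/-- `E₇` -/
theorem k_E7 {e : ℕ} (he : orderOf (q : ZMod s) = e) (h0 : e ∈ L8) : D.K s (Finset.univ.erase 7) := by
  by_cases h10 : e = 10
  · exact (D.kk hs (by decide) (rel_123456_6 D) (Dvd.dvd.mul_right (Num.c10 hs (he.trans h10)) _)).mono (by decide)
  · exact (k_E6 D ht hs hs3 hst hq he h0 h10).mono (by decide)

/-- `A₇` -/
theorem k_A7 {e : ℕ} (he : orderOf (q : ZMod s) = e) (h0 : e ∈ L8) (h8 : e ≤ 8) : D.K s (Finset.univ.erase 1) := by
  by_cases h5 : e ≤ 5
  · refine (k_right D ht hs hs3 hst hq he ?_ h5).mono (by decide)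
    simp only [L8, Finset.mem_insert, Finset.mem_singleton] at h0
    omega
  · simp only [L8, Finset.mem_insert, Finset.mem_singleton] at h0
    have h1 : e = 6 ∨ e = 8 := by omega
    rcases h1 with h1 | h1
    · exact (D.kk hs (by decide) (rel_34567_7 D) (Num.g6 hs (he.trans h1))).mono (by decide)
    · exact (D.kk hs (by decide) (rel_0234567_7 D) (Num.g8 hs (he.trans h1))).mono (by decide)

end Kills

theorem c_0 : D.C (Finset.univ.erase 0) := D.cc [2, 1, 3, 4, 5, 6, 7] (by decide) (by decide)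
theorem c_1 : D.C (Finset.univ.erase 1) := D.cc [0, 2, 3, 4, 5, 6, 7] (by decide) (by decide)
theorem c_7 : D.C (Finset.univ.erase 7) := D.cc [0, 2, 1, 3, 4, 5, 6] (by decide) (by decide)

variable (ht : t.Prime) (hs : s.Prime) (hs3 : 3 ≤ s) (hst : s ≠ t) (hq : 1 ≤ q) {e : ℕ}
  (he : orderOf (q : ZMod s) = e) (h0 : e ∈ L8) {x : MulAut G} {p : ℕ} (hp : p.Prime) (hxp : x ^ p = 1)
  (hTP : TP D.bn x) (hPC : PC s x)

include ht hs hs3 hst hq he h0 hTP hPC

theorem leaf0 {J : Finset (Fin 8)} (hx : D.F x J) (hJ : 0 ∉ J) : D.F x ∅ := by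
  have h1 : D.F x (Finset.univ.erase 0) := hx.up hTP (fun j hj => Finset.mem_erase.2 ⟨fun h2 => hJ (h2 ▸ hj), Finset.mem_univ _⟩)
  exact h1.dn hPC (by decide) (le_refl _) (c_0 D) (k_D7 D ht hs hs3 hst hq he h0) (by decide)

theorem leaf7 {J : Finset (Fin 8)} (hx : D.F x J) (hJ : 7 ∉ J) : D.F x ∅ := by
  have h1 : D.F x (Finset.univ.erase 7) := hx.up hTP (fun j hj => Finset.mem_erase.2 ⟨fun h2 => hJ (h2 ▸ hj), Finset.mem_univ _⟩)
  exact h1.dn hPC (by decide) (le_refl _) (c_7 D) (k_E7 D ht hs hs3 hst hq he h0) (by decide)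

/-- the conclusion -/
theorem eq_one_of_empty (hx : D.F x ∅) : x = 1 :=
  D.eq_one hPC hTP hx (a := 0) (b := 7) (by decide) (c_0 D) (k_D7 D ht hs hs3 hst hq he h0) (c_7 D)
    (k_E7 D ht hs hs3 hst hq he h0)

include hp hxp

/-- **fixed chambers** -/
theorem core {k : Fin 8} (hx : D.F x (Finset.univ.erase k)) :
    D.F x ∅ ∨ (k = 1 ∧ (e = 10 ∨ e = 12)) ∨ (k = 6 ∧ e = 10) := by
  have hmem : e = 1 ∨ e = 2 ∨ e = 3 ∨ e = 4 ∨ e = 5 ∨ e = 6 ∨ e = 8 ∨ e = 10 ∨ e = 12 := by
    simpa only [L8, _root_.Finset.mem_insert, _root_.Finset.mem_singleton] using h0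
  have l0 : ∀ {J : Finset (Fin 8)}, D.F x J → 0 ∉ J → D.F x ∅ := fun h1 h2 => leaf0 D ht hs hs3 hst hq he h0 hTP hPC h1 h2
  have l7 : ∀ {J : Finset (Fin 8)}, D.F x J → 7 ∉ J → D.F x ∅ := fun h1 h2 => leaf7 D ht hs hs3 hst hq he h0 hTP hPC h1 h2
  fin_cases k
  · exact Or.inl (l0 hx (by decide))
  · -- `k = 1`
    by_cases h8 : e ≤ 8
    · exact Or.inl (hx.dn hPC (by decide) (le_refl _) (c_1 D) (k_A7 D ht hs hs3 hst hq he h0 h8) (by decide))
    · exact Or.inr (Or.inl ⟨rfl, by omega⟩)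
  · -- `k = 2`
    left
    change D.F x (Finset.univ.erase 2) at hx
    have h1 : (Finset.univ.erase 2 : Finset (Fin 8)) = {0, 1, 3, 4, 5, 6, 7} := by decide
    rw [h1] at hx
    by_cases h6 : e ≤ 6
    · have hk : D.K s {1, 3, 4, 5, 6, 7} := by
        by_cases h5 : e ≤ 5
        · exact (k_right D ht hs hs3 hst hq he (by omega) h5).mono (by decide)
        · exact (D.kk hs (by decide) (rel_34567_7 D) (Num.g6 hs (he.trans (by omega)))).mono (by decide)
      exact l7 (hx.dn hPC (by decide) (by decide) (D.cc [1, 3, 4, 5, 6, 7] (by decide) (by decide)) hk (L := {0})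
        (by decide)) (by decide)
    · rcases hx.two hp hxp hTP (by decide) (by decide) (rel_0134567_0 D) (rel_0134567_7 D) (cop_2 q) with h2 | h2
      · exact l0 h2 (by decide)
      · exact l7 h2 (by decide)
  · -- `k = 3`
    left
    change D.F x (Finset.univ.erase 3) at hx
    have h1 : (Finset.univ.erase 3 : Finset (Fin 8)) = {0, 1, 2, 4, 5, 6, 7} := by decide
    rw [h1] at hx
    by_cases h5 : e ≤ 5
    · exact l7 (hx.dn hPC (by decide) (by decide) (D.cc [4, 5, 6, 7] (by decide) (by decide))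
        (k_right D ht hs hs3 hst hq he (by omega) h5) (L := {0, 1, 2}) (by decide)) (by decide)
    · rcases hx.two hp hxp hTP (by decide) (by decide) (rel_0124567_0 D) (rel_0124567_7 D) (cop_3 q) with h2 | h2
      · exact l0 h2 (by decide)
      · exact l7 h2 (by decide)
  · -- `k = 4`
    left
    change D.F x (Finset.univ.erase 4) at hx
    have h1 : (Finset.univ.erase 4 : Finset (Fin 8)) = {0, 1, 2, 3, 5, 6, 7} := by decide
    rw [h1] at hx
    by_cases h5 : e ≤ 5
    · exact l0 (hx.dn hPC (by decide) (by decide) (D.cc [0, 2, 1, 3] (by decide) (by decide))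
        (k_left D ht hs hs3 hst hq he (by omega) h5) (L := {5, 6, 7}) (by decide)) (by decide)
    · rcases hx.two hp hxp hTP (by decide) (by decide) (rel_0123567_0 D) (rel_0123567_7 D) (cop_4 q) with h2 | h2
      · exact l0 h2 (by decide)
      · exact l7 h2 (by decide)
  · -- `k = 5`
    left
    change D.F x (Finset.univ.erase 5) at hx
    have h1 : (Finset.univ.erase 5 : Finset (Fin 8)) = {0, 1, 2, 3, 4, 6, 7} := by decide
    rw [h1] at hx
    by_cases h8 : e ≤ 8
    · exact l0 (hx.dn hPC (by decide) (by decide) (D.cc [0, 2, 1, 3, 4] (by decide) (by decide))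
        (k_D5 D ht hs hs3 hst hq he h0 h8) (L := {6, 7}) (by decide)) (by decide)
    · rcases hx.two hp hxp hTP (by decide) (by decide) (rel_0123467_0 D) (rel_0123467_7 D) (cop_5 q) with h2 | h2
      · exact l0 h2 (by decide)
      · exact l7 h2 (by decide)
  · -- `k = 6`
    change D.F x (Finset.univ.erase 6) at hx
    have h1 : (Finset.univ.erase 6 : Finset (Fin 8)) = {0, 1, 2, 3, 4, 5, 7} := by decide
    by_cases h10 : e = 10
    · exact Or.inr (Or.inr ⟨rfl, h10⟩)
    · left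
      rw [h1] at hx
      exact l0 (hx.dn hPC (by decide) (by decide) (D.cc [0, 2, 1, 3, 4, 5] (by decide) (by decide))
        (k_E6 D ht hs hs3 hst hq he h0 h10) (L := {7}) (by decide)) (by decide)
  · exact Or.inl (l7 hx (by decide))

end Cfsg.Agent.H470.PiRad.RowE8
end

private theorem dce_95156b30ca40 : _root_.True := by
  try have : _root_.True := by simp only [_root_.Cfsg.Agent.H470.PiRad.TabE8.t_12345_5.eq_1]
  try have : _root_.True := by simp only [_root_.Cfsg.Agent.H470.PiRad.TabE6.t_1234_1.eq_1]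
  try have : _root_.True := by simp only [_root_.Cfsg.Agent.H470.PiRad.TabE8.t_0134567_7.eq_1]
  try have : _root_.True := by simp only [_root_.Cfsg.Agent.H470.PiRad.TabE8.t_0123457_7.eq_1]
  try have : _root_.True := by simp only [_root_.Cfsg.Agent.H470.PiRad.TabE8.t_123456_6.eq_1]
  try have : _root_.True := by simp only [_root_.Cfsg.Agent.H470.PiRad.TabTw.t_2_2.eq_1]
  try have : _root_.True := by simp only [_root_.Cfsg.Agent.H470.PiRad.TabF4.t_23_3.eq_1]
  try have : _root_.True := by simp only [_root_.Cfsg.Agent.H470.PiRad.TabF4.t_12_1.eq_1]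
  try have : _root_.True := by simp only [_root_.Cfsg.Agent.H470.PiRad.TabE7.t_23456_6.eq_1]
  try have : _root_.True := by simp only [_root_.Cfsg.Agent.H470.PiRad.TabTw.t_013_3.eq_1]
  try have : _root_.True := by simp only [_root_.Cfsg.Agent.H470.PiRad.TabE7.t_13456_6.eq_1]
  try have : _root_.True := by simp only [_root_.Cfsg.Agent.H470.PiRad.TabE6.t_01345_5.eq_1]
  try have : _root_.True := by simp only [_root_.Cfsg.Agent.H470.PiRad.TabE7.t_0_0.eq_1]
  try have : _root_.True := by simp only [_root_.Cfsg.Agent.H470.PiRad.TabE6.t_45_5.eq_1]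
  try have : _root_.True := by simp only [_root_.Cfsg.Agent.H470.PiRad.TabF4.t_023_0.eq_1]
  try have : _root_.True := by simp only [_root_.Cfsg.Agent.H470.PiRad.TabE8.t_02_0.eq_1]
  try have : _root_.True := by simp only [_root_.Cfsg.Agent.H470.PiRad.TabE8.t_1234567_7.eq_1]
  try have : _root_.True := by simp only [_root_.Cfsg.Agent.H470.PiRad.TabE6.t_01245_0.eq_1]
  try have : _root_.True := by simp only [_root_.Cfsg.Agent.H470.PiRad.TabE6.t_01245_1.eq_1]
  try have : _root_.True := by simp only [_root_.Cfsg.Agent.H470.PiRad.TabE6.t_01235_5.eq_1]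
  try have : _root_.True := by simp only [_root_.Cfsg.Agent.H470.PiRad.TabE6.t_02_0.eq_1]
  try have : _root_.True := by simp only [_root_.Cfsg.Agent.H470.PiRad.TabF4.t_3_3.eq_1]
  try have : _root_.True := by simp only [_root_.Cfsg.Agent.H470.PiRad.TabE7.t_023_0.eq_1]
  try have : _root_.True := by simp only [_root_.Cfsg.Agent.H470.PiRad.TabE8.t_0124567_7.eq_1]
  try have : _root_.True := by simp only [_root_.Cfsg.Agent.H470.PiRad.TabF4.t_0_0.eq_1]
  try have : _root_.True := by simp only [_root_.Cfsg.Agent.H470.PiRad.TabE8.t_567_7.eq_1]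
  try have : _root_.True := by simp only [_root_.Cfsg.Agent.H470.PiRad.TabE7.t_02_0.eq_1]
  try have : _root_.True := by simp only [_root_.Cfsg.Agent.H470.PiRad.TabE7.t_6_6.eq_1]
  try have : _root_.True := by simp only [_root_.Cfsg.Agent.H470.PiRad.TabE7.t_56_6.eq_1]
  try have : _root_.True := by simp only [_root_.Cfsg.Agent.H470.PiRad.TabE8.t_0234567_7.eq_1]
  try have : _root_.True := by simp only [_root_.Cfsg.Agent.H470.PiRad.TabE8.t_7_7.eq_1]
  try have : _root_.True := by simp only [_root_.Cfsg.Agent.H470.PiRad.TabE7.t_02345_0.eq_1]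
  try have : _root_.True := by simp only [_root_.Cfsg.Agent.H470.PiRad.TabE8.t_0123467_0.eq_1]
  try have : _root_.True := by simp only [_root_.Cfsg.Agent.H470.PiRad.TabE8.t_0_0.eq_1]
  try have : _root_.True := by simp only [_root_.Cfsg.Agent.H470.PiRad.TabE7.t_012456_6.eq_1]
  try have : _root_.True := by simp only [_root_.Cfsg.Agent.H470.PiRad.TabE6.t_023_0.eq_1]
  try have : _root_.True := by simp only [_root_.Cfsg.Agent.H470.PiRad.TabE8.t_012345_0.eq_1]
  try have : _root_.True := by simp only [_root_.Cfsg.Agent.H470.PiRad.TabE8.t_023_0.eq_1]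
  try have : _root_.True := by simp only [_root_.Cfsg.Agent.H470.PiRad.TabF4.t_023_3.eq_1]
  try have : _root_.True := by simp only [_root_.Cfsg.Agent.H470.PiRad.TabE8.t_0123467_7.eq_1]
  try have : _root_.True := by simp only [_root_.Cfsg.Agent.H470.PiRad.TabE6.t_0_0.eq_1]
  try have : _root_.True := by simp only [_root_.Cfsg.Agent.H470.PiRad.TabE6.t_01235_0.eq_1]
  try have : _root_.True := by simp only [_root_.Cfsg.Agent.H470.PiRad.TabE8.t_0123_0.eq_1]
  try have : _root_.True := by simp only [_root_.Cfsg.Agent.H470.PiRad.TabE8.t_4567_7.eq_1]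
  try have : _root_.True := by simp only [_root_.Cfsg.Agent.H470.PiRad.TabTw.t_0_0.eq_1]
  try have : _root_.True := by simp only [_root_.Cfsg.Agent.H470.PiRad.TabTw.t_3_3.eq_1]
  try have : _root_.True := by simp only [_root_.Cfsg.Agent.H470.PiRad.TabE6.t_5_5.eq_1]
  try have : _root_.True := by simp only [_root_.Cfsg.Agent.H470.PiRad.TabE8.t_0123567_7.eq_1]
  try have : _root_.True := by simp only [_root_.Cfsg.Agent.H470.PiRad.Orb.S.eq_1]
  try have : _root_.True := by simp only [_root_.Cfsg.Agent.H470.PiRad.TabTw.t_1_1.eq_1]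
  try have : _root_.True := by simp only [_root_.Cfsg.Agent.H470.PiRad.TabE7.t_456_6.eq_1]
  try have : _root_.True := by simp only [_root_.Cfsg.Agent.H470.PiRad.TabE8.t_67_7.eq_1]
  try have : _root_.True := by simp only [_root_.Cfsg.Agent.H470.PiRad.TabTw.t_012_2.eq_1]
  try have : _root_.True := by simp only [_root_.Cfsg.Agent.H470.PiRad.TabE7.t_1234_1.eq_1]
  try have : _root_.True := by simp only [_root_.Cfsg.Agent.H470.PiRad.TabE7.t_012456_0.eq_1]
  try have : _root_.True := by simp only [_root_.Cfsg.Agent.H470.PiRad.TabTw.t_01_0.eq_1]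
  try have : _root_.True := by simp only [_root_.Cfsg.Agent.H470.PiRad.TabE6.t_01345_0.eq_1]
  try have : _root_.True := by simp only [_root_.Cfsg.Agent.H470.PiRad.TabTw.t_013_0.eq_1]
  try have : _root_.True := by simp only [_root_.Cfsg.Agent.H470.PiRad.TabE8.t_0123567_0.eq_1]
  try have : _root_.True := by simp only [_root_.Cfsg.Agent.H470.PiRad.TabF4.t_123_3.eq_1]
  try have : _root_.True := by simp only [_root_.Cfsg.Agent.H470.PiRad.TabE7.t_012356_6.eq_1]
  try have : _root_.True := by simp only [_root_.Cfsg.Agent.H470.PiRad.TabE8.t_01234_0.eq_1]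
  try have : _root_.True := by simp only [_root_.Cfsg.Agent.H470.PiRad.TabF4.t_012_0.eq_1]
  try have : _root_.True := by simp only [_root_.Cfsg.Agent.H470.PiRad.TabF4.t_013_3.eq_1]
  try have : _root_.True := by simp only [_root_.Cfsg.Agent.H470.PiRad.TabE7.t_012356_0.eq_1]
  try have : _root_.True := by simp only [_root_.Cfsg.Agent.H470.PiRad.TabE6.t_345_5.eq_1]
  try have : _root_.True := by simp only [_root_.Cfsg.Agent.H470.PiRad.TabTw.t_23_3.eq_1]
  try have : _root_.True := by simp only [_root_.Cfsg.Agent.H470.PiRad.TabE8.t_0134567_0.eq_1]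
  try have : _root_.True := by simp only [_root_.Cfsg.Agent.H470.PiRad.RowE8.L8.eq_1]
  try have : _root_.True := by simp only [_root_.Cfsg.Agent.H470.PiRad.TabE6.t_02345_5.eq_1]
  try have : _root_.True := by simp only [_root_.Cfsg.Agent.H470.PiRad.TabE8.t_34567_7.eq_1]
  try have : _root_.True := by simp only [_root_.Cfsg.Agent.H470.PiRad.TabF4.t_013_0.eq_1]
  try have : _root_.True := by simp only [_root_.Cfsg.Agent.H470.PiRad.TabE8.t_0124567_0.eq_1]
  try have : _root_.True := by simp only [_root_.Cfsg.Agent.H470.PiRad.TabF4.t_01_0.eq_1]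
  try have : _root_.True := by simp only [_root_.Cfsg.Agent.H470.PiRad.TabE8.t_1234_1.eq_1]
  exact _root_.True.intro
end

-- part: H470/PiRad/NRow
section
prune_inst 0x21601440374002000000859291003c76fe0005b2006b8801c9e00b420e816f6385022f60beb012121beaaaa5403f4048131800f9421000000a000200411d05a1802b5246937cad04760009809084000000000000000000000000000000010004200000000
set_option linter.all false
open scoped Cfsg.Agent.FastGrp

-- part: H470/PiRad/Diag
section
/-!
# S4324: diagram automorphisms induced by automorphisms of groups with a typed root group datum (helper470)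

* `exists_sigma` : every automorphism is `conj c * z`, `z` normalises `B` and permutes the minimal parabolic subgroups by a
  graph automorphism `σ` preserving the orders; `σ ^ p = 1` if `x ^ p = 1`;
* `tp_of_sigma` : type preserving if `σ = 1`;
* `wl`, `wl_sigma` : colours of the nodes; `tp_of_inj` : all automorphisms are type preserving if the colours are distinct;
* `flip_of_inj` : the case of a flip.
-/

set_option autoImplicit false
set_option linter.unusedSectionVars false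

namespace Cfsg.Agent.H470.PiRad.Mod

open Cfsg Subgroup Cfsg.Agent.H216.Pi Cfsg.Agent.H459.Gallery Cfsg.Agent.Schreier.BNSch
open Cfsg.Agent.H470.PiRad.CosetSys Cfsg.Agent.H470.PiRad.Par Cfsg.Agent.H470.PiRad.Orb
open CoxeterSystem Cfsg.Agent.ChevalleyStructure.CoxeterGeom Cfsg.Agent.Tits.Roots
  Cfsg.Agent.Nodes.Reps Cfsg.Agent.Nodes.BNOf Cfsg.Agent.Nodes.LeviDec Cfsg.Agent.Nodes.Bruhat
  Cfsg.Agent.KFacts.RgdCharP Cfsg.Agent.KFacts.RgdVJ
open Cfsg.Agent.H459.Iface (FixR)

variable {t q l : ℕ} {AL : List (List ℤ)} {cl : List ℕ} {M : CoxeterMatrix (Fin l)}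
    {A : Fin l → Fin l → ℤ} {h : IsCartan M A} {G : Type*} [Group G] {T : Subgroup G} {n : Fin l → G}
    {X : (Fin l → ℤ) → Subgroup G} (D : Dat t q AL cl h T n X)

/-- `z` normalises `B` and permutes the minimal parabolic subgroups by `σ` -/
def Dat.Sg (z : MulAut G) (σ : Equiv.Perm (Fin l)) : Prop :=
  Iv z D.bn.B ∧ ∀ i, (D.bn.parabolic {n i}).map z.toMonoidHom = D.bn.parabolic {n (σ i)}

theorem Dat.exists_sigma [Finite G] [IsSimpleGroup G] (ht : t.Prime) (hl : 0 < l) (x : MulAut G) :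
    ∃ (c : G) (σ : Equiv.Perm (Fin l)), D.Sg ((MulAut.conj c)⁻¹ * x) σ ∧
      (∀ i j, H580.Graph.Adj M (σ i) (σ j) ↔ H580.Graph.Adj M i j) ∧ ∀ p : ℕ, x ^ p = 1 → σ ^ p = 1 := by
  classical
  have := D.fin
  have : Fact t.Prime := ⟨ht⟩
  set P := D.bn with hP
  have hmS : ∀ i, n i ∈ P.S := fun i => ⟨i, rfl⟩
  have hne : P.S.Nonempty := ⟨n ⟨0, hl⟩, hmS _⟩
  have hcore := Cfsg.Agent.Tits.OfBN.normalCore_eq_bot P hne
  have hsplit := Cfsg.Agent.FixBN.SplitRGD.split_of_rgd Fact.out D.rgd D.hgen hcore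
  obtain ⟨U', hU'⟩ := Cfsg.Agent.H459.RgdRad.exists_sylow hsplit
  have hN : normalizer ((U' : Subgroup G) : Set G) = P.B := by rw [hU']; exact hsplit.normalizer_eq
  obtain ⟨m, -, hm⟩ := exists_conj_fix (P := P) U' hN (M := ⊤) le_top (y := x) (fun _ _ => mem_top _)
  have hz : (MulAut.conj m⁻¹)⁻¹ * x = MulAut.conj m * x := by rw [map_inv, inv_inv]
  have hadj : ∀ i j, i ≠ j → (H580.Graph.Adj M i j ↔ n i * n j * (n i)⁻¹ * (n j)⁻¹ ∉ P.B) :=
    fun i j hij => Cfsg.Agent.H459.RgdRad.adj_iff D.rgd hij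
  obtain ⟨σ, hσ1, hσ2⟩ := Cfsg.Agent.Schreier.BNGraph.exists_perm P n rfl D.rgd.n_injective (H580.Graph.Adj M)
    (fun i hi => hi.1 rfl) hadj (MulAut.conj m * x) hm.map_eq
  refine ⟨m⁻¹, σ, ?_, hσ2, ?_⟩
  · rw [hz]
    exact ⟨hm, hσ1⟩
  · intro p hxp
    set z := MulAut.conj m * x with hzd
    have hpow : ∀ (k : ℕ) (i : Fin l), (P.parabolic {n i}).map (z ^ k).toMonoidHom = P.parabolic {n ((σ ^ k) i)} := by
      intro k
      induction k with
      | zero =>
        intro i
        rw [pow_zero, pow_zero]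
        exact Subgroup.map_id _
      | succ k ih =>
        intro i
        have e2 : (z ^ (k + 1)).toMonoidHom = (z ^ k).toMonoidHom.comp z.toMonoidHom := by
          rw [pow_succ]; rfl
        rw [e2, ← Subgroup.map_map, hσ1, ih, pow_succ]
        rfl
    obtain ⟨k, -, hk⟩ := conj_mul_pow m x (M := ⊤) (mem_top _) (fun _ _ => mem_top _) p
    rw [hxp, mul_one, ← hzd] at hk
    have hkB : k ∈ P.B := by
      refine mem_B_of_conj (P := P) fun b hb => ?_
      have hzp : ∀ j : ℕ, Iv (z ^ j) P.B := by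
        intro j
        induction j with
        | zero => intro a ha; exact ha
        | succ j ih =>
          intro a ha
          rw [pow_succ, MulAut.mul_apply]
          exact ih _ (hm a ha)
      have h1 := hzp p b hb
      rwa [hk] at h1
    ext i
    have h6 := hpow p i
    rw [hk] at h6
    have h7 : P.parabolic {n i} = P.parabolic {n ((σ ^ p) i)} := by
      rw [← h6]
      exact (Subgroup.mem_normalizer_iff_map_conj_eq.1 (le_normalizer (B_le_parabolic P _ hkB))).symm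
    have hsS : ∀ i, ({n i} : Set G) ⊆ P.S := fun i => Set.singleton_subset_iff.mpr (hmS i)
    have h8 := Cfsg.Agent.S0314.result P (hsS _) (hsS _) h7
    exact congrArg Fin.val (D.rgd.n_injective (Set.singleton_eq_singleton_iff.mp h8)).symm

theorem Dat.tp_of_sigma [Finite G] {x : MulAut G} {c : G} (hz : D.Sg ((MulAut.conj c)⁻¹ * x) 1) : TP D.bn x := by
  refine ⟨c, hz.1, ?_⟩
  rintro _ ⟨i, rfl⟩
  exact iv_of_map_eq (hz.2 i)

/-- colours of the nodes -/
def wl (M : CoxeterMatrix (Fin l)) (f : Fin l → ℕ) : ℕ → Fin l → ℕ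
  | 0, i => f i
  | k + 1, i => 10 * wl M f k i + ∑ j, if i ≠ j ∧ M i j ≠ 2 then wl M f k j else 0

theorem wl_sigma {σ : Equiv.Perm (Fin l)} (hσ : ∀ i j, H580.Graph.Adj M (σ i) (σ j) ↔ H580.Graph.Adj M i j)
    {f : Fin l → ℕ} (hf : ∀ i, f (σ i) = f i) : ∀ (k : ℕ) (i : Fin l), wl M f k (σ i) = wl M f k i
  | 0, i => hf i
  | k + 1, i => by
    have ih := wl_sigma hσ hf k
    show 10 * wl M f k (σ i) + (∑ j, if σ i ≠ j ∧ M (σ i) j ≠ 2 then wl M f k j else 0) = _
    rw [ih, ← Equiv.sum_comp σ (fun j => if σ i ≠ j ∧ M (σ i) j ≠ 2 then wl M f k j else 0)]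
    show _ = 10 * wl M f k i + ∑ j, if i ≠ j ∧ M i j ≠ 2 then wl M f k j else 0
    congr 1
    refine Finset.sum_congr rfl fun j _ => ?_
    rw [ih]
    have h1 : (σ i ≠ σ j ∧ M (σ i) (σ j) ≠ 2) ↔ (i ≠ j ∧ M i j ≠ 2) := hσ i j
    by_cases h2 : i ≠ j ∧ M i j ≠ 2
    · rw [if_pos h2, if_pos (h1.2 h2)]
    · rw [if_neg h2, if_neg (fun h3 => h2 (h1.1 h3))]

/-- **all automorphisms are type preserving** if the colours are distinct -/
theorem Dat.tp_of_inj [Finite G] [IsSimpleGroup G] (ht : t.Prime) (hl : 0 < l) (k : ℕ)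
    (hinj : ∀ i j, wl M (fun _ => 1) k i = wl M (fun _ => 1) k j → i = j) (x : MulAut G) : TP D.bn x := by
  obtain ⟨c, σ, h1, h2, -⟩ := D.exists_sigma ht hl x
  have h3 : σ = 1 := by
    ext i
    exact congrArg Fin.val (hinj _ _ (wl_sigma h2 (fun _ => rfl) k i))
  subst h3
  exact D.tp_of_sigma h1

/-- orders are preserved -/
theorem Dat.cl_sigma [Finite G] (hq : 1 < q) {z : MulAut G} {σ : Equiv.Perm (Fin l)} (hz : D.Sg z σ)
    (hidx : ∀ i : Fin l, D.bn.B.relIndex (D.bn.parabolic {n i}) = 1 + q ^ cl.getD i 0) (i : Fin l) :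
    cl.getD (σ i) 0 = cl.getD i 0 := by
  have h1 : D.bn.B.relIndex (D.bn.parabolic {n (σ i)}) = D.bn.B.relIndex (D.bn.parabolic {n i}) := by
    have h2 := hz.1.map_eq
    conv_lhs => rw [← hz.2 i, ← h2]
    exact Subgroup.relIndex_map_map_of_injective _ _ z.injective
  rw [hidx, hidx] at h1
  exact Nat.pow_right_injective hq (by simpa using h1)

theorem Dat.tp_of_inj' [Finite G] [IsSimpleGroup G] (ht : t.Prime) (hl : 0 < l) (hq : 1 < q)
    (hidx : ∀ i : Fin l, D.bn.B.relIndex (D.bn.parabolic {n i}) = 1 + q ^ cl.getD i 0) (k : ℕ)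
    (hinj : ∀ i j, wl M (fun i => cl.getD i 0) k i = wl M (fun i => cl.getD i 0) k j → i = j) (x : MulAut G) :
    TP D.bn x := by
  obtain ⟨c, σ, h1, h2, -⟩ := D.exists_sigma ht hl x
  have h3 : σ = 1 := by
    ext i
    exact congrArg Fin.val (hinj _ _ (wl_sigma h2 (D.cl_sigma hq h1 hidx) k i))
  subst h3
  exact D.tp_of_sigma h1

/-- **one nontrivial diagram automorphism** -/
theorem Dat.flip_of_inj [Finite G] [IsSimpleGroup G] (ht : t.Prime) (hl : 0 < l) (k : ℕ) (τ : Fin l → Fin l)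
    (hinj : ∀ i j, wl M (fun _ => 1) k i = wl M (fun _ => 1) k j → j = i ∨ j = τ i)
    (x : MulAut G) : TP D.bn x ∨ ∃ (c : G) (σ : Equiv.Perm (Fin l)), D.Sg ((MulAut.conj c)⁻¹ * x) σ ∧
      (∀ i j, H580.Graph.Adj M (σ i) (σ j) ↔ H580.Graph.Adj M i j) ∧ (∀ i, σ i = i ∨ σ i = τ i) ∧ σ ≠ 1 ∧
      ∀ p : ℕ, x ^ p = 1 → σ ^ p = 1 := by
  obtain ⟨c, σ, h1, h2, h3⟩ := D.exists_sigma ht hl x
  by_cases h4 : σ = 1
  · left
    subst h4
    exact D.tp_of_sigma h1
  · exact Or.inr ⟨c, σ, h1, h2, fun i => hinj _ _ (wl_sigma h2 (fun _ => rfl) k i).symm, h4, h3⟩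

omit D in
theorem sq_of_flip {σ : Equiv.Perm (Fin l)} {τ : Fin l → Fin l} (hτ : ∀ i, τ (τ i) = i)
    (h : ∀ i, σ i = i ∨ σ i = τ i) : σ ^ 2 = 1 := by
  ext i
  rw [pow_two, Equiv.Perm.mul_apply, Equiv.Perm.one_apply]
  congr 1
  rcases h i with h1 | h1
  · rw [h1, h1]
  · by_cases h2 : τ i = i
    · rw [h1, h2, h1, h2]
    · rw [h1]
      rcases h (τ i) with h3 | h3
      · exfalso
        apply h2
        exact σ.injective (h3.trans h1.symm)
      · rw [h3, hτ]

end Cfsg.Agent.H470.PiRad.Mod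
end

-- part: H470/PiRad/RowE7
section
/-!
# S4324: `E₇(q)`, the primes `s` with `ord_s(q) ∈ {1, 2, 3, 4, 6}`: fixed chambers (helper470)

* `core` : `F (univ \ {k}) → F ∅`; `eq_one_of_empty` : the conclusion.
-/

set_option autoImplicit false
set_option linter.unusedSectionVars false

namespace Cfsg.Agent.H470.PiRad.RowE7

open Cfsg Subgroup Cfsg.Agent.H216.Pi Cfsg.Agent.H470.PiRad.Mod Cfsg.Agent.H470.PiRad.Orb Cfsg.Agent.H470.PiRad.TabE7
open Cfsg.Agent.ChevalleyStructure.CoxeterGeom Cfsg.Agent.H470.PiRad.CosetSys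

variable {t q s : ℕ}
    {A : Fin 7 → Fin 7 → ℤ} {h : IsCartan CoxeterMatrix.E₇ A} {G : Type*} [Group G] [Finite G] [IsSimpleGroup G]
    {T : Subgroup G} {n : Fin 7 → G} {X : (Fin 7 → ℤ) → Subgroup G} (D : Dat t q AL cl h T n X)

/-- the orders of `q` modulo `s` -/
def L6 : Finset ℕ := {1, 2, 3, 4, 6}

section Kills

variable (ht : t.Prime) (hs : s.Prime) (hs3 : 3 ≤ s) (hst : s ≠ t) (hq : 1 ≤ q)

include hs hs3 hst hq ht

theorem k_0 {e : ℕ} (he : orderOf (q : ZMod s) = e) (h0 : e ∈ L6) : D.K s (Finset.univ.erase 0) := by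
  simp only [L6, Finset.mem_insert, Finset.mem_singleton] at h0
  rcases h0 with rfl | rfl | rfl | rfl | rfl
  · exact (D.kt ht hs hs3 hst (Num.dvd_sub_one hs hq he) 6 rfl).mono (by decide)
  · exact (D.kk hs (by decide) (rel_6_6 D) (Num.g2 hs he)).mono (by decide)
  · exact (D.kk hs (by decide) (rel_56_6 D) (Num.g3 hs he)).mono (by decide)
  · exact (D.kk hs (by decide) (rel_456_6 D) (Num.g4 hs he)).mono (by decide)
  · exact (D.kk hs (by decide) (rel_23456_6 D) (Num.g6 hs he)).mono (by decide)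

theorem k_1 {e : ℕ} (he : orderOf (q : ZMod s) = e) (h0 : e ∈ L6) : D.K s (Finset.univ.erase 1) := by
  simp only [L6, Finset.mem_insert, Finset.mem_singleton] at h0
  rcases h0 with rfl | rfl | rfl | rfl | rfl
  · exact (D.kt ht hs hs3 hst (Num.dvd_sub_one hs hq he) 6 rfl).mono (by decide)
  · exact (D.kk hs (by decide) (rel_6_6 D) (Num.g2 hs he)).mono (by decide)
  · exact (D.kk hs (by decide) (rel_56_6 D) (Num.g3 hs he)).mono (by decide)
  · exact (D.kk hs (by decide) (rel_456_6 D) (Num.g4 hs he)).mono (by decide)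
  · exact (D.kk hs (by decide) (rel_23456_6 D) (Num.g6 hs he)).mono (by decide)

theorem k_6 {e : ℕ} (he : orderOf (q : ZMod s) = e) (h0 : e ∈ L6) : D.K s (Finset.univ.erase 6) := by
  simp only [L6, Finset.mem_insert, Finset.mem_singleton] at h0
  rcases h0 with rfl | rfl | rfl | rfl | rfl
  · exact (D.kt ht hs hs3 hst (Num.dvd_sub_one hs hq he) 0 rfl).mono (by decide)
  · exact (D.kk hs (by decide) (rel_0_0 D) (Num.g2 hs he)).mono (by decide)
  · exact (D.kk hs (by decide) (rel_02_0 D) (Num.g3 hs he)).mono (by decide)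
  · exact (D.kk hs (by decide) (rel_023_0 D) (Num.g4 hs he)).mono (by decide)
  · exact (D.kk hs (by decide) (rel_02345_0 D) (Num.g6 hs he)).mono (by decide)

theorem k_2 {e : ℕ} (he : orderOf (q : ZMod s) = e) (h0 : e ∈ L6) : D.K s {1, 3, 4, 5, 6} := by
  simp only [L6, Finset.mem_insert, Finset.mem_singleton] at h0
  rcases h0 with rfl | rfl | rfl | rfl | rfl
  · exact (D.kt ht hs hs3 hst (Num.dvd_sub_one hs hq he) 6 rfl).mono (by decide)
  · exact (D.kk hs (by decide) (rel_6_6 D) (Num.g2 hs he)).mono (by decide)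
  · exact (D.kk hs (by decide) (rel_56_6 D) (Num.g3 hs he)).mono (by decide)
  · exact (D.kk hs (by decide) (rel_456_6 D) (Num.g4 hs he)).mono (by decide)
  · exact (D.kk hs (by decide) (rel_13456_6 D) (Num.g6 hs he)).mono (by decide)

theorem k_5 {e : ℕ} (he : orderOf (q : ZMod s) = e) (h0 : e ∈ L6) : D.K s {0, 1, 2, 3, 4} := by
  simp only [L6, Finset.mem_insert, Finset.mem_singleton] at h0
  rcases h0 with rfl | rfl | rfl | rfl | rfl
  · exact (D.kt ht hs hs3 hst (Num.dvd_sub_one hs hq he) 0 rfl).mono (by decide)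
  · exact (D.kk hs (by decide) (rel_0_0 D) (Num.g2 hs he)).mono (by decide)
  · exact (D.kk hs (by decide) (rel_02_0 D) (Num.g3 hs he)).mono (by decide)
  · exact (D.kk hs (by decide) (rel_023_0 D) (Num.g4 hs he)).mono (by decide)
  · exact (D.kk hs (by decide) (rel_1234_1 D) (Dvd.dvd.mul_right (Num.c6 hs he) _)).mono (by decide)

theorem k_right {e : ℕ} (he : orderOf (q : ZMod s) = e) (h0 : 1 ≤ e) (h4 : e ≤ 4) : D.K s {4, 5, 6} := by
  interval_cases e
  · exact (D.kt ht hs hs3 hst (Num.dvd_sub_one hs hq he) 6 rfl).mono (by decide)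
  · exact (D.kk hs (by decide) (rel_6_6 D) (Num.g2 hs he)).mono (by decide)
  · exact (D.kk hs (by decide) (rel_56_6 D) (Num.g3 hs he)).mono (by decide)
  · exact D.kk hs (by decide) (rel_456_6 D) (Num.g4 hs he)

theorem k_left {e : ℕ} (he : orderOf (q : ZMod s) = e) (h0 : 1 ≤ e) (h4 : e ≤ 4) : D.K s {0, 1, 2, 3} := by
  interval_cases e
  · exact (D.kt ht hs hs3 hst (Num.dvd_sub_one hs hq he) 0 rfl).mono (by decide)
  · exact (D.kk hs (by decide) (rel_0_0 D) (Num.g2 hs he)).mono (by decide)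
  · exact (D.kk hs (by decide) (rel_02_0 D) (Num.g3 hs he)).mono (by decide)
  · exact (D.kk hs (by decide) (rel_023_0 D) (Num.g4 hs he)).mono (by decide)

end Kills

theorem c_0 : D.C (Finset.univ.erase 0) := D.cc [2, 1, 3, 4, 5, 6] (by decide) (by decide)
theorem c_1 : D.C (Finset.univ.erase 1) := D.cc [0, 2, 3, 4, 5, 6] (by decide) (by decide)
theorem c_6 : D.C (Finset.univ.erase 6) := D.cc [0, 2, 1, 3, 4, 5] (by decide) (by decide)

variable (ht : t.Prime) (hs : s.Prime) (hs3 : 3 ≤ s) (hst : s ≠ t) (hq : 1 ≤ q) {e : ℕ}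
  (he : orderOf (q : ZMod s) = e) (h0 : e ∈ L6) {x : MulAut G} {p : ℕ} (hp : p.Prime) (hxp : x ^ p = 1)
  (hTP : TP D.bn x) (hPC : PC s x)

include ht hs hs3 hst hq he h0 hTP hPC

theorem leaf0 {J : Finset (Fin 7)} (hx : D.F x J) (hJ : 0 ∉ J) : D.F x ∅ := by
  have h1 : D.F x (Finset.univ.erase 0) :=
    hx.up hTP (fun j hj => Finset.mem_erase.2 ⟨fun h2 => hJ (h2 ▸ hj), Finset.mem_univ _⟩)
  exact h1.dn hPC (by decide) (le_refl _) (c_0 D) (k_0 D ht hs hs3 hst hq he h0) (by decide)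

theorem leaf6 {J : Finset (Fin 7)} (hx : D.F x J) (hJ : 6 ∉ J) : D.F x ∅ := by
  have h1 : D.F x (Finset.univ.erase 6) :=
    hx.up hTP (fun j hj => Finset.mem_erase.2 ⟨fun h2 => hJ (h2 ▸ hj), Finset.mem_univ _⟩)
  exact h1.dn hPC (by decide) (le_refl _) (c_6 D) (k_6 D ht hs hs3 hst hq he h0) (by decide)

/-- the conclusion -/
theorem eq_one_of_empty (hx : D.F x ∅) : x = 1 :=
  D.eq_one hPC hTP hx (a := 0) (b := 6) (by decide) (c_0 D) (k_0 D ht hs hs3 hst hq he h0) (c_6 D)
    (k_6 D ht hs hs3 hst hq he h0)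

include hp hxp

/-- **fixed chambers** -/
theorem core {k : Fin 7} (hx : D.F x (Finset.univ.erase k)) : D.F x ∅ := by
  have hmem : e = 1 ∨ e = 2 ∨ e = 3 ∨ e = 4 ∨ e = 6 := by
    simpa [L6] using h0
  have l0 : ∀ {J : Finset (Fin 7)}, D.F x J → 0 ∉ J → D.F x ∅ := fun h1 h2 => leaf0 D ht hs hs3 hst hq he h0 hTP hPC h1 h2
  have l6 : ∀ {J : Finset (Fin 7)}, D.F x J → 6 ∉ J → D.F x ∅ := fun h1 h2 => leaf6 D ht hs hs3 hst hq he h0 hTP hPC h1 h2
  fin_cases k
  · exact l0 hx (by decide)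
  · -- `k = 1`
    exact hx.dn hPC (by decide) (le_refl _) (c_1 D) (k_1 D ht hs hs3 hst hq he h0) (by decide)
  · -- `k = 2`
    change D.F x (Finset.univ.erase 2) at hx
    exact l6 (hx.dn hPC (by decide) (B := {1, 3, 4, 5, 6}) (by decide) (D.cc [1, 3, 4, 5, 6] (by decide) (by decide))
      (k_2 D ht hs hs3 hst hq he h0) (L := {0}) (by decide)) (by decide)
  · -- `k = 3`
    change D.F x (Finset.univ.erase 3) at hx
    have h1 : (Finset.univ.erase 3 : Finset (Fin 7)) = {0, 1, 2, 4, 5, 6} := by decide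
    rw [h1] at hx
    by_cases h5 : e ≤ 4
    · exact l6 (hx.dn hPC (by decide) (by decide) (D.cc [4, 5, 6] (by decide) (by decide))
        (k_right D ht hs hs3 hst hq he (by omega) h5) (L := {0, 1, 2}) (by decide)) (by decide)
    · rcases hx.two hp hxp hTP (by decide) (by decide) (rel_012456_0 D) (rel_012456_6 D) (cop_3 q) with h2 | h2
      · exact l0 h2 (by decide)
      · exact l6 h2 (by decide)
  · -- `k = 4`
    change D.F x (Finset.univ.erase 4) at hx
    have h1 : (Finset.univ.erase 4 : Finset (Fin 7)) = {0, 1, 2, 3, 5, 6} := by decide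
    rw [h1] at hx
    by_cases h5 : e ≤ 4
    · exact l0 (hx.dn hPC (by decide) (by decide) (D.cc [0, 2, 1, 3] (by decide) (by decide))
        (k_left D ht hs hs3 hst hq he (by omega) h5) (L := {5, 6}) (by decide)) (by decide)
    · rcases hx.two hp hxp hTP (by decide) (by decide) (rel_012356_0 D) (rel_012356_6 D) (cop_4 q) with h2 | h2
      · exact l0 h2 (by decide)
      · exact l6 h2 (by decide)
  · -- `k = 5`
    change D.F x (Finset.univ.erase 5) at hx
    exact l0 (hx.dn hPC (by decide) (B := {0, 1, 2, 3, 4}) (by decide) (D.cc [0, 2, 1, 3, 4] (by decide) (by decide))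
      (k_5 D ht hs hs3 hst hq he h0) (L := {6}) (by decide)) (by decide)
  · exact l6 hx (by decide)

end Cfsg.Agent.H470.PiRad.RowE7
end

-- part: H470/PiRad/RowE6
section
/-!
# S4324: `E₆(q)`, the primes `s` with `ord_s(q) ∈ {1, 2, 3, 4, 6}`: fixed chambers (helper470)

* `core` : `F (univ \ {k}) → F ∅`; `eq_one_of_empty` : the conclusion.
-/

set_option autoImplicit false
set_option linter.unusedSectionVars false

namespace Cfsg.Agent.H470.PiRad.RowE6

open Cfsg Subgroup Cfsg.Agent.H216.Pi Cfsg.Agent.H470.PiRad.Mod Cfsg.Agent.H470.PiRad.Orb Cfsg.Agent.H470.PiRad.TabE6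
open Cfsg.Agent.ChevalleyStructure.CoxeterGeom Cfsg.Agent.H470.PiRad.CosetSys

variable {t q s : ℕ}
    {A : Fin 6 → Fin 6 → ℤ} {h : IsCartan CoxeterMatrix.E₆ A} {G : Type*} [Group G] [Finite G] [IsSimpleGroup G]
    {T : Subgroup G} {n : Fin 6 → G} {X : (Fin 6 → ℤ) → Subgroup G} (D : Dat t q AL cl h T n X)

/-- the orders of `q` modulo `s` -/
def L6 : Finset ℕ := {1, 2, 3, 4, 6}

section Kills

variable (ht : t.Prime) (hs : s.Prime) (hs3 : 3 ≤ s) (hst : s ≠ t) (hq : 1 ≤ q)

include hs hs3 hst hq ht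

theorem k_0 {e : ℕ} (he : orderOf (q : ZMod s) = e) (h0 : e ∈ L6) : D.K s (Finset.univ.erase 0) := by
  simp only [L6, Finset.mem_insert, Finset.mem_singleton] at h0
  rcases h0 with rfl | rfl | rfl | rfl | rfl
  · exact (D.kt ht hs hs3 hst (Num.dvd_sub_one hs hq he) 5 rfl).mono (by decide)
  · exact (D.kk hs (by decide) (rel_5_5 D) (Num.g2 hs he)).mono (by decide)
  · exact (D.kk hs (by decide) (rel_45_5 D) (Num.g3 hs he)).mono (by decide)
  · exact (D.kk hs (by decide) (rel_345_5 D) (Num.g4 hs he)).mono (by decide)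
  · exact (D.kk hs (by decide) (rel_1234_1 D) (Dvd.dvd.mul_right (Num.c6 hs he) _)).mono (by decide)

theorem k_5 {e : ℕ} (he : orderOf (q : ZMod s) = e) (h0 : e ∈ L6) : D.K s (Finset.univ.erase 5) := by
  simp only [L6, Finset.mem_insert, Finset.mem_singleton] at h0
  rcases h0 with rfl | rfl | rfl | rfl | rfl
  · exact (D.kt ht hs hs3 hst (Num.dvd_sub_one hs hq he) 0 rfl).mono (by decide)
  · exact (D.kk hs (by decide) (rel_0_0 D) (Num.g2 hs he)).mono (by decide)
  · exact (D.kk hs (by decide) (rel_02_0 D) (Num.g3 hs he)).mono (by decide)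
  · exact (D.kk hs (by decide) (rel_023_0 D) (Num.g4 hs he)).mono (by decide)
  · exact (D.kk hs (by decide) (rel_1234_1 D) (Dvd.dvd.mul_right (Num.c6 hs he) _)).mono (by decide)

theorem k_1 {e : ℕ} (he : orderOf (q : ZMod s) = e) (h0 : e ∈ L6) : D.K s (Finset.univ.erase 1) := by
  simp only [L6, Finset.mem_insert, Finset.mem_singleton] at h0
  rcases h0 with rfl | rfl | rfl | rfl | rfl
  · exact (D.kt ht hs hs3 hst (Num.dvd_sub_one hs hq he) 5 rfl).mono (by decide)
  · exact (D.kk hs (by decide) (rel_5_5 D) (Num.g2 hs he)).mono (by decide)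
  · exact (D.kk hs (by decide) (rel_45_5 D) (Num.g3 hs he)).mono (by decide)
  · exact (D.kk hs (by decide) (rel_345_5 D) (Num.g4 hs he)).mono (by decide)
  · exact (D.kk hs (by decide) (rel_02345_5 D) (Num.g6 hs he)).mono (by decide)

theorem k_r4 {e : ℕ} (he : orderOf (q : ZMod s) = e) (h0 : 1 ≤ e) (h4 : e ≤ 4) : D.K s {3, 4, 5} := by
  interval_cases e
  · exact (D.kt ht hs hs3 hst (Num.dvd_sub_one hs hq he) 5 rfl).mono (by decide)
  · exact (D.kk hs (by decide) (rel_5_5 D) (Num.g2 hs he)).mono (by decide)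
  · exact (D.kk hs (by decide) (rel_45_5 D) (Num.g3 hs he)).mono (by decide)
  · exact D.kk hs (by decide) (rel_345_5 D) (Num.g4 hs he)

theorem k_r3 {e : ℕ} (he : orderOf (q : ZMod s) = e) (h0 : 1 ≤ e) (h4 : e ≤ 3) : D.K s {4, 5} := by
  interval_cases e
  · exact (D.kt ht hs hs3 hst (Num.dvd_sub_one hs hq he) 5 rfl).mono (by decide)
  · exact (D.kk hs (by decide) (rel_5_5 D) (Num.g2 hs he)).mono (by decide)
  · exact (D.kk hs (by decide) (rel_45_5 D) (Num.g3 hs he)).mono (by decide)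

theorem k_l4 {e : ℕ} (he : orderOf (q : ZMod s) = e) (h0 : 1 ≤ e) (h4 : e ≤ 4) : D.K s {0, 2, 3} := by
  interval_cases e
  · exact (D.kt ht hs hs3 hst (Num.dvd_sub_one hs hq he) 0 rfl).mono (by decide)
  · exact (D.kk hs (by decide) (rel_0_0 D) (Num.g2 hs he)).mono (by decide)
  · exact (D.kk hs (by decide) (rel_02_0 D) (Num.g3 hs he)).mono (by decide)
  · exact (D.kk hs (by decide) (rel_023_0 D) (Num.g4 hs he)).mono (by decide)

end Kills

theorem c_0 : D.C (Finset.univ.erase 0) := D.cc [2, 1, 3, 4, 5] (by decide) (by decide)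
theorem c_1 : D.C (Finset.univ.erase 1) := D.cc [0, 2, 3, 4, 5] (by decide) (by decide)
theorem c_5 : D.C (Finset.univ.erase 5) := D.cc [0, 2, 1, 3, 4] (by decide) (by decide)

variable (ht : t.Prime) (hs : s.Prime) (hs3 : 3 ≤ s) (hst : s ≠ t) (hq : 1 ≤ q) {e : ℕ}
  (he : orderOf (q : ZMod s) = e) (h0 : e ∈ L6) {x : MulAut G} {p : ℕ} (hp : p.Prime) (hxp : x ^ p = 1)
  (hTP : TP D.bn x) (hPC : PC s x)

include ht hs hs3 hst hq he h0 hTP hPC

theorem leaf0 {J : Finset (Fin 6)} (hx : D.F x J) (hJ : 0 ∉ J) : D.F x ∅ := by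
  have h1 : D.F x (Finset.univ.erase 0) :=
    hx.up hTP (fun j hj => Finset.mem_erase.2 ⟨fun h2 => hJ (h2 ▸ hj), Finset.mem_univ _⟩)
  exact h1.dn hPC (by decide) (le_refl _) (c_0 D) (k_0 D ht hs hs3 hst hq he h0) (by decide)

theorem leaf5 {J : Finset (Fin 6)} (hx : D.F x J) (hJ : 5 ∉ J) : D.F x ∅ := by
  have h1 : D.F x (Finset.univ.erase 5) :=
    hx.up hTP (fun j hj => Finset.mem_erase.2 ⟨fun h2 => hJ (h2 ▸ hj), Finset.mem_univ _⟩)
  exact h1.dn hPC (by decide) (le_refl _) (c_5 D) (k_5 D ht hs hs3 hst hq he h0) (by decide)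

theorem leaf1 {J : Finset (Fin 6)} (hx : D.F x J) (hJ : 1 ∉ J) : D.F x ∅ := by
  have h1 : D.F x (Finset.univ.erase 1) :=
    hx.up hTP (fun j hj => Finset.mem_erase.2 ⟨fun h2 => hJ (h2 ▸ hj), Finset.mem_univ _⟩)
  exact h1.dn hPC (by decide) (le_refl _) (c_1 D) (k_1 D ht hs hs3 hst hq he h0) (by decide)

/-- the conclusion -/
theorem eq_one_of_empty (hx : D.F x ∅) : x = 1 :=
  D.eq_one hPC hTP hx (a := 0) (b := 5) (by decide) (c_0 D) (k_0 D ht hs hs3 hst hq he h0) (c_5 D)
    (k_5 D ht hs hs3 hst hq he h0)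

include hp hxp

/-- **fixed chambers** -/
theorem core {k : Fin 6} (hx : D.F x (Finset.univ.erase k)) : D.F x ∅ := by
  have hmem : e = 1 ∨ e = 2 ∨ e = 3 ∨ e = 4 ∨ e = 6 := by
    simpa [L6] using h0
  have l0 : ∀ {J : Finset (Fin 6)}, D.F x J → 0 ∉ J → D.F x ∅ := fun h1 h2 => leaf0 D ht hs hs3 hst hq he h0 hTP hPC h1 h2
  have l1 : ∀ {J : Finset (Fin 6)}, D.F x J → 1 ∉ J → D.F x ∅ := fun h1 h2 => leaf1 D ht hs hs3 hst hq he h0 hTP hPC h1 h2
  have l5 : ∀ {J : Finset (Fin 6)}, D.F x J → 5 ∉ J → D.F x ∅ := fun h1 h2 => leaf5 D ht hs hs3 hst hq he h0 hTP hPC h1 h2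
  fin_cases k
  · exact l0 hx (by decide)
  · exact l1 hx (by decide)
  · -- `k = 2`
    change D.F x (Finset.univ.erase 2) at hx
    have h1 : (Finset.univ.erase 2 : Finset (Fin 6)) = {0, 1, 3, 4, 5} := by decide
    rw [h1] at hx
    by_cases h5 : e ≤ 4
    · exact l5 (hx.dn hPC (by decide) (B := {1, 3, 4, 5}) (by decide) (D.cc [1, 3, 4, 5] (by decide) (by decide))
        ((k_r4 D ht hs hs3 hst hq he (by omega) h5).mono (by decide)) (L := {0}) (by decide)) (by decide)
    · rcases hx.two hp hxp hTP (by decide) (by decide) (rel_01345_0 D) (rel_01345_5 D) (cop_2 q) with h2 | h2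
      · exact l0 h2 (by decide)
      · exact l5 h2 (by decide)
  · -- `k = 3`
    change D.F x (Finset.univ.erase 3) at hx
    have h1 : (Finset.univ.erase 3 : Finset (Fin 6)) = {0, 1, 2, 4, 5} := by decide
    rw [h1] at hx
    by_cases h5 : e ≤ 3
    · exact l5 (hx.dn hPC (by decide) (by decide) (D.cc [4, 5] (by decide) (by decide))
        (k_r3 D ht hs hs3 hst hq he (by omega) h5) (L := {0, 1, 2}) (by decide)) (by decide)
    · rcases hx.two hp hxp hTP (by decide) (by decide) (rel_01245_1 D) (rel_01245_0 D) (cop_3 q) with h2 | h2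
      · exact l1 h2 (by decide)
      · exact l0 h2 (by decide)
  · -- `k = 4`
    change D.F x (Finset.univ.erase 4) at hx
    have h1 : (Finset.univ.erase 4 : Finset (Fin 6)) = {0, 1, 2, 3, 5} := by decide
    rw [h1] at hx
    by_cases h5 : e ≤ 4
    · exact l0 (hx.dn hPC (by decide) (B := {0, 1, 2, 3}) (by decide) (D.cc [0, 2, 1, 3] (by decide) (by decide))
        ((k_l4 D ht hs hs3 hst hq he (by omega) h5).mono (by decide)) (L := {5}) (by decide)) (by decide)
    · rcases hx.two hp hxp hTP (by decide) (by decide) (rel_01235_0 D) (rel_01235_5 D) (cop_4 q) with h2 | h2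
      · exact l0 h2 (by decide)
      · exact l5 h2 (by decide)
  · exact l5 hx (by decide)

end Cfsg.Agent.H470.PiRad.RowE6
end

-- part: H470/PiRad/RowF4
section
/-!
# S4324: `F₄(q)`, the primes `s` with `ord_s(q) ∈ {1, 2, 3, 4, 6}`: fixed chambers (helper470)

* `core` : `F (univ \ {k}) → F ∅`; `eq_one_of_empty` : the conclusion.
-/

set_option autoImplicit false
set_option linter.unusedSectionVars false

namespace Cfsg.Agent.H470.PiRad.RowF4

open Cfsg Subgroup Cfsg.Agent.H216.Pi Cfsg.Agent.H470.PiRad.Mod Cfsg.Agent.H470.PiRad.Orb Cfsg.Agent.H470.PiRad.TabF4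
open Cfsg.Agent.ChevalleyStructure.CoxeterGeom Cfsg.Agent.H470.PiRad.CosetSys

variable {t q s : ℕ}
    {A : Fin 4 → Fin 4 → ℤ} {h : IsCartan CoxeterMatrix.F₄ A} {G : Type*} [Group G] [Finite G] [IsSimpleGroup G]
    {T : Subgroup G} {n : Fin 4 → G} {X : (Fin 4 → ℤ) → Subgroup G} (D : Dat t q AL cl h T n X)

/-- the orders of `q` modulo `s` -/
def L6 : Finset ℕ := {1, 2, 3, 4, 6}

section Kills

variable (ht : t.Prime) (hs : s.Prime) (hs3 : 3 ≤ s) (hst : s ≠ t) (hq : 1 ≤ q)

include hs hs3 hst hq ht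

theorem k_0 {e : ℕ} (he : orderOf (q : ZMod s) = e) (h0 : e ∈ L6) : D.K s (Finset.univ.erase 0) := by
  simp only [L6, Finset.mem_insert, Finset.mem_singleton] at h0
  rcases h0 with rfl | rfl | rfl | rfl | rfl
  · exact (D.kt ht hs hs3 hst (Num.dvd_sub_one hs hq he) 1 rfl).mono (by decide)
  · exact (D.kk hs (by decide) (rel_3_3 D) (Num.g2 hs he)).mono (by decide)
  · exact (D.kk hs (by decide) (rel_23_3 D) (Num.g3 hs he)).mono (by decide)
  · exact (D.kk hs (by decide) (rel_12_1 D) (Num.g4 hs he)).mono (by decide)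
  · exact (D.kk hs (by decide) (rel_123_3 D) (Num.g6 hs he)).mono (by decide)

theorem k_3 {e : ℕ} (he : orderOf (q : ZMod s) = e) (h0 : e ∈ L6) : D.K s (Finset.univ.erase 3) := by
  simp only [L6, Finset.mem_insert, Finset.mem_singleton] at h0
  rcases h0 with rfl | rfl | rfl | rfl | rfl
  · exact (D.kt ht hs hs3 hst (Num.dvd_sub_one hs hq he) 0 rfl).mono (by decide)
  · exact (D.kk hs (by decide) (rel_0_0 D) (Num.g2 hs he)).mono (by decide)
  · exact (D.kk hs (by decide) (rel_01_0 D) (Num.g3 hs he)).mono (by decide)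
  · exact (D.kk hs (by decide) (rel_12_1 D) (Num.g4 hs he)).mono (by decide)
  · exact (D.kk hs (by decide) (rel_012_0 D) (Num.g6 hs he)).mono (by decide)

theorem k_r {e : ℕ} (he : orderOf (q : ZMod s) = e) (h0 : 1 ≤ e) (h4 : e ≤ 3) : D.K s {2, 3} := by
  interval_cases e
  · exact (D.kt ht hs hs3 hst (Num.dvd_sub_one hs hq he) 3 rfl).mono (by decide)
  · exact (D.kk hs (by decide) (rel_3_3 D) (Num.g2 hs he)).mono (by decide)
  · exact (D.kk hs (by decide) (rel_23_3 D) (Num.g3 hs he)).mono (by decide)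

theorem k_l {e : ℕ} (he : orderOf (q : ZMod s) = e) (h0 : 1 ≤ e) (h4 : e ≤ 3) : D.K s {0, 1} := by
  interval_cases e
  · exact (D.kt ht hs hs3 hst (Num.dvd_sub_one hs hq he) 0 rfl).mono (by decide)
  · exact (D.kk hs (by decide) (rel_0_0 D) (Num.g2 hs he)).mono (by decide)
  · exact (D.kk hs (by decide) (rel_01_0 D) (Num.g3 hs he)).mono (by decide)

end Kills

theorem c_0 : D.C (Finset.univ.erase 0) := D.cc [1, 2, 3] (by decide) (by decide)
theorem c_3 : D.C (Finset.univ.erase 3) := D.cc [0, 1, 2] (by decide) (by decide)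

variable (ht : t.Prime) (hs : s.Prime) (hs3 : 3 ≤ s) (hst : s ≠ t) (hq : 1 ≤ q) {e : ℕ}
  (he : orderOf (q : ZMod s) = e) (h0 : e ∈ L6) {x : MulAut G} {p : ℕ} (hp : p.Prime) (hxp : x ^ p = 1)
  (hTP : TP D.bn x) (hPC : PC s x)

include ht hs hs3 hst hq he h0 hTP hPC

theorem leaf0 {J : Finset (Fin 4)} (hx : D.F x J) (hJ : 0 ∉ J) : D.F x ∅ := by
  have h1 : D.F x (Finset.univ.erase 0) :=
    hx.up hTP (fun j hj => Finset.mem_erase.2 ⟨fun h2 => hJ (h2 ▸ hj), Finset.mem_univ _⟩)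
  exact h1.dn hPC (by decide) (le_refl _) (c_0 D) (k_0 D ht hs hs3 hst hq he h0) (by decide)

theorem leaf3 {J : Finset (Fin 4)} (hx : D.F x J) (hJ : 3 ∉ J) : D.F x ∅ := by
  have h1 : D.F x (Finset.univ.erase 3) :=
    hx.up hTP (fun j hj => Finset.mem_erase.2 ⟨fun h2 => hJ (h2 ▸ hj), Finset.mem_univ _⟩)
  exact h1.dn hPC (by decide) (le_refl _) (c_3 D) (k_3 D ht hs hs3 hst hq he h0) (by decide)

/-- the conclusion -/
theorem eq_one_of_empty (hx : D.F x ∅) : x = 1 :=
  D.eq_one hPC hTP hx (a := 0) (b := 3) (by decide) (c_0 D) (k_0 D ht hs hs3 hst hq he h0) (c_3 D)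
    (k_3 D ht hs hs3 hst hq he h0)

include hp hxp

/-- **fixed chambers** -/
theorem core {k : Fin 4} (hx : D.F x (Finset.univ.erase k)) : D.F x ∅ := by
  have hmem : e = 1 ∨ e = 2 ∨ e = 3 ∨ e = 4 ∨ e = 6 := by
    simpa [L6] using h0
  have l0 : ∀ {J : Finset (Fin 4)}, D.F x J → 0 ∉ J → D.F x ∅ := fun h1 h2 => leaf0 D ht hs hs3 hst hq he h0 hTP hPC h1 h2
  have l3 : ∀ {J : Finset (Fin 4)}, D.F x J → 3 ∉ J → D.F x ∅ := fun h1 h2 => leaf3 D ht hs hs3 hst hq he h0 hTP hPC h1 h2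
  fin_cases k
  · exact l0 hx (by decide)
  · -- `k = 1`
    change D.F x (Finset.univ.erase 1) at hx
    have h1 : (Finset.univ.erase 1 : Finset (Fin 4)) = {0, 2, 3} := by decide
    rw [h1] at hx
    by_cases h5 : e ≤ 3
    · exact l3 (hx.dn hPC (by decide) (by decide) (D.cc [2, 3] (by decide) (by decide))
        (k_r D ht hs hs3 hst hq he (by omega) h5) (L := {0}) (by decide)) (by decide)
    · rcases hx.two hp hxp hTP (by decide) (by decide) (rel_023_0 D) (rel_023_3 D) (cop_1 q) with h2 | h2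
      · exact l0 h2 (by decide)
      · exact l3 h2 (by decide)
  · -- `k = 2`
    change D.F x (Finset.univ.erase 2) at hx
    have h1 : (Finset.univ.erase 2 : Finset (Fin 4)) = {0, 1, 3} := by decide
    rw [h1] at hx
    by_cases h5 : e ≤ 3
    · exact l0 (hx.dn hPC (by decide) (by decide) (D.cc [0, 1] (by decide) (by decide))
        (k_l D ht hs hs3 hst hq he (by omega) h5) (L := {3}) (by decide)) (by decide)
    · rcases hx.two hp hxp hTP (by decide) (by decide) (rel_013_0 D) (rel_013_3 D) (cop_2 q) with h2 | h2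
      · exact l0 h2 (by decide)
      · exact l3 h2 (by decide)
  · exact l3 hx (by decide)

end Cfsg.Agent.H470.PiRad.RowF4
end

-- part: H470/PiRad/RowTw
section
/-!
# S4324: `²E₆(q)`, the primes `s` with `ord_s(q) ∈ {1, 2, 3, 4, 6}`: fixed chambers (helper470)

* `core` : `F (univ \ {k}) → F ∅`; `eq_one_of_empty` : the conclusion.
-/

set_option autoImplicit false
set_option linter.unusedSectionVars false

namespace Cfsg.Agent.H470.PiRad.RowTw

open Cfsg Subgroup Cfsg.Agent.H216.Pi Cfsg.Agent.H470.PiRad.Mod Cfsg.Agent.H470.PiRad.Orb Cfsg.Agent.H470.PiRad.TabTw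
open Cfsg.Agent.ChevalleyStructure.CoxeterGeom Cfsg.Agent.H470.PiRad.CosetSys

variable {t q s : ℕ}
    {A : Fin 4 → Fin 4 → ℤ} {h : IsCartan CoxeterMatrix.F₄ A} {G : Type*} [Group G] [Finite G] [IsSimpleGroup G]
    {T : Subgroup G} {n : Fin 4 → G} {X : (Fin 4 → ℤ) → Subgroup G} (D : Dat t q AL cl h T n X)

/-- the orders of `q` modulo `s` -/
def L6 : Finset ℕ := {1, 2, 3, 4, 6}

section Kills

variable (ht : t.Prime) (hs : s.Prime) (hs3 : 3 ≤ s) (hst : s ≠ t) (hq : 1 ≤ q)

include hs hs3 hst hq ht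

theorem k_0 {e : ℕ} (he : orderOf (q : ZMod s) = e) (h0 : e ∈ L6) : D.K s (Finset.univ.erase 0) := by
  simp only [L6, Finset.mem_insert, Finset.mem_singleton] at h0
  rcases h0 with rfl | rfl | rfl | rfl | rfl
  · exact (D.kt ht hs hs3 hst (Num.dvd_sub_one hs hq he) 1 rfl).mono (by decide)
  · exact (D.kk hs (by decide) (rel_1_1 D) (Num.g2 hs he)).mono (by decide)
  · exact (D.kk hs (by decide) (rel_23_3 D) (Num.d3 hs he)).mono (by decide)
  · exact (D.kk hs (by decide) (rel_3_3 D) (Num.c4 hs he)).mono (by decide)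
  · exact (D.kk hs (by decide) (rel_23_3 D) (Num.d6 hs he)).mono (by decide)

theorem k_3 {e : ℕ} (he : orderOf (q : ZMod s) = e) (h0 : e ∈ L6) : D.K s (Finset.univ.erase 3) := by
  simp only [L6, Finset.mem_insert, Finset.mem_singleton] at h0
  rcases h0 with rfl | rfl | rfl | rfl | rfl
  · exact (D.kt ht hs hs3 hst (Num.dvd_sub_one hs hq he) 0 rfl).mono (by decide)
  · exact (D.kk hs (by decide) (rel_0_0 D) (Num.g2 hs he)).mono (by decide)
  · exact (D.kk hs (by decide) (rel_01_0 D) (Num.g3 hs he)).mono (by decide)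
  · exact (D.kk hs (by decide) (rel_2_2 D) (Num.c4 hs he)).mono (by decide)
  · exact (D.kk hs (by decide) (rel_012_2 D) (Dvd.dvd.mul_right (Dvd.dvd.mul_right (Num.c6 hs he) _) _)).mono (by decide)

theorem k_01 {e : ℕ} (he : orderOf (q : ZMod s) = e) (h0 : 1 ≤ e) (h4 : e ≤ 3) : D.K s {0, 1} := by
  interval_cases e
  · exact (D.kt ht hs hs3 hst (Num.dvd_sub_one hs hq he) 0 rfl).mono (by decide)
  · exact (D.kk hs (by decide) (rel_0_0 D) (Num.g2 hs he)).mono (by decide)
  · exact (D.kk hs (by decide) (rel_01_0 D) (Num.g3 hs he)).mono (by decide)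

theorem k_z {e : ℕ} (he : orderOf (q : ZMod s) = e) (h0 : 1 ≤ e) (h4 : e ≤ 2) : D.K s {0} := by
  interval_cases e
  · exact (D.kt ht hs hs3 hst (Num.dvd_sub_one hs hq he) 0 rfl).mono (by decide)
  · exact (D.kk hs (by decide) (rel_0_0 D) (Num.g2 hs he)).mono (by decide)

end Kills

theorem c_0 : D.C (Finset.univ.erase 0) := D.cc [1, 2, 3] (by decide) (by decide)
theorem c_3 : D.C (Finset.univ.erase 3) := D.cc [0, 1, 2] (by decide) (by decide)

variable (ht : t.Prime) (hs : s.Prime) (hs3 : 3 ≤ s) (hst : s ≠ t) (hq : 1 ≤ q) {e : ℕ}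
  (he : orderOf (q : ZMod s) = e) (h0 : e ∈ L6) {x : MulAut G} {p : ℕ} (hp : p.Prime) (hxp : x ^ p = 1)
  (hTP : TP D.bn x) (hPC : PC s x)

include ht hs hs3 hst hq he h0 hTP hPC

theorem leaf0 {J : Finset (Fin 4)} (hx : D.F x J) (hJ : 0 ∉ J) : D.F x ∅ := by
  have h1 : D.F x (Finset.univ.erase 0) :=
    hx.up hTP (fun j hj => Finset.mem_erase.2 ⟨fun h2 => hJ (h2 ▸ hj), Finset.mem_univ _⟩)
  exact h1.dn hPC (by decide) (le_refl _) (c_0 D) (k_0 D ht hs hs3 hst hq he h0) (by decide)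

theorem leaf3 {J : Finset (Fin 4)} (hx : D.F x J) (hJ : 3 ∉ J) : D.F x ∅ := by
  have h1 : D.F x (Finset.univ.erase 3) :=
    hx.up hTP (fun j hj => Finset.mem_erase.2 ⟨fun h2 => hJ (h2 ▸ hj), Finset.mem_univ _⟩)
  exact h1.dn hPC (by decide) (le_refl _) (c_3 D) (k_3 D ht hs hs3 hst hq he h0) (by decide)

/-- the conclusion -/
theorem eq_one_of_empty (hx : D.F x ∅) : x = 1 :=
  D.eq_one hPC hTP hx (a := 0) (b := 3) (by decide) (c_0 D) (k_0 D ht hs hs3 hst hq he h0) (c_3 D)
    (k_3 D ht hs hs3 hst hq he h0)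

include hp hxp

/-- **fixed chambers** -/
theorem core {k : Fin 4} (hx : D.F x (Finset.univ.erase k)) : D.F x ∅ := by
  have hmem : e = 1 ∨ e = 2 ∨ e = 3 ∨ e = 4 ∨ e = 6 := by
    simpa [L6] using h0
  have l0 : ∀ {J : Finset (Fin 4)}, D.F x J → 0 ∉ J → D.F x ∅ := fun h1 h2 => leaf0 D ht hs hs3 hst hq he h0 hTP hPC h1 h2
  have l3 : ∀ {J : Finset (Fin 4)}, D.F x J → 3 ∉ J → D.F x ∅ := fun h1 h2 => leaf3 D ht hs hs3 hst hq he h0 hTP hPC h1 h2
  fin_cases k
  · exact l0 hx (by decide)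
  · -- `k = 1`
    change D.F x (Finset.univ.erase 1) at hx
    have h1 : (Finset.univ.erase 1 : Finset (Fin 4)) = {0, 2, 3} := by decide
    rw [h1] at hx
    by_cases h5 : e ≤ 2
    · exact l0 (hx.dn hPC (by decide) (by decide) (D.cc [0] (by decide) (by decide))
        (k_z D ht hs hs3 hst hq he (by omega) h5) (L := {2, 3}) (by decide)) (by decide)
    · have hk : D.K s {2, 3} := by
        have h6 : e = 3 ∨ e = 4 ∨ e = 6 := by omega
        rcases h6 with h6 | h6 | h6
        · exact D.kk hs (by decide) (rel_23_3 D) (Num.d3 hs (he.trans h6))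
        · exact (D.kk hs (by decide) (rel_3_3 D) (Num.c4 hs (he.trans h6))).mono (by decide)
        · exact D.kk hs (by decide) (rel_23_3 D) (Num.d6 hs (he.trans h6))
      exact l3 (hx.dn hPC (by decide) (by decide) (D.cc [2, 3] (by decide) (by decide))
        hk (L := {0}) (by decide)) (by decide)
  · -- `k = 2`
    change D.F x (Finset.univ.erase 2) at hx
    have h1 : (Finset.univ.erase 2 : Finset (Fin 4)) = {0, 1, 3} := by decide
    rw [h1] at hx
    by_cases h5 : e ≤ 3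
    · exact l0 (hx.dn hPC (by decide) (by decide) (D.cc [0, 1] (by decide) (by decide))
        (k_01 D ht hs hs3 hst hq he (by omega) h5) (L := {3}) (by decide)) (by decide)
    · by_cases h4 : e = 4
      · exact l3 (hx.dn hPC (by decide) (by decide) (D.cc [3] (by decide) (by decide))
          (D.kk hs (by decide) (rel_3_3 D) (Num.c4 hs (he.trans h4))) (L := {0, 1}) (by decide)) (by decide)
      · rcases hx.two hp hxp hTP (by decide) (by decide) (rel_013_0 D) (rel_013_3 D) (cop_2 q) with h2 | h2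
        · exact l0 h2 (by decide)
        · exact l3 h2 (by decide)
  · exact l3 hx (by decide)

end Cfsg.Agent.H470.PiRad.RowTw
end

-- part: H470/PiRad/NRow
section
/-!
# S4324: the rows `NR` of `E₇(q)`, `²E₆(q)`; the type preserving automorphisms of `F₄(q)`, `E₆(q)`, `E₈(q)` (helper470)

* `nr_congr` : transport;
* `exists_F` : a conjugate of a type preserving `x` normalises a maximal parabolic subgroup;
* `nr_E7`, `nr_twE6`; `tp_F4`, `tp_E6`, `tp_E8`.
-/

set_option autoImplicit false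
set_option linter.unusedSectionVars false

namespace Cfsg.Agent.H470.PiRad.NRow

open Cfsg Subgroup Cfsg.Agent.H216.Pi Cfsg.Agent.H459.Gallery Cfsg.Agent.Schreier.BNSch
open Cfsg.Agent.H470.PiRad.CosetSys Cfsg.Agent.H470.PiRad.Mod
open CoxeterSystem Cfsg.Agent.ChevalleyStructure.CoxeterGeom Cfsg.Agent.Nodes.BNOf
open Cfsg.Agent.H459.Iface (FixR)

universe u v

theorem nr_congr {K : Type u} {L : Type v} [Group K] [Group L] [Finite K] [Finite L] (e : K ≃* L) {t : ℕ}
    (h : NR t L) : NR t K := by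
  intro s r x hs hr hr3 hrs hrK hst hsK hP hx hxs hxr hPC hFC
  have : Fact s.Prime := ⟨hs⟩
  have hcard : Nat.card L = Nat.card K := (Nat.card_congr e.toEquiv).symm
  have ho : orderOf (H459.Rad.tr e x) = orderOf x := H459.Rad.orderOf_tr e x
  refine h s r (H459.Rad.tr e x) hs hr hr3 hrs (by rwa [hcard]) hst (by rwa [hcard]) (fun P => ?_)
    (by rw [ho]; exact hx) (by rw [ho]; exact hxs) (by rw [ho]; exact hxr) (hPC.tr e) (hFC.tr e)
  obtain ⟨Q⟩ : Nonempty (Sylow s K) := inferInstance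
  obtain ⟨P', hP'⟩ := H320.Cyc.sylow_congr e Q (hP Q)
  exact fun hc => hP' (((Sylow.equiv P P').isCyclic).1 hc)

section

variable {t q l : ℕ} {AL : List (List ℤ)} {cl : List ℕ} {M : CoxeterMatrix (Fin l)}
    {A : Fin l → Fin l → ℤ} {h : IsCartan M A} {G : Type*} [Group G] {T : Subgroup G} {n : Fin l → G}
    {X : (Fin l → ℤ) → Subgroup G} (D : Dat t q AL cl h T n X)

include D in
theorem dvd_card [Finite G] [IsSimpleGroup G] (ht : t.Prime) (hl : 0 < l) : t ∣ Nat.card G := by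
  classical
  have := D.fin
  have : Fact t.Prime := ⟨ht⟩
  set P := D.bn with hP
  have hmS : ∀ i, n i ∈ P.S := fun i => ⟨i, rfl⟩
  have hne : P.S.Nonempty := ⟨n ⟨0, hl⟩, hmS _⟩
  have hcore := Cfsg.Agent.Tits.OfBN.normalCore_eq_bot P hne
  have hsplit := Cfsg.Agent.FixBN.SplitRGD.split_of_rgd Fact.out D.rgd D.hgen hcore
  by_contra hd
  obtain ⟨U', hU'⟩ := Cfsg.Agent.H459.RgdRad.exists_sylow hsplit
  have h1 : (U' : Subgroup G) = ⊥ := by
    obtain ⟨k, hk⟩ := IsPGroup.iff_card.1 U'.2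
    rcases Nat.eq_zero_or_pos k with rfl | h0
    · exact Subgroup.card_eq_one.1 (by rw [hk, pow_zero])
    · exfalso
      apply hd
      exact (dvd_pow_self t h0.ne').trans (hk ▸ Subgroup.card_subgroup_dvd_card (U' : Subgroup G))
  have hN : normalizer ((U' : Subgroup G) : Set G) = P.B := by rw [hU']; exact hsplit.normalizer_eq
  apply not_mem_B P (hmS ⟨0, hl⟩)
  rw [← hN, h1, Subgroup.mem_normalizer_iff]
  intro y
  simp

/-- **a conjugate of a type preserving automorphism normalises a maximal parabolic subgroup** -/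
theorem exists_F [Finite G] [IsSimpleGroup G] (ht : t.Prime) (hl : 0 < l) (hL : IsLieTypeChar t G) {s : ℕ}
    (hs : s.Prime) (hst : s ≠ t) (hd : s ∣ Nat.card G) {x : MulAut G} (hx : (orderOf x).Prime)
    (hTP : TP D.bn x) {m : ℕ} (hm : 2 ≤ m) (hFC : FC s m x) : ∃ k : Fin l, D.F x (Finset.univ.erase k) := by
  classical
  have := D.fin
  have : Fact t.Prime := ⟨ht⟩
  refine D.exists_F ht hl hTP ?_
  by_cases hxt : orderOf x = t
  · exact FixR.of_card (dvd_card D ht hl) ⟨1, by rw [pow_one, ← hxt]; exact pow_orderOf_eq_one x⟩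
  by_contra hF
  have hmS : ∀ i, n i ∈ D.bn.S := fun i => ⟨i, rfl⟩
  have hne : D.bn.S.Nonempty := ⟨n ⟨0, hl⟩, hmS _⟩
  have hcore := Cfsg.Agent.Tits.OfBN.normalCore_eq_bot D.bn hne
  have hsplit := Cfsg.Agent.FixBN.SplitRGD.split_of_rgd Fact.out D.rgd D.hgen hcore
  exact Ell.false_of_not_fixR ht hL hs hst hd hx hxt (Or.inl ⟨D.bn, _, hsplit, hTP⟩) hF hm hFC

end

/-! ### The rows -/

section Rows

open Cfsg.Lie Cfsg.Agent.H35.ExcIdx Cfsg.Agent.Nodes.RGDChev

theorem lie_of_exc {t : ℕ} {K : Type*} [Group K] (h : IsExceptionalChevChar t K) : IsLieTypeChar t K :=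
  Or.inr (Or.inr (Or.inr (Or.inr (Or.inr (Or.inr (Or.inl h))))))

theorem lie_of_tw {t : ℕ} {K : Type*} [Group K] (h : IsTwistedE6D4Char t K) : IsLieTypeChar t K :=
  Or.inr (Or.inr (Or.inr (Or.inr (Or.inr (Or.inr (Or.inr (Or.inl h)))))))

variable {F : Type} [Field F] [Fintype F] {t : ℕ} [Fact t.Prime] [hC : CharP F t]

theorem one_le_card : 1 ≤ Fintype.card F := Fintype.card_pos

include hC

theorem lie_F4 : IsLieTypeChar t ↥(chevF4.group F) :=
  lie_of_exc ⟨F, inferInstance, inferInstance, hC, Or.inr (Or.inl ⟨MulEquiv.refl _⟩)⟩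

theorem lie_E6 : IsLieTypeChar t ↥(chevE6.group F) :=
  lie_of_exc ⟨F, inferInstance, inferInstance, hC, Or.inr (Or.inr (Or.inl ⟨MulEquiv.refl _⟩))⟩

theorem lie_E7 : IsLieTypeChar t ↥(chevE7.group F) :=
  lie_of_exc ⟨F, inferInstance, inferInstance, hC, Or.inr (Or.inr (Or.inr (Or.inl ⟨MulEquiv.refl _⟩)))⟩

theorem lie_E8 : IsLieTypeChar t ↥(chevE8.group F) :=
  lie_of_exc ⟨F, inferInstance, inferInstance, hC, Or.inr (Or.inr (Or.inr (Or.inr ⟨MulEquiv.refl _⟩)))⟩

theorem lie_Tw {q : ℕ} (hq : IsPrimePow q) (hK : Fintype.card F = q ^ 2) : IsLieTypeChar t ↥(twistedE6 F q) :=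
  lie_of_tw ⟨F, inferInstance, inferInstance, hC, q, hq, Or.inl ⟨hK, ⟨MulEquiv.refl _⟩⟩⟩

theorem tp_E7 [IsSimpleGroup ↥(chevE7.group F)] (x : MulAut ↥(chevE7.group F)) :
    TP (Inst.dat_E7 F t).bn x :=
  (Inst.dat_E7 F t).tp_of_inj Fact.out (by norm_num) 5 (by decide +kernel) x

theorem tp_E8 [IsSimpleGroup ↥(chevE8.group F)] (x : MulAut ↥(chevE8.group F)) :
    TP (Inst.dat_E8 F t).bn x :=
  (Inst.dat_E8 F t).tp_of_inj Fact.out (by norm_num) 6 (by decide +kernel) x

/-- the flip of `E₆` -/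
def flip6 : Fin 6 → Fin 6 := ![5, 1, 4, 3, 2, 0]

/-- **`E₇(q)`** -/
theorem nr_E7 [IsSimpleGroup ↥(chevE7.group F)] : NR t ↥(chevE7.group F) := by
  intro s r x hs hr hr3 hrs _ hst hd hP hx hxs _ hPC hFC
  have ht : t.Prime := Fact.out
  obtain ⟨P⟩ : Nonempty (Sylow s ↥(chevE7.group F)) := inferInstance
  have he := H320.Cyc.ord_E7 (t := t) (MulEquiv.refl _) hs (hr3.trans hrs) hst P (hP P)
  have hTP := tp_E7 (t := t) x
  obtain ⟨k, hk⟩ := exists_F (Inst.dat_E7 F t) ht (by norm_num) lie_E7 hs hst hd hx hTP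
    (le_trans (by norm_num) (mm_ge r)) hFC
  have h1 := RowE7.core (Inst.dat_E7 F t) ht hs (hr3.trans hrs) hst one_le_card rfl he hx (pow_orderOf_eq_one x) hTP hPC hk
  have h2 := RowE7.eq_one_of_empty (Inst.dat_E7 F t) ht hs (hr3.trans hrs) hst one_le_card rfl he hTP hPC h1
  rw [h2, orderOf_one] at hx
  exact absurd hx (by norm_num)

/-- **`F₄(q)`**, type preserving automorphisms -/
theorem tpr_F4 [IsSimpleGroup ↥(chevF4.group F)] {s : ℕ} {x : MulAut ↥(chevF4.group F)} (hs : s.Prime) (hs3 : 3 ≤ s)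
    (hst : s ≠ t) (hd : s ∣ Nat.card ↥(chevF4.group F)) (he : orderOf ((Fintype.card F : ℕ) : ZMod s) ∈ RowF4.L6)
    (hx : (orderOf x).Prime) (hTP : TP (Inst.dat_F4 F t).bn x) {m : ℕ} (hm : 2 ≤ m) (hPC : PC s x)
    (hFC : FC s m x) : False := by
  have ht : t.Prime := Fact.out
  obtain ⟨k, hk⟩ := exists_F (Inst.dat_F4 F t) ht (by norm_num) lie_F4 hs hst hd hx hTP hm hFC
  have h1 := RowF4.core (Inst.dat_F4 F t) ht hs hs3 hst one_le_card rfl he hx (pow_orderOf_eq_one x) hTP hPC hk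
  have h2 := RowF4.eq_one_of_empty (Inst.dat_F4 F t) ht hs hs3 hst one_le_card rfl he hTP hPC h1
  rw [h2, orderOf_one] at hx
  exact absurd hx (by norm_num)

/-- **`E₆(q)`**, type preserving automorphisms -/
theorem tpr_E6 [IsSimpleGroup ↥(chevE6.group F)] {s : ℕ} {x : MulAut ↥(chevE6.group F)} (hs : s.Prime) (hs3 : 3 ≤ s)
    (hst : s ≠ t) (hd : s ∣ Nat.card ↥(chevE6.group F)) (he : orderOf ((Fintype.card F : ℕ) : ZMod s) ∈ RowE6.L6)
    (hx : (orderOf x).Prime) (hTP : TP (Inst.dat_E6 F t).bn x) {m : ℕ} (hm : 2 ≤ m) (hPC : PC s x)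
    (hFC : FC s m x) : False := by
  have ht : t.Prime := Fact.out
  obtain ⟨k, hk⟩ := exists_F (Inst.dat_E6 F t) ht (by norm_num) lie_E6 hs hst hd hx hTP hm hFC
  have h1 := RowE6.core (Inst.dat_E6 F t) ht hs hs3 hst one_le_card rfl he hx (pow_orderOf_eq_one x) hTP hPC hk
  have h2 := RowE6.eq_one_of_empty (Inst.dat_E6 F t) ht hs hs3 hst one_le_card rfl he hTP hPC h1
  rw [h2, orderOf_one] at hx
  exact absurd hx (by norm_num)

/-- **`E₈(q)`**, up to two residues -/
theorem tpr_E8 [IsSimpleGroup ↥(chevE8.group F)] {s : ℕ} {x : MulAut ↥(chevE8.group F)} (hs : s.Prime) (hs3 : 3 ≤ s)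
    (hst : s ≠ t) (hd : s ∣ Nat.card ↥(chevE8.group F)) {e : ℕ} (hoe : orderOf ((Fintype.card F : ℕ) : ZMod s) = e)
    (he : e ∈ RowE8.L8) (hx : (orderOf x).Prime) {m : ℕ} (hm : 2 ≤ m) (hPC : PC s x)
    (hFC : FC s m x) : (e = 10 ∨ e = 12) ∧ (Inst.dat_E8 F t).F x (Finset.univ.erase 1) ∨
      e = 10 ∧ (Inst.dat_E8 F t).F x (Finset.univ.erase 6) := by
  have ht : t.Prime := Fact.out
  have hTP := tp_E8 (t := t) x
  obtain ⟨k, hk⟩ := exists_F (Inst.dat_E8 F t) ht (by norm_num) lie_E8 hs hst hd hx hTP hm hFC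
  rcases RowE8.core (Inst.dat_E8 F t) ht hs hs3 hst one_le_card hoe he hx (pow_orderOf_eq_one x) hTP hPC hk with
    h1 | ⟨rfl, h1⟩ | ⟨rfl, h1⟩
  · exfalso
    have h2 := RowE8.eq_one_of_empty (Inst.dat_E8 F t) ht hs hs3 hst one_le_card hoe he hTP hPC h1
    rw [h2, orderOf_one] at hx
    exact absurd hx (by norm_num)
  · exact Or.inl ⟨h1, hk⟩
  · exact Or.inr ⟨h1, hk⟩

/-! ### `²E₆(q)` -/

/-- **`²E₆(q)`** -/
theorem nr_Tw {q : ℕ} (hq : IsPrimePow q) (hK : Fintype.card F = q ^ 2) [IsSimpleGroup ↥(twistedE6 F q)] :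
    NR t ↥(twistedE6 F q) := by
  intro s r x hs hr hr3 hrs _ hst hd hP hx hxs _ hPC hFC
  have ht : t.Prime := Fact.out
  obtain ⟨φ, hφ, hqq⟩ := Cfsg.Agent.ChevalleyStructure.TwE6Basic.exists_frob hq hK
  have hq1 : 1 < q := hq.one_lt
  obtain ⟨P⟩ : Nonempty (Sylow s ↥(twistedE6 F q)) := inferInstance
  have he := H320.Cyc.ord_twE6 (t := t) hq hK (MulEquiv.refl _) hs (hr3.trans hrs) hst P (hP P)
  have D := Inst.dat_Tw t hq1 hφ hqq hK
  have hbn : D.par ∅ = D.bn.B := by
    unfold Dat.par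
    rw [Finset.coe_empty, Set.image_empty, parabolic_empty]
  have hsg : ∀ i : Fin 4, D.par {i} = D.bn.parabolic {Cfsg.Agent.Nodes.RGDTwE6.nn hφ i} := by
    intro i
    unfold Dat.par
    rw [Finset.coe_singleton, Set.image_singleton]
  have hidx : ∀ i : Fin 4, D.bn.B.relIndex (D.bn.parabolic {Cfsg.Agent.Nodes.RGDTwE6.nn hφ i}) =
      1 + q ^ TabTw.cl.getD i 0 := by
    intro i
    rw [← hbn, ← hsg]
    fin_cases i
    · exact (TabTw.rel_0_0 D).trans (by simp [TabTw.cl])
    · exact (TabTw.rel_1_1 D).trans (by simp [TabTw.cl])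
    · exact (TabTw.rel_2_2 D).trans (by simp [TabTw.cl])
    · exact (TabTw.rel_3_3 D).trans (by simp [TabTw.cl])
  have hTP := D.tp_of_inj' ht (by norm_num) hq1 hidx 3 (by decide +kernel) x
  obtain ⟨k, hk⟩ := exists_F D ht (by norm_num) (lie_Tw hq hK) hs hst hd hx hTP
    (le_trans (by norm_num) (mm_ge r)) hFC
  have h1 := RowTw.core D ht hs (hr3.trans hrs) hst hq1.le rfl he hx (pow_orderOf_eq_one x) hTP hPC hk
  have h2 := RowTw.eq_one_of_empty D ht hs (hr3.trans hrs) hst hq1.le rfl he hTP hPC h1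
  rw [h2, orderOf_one] at hx
  exact absurd hx (by norm_num)

end Rows

/-! ### The rows for `K` -/

section Fields

open Cfsg.Lie

theorem NR_E7 (t : ℕ) (K : Type) [Group K] [Finite K] [IsSimpleGroup K] (ht : t.Prime)
    (h : ∃ (F : Type) (_ : Field F) (_ : Fintype F) (_ : CharP F t), Nonempty (K ≃* Lie.chevE7.group F)) : NR t K := by
  obtain ⟨F, _, _, hC, ⟨e⟩⟩ := h
  have : Fact t.Prime := ⟨ht⟩
  have : IsSimpleGroup ↥(Lie.chevE7.group F) := (MulEquiv.isSimpleGroup_congr e).1 inferInstance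
  exact nr_congr e nr_E7

theorem NR_twE6 (t : ℕ) (K : Type) [Group K] [Finite K] [IsSimpleGroup K] (ht : t.Prime)
    (h : ∃ (F : Type) (_ : Field F) (_ : Fintype F) (_ : CharP F t) (q : ℕ), IsPrimePow q ∧
      Fintype.card F = q ^ 2 ∧ Nonempty (K ≃* Lie.twistedE6 F q)) : NR t K := by
  obtain ⟨F, _, _, hC, q, hq, hK, ⟨e⟩⟩ := h
  have : Fact t.Prime := ⟨ht⟩
  have : IsSimpleGroup ↥(Lie.twistedE6 F q) := (MulEquiv.isSimpleGroup_congr e).1 inferInstance
  exact nr_congr e (nr_Tw hq hK)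

end Fields

end Cfsg.Agent.H470.PiRad.NRow
end

private theorem dce_fa3271965dab : _root_.True := by
  try have : _root_.True := by simp only [_root_.Cfsg.Agent.H470.PiRad.RowF4.L6.eq_1]
  try have : _root_.True := by simp only [_root_.Cfsg.Agent.H470.PiRad.RowE6.L6.eq_1]
  try have : _root_.True := by simp only [_root_.Cfsg.Agent.H470.PiRad.RowTw.L6.eq_1]
  try have : _root_.True := by simp only [_root_.Cfsg.Agent.H470.PiRad.TabTw.cl.eq_1]
  try have : _root_.True := by simp only [_root_.Cfsg.Agent.H470.PiRad.RowE7.L6.eq_1]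
  exact _root_.True.intro
end

-- part: H533/U/Semi
section
prune_inst 0x20600000672200000000800082001c72b20000200040880008a000000e890c4000020860ba10010212a0008540350008130800200200000000000000011d05810000100600400000020000000000000000000000000000000000000000000000200000000
set_option linter.all false
open scoped Cfsg.Agent.FastGrp

-- part: H533/U/Cen
section
/-!
# Elements of `PSU_n(q)` whose centralizer has order prime to the characteristic (helper533, S4324, IRR-U)
-/

set_option autoImplicit false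

namespace Cfsg.Agent.H533.U

open Cfsg Cfsg.Agent.LieClassical.HermBasic Cfsg.Agent.LieClassical.HermSiegel
open Cfsg.Agent.ClassicalGeometry.UnitAutBasic
open Cfsg.Agent.H957.T5V Cfsg.Agent.H957.T5U Cfsg.Agent.H957.T5Pairs
open Cfsg.Agent.H177.MeetPSU (rho rho_apply rho_injective uniq ind_scal)
open Cfsg.Agent.H903.SylSemi (Ind scal scal_apply)

section Lin

variable {F V : Type*} [Field F] [AddCommGroup V] [Module F V]

/-- a `t`-element modulo scalars (`t` the characteristic) commuting with an irreducible map is a scalar -/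
theorem scal_of_irr [Finite F] [Nontrivial V] {t : ℕ} [CharP F t] (ht : t.Prime) {f : Module.End F V} {μ : F}
    (hf : ∀ v, (f ^ t) v = μ • v) {g : V → V} (hgs : ∀ (a : F) (v : V), g (a • v) = a • g v)
    (hg : ∀ v, g (f v) = f (g v))
    (hirr : ∀ W : Submodule F V, (∀ v ∈ W, g v ∈ W) → W = ⊥ ∨ W = ⊤) : ∃ ν : F, ∀ v, f v = ν • v := by
  have : Fact t.Prime := ⟨ht⟩
  have hsurj : Function.Surjective (frobenius F t) := by
    exact (frobeniusEquiv F t).surjective
  obtain ⟨ν, hν⟩ := hsurj μ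
  rw [frobenius_def] at hν
  refine ⟨ν, ?_⟩
  have hnil : (f - algebraMap F (Module.End F V) ν) ^ t = 0 := by
    have hchar : CharP (Module.End F V) t := by
      apply charP_of_injective_algebraMap (R := F) (A := Module.End F V)
      exact FaithfulSMul.algebraMap_injective F (Module.End F V)
    have hcomm : Commute f (algebraMap F (Module.End F V) ν) := (Algebra.commutes ν f).symm
    rw [sub_pow_char_of_commute t hcomm]
    refine LinearMap.ext fun v => ?_
    rw [LinearMap.sub_apply, hf, ← map_pow, hν, Module.algebraMap_end_apply, sub_self]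
    rfl
  rcases hirr (LinearMap.ker (f - algebraMap F (Module.End F V) ν)) (by
    intro v hv
    rw [LinearMap.mem_ker, LinearMap.sub_apply, Module.algebraMap_end_apply, sub_eq_zero] at hv ⊢
    rw [← hg, hv, hgs]) with h | h
  · exfalso
    rw [LinearMap.ker_eq_bot] at h
    obtain ⟨v, hv⟩ := exists_ne (0 : V)
    apply hv
    have h2 : ∀ k : ℕ, Function.Injective ((f - algebraMap F (Module.End F V) ν) ^ k) := by
      intro k
      induction k with
      | zero => exact fun a b hab => hab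
      | succ k ih =>
        rw [pow_succ]
        exact ih.comp h
    apply h2 t
    rw [hnil]
    rfl
  · intro v
    have hv : v ∈ LinearMap.ker (f - algebraMap F (Module.End F V) ν) := by rw [h]; trivial
    rw [LinearMap.mem_ker, LinearMap.sub_apply, Module.algebraMap_end_apply, sub_eq_zero] at hv
    exact hv

/-- a `t`-element modulo scalars commuting with a map with pairwise distinct eigenvalues is a scalar -/
theorem scal_of_diag [Finite F] {t : ℕ} [CharP F t] (ht : t.Prime) {f : Module.End F V} {μ : F}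
    (hf : ∀ v, (f ^ t) v = μ • v) {g : Module.End F V} (hg : ∀ v, g (f v) = f (g v)) {n : ℕ}
    (b : Module.Basis (Fin n) F V) {z : Fin n → F} (hz : Function.Injective z) (hgb : ∀ i, g (b i) = z i • b i) :
    ∃ ν : F, ∀ v, f v = ν • v := by
  have : Fact t.Prime := ⟨ht⟩
  -- `f` is diagonal
  have h1 : ∀ i, f (b i) = b.repr (f (b i)) i • b i := by
    intro i
    have h2 : g (f (b i)) = z i • f (b i) := by rw [hg, hgb, map_smul]
    have h3 : ∀ j, j ≠ i → b.repr (f (b i)) j = 0 := by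
      intro j hj
      have h4 : b.repr (g (f (b i))) j = z j * b.repr (f (b i)) j := by
        conv_lhs => rw [← b.sum_repr (f (b i))]
        rw [map_sum, map_sum, Finsupp.finsetSum_apply]
        simp only [map_smul, hgb, Finsupp.smul_apply, Module.Basis.repr_self, smul_eq_mul]
        rw [Finset.sum_eq_single j]
        · rw [Finsupp.single_eq_same]; ring
        · intro k _ hk
          rw [Finsupp.single_eq_of_ne (Ne.symm hk)]; ring
        · intro h; exact absurd (Finset.mem_univ _) h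
      rw [h2, map_smul, Finsupp.smul_apply, smul_eq_mul] at h4
      have h5 : (z i - z j) * b.repr (f (b i)) j = 0 := by rw [sub_mul, h4, sub_self]
      rcases mul_eq_zero.1 h5 with h6 | h6
      · exact absurd (hz (sub_eq_zero.1 h6)).symm hj
      · exact h6
    conv_lhs => rw [← b.sum_repr (f (b i))]
    rw [Finset.sum_eq_single i]
    · intro j _ hj
      rw [h3 j hj, zero_smul]
    · intro h; exact absurd (Finset.mem_univ _) h
  set a : Fin n → F := fun i => b.repr (f (b i)) i with ha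
  have h2 : ∀ i (k : ℕ), (f ^ k) (b i) = a i ^ k • b i := by
    intro i k
    induction k with
    | zero => simp
    | succ k ih =>
      rw [pow_succ, Module.End.mul_apply, h1, map_smul, ih, smul_smul, pow_succ, mul_comm]
  have h3 : ∀ i, a i ^ t = μ := by
    intro i
    have h4 := h2 i t
    rw [hf] at h4
    have h5 : (μ - a i ^ t) • b i = 0 := by rw [sub_smul, h4, sub_self]
    exact (sub_eq_zero.1 ((smul_eq_zero.1 h5).resolve_right (b.ne_zero i))).symm
  have h4 : ∀ i j, a i = a j := by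
    intro i j
    apply frobenius_inj F t
    rw [frobenius_def, frobenius_def, h3, h3]
  rcases Nat.eq_zero_or_pos n with rfl | hn
  · refine ⟨1, fun v => ?_⟩
    have : v = 0 := by rw [← b.sum_repr v]; simp
    rw [this, map_zero, smul_zero]
  · refine ⟨a ⟨0, hn⟩, fun v => ?_⟩
    have h5 : f = a ⟨0, hn⟩ • LinearMap.id := by
      refine b.ext fun i => ?_
      rw [h1, LinearMap.smul_apply, LinearMap.id_apply]
      exact congrArg (· • b i) (h4 i ⟨0, hn⟩)
    rw [h5]
    rfl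

end Lin

variable {F : Type} [Field F] [Fintype F] {n q t : ℕ}

/-- a lift of an element of order dividing `t` commuting with the image of `Z` -/
theorem comm_of_cen (hF : Fintype.card F = q ^ 2) (hn : 3 ≤ n) [CharP F t] (ht : t.Prime) {Z Y : SU n F q}
    (hc : pr n F q Y * pr n F q Z = pr n F q Z * pr n F q Y) (hY : pr n F q Y ^ t = 1) :
    (∀ v, act Z (act Y v) = act Y (act Z v)) ∧ ∃ μ : F, ∀ v, act (Y ^ t) v = μ • v := by
  have : Fact t.Prime := ⟨ht⟩
  rw [← map_mul, ← map_mul] at hc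
  obtain ⟨c, hc1, hc2⟩ := exists_scalar_of_pr_eq hF hn hc
  rw [← map_pow, ← map_one (pr n F q)] at hY
  obtain ⟨μ, hμ1, hμ2⟩ := exists_scalar_of_pr_eq hF hn hY.symm
  have hμ : ∀ v, act (Y ^ t) v = μ • v := fun v => by rw [hμ2, act_one]
  have hμ0 : μ ≠ 0 := by
    rintro rfl
    rw [zero_mul] at hμ1
    exact zero_ne_one hμ1
  have h1 : ∀ (k : ℕ) (v : Fin n → F), act Z (act (Y ^ k) v) = c ^ k • act (Y ^ k) (act Z v) := by
    intro k
    induction k with
    | zero => intro v; simp [act_one]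
    | succ k ih =>
      intro v
      rw [pow_succ, act_mul, ih, act_mul, ← act_mul Z Y, hc2, act_mul, act_smul, smul_smul, pow_succ]
  have hv0 : (Pi.single ⟨0, by omega⟩ 1 : Fin n → F) ≠ 0 := by
    intro h
    have := congrFun h ⟨0, by omega⟩
    simp at this
  have hct : c ^ t = 1 := by
    have h2 := h1 t (act Z⁻¹ (Pi.single ⟨0, by omega⟩ 1))
    rw [hμ, act_smul, act_act_inv, hμ, smul_smul] at h2
    have h3 : (μ - c ^ t * μ) • (Pi.single ⟨0, by omega⟩ 1 : Fin n → F) = 0 := by rw [sub_smul, h2, sub_self]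
    have h4 := (smul_eq_zero.1 h3).resolve_right hv0
    have h5 : (1 - c ^ t) * μ = 0 := by linear_combination h4
    have h6 := (mul_eq_zero.1 h5).resolve_right hμ0
    exact (sub_eq_zero.1 h6).symm
  have hc1' : c = 1 := by
    apply frobenius_inj F t
    rw [frobenius_def, frobenius_def, hct, one_pow]
  refine ⟨fun v => ?_, μ, hμ⟩
  rw [← act_mul, hc2, hc1', one_smul, act_mul]

/-- the linear endomorphism of an element of `SU` -/
noncomputable def lin (Y : SU n F q) : Module.End F (Fin n → F) := Matrix.mulVecLin (mat Y)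

omit [Fintype F] in
theorem lin_apply (Y : SU n F q) (v : Fin n → F) : lin Y v = act Y v := rfl

omit [Fintype F] in
theorem lin_pow (Y : SU n F q) (k : ℕ) (v : Fin n → F) : (lin Y ^ k) v = act (Y ^ k) v := by
  induction k generalizing v with
  | zero => rw [pow_zero, pow_zero, act_one]; rfl
  | succ k ih => rw [pow_succ, pow_succ, Module.End.mul_apply, ih, act_mul, lin_apply]

/-- the centralizer of `pr Z` has order prime to `t` if the `t`-elements commuting with `Z` are scalars -/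
theorem not_dvd_centralizer (hF : Fintype.card F = q ^ 2) (hn : 3 ≤ n) [CharP F t] (ht : t.Prime) {Z : SU n F q}
    (H : ∀ Y : SU n F q, (∀ v, act Z (act Y v) = act Y (act Z v)) → (∃ μ : F, ∀ v, (lin Y ^ t) v = μ • v) →
      ∃ ν : F, ∀ v, lin Y v = ν • v) :
    ¬ t ∣ Nat.card (Subgroup.centralizer ({pr n F q Z} : Set (PSU n F q))) := by
  intro hd
  have : Fact t.Prime := ⟨ht⟩
  have hfin : Finite (PSU n F q) := Finite.of_surjective _ (pr_surjective (n := n) (F := F) (q := q))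
  obtain ⟨y', hy'⟩ := exists_prime_orderOf_dvd_card' t hd
  obtain ⟨Y, hY⟩ := pr_surjective (n := n) (F := F) (q := q) (y' : PSU n F q)
  have hYt : pr n F q Y ^ t = 1 := by
    rw [hY, ← Subgroup.coe_pow, ← hy', pow_orderOf_eq_one]
    rfl
  have hYc : pr n F q Y * pr n F q Z = pr n F q Z * pr n F q Y := by
    rw [hY]
    exact Subgroup.mem_centralizer_singleton_iff.1 y'.2
  obtain ⟨h1, μ, h2⟩ := comm_of_cen hF hn ht hYc hYt
  obtain ⟨ν, hν⟩ := H Y h1 ⟨μ, fun v => by rw [lin_pow, h2]⟩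
  have h3 : pr n F q (1 : SU n F q) = pr n F q Y := pr_eq_of_scalar (c := ν) fun v => by
    rw [← lin_apply, hν, act_one]
  rw [map_one, hY] at h3
  have h4 : y' = 1 := Subtype.ext h3.symm
  rw [h4, orderOf_one] at hy'
  exact ht.one_lt.ne hy'

end Cfsg.Agent.H533.U
end

-- part: H533/U/Irr
section
/-!
# The irreducible case for `PSU_n(q)` (helper533, S4324, IRR-U)

`irr_u` : a linear isometry acting irreducibly on the unitary space does not satisfy the fusion condition.
-/

set_option autoImplicit false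

namespace Cfsg.Agent.H533.U

open Cfsg Cfsg.Agent.LieClassical.HermBasic Cfsg.Agent.LieClassical.HermSiegel
open Cfsg.Agent.ClassicalGeometry.UnitAutBasic
open Cfsg.Agent.H957.T5V Cfsg.Agent.H957.T5U Cfsg.Agent.H957.T5Pairs
open Cfsg.Agent.H177.MeetPSU (rho rho_apply rho_injective uniq ind_scal exists_su semiU_rho)
open Cfsg.Agent.H903.SylSemi (Ind scal scal_apply IsSUMap IsSLMap)
open Cfsg.Agent.H216.Pi (InC FC)
open Polynomial Module

section Lin

variable {F V : Type*} [Field F] [AddCommGroup V] [Module F V]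

/-- an irreducible map whose `p`-th power is a scalar: the dimension is at most `p` -/
theorem finrank_le_of_irr [Nontrivial V] {p : ℕ} (hp : 0 < p) {g : Equiv.Perm V} (hg : Semi (1 : F ≃+* F) g) {l : F}
    (hl : ∀ v, (g ^ p) v = l • v)
    (hirr : ∀ W : Submodule F V, (∀ v ∈ W, g v ∈ W) → W = ⊥ ∨ W = ⊤) : finrank F V ≤ p := by
  obtain ⟨v, hv⟩ := exists_ne (0 : V)
  set f : Fin p → V := fun i => (g ^ (i : ℕ)) v with hf
  have hmem : ∀ i, f i ∈ Submodule.span F (Set.range f) := fun i => Submodule.subset_span ⟨i, rfl⟩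
  have h1 : ∀ w ∈ Submodule.span F (Set.range f), g w ∈ Submodule.span F (Set.range f) := by
    intro w hw
    induction hw using Submodule.span_induction with
    | mem x hx =>
      obtain ⟨i, rfl⟩ := hx
      have h2 : g (f i) = (g ^ ((i : ℕ) + 1)) v := by rw [pow_succ', Equiv.Perm.mul_apply]
      rw [h2]
      rcases Nat.lt_or_ge ((i : ℕ) + 1) p with h3 | h3
      · exact hmem ⟨_, h3⟩
      · have h4 : (i : ℕ) + 1 = p := by have := i.2; omega
        rw [h4, hl]
        have h5 := Submodule.smul_mem _ l (hmem ⟨0, hp⟩)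
        rw [hf] at h5
        simpa using h5
    | zero => rw [hg.zero]; exact Submodule.zero_mem _
    | add x y _ _ hx hy => rw [hg.add]; exact Submodule.add_mem _ hx hy
    | smul a x _ hx => rw [hg.smul]; exact Submodule.smul_mem _ _ hx
  rcases hirr _ h1 with h2 | h2
  · exfalso
    apply hv
    have h3 := hmem ⟨0, hp⟩
    rw [h2, Submodule.mem_bot] at h3
    simpa [hf] using h3
  · rw [← finrank_top, ← h2]
    exact (finrank_range_le_card f).trans (by rw [Fintype.card_fin])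

/-- an irreducible map of order dividing `p`, of dimension at least `2`, has determinant `1` -/
theorem det_of_irr [Finite F] [FiniteDimensional F V] {p : ℕ} (hp : p.Prime) (h2 : 2 ≤ finrank F V)
    {f : Module.End F V} (hf : f ^ p = 1)
    (hirr : ∀ W : Submodule F V, (∀ v ∈ W, f v ∈ W) → W = ⊥ ∨ W = ⊤) : LinearMap.det f = 1 := by
  have : Fact p.Prime := ⟨hp⟩
  by_contra hne
  have h1 : LinearMap.det f ^ p = 1 := by rw [← map_pow, hf, map_one]
  have h0 : LinearMap.det f ≠ 0 := by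
    intro h
    rw [h, zero_pow hp.ne_zero] at h1
    exact zero_ne_one h1
  have hord : orderOf (Units.mk0 _ h0) = p := by
    refine orderOf_eq_prime (Units.ext ?_) ?_
    · rw [Units.val_pow_eq_pow_val, Units.val_mk0, h1, Units.val_one]
    · intro h
      exact hne (by rw [← Units.val_mk0 h0, h, Units.val_one])
  have hd : p ∣ Nat.card F - 1 := by
    rw [← Nat.card_units, ← hord]
    exact orderOf_dvd_natCard _
  obtain ⟨b, d, hb⟩ := Cfsg.Agent.H957.T5Lin.exists_eigenbasis (κ := Fin (finrank F V)) hd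
    (one_ne_zero : (1 : F) ≠ 0) (f := f) (by rw [one_pow, one_smul, hf]) (Fintype.card_fin _)
  have i0 : Fin (finrank F V) := ⟨0, by omega⟩
  rcases hirr (Submodule.span F {b i0}) (by
    intro v hv
    obtain ⟨a, rfl⟩ := Submodule.mem_span_singleton.1 hv
    rw [map_smul, hb, smul_smul]
    exact Submodule.smul_mem _ _ (Submodule.mem_span_singleton_self _)) with h | h
  · exact b.ne_zero i0 (Submodule.span_singleton_eq_bot.1 h)
  · have h3 := finrank_span_singleton (K := F) (b.ne_zero i0)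
    rw [h, finrank_top] at h3
    omega

end Lin

variable {F : Type} [Field F] [Fintype F] {n q t : ℕ}

omit [Fintype F] in
/-- a linear isometry of determinant one induces an inner automorphism -/
theorem inner_of_det {g : Equiv.Perm (Fin n → F)} (hg : SI q (1 : F ≃+* F) g) {f : Module.End F (Fin n → F)}
    (hf : ∀ v, f v = g v) (hd : LinearMap.det f = 1) {x : MulAut (PSU n F q)}
    (hi : Ind (pr n F q) (rho n F q) g x) :
    ∃ A : SU n F q, (∀ v, act A v = g v) ∧ x = MulAut.conj (pr n F q A) := by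
  obtain ⟨A, hA⟩ := exists_su (g := g) ⟨⟨f, hf, hd⟩, fun u v => hg.herm u v⟩
  refine ⟨A, fun v => by rw [← rho_apply, hA], ?_⟩
  ext y
  obtain ⟨Y, rfl⟩ := pr_surjective y
  obtain ⟨Y', h1, h2⟩ := hi Y
  rw [h2, MulAut.conj_apply, ← map_mul, ← map_inv, ← map_mul]
  congr 1
  apply rho_injective
  rw [h1, map_mul, map_mul, map_inv, hA]

/-- the basis of an orthonormal family -/
theorem exists_basis (hF : Fintype.card F = q ^ 2) (hn : 0 < n) {b : Fin n → (Fin n → F)}
    (hb : ∀ i j, hermForm n F q (b i) (b j) = if i = j then 1 else 0) :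
    ∃ B : Basis (Fin n) F (Fin n → F), ∀ i, B i = b i := by
  have : Nonempty (Fin n) := ⟨⟨0, hn⟩⟩
  exact ⟨basisOfLinearIndependentOfCardEqFinrank (li_orth hF hb) (by rw [finrank_fin_fun, Fintype.card_fin]),
    fun i => by simp⟩

/-- diagonal elements of `SU` with respect to an orthonormal basis -/
theorem exists_diag (hF : Fintype.card F = q ^ 2) (hn : 0 < n) {b : Fin n → (Fin n → F)}
    (hb : ∀ i j, hermForm n F q (b i) (b j) = if i = j then 1 else 0) {d : Fin n → F} (hd : ∀ i, d i * d i ^ q = 1)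
    (hprod : ∏ i, d i = 1) : ∃ D : SU n F q, ∀ i, act D (b i) = d i • b i := by
  classical
  obtain ⟨B, hB⟩ := exists_basis hF hn hb
  let f : Module.End F (Fin n → F) := B.constr F (fun i => d i • b i)
  have hfb : ∀ i, f (b i) = d i • b i := by
    intro i
    rw [← hB, Basis.constr_basis, hB]
  have hdet : LinearMap.det f = 1 := by
    have h1 : LinearMap.toMatrix B B f = Matrix.diagonal d := by
      ext i j
      rw [LinearMap.toMatrix_apply, hB, hfb, map_smul, ← hB, Basis.repr_self, Finsupp.smul_apply, smul_eq_mul,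
        Matrix.diagonal_apply]
      rcases eq_or_ne i j with rfl | hij
      · rw [Finsupp.single_eq_same, mul_one, if_pos rfl]
      · rw [Finsupp.single_eq_of_ne hij, mul_zero, if_neg hij]
    rw [← LinearMap.det_toMatrix B, h1, Matrix.det_diagonal, hprod]
  have hherm : ∀ u v, hermForm n F q (f u) (f v) = hermForm n F q u v := by
    intro u v
    have hu : u = ∑ i, B.repr u i • b i := by
      conv_lhs => rw [← B.sum_repr u]
      exact Finset.sum_congr rfl fun i _ => by rw [hB]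
    have hv : v = ∑ i, B.repr v i • b i := by
      conv_lhs => rw [← B.sum_repr v]
      exact Finset.sum_congr rfl fun i _ => by rw [hB]
    have hfu : f u = ∑ i, (B.repr u i * d i) • b i := by
      conv_lhs => rw [hu]
      rw [map_sum]
      exact Finset.sum_congr rfl fun i _ => by rw [map_smul, hfb, smul_smul]
    have hfv : f v = ∑ i, (B.repr v i * d i) • b i := by
      conv_lhs => rw [hv]
      rw [map_sum]
      exact Finset.sum_congr rfl fun i _ => by rw [map_smul, hfb, smul_smul]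
    rw [hfu, hfv]
    conv_rhs => rw [hu, hv]
    simp only [herm_sum_left, herm_sum_right hF, herm_smul_left, herm_smul_right, hb]
    simp only [mul_ite, mul_one, mul_zero, Finset.sum_ite_eq', Finset.mem_univ, if_true]
    refine Finset.sum_congr rfl fun i _ => ?_
    rw [mul_pow]
    linear_combination (B.repr u i * B.repr v i ^ q) * hd i
  have hne : LinearMap.det f ≠ 0 := by rw [hdet]; exact one_ne_zero
  let e : (Fin n → F) ≃ₗ[F] (Fin n → F) := LinearMap.equivOfDetNeZero f hne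
  obtain ⟨A, hA⟩ := exists_su (g := e.toEquiv) ⟨⟨f, fun v => rfl, hdet⟩, fun u v => hherm u v⟩
  refine ⟨A, fun i => ?_⟩
  rw [← rho_apply, hA]
  exact hfb i

/-- the monomial case -/
theorem false_of_mono (hF : Fintype.card F = q ^ 2) (hn : 3 ≤ n) (h32 : ¬ (n = 3 ∧ q = 2)) [CharP F t] (ht : t.Prime)
    {s : ℕ} (hs : s.Prime) (hst : s ≠ t) (hsK : s ∣ Nat.card (PSU n F q)) {x : MulAut (PSU n F q)}
    {g : Equiv.Perm (Fin n → F)} (hg : SI q (1 : F ≃+* F) g) (hi : Ind (pr n F q) (rho n F q) g x) {m : ℕ}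
    (hm : 11 ≤ m) (hFC : FC s m x) {b : Fin n → (Fin n → F)}
    (hb : ∀ i j, hermForm n F q (b i) (b j) = if i = j then 1 else 0) {σ : Equiv.Perm (Fin n)} {c : Fin n → F}
    (hc : ∀ j, c j ≠ 0) (hgb : ∀ j, g (b j) = c j • b (σ j)) {d : Fin n → F} (hd : ∀ i, d i * d i ^ q = 1)
    (hprod : ∏ i, d i = 1) (hinj : Function.Injective fun j => d (σ j) * (d j)⁻¹) : False := by
  have hfin : Finite (PSU n F q) := Finite.of_surjective _ (pr_surjective (n := n) (F := F) (q := q))
  have hL : IsLieTypeChar t (PSU n F q) :=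
    Or.inr (Or.inr (Or.inl ⟨F, inferInstance, inferInstance, inferInstance, n, q, hF, hn, h32, ⟨MulEquiv.refl _⟩⟩))
  obtain ⟨D, hD⟩ := exists_diag hF (by omega) hb hd hprod
  have hd0 : ∀ i, d i ≠ 0 := by
    intro i h
    have := hd i
    rw [h, zero_mul] at this
    exact zero_ne_one this
  have hD' : ∀ i, act D⁻¹ (b i) = (d i)⁻¹ • b i := by
    intro i
    apply act_injective D
    rw [act_act_inv, act_smul, hD, smul_smul, inv_mul_cancel₀ (hd0 i), one_smul]
  obtain ⟨D', h1, h2⟩ := hi D⁻¹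
  have h3 : ∀ v, act D' (g v) = g (act D⁻¹ v) := by
    intro v
    rw [← rho_apply D', h1, Equiv.Perm.mul_apply, Equiv.Perm.mul_apply, inv_apply_self, rho_apply]
  have hZ : ∀ j, act (D * D') (b (σ j)) = (d (σ j) * (d j)⁻¹) • b (σ j) := by
    intro j
    have h4 : b (σ j) = g ((c j)⁻¹ • b j) := by
      rw [hg.semi.smul, hgb, smul_smul]
      show _ = ((c j)⁻¹ * c j) • b (σ j)
      rw [inv_mul_cancel₀ (hc j), one_smul]
    rw [act_mul, h4, h3, act_smul, hD', smul_comm, hg.semi.smul, ← h4]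
    show act D ((d j)⁻¹ • b (σ j)) = _
    rw [act_smul, hD, smul_smul, mul_comm]
  obtain ⟨B, hB⟩ := exists_basis hF (by omega) hb
  have hZ2 : ¬ t ∣ Nat.card (Subgroup.centralizer ({pr n F q (D * D')} : Set (PSU n F q))) := by
    refine not_dvd_centralizer hF hn ht fun Y hY1 hY2 => ?_
    obtain ⟨μ, hμ⟩ := hY2
    refine scal_of_diag ht hμ (g := lin (D * D')) (fun v => hY1 v) B
      (z := fun i => d i * (d (σ.symm i))⁻¹) ?_ ?_
    · intro i j hij
      have h5 := hinj (a₁ := σ.symm i) (a₂ := σ.symm j) (by simpa using hij)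
      exact σ.symm.injective h5
    · intro i
      have h5 := hZ (σ.symm i)
      rw [Equiv.apply_symm_apply] at h5
      rw [hB]
      exact h5
  refine Cfsg.Agent.H955.PiG.false_of_regular (k := 2) (m := m) ht hL hs hsK (g := pr n F q (D * D')) ?_ hZ2
    (by omega) (fun h => absurd h hst) hFC
  have h6 := InC.commutator x (pr n F q D)
  rw [← map_inv, h2, ← map_mul] at h6
  exact h6

omit [Fintype F] in
theorem exists_root_of_dvd [Finite F] (hF : Nat.card F = q ^ 2) {r : ℕ} (hr : r.Prime) (h : r ∣ q + 1) :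
    ∃ a : F, IsPrimitiveRoot a r ∧ a * a ^ q = 1 := by
  have : Fact r.Prime := ⟨hr⟩
  have h1 : r ∣ Nat.card F - 1 := by
    rw [hF]
    have h1 : q ^ 2 - 1 = (q + 1) * (q - 1) := by
      have := Nat.sq_sub_sq q 1
      rwa [one_pow] at this
    rw [h1]
    exact Dvd.dvd.mul_right h _
  obtain ⟨a, ha⟩ := Cfsg.Agent.H957.T5Lin.exists_prim h1
  refine ⟨a, ha, ?_⟩
  obtain ⟨k, hk⟩ := h
  rw [← pow_succ', hk, pow_mul, ha.pow_eq_one, one_pow]

theorem dvd_choose_three {p : ℕ} (hp : p.Prime) (h5 : 5 ≤ p) : p ∣ (p + 1).choose 3 := by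
  have h1 : p ∣ (p + 1).choose 3 * Nat.factorial 3 := by
    rw [mul_comm, ← Nat.descFactorial_eq_factorial_mul_choose]
    have : (p + 1).descFactorial 3 = (p - 1) * (p * (p + 1)) := by
      simp [Nat.descFactorial_succ]
    rw [this]
    exact Dvd.dvd.mul_left (Dvd.intro _ rfl) _
  rcases (hp.dvd_mul).1 h1 with h2 | h2
  · exact h2
  · exfalso
    have h3 : p ≤ 3 := (hp.dvd_factorial).1 h2
    omega

theorem sum_choose_two (p : ℕ) : ∑ i : Fin p, ((i : ℕ) + 1).choose 2 = (p + 1).choose 3 := by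
  rw [Fin.sum_univ_eq_sum_range (fun i => (i + 1).choose 2) p]
  induction p with
  | zero => rfl
  | succ p ih => rw [Finset.sum_range_succ, ih, Nat.choose_succ_succ (p + 1) 2, add_comm]

/-- the orthonormal basis of a cyclic isometry whose `p`-th power is not a `p`-th power -/
theorem exists_cyc_basis (hF : Fintype.card F = q ^ 2) (hn : 3 ≤ n) {p : ℕ} (hp : p.Prime) (hp2 : p ≠ 2)
    (hpq : p ∣ q + 1) {g : Equiv.Perm (Fin n → F)} (hg : SI q (1 : F ≃+* F) g) {l : F} (hll : l * l ^ q = 1)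
    (hl : ∀ v, (g ^ p) v = l • v) (hlp : ∀ a : F, a ^ p ≠ l) :
    ∃ v : Fin n → F, ∀ i j : Fin p, hermForm n F q ((g ^ (i : ℕ)) v) ((g ^ (j : ℕ)) v) = if i = j then 1 else 0 := by
  obtain ⟨t, e, ht, hchar, hqt, -⟩ := exists_prime_pow hF
  have hpF : (p : F) ≠ 0 := by
    intro h
    have h1 : t ∣ p := (CharP.cast_eq_zero_iff F t p).1 h
    have h2 : t = p := (Nat.prime_dvd_prime_iff_eq ht hp).1 h1
    have h3 : t ∣ q := by
      rw [hqt]
      refine dvd_pow_self t ?_
      rintro rfl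
      have := two_le hF
      rw [hqt, pow_zero] at this
      omega
    rw [h2] at h3
    have h4 := (Nat.dvd_add_right h3).1 hpq
    exact hp.one_lt.ne' (Nat.dvd_one.1 h4)
  have hl0 : l ≠ 0 := by
    rintro rfl
    rw [zero_mul] at hll
    exact zero_ne_one hll
  have hp3 : 3 ≤ p := by
    have := hp.two_le
    omega
  obtain ⟨m, hm⟩ : ∃ m, p = 2 * m + 1 := hp.odd_of_ne_two hp2
  obtain ⟨v, hv, -⟩ := (nt_two hF (by omega) hp hp2 hpq hg hll hl hlp).get hF hpF hg (m := m)
    (by rw [natDegree_X_pow_sub_C]; omega) (fun k => if k = 0 then 1 else 0) (by simp)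
  have h1 : ∀ (k : ℕ) (u w : Fin n → F), hermForm n F q ((g ^ k) u) ((g ^ k) w) = hermForm n F q u w := by
    intro k u w
    have := (hg.pow k).herm u w
    rw [one_pow] at this
    exact this
  have h2 : ∀ k, 0 < k → k < p → hermForm n F q ((g ^ k) v) v = 0 := by
    intro k hk0 hkp
    rcases Nat.lt_or_ge m k with h3 | h3
    · have h4 : hermForm n F q ((g ^ k) v) ((g ^ p) v) = 0 := by
        have h5 : (g ^ p) v = (g ^ k) ((g ^ (p - k)) v) := by
          rw [← Equiv.Perm.mul_apply, ← pow_add]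
          congr 2
          omega
        rw [h5, h1]
        apply herm_eq_zero_swap hF
        rw [hv _ (by omega), if_neg (by omega)]
      rw [hl, herm_smul_right] at h4
      exact (mul_eq_zero.1 h4).resolve_left (pow_ne_zero _ hl0)
    · rw [hv k h3, if_neg (by omega)]
  have h3 : ∀ i j : ℕ, j < i → i < p → hermForm n F q ((g ^ i) v) ((g ^ j) v) = 0 := by
    intro i j hji hip
    have h4 : (g ^ i) v = (g ^ j) ((g ^ (i - j)) v) := by
      rw [← Equiv.Perm.mul_apply, ← pow_add]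
      congr 2
      omega
    rw [h4, h1]
    exact h2 _ (by omega) (by omega)
  refine ⟨v, fun i j => ?_⟩
  rcases lt_trichotomy (i : ℕ) (j : ℕ) with h4 | h4 | h4
  · rw [if_neg (fun h => by rw [h] at h4; omega)]
    exact herm_eq_zero_swap hF (h3 _ _ h4 j.2)
  · have h5 : i = j := Fin.ext h4
    subst h5
    rw [if_pos rfl, h1]
    have := hv 0 (Nat.zero_le _)
    simpa using this
  · rw [if_neg (fun h => by rw [h] at h4; omega)]
    exact h3 _ _ h4 i.2

/-- **IRR-U.** -/
theorem irr_u (hF : Fintype.card F = q ^ 2) (hn : 3 ≤ n) (h32 : ¬ (n = 3 ∧ q = 2)) [CharP F t] (ht : t.Prime)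
    {s : ℕ} (hs : s.Prime) (hs3 : 3 ≤ s) (hst : s ≠ t) (hsK : s ∣ Nat.card (PSU n F q)) (h3 : n = 3 → s ∣ q + 1)
    {x : MulAut (PSU n F q)} (hp : (orderOf x).Prime) (hps : orderOf x ≠ s)
    {g : Equiv.Perm (Fin n → F)} (hg : SI q (1 : F ≃+* F) g) (hi : Ind (pr n F q) (rho n F q) g x)
    (hirr : ∀ W : Submodule F (Fin n → F), (∀ v ∈ W, g v ∈ W) → W = ⊥ ∨ W = ⊤) {m : ℕ}
    (hm : 11 ≤ m) (hFC : FC s m x) : False := by
  have hfin : Finite (PSU n F q) := Finite.of_surjective _ (pr_surjective (n := n) (F := F) (q := q))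
  have hL : IsLieTypeChar t (PSU n F q) :=
    Or.inr (Or.inr (Or.inl ⟨F, inferInstance, inferInstance, inferInstance, n, q, hF, hn, h32, ⟨MulEquiv.refl _⟩⟩))
  have hne : Nonempty (Fin n) := ⟨⟨0, by omega⟩⟩
  have hnt : Nontrivial (Fin n → F) := Function.nontrivial
  have hsc : IsScal F (g ^ orderOf x) := by
    have h1 := hi.pow (orderOf x)
    rw [pow_orderOf_eq_one] at h1
    have h2 := (hg.pow (orderOf x))
    obtain ⟨a, ha⟩ := uniq hF hn ⟨1, 1, one_ne_zero, by
      have h4 := h2.semi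
      rw [one_pow] at h4
      exact ⟨h4.add, h4.smul⟩, fun u v => by
        rw [one_mul, h2.herm, one_pow]⟩ h1
    rw [ha]
    exact ⟨a, fun v => rfl⟩
  obtain ⟨l, hl⟩ := hsc
  have hnp := finrank_le_of_irr hp.pos hg.semi hl hirr
  rw [finrank_fin_fun] at hnp
  have hp2 : orderOf x ≠ 2 := by omega
  rcases scale_lin hF (by omega) hp hp2 hg ⟨l, hl⟩ with ⟨a, ha1, ha2⟩ | ⟨hpq, l, hll, hl, hlp⟩
  · -- the scaled map has order `p`
    have hg' := hg.smulA (c := g) ha1
    have hi' : Ind (pr n F q) (rho n F q) (smulA a g) x := by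
      have h2 : Cfsg.Agent.H957.T5V.smulA a g = scal F (Fin n → F) a * g := by
        ext v
        rfl
      rw [h2]
      have := (ind_scal (n := n) (q := q) a).mul hi
      rwa [one_mul] at this
    obtain ⟨f, hf, hfc⟩ := exists_end hg'.semi
    have hirr' : ∀ W : Submodule F (Fin n → F), (∀ v ∈ W, smulA a g v ∈ W) → W = ⊥ ∨ W = ⊤ := by
      intro W hW
      refine hirr W fun v hv => ?_
      have h1 := W.smul_mem (a : F)⁻¹ (hW v hv)
      rwa [smulA_apply, smul_smul, inv_mul_cancel₀ a.ne_zero, one_smul] at h1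
    have hdet : LinearMap.det (f : Module.End F (Fin n → F)) = 1 := by
      refine det_of_irr hp (by rw [finrank_fin_fun]; omega) ?_ ?_
      · refine LinearMap.ext fun v => ?_
        rw [pow_end hf, ha2]
        rfl
      · intro W hW
        refine hirr' W fun v hv => ?_
        rw [← hf]
        exact hW v hv
    obtain ⟨A, hA, hxA⟩ := inner_of_det hg' (f := f) hf hdet hi'
    refine Cfsg.Agent.H955.PiG.false_of_regular (k := 1) (m := m) ht hL hs hsK (g := pr n F q A) ?_ ?_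
      (by omega) (fun h => absurd h hst) hFC
    · rw [← hxA]
      exact InC.self x
    · refine not_dvd_centralizer hF hn ht fun Y hY1 hY2 => ?_
      obtain ⟨μ, hμ⟩ := hY2
      refine scal_of_irr ht hμ (g := act A) (fun a v => act_smul A a v) (fun v => hY1 v) ?_
      intro W hW
      refine hirr' W fun v hv => ?_
      rw [← hA]
      exact hW v hv
  · -- the monomial case
    obtain ⟨v, hv⟩ := exists_cyc_basis hF hn hp hp2 hpq hg hll hl hlp
    have hl0 : l ≠ 0 := by
      rintro rfl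
      rw [zero_mul] at hll
      exact zero_ne_one hll
    have hpn : orderOf x ≤ n := by
      have h1 := (li_orth hF hv).fintype_card_le_finrank
      rwa [Fintype.card_fin, finrank_fin_fun] at h1
    obtain ⟨p, hp'⟩ : ∃ p, p = orderOf x := ⟨_, rfl⟩
    rw [← hp'] at hp hps hp2 hpq hl hlp hv hpn hnp
    have hnp' : n = p := le_antisymm hnp hpn
    subst hnp'
    obtain ⟨k, rfl⟩ : ∃ k, n = k + 1 := ⟨n - 1, by omega⟩
    -- the action of `g` on the basis
    have hgb : ∀ j : Fin (k + 1), g ((g ^ (j : ℕ)) v) =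
        (if j = Fin.last k then l else 1) • (g ^ ((finRotate (k + 1) j : Fin (k + 1)) : ℕ)) v := by
      intro j
      rw [← Equiv.Perm.mul_apply, ← pow_succ', coe_finRotate]
      by_cases h4 : j = Fin.last k
      · rw [if_pos h4, if_pos h4, h4, Fin.val_last, hl, pow_zero]
        rfl
      · rw [if_neg h4, if_neg h4, one_smul]
    have hc : ∀ j : Fin (k + 1), (if j = Fin.last k then l else 1) ≠ 0 := by
      intro j
      split_ifs
      · exact hl0
      · exact one_ne_zero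
    by_cases h5 : 5 ≤ k + 1
    · obtain ⟨w, hw, hwq⟩ := exists_root_of_dvd (F := F) (by rw [Nat.card_eq_fintype_card, hF]) hp hpq
      have hw0 : w ≠ 0 := hw.ne_zero (by omega)
      refine false_of_mono hF hn h32 ht hs hst hsK hg hi hm hFC (b := fun i => (g ^ (i : ℕ)) v) hv
        (σ := finRotate (k + 1)) hc hgb (d := fun i => w ^ (((i : ℕ) + 1).choose 2)) ?_ ?_ ?_
      · intro i
        rw [← pow_mul, mul_comm _ q, pow_mul, ← mul_pow, hwq, one_pow]
      · rw [Finset.prod_pow_eq_pow_sum, sum_choose_two]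
        obtain ⟨r, hr⟩ := dvd_choose_three hp h5
        rw [hr, pow_mul, hw.pow_eq_one, one_pow]
      · have h6 : ∀ j : Fin (k + 1), w ^ ((((finRotate (k + 1)) j : Fin (k + 1)) : ℕ) + 1).choose 2 *
            (w ^ ((j : ℕ) + 1).choose 2)⁻¹ = w ^ (((finRotate (k + 1)) j : Fin (k + 1)) : ℕ) := by
          intro j
          rw [coe_finRotate]
          by_cases h4 : j = Fin.last k
          · rw [if_pos h4, h4, Fin.val_last]
            obtain ⟨r, hr⟩ := hp.dvd_choose_self (k := 2) (by norm_num) (by omega)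
            rw [hr, pow_mul, hw.pow_eq_one, one_pow]
            simp
          · rw [if_neg h4, Nat.choose_succ_succ ((j : ℕ) + 1) 1, Nat.choose_one_right, pow_add, mul_assoc,
              mul_inv_cancel₀ (pow_ne_zero _ hw0), mul_one]
        intro i j hij
        simp only [h6] at hij
        have h7 := hw.pow_inj (Fin.is_lt _) (Fin.is_lt _) hij
        exact (finRotate (k + 1)).injective (Fin.ext h7)
    · have hk : k = 2 := by
        have h6 : k + 1 ≠ 4 := by
          intro h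
          rw [h] at hp
          norm_num at hp
        omega
      subst hk
      have hs5 : 5 ≤ s := by
        have h6 : s ≠ 4 := by
          rintro rfl
          norm_num at hs
        omega
      obtain ⟨a, ha, haq⟩ := exists_root_of_dvd (F := F) (by rw [Nat.card_eq_fintype_card, hF]) hs (h3 rfl)
      have ha0 : a ≠ 0 := ha.ne_zero (by omega)
      have haq' : a⁻¹ * a⁻¹ ^ q = 1 := by rw [inv_pow, ← mul_inv, haq, inv_one]
      have hne : ∀ r, 0 < r → ¬ s ∣ r → a ^ r ≠ 1 := fun r _ h6 h7 => h6 (ha.dvd_of_pow_eq_one r h7)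
      have hs3' : ¬ s ∣ 3 := fun h => by have := Nat.le_of_dvd (by norm_num) h; omega
      have hs6' : ¬ s ∣ 6 := fun h => by
        have h6 := Nat.le_of_dvd (by norm_num) h
        have h7 : s ≠ 6 := by rintro rfl; norm_num at hs
        have h8 : s = 5 := by omega
        rw [h8] at h
        norm_num at h
      refine false_of_mono hF hn h32 ht hs hst hsK hg hi hm hFC (b := fun i => (g ^ (i : ℕ)) v) hv
        (σ := finRotate (2 + 1)) hc hgb (d := ![a, a, a⁻¹ * a⁻¹]) ?_ ?_ ?_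
      · intro i
        fin_cases i
        · exact haq
        · exact haq
        · show a⁻¹ * a⁻¹ * (a⁻¹ * a⁻¹) ^ q = 1
          rw [Cfsg.Agent.LieClassical.HermBasic.norm_mul, haq', one_mul]
      · rw [Fin.prod_univ_three]
        show a * a * (a⁻¹ * a⁻¹) = 1
        field_simp
      · have e1 := hne 3 (by norm_num) hs3'
        have e2 := hne 6 (by norm_num) hs6'
        have r0 : finRotate (2 + 1) (0 : Fin 3) = 1 := rfl
        have r1 : finRotate (2 + 1) (1 : Fin 3) = 2 := rfl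
        have r2 : finRotate (2 + 1) (2 : Fin 3) = 0 := rfl
        have z0 : (![a, a, a⁻¹ * a⁻¹] : Fin 3 → F) (finRotate (2 + 1) 0) * ((![a, a, a⁻¹ * a⁻¹] : Fin 3 → F) 0)⁻¹ = 1 := by
          rw [r0]
          show a * a⁻¹ = 1
          exact mul_inv_cancel₀ ha0
        have z1 : (![a, a, a⁻¹ * a⁻¹] : Fin 3 → F) (finRotate (2 + 1) 1) * ((![a, a, a⁻¹ * a⁻¹] : Fin 3 → F) 1)⁻¹ =
            (a ^ 3)⁻¹ := by
          rw [r1]
          show a⁻¹ * a⁻¹ * a⁻¹ = _
          field_simp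
        have z2 : (![a, a, a⁻¹ * a⁻¹] : Fin 3 → F) (finRotate (2 + 1) 2) * ((![a, a, a⁻¹ * a⁻¹] : Fin 3 → F) 2)⁻¹ =
            a ^ 3 := by
          rw [r2]
          show a * (a⁻¹ * a⁻¹)⁻¹ = _
          field_simp
        have d01 : (1 : F) ≠ (a ^ 3)⁻¹ := fun h => e1 (by rw [← inv_inv (a ^ 3), ← h, inv_one])
        have d02 : (1 : F) ≠ a ^ 3 := fun h => e1 h.symm
        have d12 : (a ^ 3)⁻¹ ≠ a ^ 3 := by
          intro h
          apply e2
          have h7 : a ^ 3 * (a ^ 3)⁻¹ = a ^ 3 * a ^ 3 := by rw [h]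
          rw [mul_inv_cancel₀ (pow_ne_zero _ ha0)] at h7
          rw [show 6 = 3 + 3 by norm_num, pow_add, ← h7]
        intro i j hij
        fin_cases i <;> fin_cases j
        · rfl
        · exact absurd (z0.symm.trans (hij.trans z1)) d01
        · exact absurd (z0.symm.trans (hij.trans z2)) d02
        · exact absurd (z1.symm.trans (hij.trans z0)).symm d01
        · rfl
        · exact absurd (z1.symm.trans (hij.trans z2)) d12
        · exact absurd (z2.symm.trans (hij.trans z0)).symm d02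
        · exact absurd (z2.symm.trans (hij.trans z1)).symm d12
        · rfl

end Cfsg.Agent.H533.U
end

-- part: H533/U/Semi
section
/-!
# Semilinear isometries of prime order modulo scalars (helper533, S4324, SEMI-U)

`semi_u` : the section facts exclude the proper semilinear isometries; `exists_lift`, `lift_pow`, `lift_order`, `lift_ne`.
-/

set_option autoImplicit false

namespace Cfsg.Agent.H533.U

open Cfsg Cfsg.Agent.LieClassical.HermBasic Cfsg.Agent.LieClassical.HermSiegel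
open Cfsg.Agent.ClassicalGeometry.UnitAutBasic Cfsg.Agent.ClassicalGeometry.PSUAutCount
open Cfsg.Agent.H957.T5V Cfsg.Agent.H957.T5U Cfsg.Agent.H957.T5Pairs
open Cfsg.Agent.H177.MeetPSU (rho rho_apply rho_injective uniq ind_scal ind_yy yy yy_apply)
open Cfsg.Agent.H903.SylSemi (Ind scal scal_apply)
open Cfsg.Agent.H77.Geom (perp mem_perp mem_perp_singleton perp_span finrank_perp)
open Module

variable {F : Type} [Field F] [Fintype F] {n q p : ℕ} {θ : F ≃+* F} {g : Equiv.Perm (Fin n → F)}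

/-! ### Lifts -/

theorem exists_lift (hF : Fintype.card F = q ^ 2) (hn : 3 ≤ n) (h32 : ¬ (n = 3 ∧ q = 2)) (x : MulAut (PSU n F q)) :
    ∃ (θ : F ≃+* F) (g : Equiv.Perm (Fin n → F)), SI q θ g ∧ Ind (pr n F q) (rho n F q) g x := by
  obtain ⟨A, θ, rfl⟩ := Cfsg.Agent.ClassicalGeometry.PSUAutMain.exists_toAut hF hn h32 x
  refine ⟨θ, yy A θ, ⟨⟨fun u v => ?_, fun a v => ?_⟩, fun u v => herm_semi A θ u v⟩, ind_yy A θ⟩
  · rw [yy_apply, yy_apply, yy_apply, ← Matrix.mulVec_add]
    congr 1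
    funext i
    exact map_add θ _ _
  · rw [yy_apply, yy_apply, ← Matrix.mulVec_smul]
    congr 1
    funext i
    exact map_mul θ _ _

theorem scal_of_ind (hF : Fintype.card F = q ^ 2) (hn : 3 ≤ n) (hg : SI q θ g)
    (h : Ind (pr n F q) (rho n F q) g 1) : IsScal F g := by
  obtain ⟨a, rfl⟩ := uniq hF hn ⟨θ, 1, one_ne_zero, ⟨hg.semi.add, hg.semi.smul⟩, fun u v => by
    rw [one_mul, hg.herm]⟩ h
  exact ⟨a, fun v => rfl⟩

theorem lift_pow (hF : Fintype.card F = q ^ 2) (hn : 3 ≤ n) (hg : SI q θ g) {x : MulAut (PSU n F q)}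
    (hi : Ind (pr n F q) (rho n F q) g x) : IsScal F (g ^ orderOf x) := by
  have h1 := hi.pow (orderOf x)
  rw [pow_orderOf_eq_one] at h1
  exact scal_of_ind hF hn (hg.pow _) h1

omit [Fintype F] in
theorem lift_not_scal (hn : 3 ≤ n) {x : MulAut (PSU n F q)} (hx : x ≠ 1)
    (hi : Ind (pr n F q) (rho n F q) g x) : ¬ IsScal F g := by
  intro hs
  have : Nonempty (Fin n) := ⟨⟨0, by omega⟩⟩
  have : Nontrivial (Fin n → F) := Function.nontrivial
  obtain ⟨a, rfl⟩ := Cfsg.Agent.H957.T5Tr.exists_scal hs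
  exact hx (Ind.unique pr_surjective rho_injective hi (ind_scal a))

omit [Fintype F] in
theorem ne_zero_of_scal (hn : 0 < n) {a : F} (ha : ∀ v, g v = a • v) : a ≠ 0 := by
  rintro rfl
  have h1 : g (Pi.single ⟨0, by omega⟩ 1) = g 0 := by rw [ha, ha, zero_smul, zero_smul]
  have h2 := congrFun (g.injective h1) ⟨0, by omega⟩
  simp at h2

omit [Fintype F] in
theorem theta_pow (hn : 0 < n) (hg : Semi θ g) {m : ℕ} (h : IsScal F (g ^ m)) : θ ^ m = 1 := by
  obtain ⟨l, hl⟩ := h
  have hl0 := ne_zero_of_scal hn hl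
  have hsemi := hg.pow m
  ext a
  have h1 := hsemi.smul a (Pi.single ⟨0, by omega⟩ 1)
  rw [hl, hl] at h1
  have h2 := congrFun h1 ⟨0, by omega⟩
  simp only [Pi.smul_apply, Pi.single_eq_same, smul_eq_mul, mul_one] at h2
  rw [mul_comm l a] at h2
  exact (mul_right_cancel₀ hl0 h2).symm

omit [Fintype F] in
/-- a proper semilinear map is not scalar on a nonzero subspace -/
theorem not_scal_on (hg : Semi θ g) (hθ : θ ≠ 1) {W : Submodule F (Fin n → F)} (hW : W ≠ ⊥) :
    ¬ ∃ a : F, ∀ v ∈ W, g v = a • v := by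
  rintro ⟨a, ha⟩
  obtain ⟨v, hv, hv0⟩ := W.exists_mem_ne_zero_of_ne_bot hW
  have ha0 : a ≠ 0 := by
    rintro rfl
    apply hv0
    apply g.injective
    rw [ha v hv, zero_smul, hg.zero]
  apply hθ
  ext b
  have h1 := ha (b • v) (W.smul_mem _ hv)
  rw [hg.smul, ha v hv, smul_smul, smul_smul] at h1
  have h2 : (θ b * a - a * b) • v = 0 := by rw [sub_smul, h1, sub_self]
  have h3 := (smul_eq_zero.1 h2).resolve_right hv0
  have h4 : (θ b - b) * a = 0 := by linear_combination h3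
  exact sub_eq_zero.1 ((mul_eq_zero.1 h4).resolve_right ha0)

/-! ### The perpendicular space of a nonsingular eigenvector -/

theorem perp_inv (hF : Fintype.card F = q ^ 2) (hg : SI q θ g) {v : Fin n → F} {a : F} (ha : g v = a • v) (hv : v ≠ 0) :
    ∀ w ∈ perp q {v}, g w ∈ perp q {v} := by
  intro w hw
  rw [mem_perp_singleton] at hw ⊢
  have ha0 : a ≠ 0 := by
    rintro rfl
    apply hv
    apply g.injective
    rw [ha, zero_smul, hg.semi.zero]
  have h1 := hg.herm w v
  rw [hw, map_zero, ha, herm_smul_right] at h1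
  exact (mul_eq_zero.1 h1).resolve_left ((pow_q_eq_zero hF).not.2 ha0)

theorem perp_nondeg (hF : Fintype.card F = q ^ 2) {v : Fin n → F} (hv : hermForm n F q v v ≠ 0) :
    ∀ u ∈ perp q {v}, (∀ w ∈ perp q {v}, hermForm n F q u w = 0) → u = 0 := by
  intro u hu hw
  apply herm_nondeg hF
  intro w
  have h1 : w - (hermForm n F q w v * (hermForm n F q v v)⁻¹) • v ∈ perp q {v} := by
    rw [mem_perp_singleton, herm_sub_left, herm_smul_left, mul_assoc, inv_mul_cancel₀ hv, mul_one, sub_self]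
  have h2 := hw _ h1
  rw [herm_sub_right hF, herm_smul_right, mem_perp_singleton.1 hu, mul_zero, sub_zero] at h2
  exact h2

omit [Fintype F] in
theorem perp_ne_top {v : Fin n → F} (hv : hermForm n F q v v ≠ 0) : perp q {v} ≠ ⊤ := by
  intro h
  have h1 : v ∈ perp q {v} := by rw [h]; trivial
  exact hv (mem_perp_singleton.1 h1)

theorem finrank_perp_one (hF : Fintype.card F = q ^ 2) {v : Fin n → F} (hv : v ≠ 0) :
    finrank F (perp q {v}) + 1 = n := by
  have h1 : LinearIndependent F ![v] := LinearIndependent.of_subsingleton 0 hv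
  have h2 := finrank_perp (q := q) hF h1
  have h3 : Set.range ![v] = {v} := by simp
  rwa [h3] at h2

/-- the two possible conclusions of the geometry -/
def Split (q : ℕ) (g : Equiv.Perm (Fin n → F)) : Prop :=
  (∃ v w : Fin n → F, hermForm n F q v v ≠ 0 ∧ hermForm n F q w w ≠ 0 ∧ hermForm n F q w v = 0 ∧
    (∃ a : F, g v = a • v) ∧ ∃ a : F, g w = a • w) ∨
  ∃ W : Submodule F (Fin n → F), (∀ u ∈ W, ∀ v ∈ W, hermForm n F q u v = 0) ∧ (∀ v ∈ W, g v ∈ W) ∧
    2 * finrank F W = n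

/-- odd order -/
theorem split_odd (hF : Fintype.card F = q ^ 2) (hn : 3 ≤ n) (hp : p.Prime) (hp2 : p ≠ 2) (hθ : orderOf θ = p)
    (hg : SI q θ g) (hgp : IsScal F (g ^ p)) : Split q g := by
  left
  obtain ⟨c, hc, hcp⟩ := scale_semi hF (by omega) hp hp2 hθ hg hgp
  obtain ⟨b, hb, hfix⟩ := exists_onb_fix hF hp hp2 hθ (hg.smulA hc) hcp 2 (by omega)
  have h1 : ∀ i, g (b i) = (c : F)⁻¹ • b i := by
    intro i
    have h2 := hfix i
    rw [smulA_apply] at h2
    conv_rhs => rw [← h2]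
    rw [smul_smul, inv_mul_cancel₀ c.ne_zero, one_smul]
  refine ⟨b 0, b 1, ?_, ?_, ?_, ⟨_, h1 0⟩, ⟨_, h1 1⟩⟩
  · rw [hb, if_pos rfl]; exact one_ne_zero
  · rw [hb, if_pos rfl]; exact one_ne_zero
  · rw [hb, if_neg (by decide)]

/-! ### Order two -/

/-- an automorphism of order two is `a ↦ a ^ q` -/
theorem theta_two (hF : Fintype.card F = q ^ 2) (hθ : orderOf θ = 2) (a : F) : θ a = a ^ q := by
  classical
  have hθθ : ∀ b, θ (θ b) = b := by
    intro b
    have h1 : θ ^ 2 = 1 := by rw [← hθ, pow_orderOf_eq_one]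
    have h2 := RingEquiv.congr_fun h1 b
    rwa [pow_two] at h2
  have hcard : Nat.card (Cfsg.Agent.H967.CopMat.Fx θ) = q := by
    have h1 := Cfsg.Agent.H967.CopMat.card_Fx θ
    rw [hθ] at h1
    have h2 : Nat.card (Cfsg.Agent.H967.CopMat.Fx θ) ^ 2 = q ^ 2 := by
      rw [← hF, ← Nat.card_eq_fintype_card (α := F)]
      exact h1.symm
    exact Nat.pow_left_injective two_ne_zero h2
  have hfix : ∀ b, θ b = b → b ^ q = b := by
    intro b hb
    have : Fintype (Cfsg.Agent.H967.CopMat.Fx θ) := Fintype.ofFinite _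
    have h1 := FiniteField.pow_card (⟨b, hb⟩ : Cfsg.Agent.H967.CopMat.Fx θ)
    rw [← Nat.card_eq_fintype_card, hcard] at h1
    exact congrArg Subtype.val h1
  have hset : ((Cfsg.Agent.H967.CopMat.Fx θ : Subfield F) : Set F) = (Kq hF : Set F) := by
    refine Set.eq_of_subset_of_ncard_le (fun b hb => hfix b hb) ?_ (Set.toFinite _)
    have h1 : ((Cfsg.Agent.H967.CopMat.Fx θ : Subfield F) : Set F).ncard = q := by
      rw [← hcard]; exact (Nat.card_coe_set_eq _).symm
    have h2 : (Kq hF : Set F).ncard = q := (Nat.card_coe_set_eq _).symm.trans (card_fixed hF)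
    rw [h1, h2]
  have hs : (a + θ a) ^ q = a + θ a := hfix _ (by rw [map_add, hθθ, add_comm])
  have hm : (a * θ a) ^ q = a * θ a := hfix _ (by rw [map_mul, hθθ, mul_comm])
  have h1 : (a ^ q - a) * (a ^ q - θ a) = 0 := by
    have h2 : (a * a - (a + θ a) * a + a * θ a) ^ q = 0 := by
      have : a * a - (a + θ a) * a + a * θ a = 0 := by ring
      rw [this, zero_pow_q hF]
    rw [add_pow_q hF, sub_pow_q hF, mul_pow, mul_pow (a + θ a), hs, hm] at h2
    linear_combination h2
  rcases mul_eq_zero.1 h1 with h2 | h2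
  · have h3 : a ∈ (Kq hF : Set F) := sub_eq_zero.1 h2
    rw [← hset] at h3
    have h4 : θ a = a := h3
    rw [h4, sub_eq_zero.1 h2]
  · exact (sub_eq_zero.1 h2).symm

/-- order two -/
theorem split_two (hF : Fintype.card F = q ^ 2) (hn : 3 ≤ n) (hθ : orderOf θ = 2)
    (hg : SI q θ g) (hgp : IsScal F (g ^ 2)) : Split q g := by
  obtain ⟨l, hl⟩ := hgp
  have hθa := theta_two hF hθ
  have hlq : l ^ q = l := by rw [← hθa]; exact fix_scal (by omega) hg.semi hl
  have hll : l * l = 1 := by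
    have h1 := scal_norm (by omega) (hg.pow 2) hl
    rwa [hlq] at h1
  have hl0 : l ≠ 0 := by
    rintro rfl
    rw [zero_mul] at hll
    exact zero_ne_one hll
  obtain ⟨c, hc0, hc⟩ := exists_norm_eq_ne hF hlq hl0
  -- the scaled map
  obtain ⟨X, hX⟩ : ∃ X : Equiv.Perm (Fin n → F), X = smulA (Units.mk0 c hc0) g := ⟨_, rfl⟩
  have hXg : ∀ v, X v = c • g v := fun v => by rw [hX, smulA_apply, Units.val_mk0]
  have hgX : ∀ v, g v = c⁻¹ • X v := fun v => by rw [hXg, smul_smul, inv_mul_cancel₀ hc0, one_smul]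
  have hXs : ∀ (a : F) v, X (a • v) = a ^ q • X v := by
    intro a v
    rw [hXg, hXg, hg.semi.smul, hθa, smul_comm]
  have hXa : ∀ u v, X (u + v) = X u + X v := fun u v => by rw [hXg, hXg, hXg, hg.semi.add, smul_add]
  have hXX : ∀ v, X (X v) = v := by
    intro v
    have h1 : g (g v) = l • v := by rw [← hl, pow_two, Equiv.Perm.mul_apply]
    rw [hXg, hXg, hg.semi.smul, hθa, h1, smul_smul, smul_smul, hc, hll, one_smul]
  have hXh : ∀ u v, hermForm n F q (X u) (X v) = l * (hermForm n F q u v) ^ q := by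
    intro u v
    rw [hXg, hXg, herm_smul_left, herm_smul_right, hg.herm, hθa, ← mul_assoc, hc]
  have hfe : ∀ v, X v = v → ∃ a : F, g v = a • v := fun v hv => ⟨c⁻¹, by rw [hgX, hv]⟩
  -- invariant subspaces are spanned by their fixed vectors
  have hspan : ∀ Y W : Submodule F (Fin n → F), (∀ v ∈ Y, X v ∈ Y) → (∀ v ∈ Y, X v = v → v ∈ W) → Y ≤ W := by
    intro Y W hY hW v hv
    obtain ⟨w, hw⟩ := exists_not_fixed hF
    have h1 : v + X v ∈ W := hW _ (Y.add_mem hv (hY v hv)) (by rw [hXa, hXX, add_comm])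
    have h2 : w • v + w ^ q • X v ∈ W := hW _ (Y.add_mem (Y.smul_mem _ hv) (Y.smul_mem _ (hY v hv))) (by
      rw [hXa, hXs, hXs, hXX, pow_q_pow_q hF, add_comm])
    have h3 : v = (w - w ^ q)⁻¹ • ((w • v + w ^ q • X v) - w ^ q • (v + X v)) := by
      have h4 : (w • v + w ^ q • X v) - w ^ q • (v + X v) = (w - w ^ q) • v := by
        rw [smul_add, sub_smul]; abel
      rw [h4, smul_smul, inv_mul_cancel₀ (sub_ne_zero.2 (Ne.symm hw)), one_smul]
    rw [h3]
    exact W.smul_mem _ (W.sub_mem h2 (W.smul_mem _ h1))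
  by_cases hex : ∃ v, X v = v ∧ hermForm n F q v v ≠ 0
  · left
    obtain ⟨v, hv, hvv⟩ := hex
    have hv0 : v ≠ 0 := by
      rintro rfl
      exact hvv (herm_zero_left _)
    have hηq : hermForm n F q v v ^ q = hermForm n F q v v := herm_self_pow hF v
    have hl1 : l = 1 := by
      have h1 := hXh v v
      rw [hv, hηq] at h1
      have h2 : (l - 1) * hermForm n F q v v = 0 := by linear_combination -h1
      exact sub_eq_zero.1 ((mul_eq_zero.1 h2).resolve_right hvv)
    have hsym : ∀ u w, X u = u → X w = w → hermForm n F q u w ^ q = hermForm n F q u w := by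
      intro u w hu hw
      have h1 := hXh u w
      rw [hu, hw, hl1, one_mul] at h1
      exact h1.symm
    have hYi : ∀ w ∈ perp q {v}, X w ∈ perp q {v} := by
      intro w hw
      rw [mem_perp_singleton] at hw ⊢
      have h1 := hXh w v
      rw [hw, hv, zero_pow_q hF, mul_zero] at h1
      exact h1
    by_cases hw : ∃ w ∈ perp q {v}, X w = w ∧ hermForm n F q w w ≠ 0
    · obtain ⟨w, hw1, hw2, hw3⟩ := hw
      exact ⟨v, w, hvv, hw3, mem_perp_singleton.1 hw1, hfe v hv, hfe w hw2⟩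
    · push Not at hw
      -- a nonzero fixed vector of the perpendicular space
      have hnd := perp_nondeg hF hvv
      have hY0 : perp q {v} ≠ ⊥ := by
        intro h
        have h1 := finrank_perp_one (q := q) hF hv0
        rw [h, finrank_bot] at h1
        omega
      obtain ⟨u1, hu1, hu1X, hu10⟩ : ∃ u1 ∈ perp q {v}, X u1 = u1 ∧ u1 ≠ 0 := by
        by_contra hcon
        push Not at hcon
        apply hY0
        rw [eq_bot_iff]
        exact hspan _ _ hYi fun u hu hXu => by rw [Submodule.mem_bot]; exact hcon u hu hXu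
      obtain ⟨u2, hu2, hu2X, hu12⟩ : ∃ u2 ∈ perp q {v}, X u2 = u2 ∧ hermForm n F q u1 u2 ≠ 0 := by
        by_contra hcon
        push Not at hcon
        apply hu10
        apply hnd u1 hu1
        have h1 := hspan (perp q {v}) (perp q {u1}) hYi fun u hu hXu => by
          rw [mem_perp_singleton]
          exact herm_eq_zero_swap hF (hcon u hu hXu)
        intro w hw'
        exact herm_eq_zero_swap hF (mem_perp_singleton.1 (h1 hw'))
      have hu2v : hermForm n F q u2 v = 0 := mem_perp_singleton.1 hu2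
      have hu1v : hermForm n F q u1 v = 0 := mem_perp_singleton.1 hu1
      have hvu1 : hermForm n F q v u1 = 0 := herm_eq_zero_swap hF hu1v
      have hvu2 : hermForm n F q v u2 = 0 := herm_eq_zero_swap hF hu2v
      have hu21 : hermForm n F q u2 u1 ≠ 0 := fun h => hu12 (herm_eq_zero_swap hF h)
      have hu21q := hsym u2 u1 hu2X hu1X
      obtain ⟨κ, hκ⟩ : ∃ κ : F, κ = -hermForm n F q u2 u1 * (hermForm n F q v v)⁻¹ := ⟨_, rfl⟩
      have hκ0 : κ ≠ 0 := by
        rw [hκ]
        exact mul_ne_zero (neg_ne_zero.2 hu21) (inv_ne_zero hvv)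
      have hκq : κ ^ q = κ := by rw [hκ, mul_pow, neg_pow_q hF, inv_pow, hu21q, hηq]
      have hκv : κ * hermForm n F q v v = -hermForm n F q u2 u1 := by
        rw [hκ, mul_assoc, inv_mul_cancel₀ hvv, mul_one]
      refine ⟨v + u1, u2 + κ • v, ?_, ?_, ?_, hfe _ ?_, hfe _ ?_⟩
      · rw [herm_add_left, herm_add_right hF, herm_add_right hF, hvu1, hu1v, hw u1 hu1 hu1X]
        simpa using hvv
      · rw [herm_add_left, herm_add_right hF, herm_add_right hF, herm_smul_left, herm_smul_left, herm_smul_right,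
          herm_smul_right, hw u2 hu2 hu2X, hu2v, hvu2, hκq]
        simpa using ⟨hκ0, hvv⟩
      · rw [herm_add_left, herm_add_right hF, herm_add_right hF, herm_smul_left, herm_smul_left, hu2v, hvu1, hκv]
        ring
      · rw [hXa, hv, hu1X]
      · rw [hXa, hXs, hv, hu2X, hκq]
  · right
    push Not at hex
    -- a maximal invariant totally isotropic subspace
    let S : Set (Submodule F (Fin n → F)) := {W | (∀ u ∈ W, ∀ v ∈ W, hermForm n F q u v = 0) ∧ ∀ v ∈ W, X v ∈ W}
    have hS : S.Nonempty := ⟨⊥, fun u hu v _ => by rw [(Submodule.mem_bot F).1 hu, herm_zero_left], fun v hv => by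
      rw [(Submodule.mem_bot F).1 hv, hXg, hg.semi.zero, smul_zero]
      exact Submodule.zero_mem _⟩
    obtain ⟨W, hWS, hmax⟩ := WellFounded.has_min (wellFounded_gt (α := Submodule F (Fin n → F))) S hS
    obtain ⟨hW1, hW2⟩ := hWS
    have hperpi : ∀ v ∈ perp q (W : Set (Fin n → F)), X v ∈ perp q (W : Set (Fin n → F)) := by
      intro v hv w hw
      have h1 := hXh v (X w)
      rw [hXX, hv _ (hW2 w hw), zero_pow_q hF, mul_zero] at h1
      exact h1
    have hle : perp q (W : Set (Fin n → F)) ≤ W := by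
      refine hspan _ _ hperpi fun v hv hXv => ?_
      by_contra hvW
      have h0 : X (0 : Fin n → F) = 0 := by rw [hXg, hg.semi.zero, smul_zero]
      refine hmax (W ⊔ Submodule.span F {v}) ⟨?_, ?_⟩ ?_
      · intro a ha b hb
        obtain ⟨a1, ha1, a2, ha2, rfl⟩ := Submodule.mem_sup.1 ha
        obtain ⟨b1, hb1, b2, hb2, rfl⟩ := Submodule.mem_sup.1 hb
        obtain ⟨α, rfl⟩ := Submodule.mem_span_singleton.1 ha2
        obtain ⟨β, rfl⟩ := Submodule.mem_span_singleton.1 hb2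
        rw [herm_add_left, herm_add_right hF, herm_add_right hF, herm_smul_left, herm_smul_left, herm_smul_right,
          herm_smul_right, hW1 a1 ha1 b1 hb1, hv b1 hb1, hex v hXv, herm_eq_zero_swap hF (hv a1 ha1)]
        simp
      · intro a ha
        obtain ⟨a1, ha1, a2, ha2, rfl⟩ := Submodule.mem_sup.1 ha
        obtain ⟨α, rfl⟩ := Submodule.mem_span_singleton.1 ha2
        rw [hXa, hXs, hXv]
        exact Submodule.add_mem _ (Submodule.mem_sup_left (hW2 a1 ha1))
          (Submodule.mem_sup_right (Submodule.smul_mem _ _ (Submodule.mem_span_singleton_self v)))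
      · show W < W ⊔ Submodule.span F {v}
        rw [lt_iff_le_and_ne]
        refine ⟨le_sup_left, fun h => hvW ?_⟩
        rw [h]
        exact Submodule.mem_sup_right (Submodule.mem_span_singleton_self v)
    have heq : perp q (W : Set (Fin n → F)) = W :=
      le_antisymm hle fun u hu w hw => hW1 u hu w hw
    refine ⟨W, hW1, fun v hv => by rw [hgX]; exact W.smul_mem _ (hW2 v hv), ?_⟩
    -- dimension
    obtain ⟨b⟩ : Nonempty (Basis (Fin (finrank F W)) F W) := ⟨finBasis F W⟩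
    have hli : LinearIndependent F (fun i => (b i : Fin n → F)) :=
      b.linearIndependent.map' W.subtype (Submodule.ker_subtype W)
    have h1 := finrank_perp (q := q) hF hli
    have h2 : perp q (Set.range fun i => (b i : Fin n → F)) = perp q (W : Set (Fin n → F)) := by
      apply le_antisymm
      · intro z hz w hw
        refine perp_span hF hz ?_
        have h3 : Submodule.span F (Set.range fun i => (b i : Fin n → F)) = W := by
          have h4 : (Set.range fun i => (b i : Fin n → F)) = W.subtype '' Set.range b := by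
            rw [← Set.range_comp]; rfl
          rw [h4, Submodule.span_image, b.span_eq, Submodule.map_top, Submodule.range_subtype]
        rw [h3]
        exact hw
      · intro z hz w hw
        obtain ⟨i, rfl⟩ := hw
        exact hz _ (b i).2
    rw [h2, heq] at h1
    omega

/-- **SEMI-U, geometry.** -/
theorem split_semi (hF : Fintype.card F = q ^ 2) (hn : 3 ≤ n) (hp : p.Prime) (hθ : θ ≠ 1)
    (hg : SI q θ g) (hgp : IsScal F (g ^ p)) : Split q g := by
  have hθp : orderOf θ = p := by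
    rcases (Nat.dvd_prime hp).1 (orderOf_dvd_of_pow_eq_one (theta_pow (by omega) hg.semi hgp)) with h | h
    · exact absurd (orderOf_eq_one_iff.1 h) hθ
    · exact h
  by_cases hp2 : p = 2
  · subst hp2
    exact split_two hF hn hθp hg hgp
  · exact split_odd hF hn hp hp2 hθp hg hgp

/-- **SEMI-U.** The section facts exclude proper semilinear lifts. -/
theorem semi_u (hF : Fintype.card F = q ^ 2) (hn : 3 ≤ n) (hp : p.Prime) (hg : SI q θ g) (hgp : IsScal F (g ^ p))
    {e : ℕ} (hN : 2 * e ≤ n)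
    (hns : ∀ W : Submodule F (Fin n → F), (∀ u ∈ W, (∀ v ∈ W, hermForm n F q u v = 0) → u = 0) →
      (∀ v ∈ W, g v ∈ W) → W ≠ ⊤ → 2 ≤ finrank F W → e ≤ finrank F W →
      (∃ w ∈ W, hermForm n F q w w ≠ 0 ∧ ∃ a : F, g w = a • w) → ∃ a : F, ∀ v ∈ W, g v = a • v)
    (hiso : ∀ W : Submodule F (Fin n → F), (∀ u ∈ W, ∀ v ∈ W, hermForm n F q u v = 0) → (∀ v ∈ W, g v ∈ W) →
      2 ≤ finrank F W → e ≤ finrank F W → ∃ a : F, ∀ v ∈ W, g v = a • v) : θ = 1 := by
  by_contra hθ
  rcases split_semi hF hn hp hθ hg hgp with ⟨v, w, hv, hw, hwv, ⟨a, ha⟩, b, hb⟩ | ⟨W, hW1, hW2, hW3⟩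
  · have hv0 : v ≠ 0 := by
      rintro rfl
      exact hv (herm_zero_left _)
    have hd := finrank_perp_one (q := q) hF hv0
    refine not_scal_on hg.semi hθ ?_ (hns (perp q {v}) (perp_nondeg hF hv) (perp_inv hF hg ha hv0) (perp_ne_top hv)
      (by omega) (by omega) ⟨w, mem_perp_singleton.2 hwv, hw, b, hb⟩)
    intro h
    rw [h, finrank_bot] at hd
    omega
  · refine not_scal_on hg.semi hθ ?_ (hiso W hW1 hW2 (by omega) (by omega))
    rintro rfl
    rw [finrank_bot] at hW3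
    omega

end Cfsg.Agent.H533.U
end
end

-- part: H680/PiSpor/Ru
section
set_option linter.all false
open scoped Cfsg.Agent.FastGrp

/-!
# S4324, sporadic rows: `Ru`, `s = 3, 5` (helper680, task 4576)

For every class of elements `g` of prime order `≠ s` a product `g (t g t⁻¹)` has order divisible by `s` (certificates in the
permutation representation of degree 4060).
-/

set_option autoImplicit false
set_option maxRecDepth 100000
set_option exponentiation.threshold 5000

namespace Cfsg.Agent.H680.PiSpor.Ru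

section
open Cfsg.Agent.Lib Cfsg.Agent.Lib.BitNet Cfsg.Agent.SporadicB Cfsg.Agent.SporRec.TCUpperCert Cfsg.Agent.SporRec.R3.Kernel
open Cfsg.Agent.RuD.Letters

/-! ### the letters as tables -/

/-- the table (16 bits for each point) of the inverse position map of a network on 4096 points -/
private noncomputable def tabN (l : List (ℕ × ℕ)) : ℕ :=
  transp 8 (pack (fun r => Nat.shiftRight (forceN (Nat.mod r 16) fun j => BitNetSimple.appMF l (idxMask 12 j))
    (Nat.mul 256 (Nat.div r 16))) 256 8 0)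

/-- look up -/
private def lkN (T i : ℕ) : ℕ :=
  Nat.mod (Nat.shiftRight T (Nat.add (Nat.mul 256 (Nat.mod i 256)) (Nat.mul 16 (Nat.div i 256)))) 4096

private theorem lkN_tabN {l : List (ℕ × ℕ)} (h : Valid l) {i : ℕ} (hi : i < 4096) (h2 : appInv l i < 4096) :
    lkN (tabN l) i = appInv l i := by
  apply Nat.eq_of_testBit_eq
  intro j
  show ((tabN l >>> (256 * (i % 256) + 16 * (i / 256))) % 2 ^ 12).testBit j = _
  rw [Nat.testBit_mod_two_pow, Nat.testBit_shiftRight]
  by_cases hj : j < 12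
  · have e1 : 256 * (i % 256) + 16 * (i / 256) + j = 2 ^ 8 * (i % 256) + (16 * (i / 256) + j) := by omega
    have e2 : (0 + (16 * (i / 256) + j)) % 16 = j := by omega
    have e3 : 256 * ((0 + (16 * (i / 256) + j)) / 16) + i % 256 = i := by omega
    have a1 : i % 256 < 2 ^ 8 := by omega
    have a2 : 16 * (i / 256) + j < 2 ^ 8 := by omega
    have e4 := testBit_pack (fun r => Nat.shiftRight (forceN (Nat.mod r 16) fun j => BitNetSimple.appMF l (idxMask 12 j))
      (Nat.mul 256 (Nat.div r 16))) (w := 256) 8 0 a2 a1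
    have e5 := (testBit_transp (K := 8) _ a1 a2).trans e4
    rw [e1, decide_eq_true hj, Bool.true_and]
    refine e5.trans ?_
    show ((forceN ((0 + (16 * (i / 256) + j)) % 16) fun j => BitNetSimple.appMF l (idxMask 12 j)) >>>
      (256 * ((0 + (16 * (i / 256) + j)) / 16))).testBit (i % 256) = _
    rw [Nat.testBit_shiftRight, e3, e2, forceN_eq, BitNetSimple.appMF_eq, testBit_appM' h, testBit_idxMask hj,
      decide_eq_true (show appInv l i < 2 ^ 12 from h2), Bool.true_and]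
  · rw [decide_eq_false hj, Bool.false_and]
    exact (Nat.testBit_lt_two_pow (lt_of_lt_of_le (show appInv l i < 2 ^ 12 from h2)
      (Nat.pow_le_pow_right (by norm_num) (not_lt.1 hj)))).symm

private theorem lkN_app {l : List (ℕ × ℕ)} (h : OkNet 4060 l) {i : ℕ} (hi : i < 4060) :
    lkN (tabN l.reverse) i = app l i ∧ app l i < 4060 := by
  have e : appInv l.reverse i = app l i := by rw [← BitNetSimple.app_reverse, List.reverse_reverse]
  have h1 := (h.lt_iff i).2 hi
  exact ⟨by rw [lkN_tabN (BitNetSimple.okNet_reverse h).valid (by omega) (by omega), e], h1⟩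

/-- the tables of the letters -/
private noncomputable def tabL : List ℕ := [
  0xfff02c40f7003b0067f07360e1603d00d8d0a4e098501f30ad80cd60a6909710ffe06980270042f031b01e30d7c06cf0b9505ac06d905120ea40b900bda04ee0ffd003f0ca90b9906a8032604f607ba0e470d2a0f2309ec03a003cb0884015b0ffc00f40b8f019a05580ea608670f45029a0f780aa1018906d4074105d204280ffb07110b2701a9012d0d620931086002ca0c5b0a700c5e0a1f098804500f860ffa0cf9062506950c6500390af106ec0eb5005709250daa00d90a7b05300e6a0ff90d9b007b0efa080e0053000200910fae082e091801f20e83088a09b902ec0ff805f409540e280e2b02690f270a1b0c6e06eb002f0a85001100090eea0d010ff701300ee50f110bd90d9d041c0cbe0e620b5d01640b4f03b404a301eb06de0ff604c800d4073c0a190dda0fc20a6c0e610b73020109fd0bb10e86096d049b0ff505860edf06880471078806c003b5042401b303a204cb0c100cf3007505680ff40715018a06ac07c70f040e8e0360001400560ef808740ed704ae0e060efc0ff3029c04d702f5016705130727066404040a2903ca07330211049004ff0a780ff20e5b01470974095d00780f7d040204ac0f3f0f8c06360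71302ea04f905ea0ff10781073400d3000809fa0a95073903740be9068a062904a70b7505d404980ff009720f8f0c9c0ecb0cda063e0d4103450b3b01ca0ba1030f01620d25000b0fef0280086803d20ebe0aaa007f0d510d880f9209320d7503a40e6e0d1706490fee08c90b2e0a5c02660f8809b20d02007301000d2700fe029203c90b540e0f0fed038109580ccd03ac09650dac0549075000300fb503560c170b620c4002790fec09390e39023c0b94009d04fd086c0a9408fa0fd00b10072c00f90db60cc90feb09010c3205c80ca804560ed40626015e06f80cce0891046d0f5e01f7050d0fea01f8099e0f8502d704810e05085304840a1200f200410f9302f206c90bc10fe9033004360de206f10980023d045707e10c3407e60830063d08b70f9903020fe80f2003df02db0c8f011005880f9c06b907980519083404250520060105210fe70d090bbd0b630a3d0b710c9d0a6f01a5057f0cbd0d0009030e45055606b60fe601770255067c06970b43038a050105e9079d05520842097f033f06c200360fe50df708210a4b06270fa1055b0ddb00a10d5d07a509bd0aaf0ed206cd01c20fe40d810c2a0e680dc7045a027409060ce20f6105b40bc20db90dd60e2d04540fe301c40369079f03bc083f06b30d46041007cd0c7f0b9803120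5820afe05bf0fe200840ce907e40f68067004bb02c9008900cd0c3e0ca409830ec6094805720fe106a001d406510d330e6f065002b107e90a2e01a008920b780c5302c0040d0fe00c0105de072b08a4086e07960f0a024d07180c82015600610337037601690fdf0df50070065706d203c300d8031c0a98085a0a0007010de801d6095b0c160fde019d088d036c0720060e07a80c8a085600f70de0075c0a200a430ac008050fdd00a20da40e650e6303c707a603a5037a0e0701230731026a05230d1001b40fdc08c30d160960084f05500b720c4201b509b80e340a910b380cbf033401700686058108e50735090a016b00b40f7e03ad091e053f0a870ac70ce80db80da30c90038d0af60af001fe02050385091d09cd0b8a06c10b7a09440216043801b6053a0765052f08170bf70ed606be02a2016d05fe0969040e0aca065d0f3c03fa08b005cf011c0f6d08ae03ff06b10504029802530c91034d003a00b00bb509df046803f4044809a602d303d5070703b3048904c00f2a0df30acc0bea024107c405170ad902e402ff06ce044a028a00bd0435047200c3080d0b2f009b02df07d5080900940cb601990491090e0a6e06b400d60b5107c00d050ad70da903000218080a09eb0d1808b50a7a073e0f840abe0bd203fc01f10b0103bd06540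de10df6019f0d870c2705c503580b8407830f3506240f1e08800a5e03be0bd70cc40cf10a6702e50953032a07d40499049f0785072f0bdf01fc0e8d0cef0507036f056d0d3007b80105030e0e35016f0b6105460e1d0700074a0124035d091c0c47041405ec0a9d0d4901cc013b015c07af075503660a3004a8046a08ff06280e940a4809750108026c0608078f063b00b90392018e08fe0ed80a5d09290604039d0b060b050399005d05eb0290004e08790e140a420bd60272034202750c310eae0a47051608030d6d0ced0007069307da020a06e301e50b3f03460d1a0d56093306e20f5d082007aa0f340a0903d7025f0a320a140a6500930866047f09210cd0037d01120bf0000301780eb80a280529022a072a0321008204f502fd07780c8b00ae040a008d087d0e5f001303d9018701250b7b04960d5b0c6705f307fb05f00c2b0b3d0c180b0e00ec05a806b00aa70eee0c0701ea067e0f7202ee08e2071000c701060a1706a9074400ba0a33087b048a02140e0b0ceb0ef60a2a0e9f06610911045c0a640be4071d068003db01610e040bf40b290b9c0a930add0a540ea100c9010e02e209240a8108180d0e0c66050a00040fbd0f0e089607670157019209610e3f0b07014b0c6305380525025201ab046706710cd3032d06810bba04090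d4f00bc040802a601d305a704a408b902c200d7093d0a790f5303bb0eff0ee306bb097e0c2402bd01730a960b6006410edc0548067d063c08b30adf0154076205d609f609360d83004a04e400ad0083047c094101e60206009e024508c400e50b9b03200aa505030f1400ea0e150051086f040b05da0eab07940bbb011f039c00670f510e4c0d3b0584088201de0288034f05d509f5080f06d7029b01e10abd082c05970c7e096b02dc053d0c9b0231027809790e4f00e30bb8013d085408a10fb30f3e0bef0c6d08f70a7608d40f520b0f0a5709d909090d2c03d30ebc0f3a05b806c6077f080605e70de701c004e50c7c01800b930d470e5603d40dc30f1b08d60f9d02be0ab3008f0a1e0748073b049d0833088e07730c790be30e6005aa0fc4041605800c0a009a03c10a9f0f300a210d6700c4097c09e203c40f1a0f480fa00a8e01940855055402c50fa40c15078908fd06180220072204a00e2f089b0bc8028f0a8303e4031508af0d8a01f909c4034b07e80e8c083a01380293094a09cf0aab0bcb01db0c9904bf0e4206dc0ab10ed1083900be0d93062c0a7f0c720e180f2207ac0458052d0c7d0d0a0c3b02e90087005c0b330d3f0c090c73035f02440e24041b01ec0dd504870888024f0b5308ab00e7070e085908150fa700da06820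5ed07fa07a0078d01d80f75071a0cd4010f0f660365053708f50a2d07dc0c5f0d6305a507a208a20287021d044f005a068e08d505e4080c03f7075600dd09db00bf0b2a0a520d8009470dbc0a0404c30d3809e3070c019308d7095606f50e2608020b74098c083b0a390c9a09ee02340e25061c0f7605280b0205b00e080e19068d0c770d070fa503f608b8065a053e038e09d8055e052e076f08e109af0b3a044b0642043308380d79098e06030fd80d9f0ac902b20c4c0cff0423002902d801a20c71046e024b0c5c03e501b10bb909d00a3703980f9e0042051a0f580d9e07f901ce0071054c0560076b0aa20bd80aad0d35053902f40858063701a800cb0fac01460994052c057407ae0b1c006d0746025c0a3c007707db0fab04320ac20fad0f9809ed002e0c9604ab072402860eb70cf406fe07f20bed0a7d0352015202ad05c108100e27032c0fb8060907b60b57011e01360aac0824077a08c50b890565026e04fa0a36074b0aef0ea20b7c0dcc077701bc0d9c0b680d8c00a6061a0a4a0f5002d50dfd0e410905091208350e210dc8005206900e5d0c800cfb072e050c0d0c0c220beb094f0f6509900e6d09de0bfd0bc905d0043b025d01ae000c02b60422084c02220d6c09c90299046f081e0f070bc403f105100a2c0d0f081905a10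afc02a508370f900d6b0cd70b9d09dd06990f830b4708270dc40c1a01aa0cb1007c022b082a01210ec10d210e9c05e5088b0eb40b3108dd0da607e702090aba03fe0ddd04e2037f09590b6d0be009280341030c0ac403ef062f0c350f670223059b00db0e3a0968027102a1059f0e230612089c02f705320f1900550561031109aa012802070b5609ae029f0cb40db40587041d071905f508d90faf0edd0ae501c70533069104f005fc050e01bf037e074e0fa60f060d2d09a3022107e500bb0f5b01790d780f4108110b4b0c980db50ee1001b03ba03fd015305e1014e034e02c807b0054308810abb0b800f150ce3096a08a309d2038309a20fd3057e04af032800af00380f0005750dea0a1d0712074308310d1f0f080e4e0d1304c20fbc05590af709e708a60ed000950e5c06e6058c0d6008bc01cf0e000ede0aec08e808a504aa0cf005c70d030d8f05a3026401820b040c4601c10ef307760b0b0f2505470ef90abf00c2042d015101ba0449020d0ea300f6006e03c0027b02d60f47043107290ab20e810a710f160d69036800580a410c750b9707fc0cfc0cbb01e9005f02620cb80cfd0673086a0895084506a60e030ad20ece09a70cd500470eac0e8f086108a004e307df0d040a4506e80efe073f00f105af07d8034a048c0e400d740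f8e0c41039a0a620b76068707820be60fbf0d1b0e320a230c2102610d730645003c0bac0a750bc30c1104c609e00248023206ca0515033c094e001a0a80062d0659027d07fe09f10c6808990f370cfa0116021b087808630c85099d008101d00e5506070bec07ec0dad058e04c1068b066c0e1f037c095c0eba0ed503ea0b3504b80d1906bd04c7031f098d0e0c0acd058b04750f1802b904b305cc06ef05730b88058d018d0c1d0b6904e10139050b0a0e011808cf03ee01c6017d0b1b0500097005d8082504dc002604eb02560ca102260bd504150f5f046908f90ba60a160e7f0fda02fe0d8609a80c7b030804a9011b02f302830bce014c03510df00e98099c0be80dfc032f05550d150bcf0d200d230442087a0fb900720cbc0d9709f40d70004304000fba0ab006bc016507b40894064f07b1016a07cf0c6f076104d207ff0c1e011d078008930dde0cb50fb10c9206060eda005b0b920eca05f205b902aa047a0c5400620db2010203430a63069d00980049006f0c2509630c2909140c3a01cb0063050f068506a50e22069405930885083609420c230a60046102100ab908de06da0c120d0602f90e4b05f1016e08c809e609d60df4052a0763022800210d3e00ab03610c2d076a08ba0b64047407d70348008604fc07e20aee096607ef0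2020d920c2802fb0ab60af50cf509e80814027709c000320a6b045f066a0ed30239000e04db0f7c0a500314089706a20bb60c1f0bb409ca07b700fb02f60a900b6e057c014a07210b7e0a440fdb0ef50f2e014408ac0c6402890cea052603330195012604f805ff048b08d2098b0841084a09da0b1502040a3b09d40109030601680ad30f4b065801fd03570d7b0cc007ea071c0f40062b0ee205a603f90dc2065202820eb903e20c4e09d3025a08650338039f0390006809c205270d4e067b05e00e3c03700b460bc0079700b602e30a4c0a590b83069c05cb01550b9a0ee40d7109670cc6075f0b9f0ef103c50edb0aea0eed0b7f07160f94030503180cb302a9099f0f950ae905d30a8d0bc70ebb0d5302170eef07bd0a1305180d90067605e3028102b803e6017c0ebd0bff06e703cc0ba40c780e1109ef08db0434006c0ebf088605340fc30e2e046c05c9009f072507a10e6b03620a3f09f20b4c063f0bb7087102ac077d0dca097d06c30a550b2d00cc0c9500920d370987000a09fe08bd08aa0c6005bb0f380e760ce60b8608c203940a72087f0ea50c3f09150684089007ca02fa064309c802680d820263051c001d019b0f240df900160f5a0e73013e04da0bd40313038f02ab05410c0b0c8c07dd0c6a0632086d0d5e03270bb004bc0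82605c407bf09ce091601710669081f004600ed0da00c0806fc08500ca0027f03e100f3022c039502cb02240b4002300d0808bf0ccb0af2040100540a2b0eb10843002008040f7106aa0a530828075a077203880ee604ad05b2077c0f6b025b09970bbe0910043c019c0d7f021a062e01e007580a3400660ab5006a04ef049a02f10b960fcf025e093f084e0a9e0493075403ce0d2401f50a4d0d120e9702500eb207060cf204f40b220c430bad058907f109e40b030b000b210d7a0f9602b706f603710d5a020305bc0a990e920e380930056f0cc307ee04c9054d006501b809dc027c0ef0082f0377074900e206d6005e05ce0e59018f08770a050c810eaf0ae70a9a00ff0b7d082206c5054e0bf50a730aa306790dae0dff02120d8e0544026005fb0d91074c07080ae20f100d4a0a820dfe00dc0ddf09040ae10251008e091908e7023a08c103b10323027308a701d20a490ad1028c096e02ef0e1307f80c8609d50f6e0ae00b1a07040c0f0daf036b0eaa058a039b0cd808a80dcd0dbe09a4061301f6007a08690e1c00d203eb01600c3c07d908ad0f0d0d610ba7085f091708f6036408ec011505940d39077e0cde0dcf062a0d7e0d76027e0aa607370f6400880dbf00170aae00060235013a036e02570adb022f080100fa0463027a01350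e31069f099908890e87013704d00a6103dd028e0e750b550405089a0353099201ff05d9076d074705790f0b01910de30af800e000120be20ce40114099503aa020e0ba30def0b2b021900f50fd7079a077b0c84018300a4095e07bb04ca0e290fd20b8109fc03c60714081307c5033e09640bf300c106b505140c0e09c6075301320e8804cc01200943012b004407d00bee032900760aa80cdd0e1e0bfa060f06cc0aed05830ed90e430faa061b05b5093b078e0d720b6b054f0f2b018606890ec70267051f0b5e08f300010907096c079c05f70a510d540bdd0fb40cc50ce7068c008c02950f89085706460d6a0f2f057b01010b8b0e5407f70afb044502ed0a9700590b4a01c30b160f3b0d50017e0d9902f00a8c06e407f60e6c045109d1036a00c60d980f8d01c800a30f8a0a89009709c703e00d5902bc059d0a7c0ac3008b0cdc08fb090d0b420bae0f2108f40b70036d063502910cca015800b50b5a055d045d0c6c09810c020e5a0f8701b709cc03490e9902eb001e0f7904fb076404d30e670c200829071e05b1092f0b52087507eb03720fcc03a906e50f4906f704cf0bf2092d0e0a02d90a5f095f03d102a806000dce060a089d0c520baf000f0cee0294032e04de0a560c360fc7063106ad0ad006b70ea00ef205ca06fb08230b250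1df0f05040f050209e5063903350c7600fd028d0e7a055f09730f090b5f0705055306df047709b108120ae401040683093508b4090201720f600e01021e03820aa404b603400d950e9d0c50044c01070145096201af044e063a0b180a4f023b0ded03ae027609840bfc0db70bd3031e0d5f069a0c300111061e0b2007ab07be0a180663080b0cdf0d3208e90784026b02c606fa053c04bd02cd03190ba2065c02b307de02b4075201e70aeb04ed079104e006f407030d94043003010f69057d000d0dba08d00247098f055101330de60f8101a30b320f620f630b8c01ee02c70df802bf037502d40cba00e4094b083c02c30e7704c40a3a048002e108b606770dd208ea0b660c19095a04270c6906d802a00af909be001004200d5c035e0db30f29024606560c8305e6041a01ac09c500ac05a90fc0041108ef084906d500640908064a05450ce104550c6100900d6f099b09c10ea9064d04620459023808870a1c0e7807ed09e10adc01fb07230c740728081b0b1906bf00c5064c04f70b580ba80bdc0c37048e0e6409b408c009b60a2f0f43042c029e0e820883042e06ff0196067506a1091f05710e580f9f0b1d00a00ace0b480531051e061405360f74081c0c140a0f0e500e72053504d807e00b37081d0e360ec0031604b00e7d048201190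da708700c4f0cae03590846084b019004370a84078a093a071f09a00ce50354024c0baa0c3906200fb007b90caf0dc5060203100b340470004508620fa901b9048505d10851052b0ad6019801030a860cc20c5d0c480dd00c13013f026f041f0c51067200ef08ed079b015f07170005038c01bb001c0b3e0e490f4d00d001e20a060abc0a0307c30dd7038906960726093c0f9a07fd05bd01d104a600ce0bb3094007690b0d0e9b071b0d2806550df200990a380d3a08e3049c09820d290d36034c07ad056308d1030a04cd08520ead037908fc02e7092a0e3e0b410898091b0799003e0e9607510c6207f003c201590c4a024306050f280f3d0440078603da0a0b0cc80a0a0c70061d0f0100b703860466004f0665052406740ae602de06660b77069e097b0c9f0236078c0f44070f0c8e0b0c0ab8042608dc066007ce028b04e601310eb00d2f048f04ce0f17081a03af0ba00ba908f00c970b45059a07c2058502fc09c3067a0a1006a401d7011304ea02840f97073201ed0578091a08470a0709260e1204170b44075901400240003406f20fc504b70f7b05cd007e07750ae305980d7d05db0f0c02e607020b490efd0fbe0c450c8905e20d480e2c0c0c073a0ad409f008b10b2c036704120c7a07450c44083d033a033b0fc90be706c40e3d0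31a03e90bbf0f32010c09e903bf032501d90b820c1c026d0a0105ad004802540cf605c30f56087602960cec0a0c0d96056206150dc009b706f0008502650cb209bc0acf030303a80c3d0a580bd00c2c01be0ca30e460d8b00b10e530d4b04b9083e0d580fd9012a0d3d096f046b03d80f0f0dec056c064b06330bb20eec06b808f1045b05ae00270a080c8707920afa087c047307b30c0003dc0f4606190cb00a0d0e1b0bc501da04830b5003b90c9e0795020c007d074f014d06af02370ca60c6b02ae04b5004c02e00937056a0b230d140f4c0946055c040c0caa0ec2038b0aff04f20b4d0de90610044305ab00e608d30bd106ae01a40e930406015a08a90cdb0060044d07d6035b056b0b6a0a240ccc05dc0c0d06e90e4a01760f1c04e80df10d0d0a7e0e7e01dc08b20d260040062104180be10c0305b70ac801cd07bc04f30b390da10db00d850f2c03550617043d039705570deb0f5408cc05ef05060d40017a03a301ad0c0605960a66018801170a6a0e1002ce04a5041e09fb059e04dd035c0e4d0e9a021f09bf0742011a09bb010a0fd10f57001806d0037304e90a220e2001fa0d550ee904780ef706ed036302ba0542001f03d6014f045e087207d202a40dd90cfe0a8f006b092305f80486087e05080d1e0dee06e1030906f900a90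47604b10b4e085c08080a110cac032401e403a10989047d02b5085d00150f1f0e950cb70a9b04c50d110bfb002502330a3e04be003b043e02a7010b00c003ec03b80cad0f4e0bab09780b1f020b0d640bf8032b00ca07680d7700190a260ce00184054a0b170d2b0da505660e0205d70d1c06fd0de40eb303c80d450ca507cb016c008a06160cd208cb043a002209520b670a460f8b06c706f303cf075e0d9a04f109cb0a2701660920002301b00d440cf803470a880a020acb07a40577015002d004b200fc0e9e0e890da2051b09f80cab05ee0dd30dfb0429070903a609f30be50f8204530e790208020f04390d0b00b301340b090000082b07400b79014808eb0e850d420afd05910b8509910f9b07b201f0018c0a5b0e0d05fa0b91047e0dfa0ac503e8003d090c08ca002d017b0fb601750ec30b1100350dc603ab09ac07d30d4307f50f2d067804d1060c05fd07a3058f018b00370297012f0b5b03500c1b02dd02b0066f0fa305dd01290fb7078b030b0da807740730060d077104ba080009130ea7031d0ca7090f002a046007a909a501970f7308bb02cc0de509860f3300e8051106cb01a10ba50d890ee80630068f085e0c5703de02290ecc0bde054b02e80d520fc105ba07660a77072d0494049e0387012c03fb064e04790c4b0b0a0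86409490993033102c10c2f06d30d650c2e0c8d02150bbc06db07a7065e0d570d4d0a3102580b5906ab0e5e0b0807d10e0e0a92024e089e08da004d0cc70444081605a203220ab40b8d037b0934066d0e2a0d3c09ad095002d1094d038406b2047b09f708df03170dd80e4801bd0638049706230f9108f8094500500447046500280eb60bfe0495059005a002bb0e1703cd01a6076e0f120a40014209b500aa02af0452073d05760031009602a300b20c9306530f4f0bf60b6f00a704a2093805e8010d0c560668094c092b039300b80dd40ec90c58095705f90bc606e006ba0f7f0e330e8000d504920b3002420e1a01ef03ed042b0ec80b6c0cd9024900330fd60540021c03800f31086b099a09ff0ddc00df06620e900779051d0181042a0fcd0fbb0d4c02da05950f7a089f0ac1088f09ba02850e090e7b03b60ef40e3b039603910cb90b1e076c082d0cc108ce0f36084d0b1207cc0e8b048806670c4d0e6600d1078707c80d6807f403070d6e019e0c49021300800522056703f20a6d0af3090b097a0b1301410bca0a1a06400e740a8a0b1406ea09a9055a079e06a304fe023e03e30e700fcb00690cf7017f022d09960b24012e00c80aa00efb050504210e510fa203f30e5703f805700d3101dd03f504ec044109760dab01c9033603a70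7e30f4a0e8a0ae80e520f3900ee01a7056e08be074d012205c001430b650a8b075b03f0012707b50b5c05c60d1d0ac60d660dc905920ad50bf905b60ade09a104d90cd10a680fc60b870f6c0a2506340d3406470738076004d60900092200eb00e10304069b04190955043f07930ea8093e0f42013c022504b405b300240fa80b3605a40e37033d00a8056906c80f26057a009c0844041307570f020807069207c10d22002c092c00f008e0075d0ab70dbb061f06440bdb0fd40f030f5c08c60fca044608cd0e300e7c0c5a0a150ee703b70c260bcc05be0fd5092709ab0c0401c5092e00a50e8402f8039e01b2037800790f1d03390951022e07700ccf0d2e0ec4079002270ecf0bf106a706dd0db107c90ec508400464060b09d70c9402d20c050f130ca202590bcd04a101f4098a033200cf084808e40dbd0a74048d08320a350d8405c20fc8066b085b09ea04d504070fce0e710aa900de0a5a0e4406110e690f800ada0dd101490af408c709980509059c09b30f6f0977066e02cf08d807f3030d0185035a07c6070a05990a9c0c330174064803e70ecd0f5509b00dc10200053b0873024a0dcb070b002b08ee065f03b20b280f590fb2023f004b065b08f200e90c88088c09f903440c5900f80ee004d40b3c0eeb0f6a04df01e808e60f770c5505f6016305640b9e029d04e70c38007405df070d062206d1015d0e910b8e01d5040306ee0b26,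
  0xfff005907d007e909ff0b9806fe045a098a0baf0e49064d01290e600a2906620ffe0888009f0e6c02a80b8d0eea054e04e5080f0d7b09a508c302fe08f70cee0ffd0a600147067d0c530c1d06860960080203f90d0d021308e10b3d06950cbd0ffc01230f5d0fa40568017f04720db0058d0ddf0456033206fa0eb9023404170ffb05e500970a6200910c3d076c042a0330092903730b8402b80f5f0b600f830ffa0b8b0d450be1051905640f0e0b300d8c02a90fb30ab50eb30dbe05280ebd0ff90d300069006306530e4b00fc012d036a00bc07130ab10dc803dc0eaa015a0ff806880e3902f60842050504f807e008b0083903cb0eb00677092e063a0a8c0ff709660e44018f094103e703a507b0059e07b507890e250b0805360009055e0ff6060702d007ec070408ce02a509a902d20dd207360fdb0bb401f009d90e3b0ff5094b032606d10cc903ab0bd5001d03e406f50fbb045d01cf04b0033604210ff40146016d03b40ba303330c010a5a0d84032a0cf505850e8b036e05f105dd0ff3097e0c6a0c4c0f3107d702620da002fb06d0074c039c0efd05480e50046f0ff20e3e0f9a072008450ccc0bd90e6b00dc03450d9b03f3097b057b08b80b650ff10e26016201880f0405c60c4b04d10b69061f0d6605cf0f3b0cbb0a350a4a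0ff0081908ff0e66069805780dab009806370cce00b10c890c7b05700bdb01f30fef0d090414092407ce0e1a08a5087e0977089507ae07ac0c00007f0a2503600fee03e50aa105a50eab01c90ec505d009220904048a0a5c0fd0017b0cbc03df0fed036705e609cf0dfb0e1205fd0dea03ae06cf08850f7e0d7e0b5a07550f770fec08bf0048094e0b850d040b1301a304ab0018058808eb055a093509070ed70feb05b803510dbc00a80d9800870a6f000306b80a480ca50a75071402f80f290fea0d5803dd0f74016709210390005c0f5009e6060f0c540a3b02630d9d0f140fe9093906780c5b0b0a065e080807eb01db0f4500640b10081b054404120fce0fe80f0f0c0f0e060c590e8902230d220175097c05f50ea40e1002b50b3e047d0fe704d20dff0ade08d50a8800d804e902930b06075b030e0d7f0fb9037c07280fe605860bb30b2c021706e9012a03b60a510af806aa0ec20c4e09820ae702300fe5060507f20faa01ae00f1074705320e95075d0993016e030d0a7905170b6d0fe40f6106b50d76026504a40da70ef10b730d1f07970d5f08660b250b5708230fe30e720236031d0da20b09049000380f4d02b703ad06bc01fe0279011d09670fe200b606fb06f600c0002006e6000708b9057a0eb6072900f4018600240d6e0fe1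0dc20d070f6009c20d12022208c10db8061d0a20008e0e0906a80d7d0d500fe003c0059f09f10913054104af0fad0c2f0fd20efa0e0c08a2097a062c0c760fdf0afd007c0d3607c5072a0e220fbe05ea08500d34046b056e07f403be0dbb0fde07d307bb0b95098e042b00610253011105b108a30681022c0e5a0dfd01b10fdd0d5b02390be30ecc0a9605e0062906500c52084f017e0a44096f0fd5024f0fdc0a46010908c209830c21071202bb0fda06d3052505770e080ab90d14049a088b03b503a30c8e0cf80aa50d6408030e30082d043905f00e5e01f40e8009a70c220c160e140b400cbe002f08270dd30abd01480fa802000d2c096509840a450c0c00e40e2f0a8707c20f98004f053a011306840f910bc20b8a0f050d110b2a0807041c038f09110f070023091907610b8200060bf603290dbf0f850377078b082e091409d301a50bc0015d0e9d002a0c4902cd05ce027a0cc70bf308ca09f009960eac0a5b02bc024706830d9105db09cd03680f2e07e40bc90a7800140105056b02d6005d0c8f012f00780ad604dc0dd104f3072507b6060009fb021c0c5607bd07b70e1f06030d530a1304b8059309b200570406078f0465068b0db10628020303fa0b4109f80a5008be03f002a20a020df70fa70a050114088205820032095c05c4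080d02b409ee069a095b0595082b046708b202560dc601bb03ef00cd097d05c208140e43089401d8054c0f820f7d056a095d072e0a7001530d88094c09e803ce0e8f05910af1065c04950ac20b52086400860cfb0ae408e60cc5075705e2009d0ea00ccf0b4e02c2018b0ea60a49057109f704cf0b26054b01be0510043400f0044b00d007be03e603af059006d906550a2f0adf0ae00c61083c0764053803cd06ea00b907c60e2b01c00c8a0c730fd6020402af04ed01ee0d820c0b0f5706ec054a0a9a0db4071d09b40c1b0b3f09160a360eca0a6d00f602260d6303f10efe071c05240cda0cc30a1b0b6305610cdd0350095f0fc90b01081a07b801e504240c0503150f5406da00cc0d710a7d0033063c069008700ee90b3a04450205013f00fb03f4038e0794035d0aaf0c840af70c310b0d0f240bcd03e10d5d0b2205a909a3023b01fa099f0f7a070a05350f9f0ab30c940f200d8600f808d4089206c6093b0a240cef001e086a0c7d0968070f02bd0c4f0bc3059d074606e50da10c640fb1010e0c9a0d190c7702a7039e07f10f950b7b03fb04cb09a80eaf0d130b4b021e072c019207f70664029c02d404f70f2708f0014c02120fa209ca05ad08e30f7102e30a8e0df00c360d17063e06300703047009f60962054d079c0e1e015b01cb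0d3d0938034b01dd0d29070b03b10d8008ec07cb01fc06b204860da60acd06850d7401580846088402310e1d0b71081c0e0e027c01ef09a405550d3f090c0f970df30cc1092b0af30b920e4a050c00820afb0cb1031e0d4700e90d0008e00e2300b201ac0ca90e960dc1047e0491067f0d560c98063f06a40fbf0e64041f0df90d8a02f206ac08fd07fb013e09330b8107520b720d3209ec0ec809e50a420a330d9f07f3058b0caf002d0bb80f43079606eb0d68084b0f7c09b303740ea101ce040f0f700341058a01c206db04d806d5052c061b0c8b02e5053f00e6024c019a06d70d200cc003d9066a0e9f05f60db20d7c012801300cf20a3c0c65081802370c1e0fa50d16030501f502c1026406e3079d0fc203280d2d09d504b90e8a01d90ec00e700ceb0a5f08ea0cdc02ee0ebc0a2a0f120f5205d40530078804eb04cc07600e350717026e055c04a20d240649027d058f0a3f0e670c23099d0af00318029a065609580f1e00e1020609440a04083d0b29043d0515078e09de0e5207c1034807680177057c0c700f0b05f708bb05a200ba07980eff0008072707a004640dce01740d0301b40a3204990150007a0d810df6059a0898091c048b02aa09750458077207c70e3109b007010fd302330d6a037b01c40c90040c0d4f083602e20fb7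0b110d5e0d0c08c7068e0a91078204ca0f1d0e7f09b60f2b0a170a4c019100a20bca0cfc0863086c033402f30ae10c9100220ef201b30a1d0e470ed4073a08000e990d350b070b180f3700470b9403b702f4069f0d520c60068002e409db05ab0287040d0cc601cc0d770b6f0cd40c2c0696086f0c32081702190cd30b4304fc043701bc00f7060b03e304c1096a0a5407e1041108da0cea0876059b0df50dd902ad03040deb0bd1021b08c606a20395043003b3055600ee0a610254043b06700b140ccd085e06a7043805800413036b08540f67038c0ed10cba025c087908a80c1801da075f042f00fa0b4a0fd70c6e010a0a0b0110034c05540ac70f2306bf0f33099c01a408dc001003f705c001700b27027b041a0f16084405cb0d42047300db009508250ad20f110d9c059c0d8f0e4506180ef301b8093f0b7a0f75031407430e170d0804a3052b0e420974011e0bbf03b901bf0f460d8b036309310df200ab0ac109ba04c7006002a10925004608290f260a9704420bb20b770b0c000c0df102810fcd0f0d03e002e107b102890c3b07bf004902760a41066d05ae045f027303d10d1c0ed50a0d07240fba05620d2f046600da035307510e110d2e074b02d90f0c07e708350c82007d0c290a0c033f08770a5e08a1013601220da502fc0f06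022506750687031f0387038b08bd04f1050802b904fe05c80edc0c870d9a02c60d2604a50522036407d6050f0f8f0c380acb0bd80f3f02920475029909340daa018a06fd0b1f0f940e1b077b0b4d00f90f4b071604ce00ff037806cb05b40cb80c20053b0f220ec6004b000a01fb04160fd9043c05ca049807ad065a0e810d3e0aeb07c804fd02d706a0054507630e610d2a092d062d0a6e07e50b4c0ebf08b60a3107d409f40fcf0d8308400a1a02b10ee203de051b00110a9003120cdb00c90ddc0a7b0ace032207aa012c01df0663030308730e18087802860e0f088f0b3c002b026a08e4076a01820e34085902c90cb0072f0d1d00360382090309df08a902750f490344026906e10cf30e870f3a019906240998030b089706ab05140dc30ecb073c02680b62083703c10c9d05bd0fc302de056d085a03ac0fd10cf4098f0045038101f1004106520493061509f508a0089600f30ac00d5a03ed06ae015c090e01780d4d01310d050d700de500540c920aba0c8d023e05da0c3907fc06c305af0f5e06040c740d3701a70058000b0e2a0be80a2203db04470dee0e8e088e00f20d730e0305bb0ab6056c0fa905870e3c0d790a1c064f09aa09200f8e0e770446017d02ef0b000380054f0497024101d60b8805470108074d0487062104770619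040a07ca0f9e0b99062706170e410f3d0e050a270bd00dcf079f0bc409bd071f0be902cf06c50d33087b0aef09090eeb04490c5d07370c63067400e801260aac09ce064a0d6206d208aa02a30d4e0c780210009b008506a60e3d0e33034d064c0359036f05370bf80f6d00c6035b007e05d80caa08990d490f620ba203fd0daf0a640c6f0d2b05cc0b5008d10afc05ec0990080e011c0a550aa80a1901a1082808b1082a0eef0b9a002609230f530a760db30bfb065d075406f40da80b900101051604480aab0379016a07c30cec0a57003100de03d0071b0cf60e010fcc02f104960408042e0b970eb508f109690af501e404c002290ee005d30b790e36083a05aa0201027007b40851034f0a2b0dda026f0749050407910d06032f001b0ac601d20d670db70bc70b56064600df039203a007f50ef900ef013805f30c85081f083e0e5f01a601ba0a2e095002320dfc0a4b0e370dc90bf50fa1014209dd0dc706a10c1f0c460bdf0cd8081100fe0dba076b0636069d0f81024906d807260a9807ff0b380a060c0e0cde0f03043a097007d90b67076e0f130aa90ca30c720d94047b013d08530e210e7b0c13052d05510c0609c407100cd608040c330e54045e02910a9c082407000fa3037105830645042d045b037a043600d90fa6044001ca0c10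062506920e6e06020b0309fd0b24037d056905a60d2501630b55007103b2047a0b7e054906a50354061e08010c420bcc04550a4d0eee0244079b077e06420c480aa00116074e0aa60c6803a6091b032506060d9302600a2303490b0f0dd409320cfa01120bef0e190ea908e90be00f9006820f8b06a9098b05a3072d08910efc0f15030f00bb0bd603720857023c0b6b01fd0e760f58002e0cf90a9e0c4109da0352007402d100ed0d87001c0f1f0ca6072307710ad006e40397009e0fc60b9e00c700b3019008f502cc033e09d608b30c6b04100cff0edd0d0b02fa013b071e02b60d0e03d20bc6036d02450ee7091e05b602b3005606c907db028a0f32088308d601c70e1600cf0613015706e0028d0e9c0ecd00670ca40949088607730d6501d50f7602ce00b807c00bea0959094309a60bf709c50e5c0b2b0ede019b05f204070f8c076f05b504c80fb405a70bf9056603f50fc101f800e502f7074807cd0add0118043e0dae09bf0e820be600bd090f0c3f04830ebe0dd702ac0c6d09760016020d0cac03aa06b1051d04c6077a001207850cc808fb031b040304800afa05d906ba0a9d009c03ca09e100ea0df8073e00ce0c7f004c09fe0c9f0f550c7a00420b37039f06bd066104b404010e7d0beb0070096e0c7e07180a1508a7014005be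04d408bc090209170cc202ca0d430f3401d30a1e0b2f0dd6025f0b61090002b00ab80e0b0be70f28010c08650ef507f80bec0492052307e600920404091806dd0a4301ea0776073103b80079067c076d0bf40d380eb70821009a075a0c3e083f018c00a50e02096109a2086e014e06100e5904530ea205d109eb0f5a0bde08410066024a0ec909150992084c07450ca2097208600ecf06e8095307d5008c0c2a098c03980dd0087d09c908e8033a060d0647052008060396079e069700a70a34033d0fc70e13079a0589014f02d80e2d0423078c0e320ea30c280ad50b16019d0eba0b4f012000ec00d60df4038303a803660a1008800ad80a9f09300f65098601f70a77094f0d400c97057e0c750ea500960e7400890672098908300e68018d0248066f0f9c009403a400880bb50b8f0f2509ef006b0fd80f69044a0f9b067a0ba504b300af0edf0a8604da036c06c000c80f6c0a120ac80b31029606be0ad40fc8071a06e20b96042c00e701410cfe04bd044e056f02160fbc0912093d00550f170b7c0fae05b207fe0f5b0af904e202dd0aa4043f0dc004a60639007b091a0ced020a09c30b5d014a0b640ec101350144077f04e00bc105720ea70dcc02eb03bf0de905f401a9073f07860af607b30f18096d051e0b210ec706f30b1b0106031c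0b930b740a5204430611025b03d8082c0f6b049f06f1053d0f4004fa00d1005a0cb6051106f90742069b015f0f6406f2010b011f04a909e9029404c206d60a1f01610f720654014505d701170302019f0c5702db0eb10bac0a6602ff008d003004760e9306af035e05c1066908690b7f03bc01ab05e80a8a0779064006ce04540f51077509510f2c05a40dfe0dbd0b470be201d40a0907a90fbd0f2a0a69021d017902e0081e06c402ed08ba01690073082000c503ec060e089b020c09010b1a0f4a0f93015606310b68083307a60adc0831033b01e20b5f030a01270715061c01c5078404f90666064b0f100479049e05070e580b420cae05980c710b2e08d80d010342058c0e550e9b09990cb400d50ef702f50abc07b904f2047c0616088c05c90b12056707050abb0f4e026b0bbe0cb9024e0b3600c408f60ba402da0f0009a1057607dd02c4044f050906c106670ad90a470ad30ab40e71092c09ae0d280cdf08b501e60bbd0ae30dcb04740c30075e0e0a0790010f0a5d079909ab0881085b0a6c037f05fb09790ad70fb009ed0f0101a20fab0bba0eb4027f061403c50ca1025104e107ea08620a56016400a10c4505c303cf064809c603d301840ec30c510769018e0c8605e905e708cf0744021a09630ce006bb05b90bae0e780d440a81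0e940ac408750fa00ddb0e040bcb00b00218029d0d690e4801340ee404250ce30a5905740efb0107099b020f01e708ad0c7902c30cbf0a74055202bf0c0805ef00f5040b0887088d0b1d04d5006f085608470a110cf704bf09c0031006f0094607ed015e0fcb068904f50c8005de0cad0b540ce10c9906910e5b0e570d900bce0394086108db028007930cd201bd0c430dad02460393036500eb0f3c00ad027706ca08ee02020947082201810de6055007ee0195008f0d600dec0557029f06940e4c0b5b0d0a0d7205d20bbc0d4a05ee01600bfd08cc06c804d606b70c9609970560070c0f73066b0084078a024b0c2e088a0faf0de70469084d04b10290089c077702d3045208f3099a05fa04e70dc40e2e00aa073300e00e460bb90da40d590d020660080507e20eed05130f2f0ece01f20bad0c5f0dfa032d0f6e08580ca701970ac30bee074a091f000e0f4f01cd01870b9d07b202dc073403e2095a08c00f680ea8050300dd096404050bd4083801af089f02cb0c5c09ea02090ee1026d0766006d03f8040e0028097f09bb09f90dc50b830594017200cb000d0957039902e80c020166001f0f440d7a04000f0a013302c702520ed309270539072108a60ae2071101ed0a3e011a093a0d180848034a0c5a0bd205650ab70e2c069e0e2406ef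06680719052f0b590a990679078d07320cf10ef40c3a095e09950bf208af05b0025a0bb00a890b020e970308083b0e9809c10c500a6b020b061a045c08f4099e04ea0c040b580f84059603a1070701390cb20f30080b060c016c058407650f0207830cb70cfd073b063201de0fb20b5107ef013c0b5e001305d608df04600bed0e92003703880f470730065b03d40c9e09e7038504e809800c400e6a03ea0527046a051a052e06ad080c0433028f0bd305180029059903240250003c0a0f0ddd094802ae0a72015100d306cc06dc03eb047f063d08ed04be0a4e0a580acc03ff046102c00bf10f6a0a370e690fc0015201030c34055f062e09cc069c0910073503690c1a0a650376082607dc0ded00d70f1a067e05fe08550936086705c5057f073903c30da905c70d550b530b89048c0d9701b00d8e07d10d6b0a830d100ed0000f0435012502710b8c08a4048e041508d00f5905df00c301e30b66085f053103e903e801a005e10bb107f0019e041d0f7b01850cd70c250c260d39089d002708740b4607590459008b055b0f7f0e3a041b079205ba0f350a7e008008100cd0082f015906a30bfe0d9603cc014902a406b00ada06b40e2000050d54005002ea03c6016f022e09dc0a14022d0575094a06b60b1c0468017a00650a940cb30de00e07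0c44019600680bb60357048107a30b8605eb048d030c06220aca08c40a1609b70ac9070609fa0c5509870f1c03bd0ae50cd90d2701980c95053404bc093e0d6d062f0ce406f7096b0722093c07f90fb60285005f027803da012407cf090b087f0d9505a1032b000103c70dca01dc089301b205020f3801890db601e901c60658005e00b50d230d1506710431012b05530243050a0eda0baa0d3b00a404630d4b0313038d0ef803a9006a0b8e0ae90d6f05920787069304ee04e30211066c022405b70de30b04047808d9058e0ebb08ae06990a6308e50a9300430257065f07da0b6e064100e206440a710ac5001708fc0cb50ce604f003fe02f0060a05bc00c10f360c58040203f60740078000830d4c0a210b80067b02c801c10b1509b10ae600b705000c8800c2076701d707500090025506230aad0bfc0391095402ec0ae8029e0be501320a9b07a10422023f04510c7c05ed011505dc03620484000209730adb07ba09fc04de0f800e79077d028c0e63051f0aa704ec01c307a404b209940eec0b6c0e8808fe035c09be06e7052905a8026706c201760a260a2802ba0d610b750b6a039b02fd0d57030003bb0d7505fc044407080fc4048f04dd003b07780c4d052a0c9c0e4f0b3907ab07f6051c0ef60ee306090fd4032e026c03890c4a0d41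094208f90c5e0e91022006f80301087200440d3c0597081206c70e6d0a7a0da30240053c0ca00de104e601e80c6208b403d60d890fc50a950ba602b2022a0601022b0b3507d80272032c0e830f6604820ee80358074100a300530e29004d07560ce70dcd03460c14023d08340b0e01430a30000003470c170ed808f806ee0579037002e9091d046d0e860b23092f08710173096c0a3d064e05010c09054008ac0307032107e80a850e3808c80b4502610100086802e60d9901a8077c05b305e30227035f017c03fc089e08f2035a0ce90e3f0753054309bc08e708c907c40a920991046c053e06df0795090a0ce50c660acf00bf022105d5092a0e620d3107cc03310c8104fb02ab09f300a000fd00400a0a068d02e70c350b2800ac0db90633049d00a90c2b0634008107fa0aae0e5d02df006e0a0302660ba0023a0e51032303ee0bdc08b707a8049c0ba70f4200760762073d019403c805ff0a680e1c03390f870f7804cd08130635084e0d920ef00075049b04ac0c8c09260b2d05060e65085d04a109050f390928039a0aa2012e09780a8208fa0ab00f920a2d02f904b702be06ed09d1085c0f1904b604f60f560a7f0c3c01c80f09048501ff002c044c016b025809cb0ee508c504ef0a8f0419068f0015073806570940014b0fb50dde089a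04aa0ed60c9b09f205bf046e04d909060c270e7300350f8a0edb0e7c0a080f7905a008160ba109b50bab01b9098104c502a000ae0457009909d808dd0f3e08ef087a09d70ed20f990d1b0f410dd8024d0f2d0b870573090806b90db5025d0aaa028e0a070e9e09d0035604d3012102150a000b9c0a6a0a3808d70bd70f63019c075c04290a840a7c04180b760b19066e0c2d0c690450087c03a203ba06510dd5070900210335016504940b490154028803f20ab20a6703c909560a8d03b0031905460bdd02d507af0e0d006c08cb00520f9d04db0a4f0b9b0c110e4d0d5103c2037e0a400ccb05ac0e840c0a04090375014d058104c3081d0bc50bfa03550aed09c808d2004e00190ec4055d09450f88033800d40ead0aea0ba904c4090d010d0242080a04d7011b0e750955074f05cd04710a7309c702820b200119050b044d09d203060432022f07d2005101aa070e020e04c90643033c048909e4003900a60aa30b320b1e0c6c042707df0c37038a0c1501d0088906380d2106120bda044104a7003a0072005b028b0fca00340cf00abe041e07a504bb083202a60971003f07de0a530ba807020809039d06260b5c05f904260b780b3305420b480171015502280d1e04ba0de801b60d9e00250a1806fc0bff01e00c120be40c24089001b704df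02c50a8000e30c930ce80f8602380af20c19086d0b17021404e40665028405330b440e56063b0f5c086b0f2101ec01020ce201d1031a095204620e850c8304a0050d04f404b5084308d301b50183021f0c670e6f00ca0a390a0e0a8b0e9a0ad107580eb2034e06d40b0b00d206ff02740b3b09e3007700930b340d6c0d780c1c04ff0fac0b9f0ee60937084a03d70e2801800a3a0dac0a2c06cd04d008de03270320072b0aee0e8d0bc8010407a209e002350def0b910c070311077005120b70030908e20420004a0ca80abf06590d3a008a01eb060803c40d460fb802080aec0af409ac0d5c00b4016809a00afe07a704ad055905210f480cab01ad05e4025900040f89068a0d8d0e4e03a7062a07810eae0e7a05630558068c0297094d077408cd062b028308ab0e270e7e03430e1509af0e8c09b809e201f607e305f8048809d40d850bb70f9607c90bbb0295001a070d019306200f8d09880526003d025e0f080e530d0f0bf00316003e0ed906760d1a0f1b06de0e4001f90e900de40361038406b3029804a8050e04ae0b7d0eb807fd034006730849027e0b050c030cca042801e10e000062029b0bcf09ad00be0386013a0d4808150cc408520aff07bc03370a010cd50cd1098d02070c0d0c470985013703d5057d0f4c031709b90f6f0de2,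
  0xfff08bc011b09790d200b560b5c0dc0023c090505a90d78010c0a9a01e505370ffe00c80da7037a070f0c5d0b7a01af016b049201090ddd03000d4c0d1b0f3f0ffd089f0150028d0ea00cc9019f0d2502860d0e0b0b01540ce000e800c40e310ffc0a3403bc0201000203ce0e9507800fa4028e048f0c180ca50af70a2b05da0ffb05f0069504040a7f0617062706ce0b6c034208560ade03fb033f03700fc70ffa0b3b0b760b270b96024106e509ab0b180d7f06f10d940eb30aec0a5c04d60ff9070d0e2c06f004200790055807120a68065604250f21067903b6096f0e240ff80b530aab0f4b0ba00b3507cf0b030a7700a306400e3a0cc102730d5002a20ff701bc09010f100cc802fc084307b0094a0b94095a06480e8e055207b20f930ff6085f07ea0f5f0b70017507df0a86091306f6019a0fd305ae08100ecc05240ff50b3d0ed702ac011e0d040f900dca04a8051501120a530f040ef303a90bb20ff40099021b026303590c1003b40f1b036a0f9508b60ec60edf00f10af201760ff302f50ba4029c006a041e09cb004001a9061b0bdb0bb600ed09830ca0002e0ff20db9045d05f105cc01f400b50831055e04ee0072008a0726020f046009c30ff109cc05c2088c0b490d5d0b2b0d6f0a2105fa0cf2057a085c0dad001802f4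0ff009090c860cf007020046047a036503b70cf90efb026f085d0c4707ba09ae0fef076007920c700d9a05c6056c0c960e2d076d094e032209c202df0b5202e50fee0e20055705300fa30ec305e7015601cd008702b906f206bf0a480eed00af0fed01ee02b503c4036f0177044f04d20124027f0833012008180c00043503f30fec0554055a0d8d0b5d02fa02c303ab0c510609073d0e3405a00fb601ec03260feb0ee5077a0be2086108b905380382080f056109af096307840ae40e2502a80fea0462051c0964063d098c0658055b0df604000641064206de012709730f9a0fe902390abf071d09250a8a0dd10a100c460383083a0c1c02d7022a0e780e360fe80b2f0de80e880be8085508a70b5b0bbd064f0166075309180e900d6e02fd0fe70a9b06b90fb103b201d4000d0e6b0b60059209ee076c0b150c6d0a45027a0fe609650c770c9f01cc089c0e7e035804b9081604a307000f7709880146084e0fe50eeb009a0f7909310a5f08530b51047209fa0ae10535093d00ef01ff09ba0fe404cf0da906470eae02eb0179056d07ad0d1f0dd802d80e5b0b210d880f890fe3066c0dc106120b8f0ada0735021000df06e30d1d0d8e03e303710f490e790fe20cc60cc707460ceb0d710e38004b08540d0c05a60ddc049008740b0607090fe1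07570b7102520a6e05e5042908c7049c09510e4e07a00a4f074201e10d760fe000590cb203fd08a504cd0b3205a10935037c06ba0d0204b400770c140f300fdf03f4051b0c230f8e024b013e04df09f60d95054008df03df02ef0d3807e30fde0605010e0787008004fb0e510dd50a7003ea083b05410f7c0c1a0e0b074e0fdd017204fe0a5e08900cbc0d830a1d042f083e0043096b00450c790aae009e0fdc0a8b04e207210c8b09a209dc0f010f180a010b1009a90f2f0ec5005009ce0cd1007d06d506b305f30b9506ad0a6707db0b3408a201030baf0966095209a707140a510d24037904970ae30a6208b00b9b088800fc0d7c06440c26098a0ecd0180030903d7096807440e1501a10d010bd00e84052e000a0e10043f0bc30b2a091d0f5c05e4097b065c033d00320620000e001e006c06140a5404e40dc60c7a081d0df50f4306540e3b0f550ac50e110a900942041d037f0dd903e900390dd40d3a0ac10f730a7108600893057602b00c4000a1083600fa0f200f630e6e008b0da6008208de0b20058505b60d330c3a0a600ddb0e01002607030c2a0ea4078e09b70bc500d70d5502900e60038f073b0a15082a0b300f64082b09a60ae7048404f6020801250fa50501016f04060b860981052b00c00e65044006150b6701020f7e0649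052d02710e0909ac0e3c0f7a069d0d970d7708ed0544059803ac0906094f0b5709e90fdb0f120b840b4503840d2f0842016e075003d104a00162039e031a02480c66069707d908ab0e0a06ca007c04610424099c0d3b0653016c03c900ce0b590dcf0c0f0183090f060f011a09f80f58060a0ee402ba02cf0cb00948043a0ece0eac01b10a7a081400dc08c40d3508fb0d5f0c5b0afc0abd0dc70fcf044e00da0dcd03bb032b019b00c20fab07cd0a6900050ae00e820f1307ee0ea8077601f60b7d0ab00f05052f0ef10896003b0ec20bf207930f7b01a20be6018403a2023f0e7705bc04390e5709f308b70a240aa80094067705210f6a084f097d061d01c508f50c2d0e980d310aa60c27091608d00b1d087f090a091707110238058601890b5e0afd0b130ac20cc30630005f0d5a08460d5800d00602066d0d900fc80f560db00bf708470d690b7e02290caa0ac00f680c6c03b90f2c078d0efe00fb08a801ce0de208be0c5c07a308e1044c03180b7904c7008f003a03890e7f088d04f401d80ee20c170d2a0d4908c60b6a059b0aef0a320889091f001a0f0d051f02dc028f00950ed409d7065100120a3a04a10cb10c1306c305270eca07a20160086f04a90e2900600b0c045608ce0d180aaf05c4061f0ced049d059401fd05ba0aee082f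09c901d901a500f2050f043e03c50d3f0d4d0caf09ec09aa038b0a9806cc07a6045e00b00ac903ef042604450ead0df101b40e810e140c1509cd0a4d09a10de303f80f470ed60500040803a80428067b0c610c8900b60c2f00c1020300a508ff00b2053406c8052808c00c590ba6015e028b03aa02c00c3105d30c920ebf07310b0706780de90f190d2103b003ee032703880f3200890f390732074f07290e450d9f0f4609bc04be0bc70d7a0221097209be0b4403620c500b280ea30ebd062109b207e802ce044d036b053a0477064b00370a260872036004230751017e0a410add0e7601320abe0eff0fb50e640ccb05230dfc073e0ef7036d0b830abb0c9508210d3e0ebb01690374089408840e4004730ccd0e5c06870b5f0b480c4b011009390f82029a00e507b501f005e00fc308b2091c03cf0e690940014b03240ef207860da1071a023a0aeb070a0de7060007e603c805ee0e620b65095400270f290fa702770d920b3c020007ab00000a020301078b012d01b80b4c05780bb00c0c09530038047d0fd408cb01000b85052c063c07f004430b08097802ec0faa0db60c8a04f30b8a0e3005f4015c0c6a0ad504b602f90c99080302c107bc0c58089206610924070c0d8a043008ba038c0d410971087d0ded039309f20923074d0d4f053f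0d590c6f0dac0f810a2c0d8b011c03e009f40e1704c2025c0d4003fa096c014f00a7059a02b2051e095b0cdb0f750684017f066203960d0d0d7d0ca704810de000f5066e0cbd04ba01f70d07076902880be709b30a500cc00ce70255061c05c50539040304190ca10d23018804ac0969002a0e040cce04270a0b00410dc801cf0eb70ccc0c8d08da08f700ad0a04084b07bf08d605640bc20921075e0d9c03c303db06c405eb0533075d004401190b250563019008fe00ee020e0be40479097a046b01dd00f00a5607ae0a4203f60498000c0f2e0e43077d047806c202f10b3302400aad069f0f0b07e409db0583033703ad020a015906b002300dce09b40a780d5109820ad20e470d79057b011805b101d20cf500ac01ac08cd0d820e8605660da50df808fa0ad007b8047100880b4608ec0c3200690ba90eb608130e5507c807430f0e01c30197087107540130046e03c001aa02aa03a609a400920de4072800ab0a4e04dc08a6025b043305ff0dc401f5020c07f30c08086b00cd0c6b0d980d3006cb0f870ec704110f5b021307f507c100eb066508580cb80b4b0dfe0eb20b1a017300db09e80a0d05910635032e0e7a068e05710bb30f0a02750fd5032306c009ca02d408a90dc2048305e204a600aa06900a430d8c0cd303660bab03fc0770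050e02780be00e6f05960a0f0828089e08090ac30ec007fc01d505120d160df30e670fa90e9c07a4033b07400f42008302a4021706450bee0fbd02990a850817032a020d039109c7079f0b4305e6074502310b8006f804550762055f02460736000b0adc05db00c5006b0f2a068b0fcb00f802cc0e59055d03480bb908b10a4904420ec10f0f0e02080508e006c50d84069b09d906d60b5a0bfd027401f30bf80a1c04220e8704e1080b03ec02d1072b064a029e0a25026d02330cbe0ce60113058000550efd06a309ad04150b820c34055009fd0b110a5b0e9e0e0f0c7d02950d14047b03a50091074b04020f6100d101a0099600dd0545092c07410955083506960c630f1a051d07d2094302c408380a110e440a7b082308a40daf0c9c0826091004d00ae60547069c0c5407e1001f0cf30f5d0f230c2e02640900043607da0ee70d110405063902a106c60d430c640b680acd0d5400ea06330bef0704024502ff08760a33079a027c0ab300850e700aba05f60de508500c070d9602b6005b0b3e035b0066065f0338095c072403990da30c570ef4005d0bca0ca8066a0d700fc207880556048e091102d204ae094c0b870f6e0163097c086206d2007e0212038506250f48083d0cd0058d0bda060b028408aa068307160f670d9908ef0bfa0f3c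019e08cc0f540a9d06a5075501b306130932019206f409fc06df0dbb0adb07680b1f00760d220dfb0595018a071b0b9e09340cc50f69062a04fa025e06f708490b7507bb0451071901c4074c07180e03071f05cb00f702690c550663075a0a9303610ad604cc027b0759061001b50d270d7b095d086903530ab80fbf07710a9203470db50def022506e706fe00310e4f00960ea901850051006f0d7e0a6309120d05008c0b6f053e06a7084108a3073c0e85079e09f502e800c90667031607d7045f0bdd0af902a60f7003e203900bd402af00630b6e0013046a0c8f0be3048d0b420c5a0068067f038e05fc09d40dc50f8c03c70bdf03f704e301230a120f4d0f34054f00d502a70d670798058f06fc0f27021d0b2205490cec09b008480f45044a0fc601c80b6305970a8f00640cfd08220409018f015d00a6063e0b0400150aea0cf102810825072f010106b509700f8b0891018c0e8b06b40bdc03510edc017b023203b804a20340057d00c304c0065700d60a300d4609b50cb60ab60ae901da081500480974074a09200434021a049504f200e4087c000603c10e41031f0e5f03c6010f093706110d8601c705180ec902bf0c240ce801e401330e420a2202e606da09980a7d046f004e04bf04b206b105ab09a808a0022703300298024a0a20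0e080cde01bb022f07330f170f600d6b06ee045c0dab04890df008d308f60960087b0cb9030e0fc90637013c07fd006e0f7f0267019103320f1c06b70ca300520a5500160f240bd50c480a9709030f91049a087a06d903a105310ad10e280e0506bb03eb04b30e1900d408d1029700cc0a810c3e017109dd0e330fbb0f2d02f3022e0a35009705ad06a606e902830bcf03a40bba03cd0eab0618049f04500aac0a7e0e3d011f0a73048208eb041601820ed508b403c20a5d06700b81008407d30141025f067d0d370db20b54078c0d730b5502570b290a2f0e3701a300560c12082c08fc0b0f0a9f042a0c35090d0fd90bde008600c706fa0e0e03430bfb040104ca077f068f0a0e0c3f04d706ed03b30d390fd209e60c910c7e09c808820220083c0b14034c0b240e66002b0a6f0ebc0c970c5f0e180fb20c9e0dcc068800cb03b500ae0681048b0ab7062b0c0a0f500edb03de040e04da036e0c210a7c0f970e890a1e05430f350d4206e0069a0c6707d003cc040701930e630779009d0cd808860f4a05c106ac099e03720693098b0a3e08d203a707be00d809fe0bce0cae0f840deb075c04f109f00cfe00e70a070c0e0ce500e307ac02dd05c70a790cff01700b7b03f90f3b0dae0cda021109e4072e016a01e904ff00300b580cac00b70447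08010bbf0fb70fad0d6409a507730e0603e60dcb05d20de6041c07f8094d0f59037504cb0b3106bd042b0bb80aed02e007470bbc00e10e210dfa0a380d03099a0fcc005709d60d65084d0c3600f4089505b30167031d0a3b09940c650a470607067200360f36033607770ea60af60e5d032006740b4a021f0222040c068a02e207610e740140050508bb0da00a1b03250dd60a57018102360b73058201ea0f5101780d480c6904bb0d3d02f80aa70933063a0f620d290c720b72005805be02bd0b170775092707e5037b01580edd05f209020f570ae208290de10cd604b507aa0b920f0601a706ab02e30cd20e83081f0590039a0b980cef0bf607de028c0e1f0ba50c810f11080001fb084c087900280d6107a508f10ab40791027e01f90ec400220837000905880bed04f00ad30d91019801d601e800200f8f0be1034a03460d6c0ab2060804aa0c7c056705d1018606430a640d6d02e70a4a033c08200d6606ef01c908e4035700bc0f9f013b056909610904076e04c807fb014a0db3082404e70ee309ef0b120314026c01d005d8040d08e701870da80b01013604dd0fa80d1000210d360bae08bd030507fe06a202cb080d0c4506b607c6015b0b1c033507670c980b370d8f07f40c4a0f780bf30f9401ba0ac805730d2806cd04b10f9205b2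0562006d052605030e9309bb01ab05c80b0d0117012c029b07f90cd901390a95092b0a39004d036803100e4d078f0e960aa4058e017c01d308db0967062d076a0c90026e0e5306190f850e7500670049047e086d0dd00834074802db0e0c03560d600cab0a370ea5022305e80899032104d304760a7500b909360ee60a3c092e01a8041b0a2908f0031702180a4604d406bc0378039b02370e6d0cea0e3f0b0e003401b00f4f0a520e9b0553038d02d60c7b012f099d068d0b9104eb0f0004540c9303af0e3e0b380cf4009800900e7201b9003309410c3809da0c010e970ea202b306690eea02be003c01d1082d049e05220f6f04c10b4100140f6c0beb07740cb506eb06d00993025a0e23080c02870ad406660c6007e707d509860bd60eef0555013a01f201bd0a190fc40bc40cf6098905ce0f7d00bb0ae501470ef6062407990da209900f1d0781042107c9045a02530a4b060e0dc90cdd0959041f0eaf0d2e07f20cc20d170c9405c0001d019c00750af10afe0bec0d81009303f007af0f0c0fa10df2035d050d0e8c0f980ed802bb041a0ac709ff01fa059903f1067a0bd807580f86092a00b407b6012606a803e4024e04ce08e80f9e07b30a090717044608ea0449099907a90a6a0b990510012806c9088f0fa00a5a05f706590b93010d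0dec0f5e03540261024d0155087700a20bb407c00ecf0626095e08590593085a010b0f3a0bf4064c01ad0ee006cf051604c90eb50b78060c0a2d00a8055c09ea09f9093e08e6021502720a720e710acb095701990ed10e730d570d190ee1018b0dee0441046d0f80064e06760ec80b230307090b0aff08ae0b1605fb0e1a06f9089809c40766091908ee0a800ad70daa0cd40d93008108850c9d0ae80496042c06600fa202020eb1005a099f0796054d009b059c038103d80fb807e206aa0cd70eec0763035a0e2e04fd00030b0a0467061601310ef804f50cb709e504e802d001640b3a0e920e5e085103080d2c0638080e045201ef036401db0207082e041802f70c5201520ce103520985087309de0bac07ec08e50eda06e101530fbc09c5031107940b8b0739022d0e91017d002c01f801be0c2b01b208110f9904d10a27029f0a82092203310dfd01dc046402920db401070a0303e10fd101cb0fbe06e8088e09ed034f010a0cb30448024705e10d1a08080b4e0aa905ef00e600de01570d0f0fcd0c3c0d5b0e0d04880a8e016804c3034d03030fc1097703760eb4020b0e5409bd0c4d015a013704680302020902fe024c00b80a4c0398027004940259031307c7067e0c4c051a023e0cf8093c0a080eba0ea70d5e010404b0069e05bd0504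08440f030adf0fb908e2077b091e0622026a0d740b6d07f70e49058a02a00f1e098d096e0a870a6c092f01e3084a09c6032d0bf10ba10c200a94093f0ed20e8d045b0511040f0b3f0f6608970d26067304850fba02ee00cf0b8d0a6604f70b2c004f0ea10ed00713078a0bc108ac0c3902f00b47097508190bc80f760ce4079c087809920f4e095f07150bbe05170e8a07e904ab0065023505c90ce20042071c065b086e0ca201e60af00a8d0dbe06310d6a09d101e70f260c0203a300a40f9d07c20c090b9a043203dd0c1b019d072d0c4403be03150a0a044b0bd903da03d2040a0c42022c0a0c06af0dd701ae049b0d1205a301a6059d09f70baa0f6d067c02b70b7f0623031b05dd04a40b88047c0344098f06ae06d706d102e104ea0e1d0aa106fb0c1f0f0206460e2b0b8905b50a3f0b610dbc0c6204910d9d05ea04de04570c3d0afa08810eb00a2305bb0fb307d60f22083200ba063205a405f805df03d3058b0bad057408f300fe086405c3047f01490c4107490205050708020cb402d902fb0ecb00080f150c3704630bbb0f830a99007b045806dd02bc0c8c069107c30938004c09df05320f3d0782037303410ef50b0203e5079705ec0bea0224013d0ad80105043d0b000a9609d20830034e09b808650e4b087e029104b70a170f16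0a6d07ff0386026205790bd703d0080a0efa0c75021c05de08d401220536040b06a40024016d07cc045904f80fd608d5045307c5033905e90e070f7207bd0fce093009b9056002c701bf0812007f0d47043105680cba0b260251079b0bb10bcb093a0ee9086801d7022809e201df0b6203630a76033e039d081e0e5209eb0d06069900ca0a2a0bb7030b0c8005810f3e056a04660689066f0c22048600ff041204ad0b64014d04bd057500e9056b0276070602140a6505d60ba2052a053b0c9b04750c730a6b0675057c0a1a07ce03800af8078307e00b9d09e305a704e501ed086a09460004072a098e04ec0c04039f06db0efc01950b6602060e260bc0038a081b0722001c066408060c8309d50c330cad089a007305ed04870e9a08af06a90c060e9f0c880d6203bf08070b2e02ab09e004c601960a4000bf0840003e01450d85088b0abc09d8011400fd0aca01c0057705130be508f20dbf0d450c840b39025002a30c53039200e009b60ba80a0505d40f8a033a0d3c0c2808c90cee08b50c870fac05aa0c7803dc092907d101c10ee80d80004a0dc3058c062f0acc07dd060605870d630e1202ae0254065e0f9b0d3209080765075200790e1e05d9042e04a708830e0000f30a8307ef03060cca0d0a0958030f00620d4408670dd20d090c49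015102b8002302c80df90f520a14054807b40e9d0880001b0e2205b70655022b02440c680e500d080f4100070b5009f101fc066803d403a0037d06d303770bcd032c0e27037e05a20e2a0ac602d500d90138035c06d400350e94063604800aa302e90b0503b10db80cc40d720c250e8004650e2f0c710ebe0c0b072709e1051908c8002500010f1f0a840b69073000be0111092804a50ca90c1909c006c103280f380e5a0070018e012b029308ca0cfa06500572061a052909fb02c500b105bf0d8702ea0eb8094506340e4802da083903bd030c0b9c03f20a59046908c200ec0f07005c04d50d1e01eb08fd0c2904af00a00be9068c05140997070705f9007406920dd30129068500f90dda0f88057e07cb0bb5086c0499075f00f605d00eb9053d07ed023b009c016107b10cdf0e560f400fb40f9c060d024304bc00bd0ca602660c8e002d0b40062c079507370f8d0a880350018d02340d4a0e6109a004ef0b74063b076f04f90c7608bf0b7c02e407f10faf0cbb0cdc0dbd03cb015f0f6506be0708066b03d60eee0bff09490cd50987048a096d0a1308d80a160bf90f74097e04ed0c6e0f28087006e4024209950a1f02c60071019404c40fc5085e0a890c740682039c054a062e0f250603031e077c0e4a073805080a1808b30af30b1e0108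0bf506d8035f054205e30c1d05ca08dd0fd80fd70ce90fca079d05d70d75008e0a06005e0c8507100d1c04e9096a0aa003ba080405460db10dea0b770701093b05b4013408f4001001fe0f44020401740d0b0334039506f30ddf056501430df40dff072c089d07560d4e02de0ba70e350506070b0ab90827014c0d5c0fd0028a08cf01c609bf058408570628090702600256094706940367032909b10413001905af021907dc0e7d07c404fc07fa061e03e803ed03940c820289065206c7016505ac01f1038702b4035e0bc60772053c02ca0ba3075b0afb0e460a00026501a40d68050c043c000f0ca404100956052007ca06e60f960d530e5802820b900b0901160785003f0ad90f0901c203e707d40c05088a004702d306f5059f0a4402580d000a8c001102c20a9e01e0077e0c2c09140ace0fda04d807250f08036c0a360f310a6102cd06010c1104c50bc9072007f60eaa014802960a310319054c05a80b9f0e8f0bd1002f0c430980046c0b8e0a910e3908f90ce30da4043703120b9705f508c5057008d7099b0d13009f029d0698095001ca0589034907a8055102790a280f140cf703d9076b0af405dc08e90a9c02f60e1c04930f5a0c16026808e30dba0e1b08a10d9e054e0ccf068005a50acf07eb0bfe09cf08c30249092d02f20789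0e160aaa0c7f06fd007a0764057f070e0d52090e0c5e0aa50e7c06860fae0dde07d800c6014e00b305090e6807a702800e6a0ef90723025d0f6b030d09a3065a09e7065d086606e20db70ac40144050b00610ab50a5800170a74092602a903ff03ae08ad01de091b062905fd0fb00c5606a0081a0397090c043b0f37064d05590aa20fa609d00b2d027d0f53094403ca0c3b07b905cf050a0444050202ad024f04d90d150bd2042d03450216085b0ef002a500e206ec0c0d008d0ed90e4c05fe056f041408870f2b00a901b70d4b0a2e0c4e0121056e071e08c100530ed3021e013f0226073a06b20e990cbf017a0b190e3205250875073f0e7b0d5608520c4f0d2b067100780438033301e2011d00d20f330b36032f091a09d30d2d073401060d890bcc098409910915012a0c3006ff06a107050ede0474089b026b083f023d05cd03f502b10af50d340b8c05b00e6c081c0c9a0604054b0cfb03040b1b094b0135034b029409760c0308f80b4f028501b603d50c1e03690ab10b4d0fc004db0054014207a104e008450a3d05b80f71063f0bf002c9030a059e0f4c035500d30bfc08dc05d508d909620b6b06dc0df70778031c0e130bd3097f04b80cfc048c00290863012e011502ed003d04170d9b047004e605b909c106ea03fe08b807b706b8,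
  0xfff0d9703e801b60ec902210a200719085e0e8f0b330e580d370e9f0e2c0a310ffe043d05ce03e9022405ac0bb70c4907790714039d058d021000f50e8501f50ffd02c9015007d1043f020c083b0b7b02090e890a8901f10b3003be0bd10cfb0ffc09040538091707fc05cf0443031a088e0a5605a3068f079e0bf808680b5e0ffb01ec09ff088d08d7064f0ea7094005f6046c033b03ee081c086505b00f1a0ffa08010d140972089b067f023f04f50dbc04c30530060d00230e8b0d010cf90ff9092f01e50f6a02c109200a0c082a0805059505900b730f5c04580c4a0ca20ff80d080a6d02a30ce707fe0f8109900cbd02a20af3027d057904db0b7500a30ff70e3d05990b190cde0464000c09f605df09b30501056608110c100f130b900ff6005c01170e4e0ec80f0e03c300770401046004d80cb203a304510a0804b10ff50fb00cef01080bd90c47069807cd021608910139072d010d098b0de60eec0ff400e407d6063100a90552052c014b06020c0b037806930e0f0b580b1f0f6f0ff30fad018806850ce904b50fbe0a3c0a6a095f0c700455083c05b6044e02d90ff20eb10465051801cd002109c40c8f061d055b097c0fba049603f606f605430ff101eb0e970db50da8070205c80caa07aa0a6c038b0a800e2e0135072b072c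0ff0057e01c20d460d5d00460a58088a0f3a04d6054101330e210d0408c404380fef05190fcb0bdb08e90d240a5907f70b9f013607180ec008520f9d04d504450fee0b7c0cdc06f107e80c450020000d05cc0af90a7e007503fc0b13076201590fed086109f30d4907320e4b039b0a730d3d0971034305d60bad01400495082b0fec04e300a4010a07330d6c05d4024a01a504cb0a8d09270c37020705f0051d0feb01ac0ce5031701ee0c5f03bc0d390ebf08d9042800cc0e5c0e1803070fd70fea02f1009a0b6207dd05c3081904ee027404000c9f08220cf10bb1085405870fe90f010c690d6a08f60aa8039e0ed40a970b390329004208cd05c1074006180fe80c3e03f202d0059e0cd80b9a025c099b061704b904ec0c6401b20e990fdb0fe70f40022308f1026401d401560d2309950f070c9409b702e9033e0b5a059a0fe6077303e406410ef90442052d057301660afd041d04330522055d045600e90fe50e03051c0ac504fc02fb0ee00f0b013b09fa0331041c0d0a0c0509dd09c10fe40d6509470d8409340ddc07430057030f05c50e6d001a04d3066d0608007c0fe303c00eb903f8082d00be098503000584087d091d089209b50e8d06fe02c40fe20a3d046303f007680f510d030a61097303c20c6002eb02940acb0d5605dc0fe1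019504de0ab801cb0ae60aad01aa0a6208300f5f01020498095d0b9305720fe00e650fd30ce405d202b70212038e042a0e540f4c0b810ee90a860dd5008e0fdf03d200580928049d02d10ccb03dc07b00b4005f50c210713006805dd01190fde0a5503d00aa107bd0afb0cb80c140aa602fe019f0efb00350c1a0d4b08990fdd07e00c590ef20f8b0b4f03860c720eca031b00e30802023a04a902db098a0fdc0a8b09df0d1709d506b3050e02390a7a065e0b660a190ab00dfe0f5d097e0ad4033d056909a200560e93082302e003ef00ba06ea082401db06280946099e049206df05c6037905260409049c02770ad70d2f01b1067307bb06d8009e08f30a13087008af0674036c0b440ba20a5c06d601cf0d43046b07c20ea000ab01290d1d06790f980474016a007d037f0fb700060670003d00bd0e6a02ba059101780bbc00ee0ee40447014907990f790e7400ac000904a30032017a037a0f1607ab094304400e1c02c8033c098008710476020804aa097402c70cda037701830a3b0cf6030b00970783046e09830bf902830085029505120b8a08450f420ca90a8c076c0be30f260da5035609da03740c28025807120ce0013403f306cb075c0f310b080c40081f07c6095a09930c4e05de0dae04930d1c00590ac10005017b07a006f80407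0e7e07ed031e0ba80866090e06e108bc0def0edc090a0c4c0df805f407240d180faa02fd0a5b070509cf01c40888065f0d630aa3007301e30d070dd107800bd80f91020d0fd00bee050501480f89023702ff099c04a2002f01dc006b079b06c20758002a0e6e0e33061f09db023e0c1301710f4304e405820bdf01d80eef048b05b400fc0f180fbb040207ba00840296062c00030372090c0bc903e60ca007bf03890dd002aa06e903d502320dca07a606150d820e8207b2035d02450d7a0bab021a0f2f0181063206e7089600d50190013106d302a70303069b04fa041706e507820aed093f0f8c02b5028509870a8a02690f1f03d306f00bbe0756055e083f03c505e00aa909410a70035b0adb08cc09ad021d05440201067a06fc04bf09fb05da08160a48063e091b08aa0e1302bf08460f330213036a0b210e4100e7024206d106ab0bd6013d000b03080d6f0749021c06b7068908730a3a0ba60e5f011c0f1c0e7508be0db80a5006ef072e0fcd0bf106b504f70c3c0dcd0ba904040a28094806ae0b68068803c407c5099406500ba50755002d0b0102d8050d0efd0c0c00b305d70a1008c105a5038d078d067d00040f580f0604bd042f07c7099207070c790f24026a0de4014607950b5704e70af6060f048a0f8e029b0a1805ba084800f6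09230ad20c510130050f0a4e08f50d3f09e2091c0f6e0dac0cf20adf0b170a6909000096081707db090302e50aeb05c90ca6046f0f37005102f600440b720368061206a207e903db0d1e074d09af086e0dab0f4d0fc40b88041b023308ac0fc601570293093a02e4034104fe0efe064502f803ed06bd06f505090da4080f077f02700143006d0a84063f0da20ade0eff0fd8091108ec08eb036f001b0457062f0fc20d280a8802bd0b1a07760b560b270cae0e150a440547088b09e104dd063a06070fa301b309f70e500dfa053f09a009c00211049b022d062e04c907860c6a0a330cf402be0abe032703a6007b013e04a70015030e05ea0b690bcd0c550ca30eaa0b480b160fa7038f0800095704310a9c08c8078403c108980d3e0c4b06520a390e5609f90b6e0df007ca0c2d087907910caf0fd4077806ce0f1b070c0a5e017e0c9a031200450ead096901510ed105970c840bf30bac0b0a0bed07750d36016908b0001f071e05310dd4038c06a50a9f0d410024089e00480659024c02dc0421064601c603cf0eab0f94082e03b40db207770e9504f601c802ec09e901ca026106f7002607ff09060d0d0a41001608a105b5041106640420078c0ab30d8e022c022603240d7b022b056b0000078b027f06e300010bd4087c09c903a8076f0477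02a009bb09aa07cf0c3f039008a80b220aa00a0d0d060b5b01d202a10323072a0984027a0a8204bb05fe05ff0f750ab90d12058004eb015c09a507c108d5057c0d4c0edd0a7704f0025f016206dc0b230a810b9407a30c160ba00e5d0e280d1f05320e4d0af402310e6b0ba40761070a0c0f00a60014049102150dbd04c10e840eb70fa90e470e0e0c9009f00bec0d7900da0c4d09580e2f061e0b6107e507df05000ab707f40ab206110a4d07e30a1a0c9e0ec204700df500de05a808ca0101000a06ed0886028e0a270754020f0a4f08430e07007e02b40c5a0b59046205a90c38042903950b510603011a02e60fd203a40bea00af0cd90f090e71006e09300be00b9d01d90c8d084b035c066704440d4006fd0a900ee502d70ae007da06480d5503ac0c110634015d0250004e08a600890a850eda0e7f0067006609220f11017901750381031c05760a4200f20585066c08c7032b0fb50d8502980b0c07280bc3043e05b20b460d7507000cdb06380f3f0cc90dde014104f9058b06370b540edb09a6068b01a00c990f0c00d00cd60ca70f6c0a3f04820e510c390ec500190bc709450fae08cf0e170dc603dd087e0798041f0c9702d507f60ed80c30096c0cab09ca071b01fb0144078803d60c750d6804bc06b80d2b049e0c8001f606bf0770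09dc02780d51021f02ad043b07be01b80f570c68032200020e8a0e010f5e0eea0d2d0ccc01fc018b08560e780c2a024602e70715015e08ab0d660dea0c320ac90a7406970b3109c70a4007a503f5020b0ca100a00f7e0bb60eed0ae5008307360b7e0354075a03b103c9099d0f8707920cee0d57024d09880d6d0acc06a60355089c0bf006260e320a680e6106c506470be60ea10bd00a450b360df60f530af701040be50e870d700c8504ae024b00180c980291097703d802030fda0b12007906620055051f00110b1d04a504cc027b094b0f1d0cb30f12005a0edf04da0ddb0b760cbb07300510028100dc09d800d10ec706ec08370f72092c090704e0045008ae0b000fc703260d480d3a0e7906d20df2057d0ba706ad08ef084108e300080f2b019d05e50c5007c3026b0ad90d920fac00500f230ec403b2045e08ad0e860ee708f402cb0a6f03fa0c0e052e09180c1702e2077206a0039f0a1400a20ea8042405bd0add0369027c0c580a600f5406bc0b6c026e09260d1509e000e00e1d072f0c27081308420af502f3094f088507f909d303800a050bca0f70066a04e10d9f0483045200330f320c3303ec0410066b09ec031300720a9208380e430b3202bc0fd909b905aa0d9b0ddd09b6060b042d06300e05085b08120a9e08a4034e0499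038a08d00e700f960a020a3202ce0fb802b30b2d03ca08c20a510f9b09160ceb0af2056705cb0ef0065602d602d401640eae0074018503340184028a04f307e70d50064408100dc00384092e094e0eeb071f0d2200d300940abb09d005db0f66009c0d5b0b820c3408e801ae041301670d8a074205ab0c9b025205e90eb008620a38088c0d7701c00ef10f4900b406d400b00a940f690c150d930325040a0bf6035e037d06f306990a0e0daf081a02a50d1b0ca50e270f3d03ff0118056808d20694030500870e1b0ca8070e0d8b03930ed30c6700e500130ede08310bc50e4800ca047802ef024105a103140c6e01bd0e570ac80cb00cad055407b30cb40c890a4a0df9003b0f7b0a0a0e7a027e02380412087f03e008c30c200ce20aee00b105ca08ff09780f4107e605af085a0dee06420ae305bb07b80e040ac2093b0dfc06b406de074b08dc0b3e097a04c7054d089005150a950aec0aea0a76047e08ed0b670fab01580d3b0f9c0e440766031007a10194030c0cf003e3084d0542098d0aa20db70b4c083605b907900cb70b7d043505a7009909f2000e06870d900ad100fb004a0f8f0f8a075d015206be05f10d200d5a0e3e076b0881026f09c508dd0583099101d10ecf0e81008805860dd606e408690174085101ed080c009203ab0b5c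0a160cc801f902ee0b5d053c015305fb008102bb0c61078507b5065b09250d3201070f3b073e044b0c6b0bfc0c1e09b4068a02ed047f0eee01ce0c6c0c9505b706050ad50e2904530c9d0c4604260c660b4707f101df095e0200031f061c06830e35003603cd02c609e40f850f7109630be70b2f060a01ff090f081405b3095c0834088308de003408b1019b0c3a018d03ad06af04b308cb0e3601a708350fa202b901bc0d5204d208580f39048805480af803280d0c0e1e001e0d020d350c520c0801f704a1010c063c0d9807bc0ed002040b8c0c7107cb00ec01a305f30f650e2a0b3a0b0f0301093506e605e806250b970c560ad800d208da0833060c09130b8b07310c1806a70a2c01f801dd02b8038203370d13065a05c002590b8d022000ed067c034c0d8007a8039706390a66057108b90ae40dbf056308bb0d2a091506810e7b03b50ece06c40daa0f2507ec0d30000f032d0c7d064d08df0f830e9a0d0e004d09c3050203e701960028006302a9046906490d1a0f80016b0914085500f006d7022a077c09a70afc0ec60ef306cd07d708f908280ca40a9904ed09be07f804f80ae701ad00ad008d0fc8048006c6077a004307ac03f10bbf0dda012808f20d250e1f0cb909810f200a2600d4044c065c0ab104c40d1000f1065d00b70654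0b3b05c7062002f509760d7d09650d890fcf06fb08a503a905350f840a1f042e07ce0609039102c00a650ef505bc0a6709b8081d0199085d053a03470e380afa081b056d087504cf0cb60ddf01b706a10f2d0d270e4c008b0b6a0f9f044909b201de03eb099701a807f0005e05c4025501c909680c1d0e6f040b06a80f7f0acd04ac0e110c000e0a0dcc069e015b0d7e04b205770f05062d0f2102cf02680d710c7a07d20abf051e0124028b012f0093062103940fa80a1d09a1051b009f04be06cc00270e340d9c014d03b8066e01110b4e08090e5e09d10de107f5041e0a21078f06c3049f0bf70604070604940125042507200cba0ed709120c3d04b803f90aef0fc007c8089408a902720fc3069a030a0b430fb1017c08b2058f01bb0c2e056e00dd09420392095404ba0a5a0e7209590fbc0cc405e7010f080e0aa40c7302fa05330d8800a105cd00760e8c05f9058905e1034802a40f34086003390fbd08e103200ef8089d06820c65047206d507170a34068004c8044804ad0c4f01030aaf071c09ef0ce605fc0276070b09b10cd5045b01870b49091f076d0ebd0d29003001f40f2909440b3f0bdd0b350f4704050efa0ec301060fa50a1b024e0dd30cc2064a001d0d8f05eb096f0b5005ee01000a7503c703580f460a3e052402b104dc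03150de904970a830b950c6f05170b2b030607ea007805940da306b00112018c0b7409390a1e0de304c004030b9207eb034a06220ab4060106eb08ee0236002508f70de50cb5024308d10de20eb60b260351086d03bb022e05060aae0f1e0290050406c002c5076306b9090d074e0cd70e5b02b001ba0b41014c078a0040074c033600c109190e220be20c2c050c064e0aba08b6044f04610dd805460dc90fc505ad03e10570064c045908e60012018a0c290aa70f2a07390c42039605f700470acf0d3c0c2407010e7607b907250d910a00048e0d3102400e6008ea05c209ed09320f140df30132079609980b8f0cd30f7701760dc800b90cce00eb0dff00610e5308db05a4016f09ea0887033003040cd10e4605a608490eba01ef0847043a0bcc0e7c00170dc509a900b606360da60c820da70f380999055f012e0ef60d5c0f5503b00b0309fd057f0953088f00b80b0902ab02920e3f09620198068e06c703870f8d0767072109ee0c7e0b370e7306f20af103ba0a04004f0933074608570f5b0e5a0a1107ee0f0d05d105e40275045c01e70e9106950be9090102dd071102480dcf0cca040f0031026606f9040c0c770b1c077e075902470123098f09610e6c0c010a4700bb092d01a90b2e00910cff077b07c9086a0ad30f00057801e10f04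0dec0d160adc0c8a0e59018e0a230704030d0b050a7d0f0f03a101bf06e20064010b03b70db40a5204f108530d4a0e8007510eb500290bfb07270b770070025a029a0cbf05530a0b084c0a720dce0874088400e10600019c02cc063b0bc107a40cfd09eb00e60e6304d408b30b7002880e2507dc0aff06960ebb0d6b073801260b5f00b500c30a290967057a0b9b062b0eb8006f06ee03990c480c8307260b4d0c2b0aac029d0db90e9e014e003c09700df4026501c3026d0613086c034503210bb20ea50950085c096e0c5b0b65050a015a0bf208e409ab043400fe08080e880b9e08fc0bd30ae208a002290dc30dc40be105560986066f0baf0fb60b85012205a207d30d860eb40df707350f2c05140e620f5008630069069d0f6001d60e4204ab06a904ca068d03600ac707d8003e04d70c0906600e900e8e08b8033a07ae09e302b20e550ae103fe016c02fc060e0bf4087b012b01b005810a6e09cb0f5a0fa40ea206a40d8d0b1107fb0f9e0a64019304e809020e980956046d020e00b209d20318003a0ad608040416052a0a2a0d7f0cfc01a207100a250ac40ce10745037c09bd08d606160765025d0675028603ea0bb0045a03ae032f0b070e8309c8016307a2073405980d8709f806b20e7d0ecc07d5062705250a1c073f0da008760d60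0b1e05d90a980e260f1506c90fb3058e0060020603330c9609e70fb40d590e0c0ae904fd056f05fa070d04a0084a0b1b040e0b7907220cec0ea904390c62037108e70dd2092a08bd0a930bbb0b6b0d7c0485008a022f02cd08820ebc008f06ff0d8109d90d7303df0ee60ee100a50b4b0db1049a097f06580e4a0a9103fd0b02096a01600536061b0217084f01ab01d50ed60311006507890df109b00c1c0ee308d3067b0e24021e0ee8073d03670263071d0829041a00d704e605ae055a02df0e1001be08a7062906350c1b04d00a53052000e805620d670fc9011e056003f40a630b91066105580bba02ca06100872017f048f01a608d8044d0b7f0dba0b1404cd0baa0623083e0d3801e00c2f08670c870a090ee20f4a0db002e10806005b07870dcb05080e9400380d9d0a9602f90665075e0b180ed204270e2b0ef70b71072907de099a01e407710877018f091e021b054b0abc0b34052f06d00c19094a052100cd08180bc60ecd09e5003f098c01910e3b054e0ac005b80c03096b0a12002e0a5f0aa5082608e205a00cc708970a7c09fe0e6403b604860385023b09bf069c0f44004c04e2053902e80e7700f308c00bb8079c0d000054016d020a070f0d6900c70f0800c80c630b890d0f09510bfa0747033f0177032e029e04b702600039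0aab0e300d8305750cc102ea010e0929080d04a60f680b8608d404180f4e0222034f012d05ec0ebe0e9b0deb08c504810bd508c608200fbf0f2e0545008005d50a780f4803da00fa08590f67007f043c0e4003160b9800490a3600ce012708b506c804b40a2b0bff0ac60d4d06d90964098e0bdc0c6d010903d903bd044104c2053e0b4201680b7a008203660fd105290ed90f7403b90364013f06dd0c780f27014a0138037b05270262084e08ba026c0cd20cf7042b012001a10a8e0faf0353054a03460ace03020de00b2503750ef40ed50b2001720982029f04f204e502270fa009520cb1014f036307530880063300bf035f07570b100d740fb9011d019e0fcc0ba10606080304ea0ae80c8b02d203f703bf03d1082705510f9703d7079408c90a9a0e000c5e089a08070b990a4b0d9604c606e0079f06db0d53002c0d9e09a40b2808320f61061a08f807a702250a570e12042201700fb2075b03c8038304710f4b0c53058802b60bda09ac005d02c3093704d103af073b0c0600f80bcb03440cf3083d00ff04df080a028d06680af00b2403c60d2c0a2e0e450bb9063d001c0f9a016e0513073702790a010dbb096004e90137011601130a5d0f030f5905230a350c88037305030ccf0b0d0f86093d056407ad01650349047c05110d0901af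0de703b30eb30a71054f054c0bef018209490d340c04074f08f0005204af043002440ac3036b0b530b6302820f780c250e9c01c100100e68008c07930f630b83096d09f50cdf02f7082c02280bb309a30b64057b0e4f0f7c0f020bc40a0707500b1507c000c50c5c01e80d7209f10516045d0bc20b2907cc0f950a2d0ea307600ccd076a0ded06770f19036d03a50ada05f20c2304150ea405f80037076408b40f7d0fa1055c01550a03053404790e16059b0d7601140f3e01890a370f450c8e051a0bd70cd401730ad0048d05d002de0e520a30053d0de8056c03cc09fc0e370592085f0b52040809cc02c20c7b06550b8001fa0fca09de0f36086f01860cc5035003350b2a029c00f90a790a0609090a2f01e207e20f3c0071082f02da0dc10b9c02710c8c036101610fa6037e0f820a9b058a03400d9406190690061401b407b605bf08890d950d5f08ce02ae07f209bc06920bcf025606cf08e0064b0c76092b0d190d4f086b04ef08bf0e200528087a053b047b0557004106860f280c1201c707080b8705e2033201d707b4040d0a240ced032c0180059d0e080d33046609ce0bce09d4015f030906b10f560b60094d0e19075f00d604ff0b0e023c0b0b0bf500bc0219047504230c0a07e40e0906ac0bc80e1a0c1f01fd06760640084402ac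0c740c260efc0ab60bd20b4a044a0a22038802a8006a068c01a40095025b0f300f880ea6080b0fc100c00908087809f40afe0e0d0cea02f0029900a80b380b040eac0f640d1103d4024f09380b5509a807c4062a069f0b6f0c36023d0678009b0beb02f40357097d0d4e08390a7b06bb074801d0068405ed0936062407d9025e09e8047d069100df07af096607410a1702340da9045f0dbe083a05d801b50eb20a8f039c090b093c0d0b093107fa0921011b03aa0f620989031901100eaf00620c5d01540d2e077d0d0505740d540f170dd70c430d4504fb066601b9059c079d00aa0a460d4703de00d8094c05ef0c4401f00c350a9d08400d7800070f93025307520489086407e102300c860d420c7f00ef0365045402f20c31014203620a1503e5078e06a308fd0d9904a404ce0218009d0a6b0cbe019a00900105074402510484004b00cf01d308fa04d90dc7039a0f0a082106ca08fb053702890f520be40e2d090500c406530ba3089303420b8e0f760e3903a7091a0c920437071a0bde05400fd60f4f0a7f0bbd09e605be02020f90035a0db606430d440e660487025404f406690214081e0ce8041907090d9a047309cd0f73052b06e80cc001ea0c9c0f6d02a604b601450c4107ef076e06510c930e96073a0b45054900c607a902d30235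0cfa012107d40cf5007a06c1078103e2011f0f7a0d620ecb013a03cb00db07f3017d0249099f028f05d303a00aca012a0a5401cc050b046800e20bb400d90c910e490cac0e3c0593081503760dc2072307740ab5047a01f2032a085007d000c90a4c043606720cc3043205fd0b3d008600ea08a3002b0abd0a0f0e14036e0c0d01da07b1066301920e3a01f30bae06f40115009803ce046705b10f35059601fe04c50c0705e3028406aa04a807160dfb073c0f6b099605590cfe056a031d095b0a8704140e230910035900f40e0b058c04060aaa00220b3c09d707b702af01e60c2209240bfe0cf80d6e093e0dd90f100e020d5e09d604b000ae0b0609c20db30d8c0671012c09ae0b6d0bb50bc006fa0d580bfd03980ce30c570e67067e06b60e06055500a706da00cb02800fd50b2c08950b84046a097b0b960c5401c505650c7c05e60f9203380e9d02570370044603fb0da102e30f220e31028709c605500dad048c04900d64050700fd0cbc08b7097900c207fd079a01e9042c0c8102730797059f0657095507030cc6020502970d210ec1089f0d610be806ba0a4900f7013c08250fce05610cdd0d26076903520e690197005f0e920975028c034d034b0b7808e501470c3b0267006c03a20cd008fe0c02074a09ba08a20dfd0f9900530a43,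
  0xfff0f620bac015802d703410bf304410b7e0e820be7093d02f1042c0dc80bc00ffe0634017d055b0cd609f60bbb00fd0be20f31039406bf0eba013201fe03f70ffd03090085014d04430bcf0a01026b0f4c01b108310a6f0dff0f7f083e07290ffc02600c4902ce084206880e400cf904c1025409f905470c870eec037808500ffb08d0088200d508d8006100be05cd034d017a013104ac05c409c3031803490ffa00d701a90992068c06aa0ad30ec6059e0fa60d61062e07a700d600290f010ff902b407990fca078a064106df0600062902070d0c09f80c3206320f1c0d8b0ff80d9809cf065208920c54005809eb01c4030a0a6e04d508b50d730f3c0cb20ff70480049d01410c8c05540b7108f70d03003e083b0fb9077700c30038018a0ff603ef01e30aae08db0ba703c3074f0a2b062f04760eb403dc089c093900e80ff5066208890b5e0a0c052a04160f27061006f506fa05f20ad607fe035a079f0ff401d60b63068607d60289059603260f5c02c60a47046d0b6b07470a3c02190ff3016b099406900e71011f0a9104ce056b0c1602a1036b000906d908c909030ff20f160900004d05b3086508640f400bd001d7098901f70b2f0b7c06190ea90ff106b206e50f140c3806b6028e00f501400f6f0468092f0e6309d805a10f76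0ff00aee02120a1f07fa08800064000e0ee0061d06ca0398065d0c4a026805260fef026d0647070d0f540dfd01bf04c307860cc906af07500ea300b305a40e000fee06130afc0b080e370dce06d804810a83046c05b400390a6309bf07920eb30fed0def0b3c06fb02d305370e6206800ae001cb0117082f0f9e03360eb8056f0fec06690bb40a2c0b0a008b07620cc40ccd0ec006d409110651042903df043d0feb08da09860ef30a00028d05600abe0e02072c0e1f07fb0b150a310998073e0fea0fa503d20247086a02440a370c390f490dc10dd9032b0a4404e70bcc02f00fe9031a0a2d073c00f10d45067105750b1d07060efa08970cdd0c1e0ce50dd20fe80e9d0a7c0d270b7206a201f108b307630c4203fc0a3305d20605052300860fe70b840b6606de08530598063c0e9c07bf02a3001e02b20e4c007009e302060fe60b2706b3066e0407023b0f9705a00f5a04ea0b1c04420823084c0a61072d0fe508b00f950b990345077e05a909040798016f0ac200c0033c012e0db0046b0fe4039609c001ee0c9e051307ea01c302bb0f6102db04500b330bd20df4018d0fe30a1808020749039a0db902ad0a6006a102a409ea036203e301d501790e050fe20999093c033a02f50e43044908b802480d08075c00300fb000f30cf8063a0fe1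0951071306f80a640ac9005c07d009740e3304b5051a0668034803680add0fe009a20eb2011b02c3019b015b08a7008703e20d4206c604530ded0ad50a580fdf0b010d720a500c14061a0ce800bf0caf05fc08b607320a4c0d0d0f4208050fde03970df0081704a205b107fc05990b8e031509a908cc0d33057d0f930a290fdd048a03ee0d200fad00070dab0a59081f0bad0dd505db0dc60b8c080e0d060fdc02fa0c7801710d1603b70a5a00a10163043602df05f709540d890f8f0af108360bc304980d35069b01030d2d0b580aad07450ab5055506cf00bc04d9035508330bd90300071108370ef2090b0e54017c05cf0f990ae80cfb0884087b0543059f086f0790059d0a690120027809cb034e0bb305d70e7304ba0eab09ac00db0de40707096602130e930d3003ff047e0f940b2503560f4305d10a8200420cb30c4603c6018405d90ab707250b8a0659025801e80cd7094f0af90a5e023205e900e003950c8e007e0b290d4308d104fa0a3600fa054c08dc01d40ecc02aa0edc0c190bdd095c078f0bfa0f8e017806b70ba504ae08010ab106ab090101a303da0bb60fd9083a0102025d0bce0a9a089e05800923039b00ef077b00eb02d200aa074d090705500499044605c20f90053c02410224084b08110aa80332030b037700f40ed7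0a2808b70c8a0edb09d60c7f06630c5509590b0f048d03d60c710e6b06b1013b0f0605d60c6b08790d0009d2074c0ab40c9204210d6d034307af0dca089b07ca02dc0eaa0c3c079d0f47044d0f330c0a02cc0f600051011d0946069d011a0d1706e30a66076d0be40929096e0a72081a06c201b30aac0e8b06830a2e080d03040ef00f8a04b100e40d5d02730de6000501a508490a7d04230af508cf0701067c08c0088a0816012407870eb10e9e0a510ab00acd043e0b3e0f2d0aa40a100cba067006ce009409880d07000c040e02510f750e07000b0c940e7b04d80b300f2308af002f044c0ea00912018f0b8d0bbc09730c8d044a0b220f98079108fc0d5c018e022a054804f106bd0be5085409bd0fd70cd900df060d0c4c03bd025a008d0c8401830db10845047208a60b7b0fac0aa50a6b07d2001d044b0df30c1d0a860090063e0b4507e804c20e220d8e0e2d0b4208ee01e6049f0c480e2605110a200d040e4b080409e00885007c017e0f3403ed0ebf08ab04b40a70033d03bc03570646035b0d0f0d2f0c9f0b810581097801500f830ed2009a06f70af4067900060883098001800ab608e60411095502e707c600500437031e041a057900d80efd05c8087e0a4802c505da02f80f450b9d09140192034202d50f1e06dd08770eac0ad9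07e50ad2018500920e8a06ff04120e5304010afe0ea20593057b00d407390e46020e08600c020fbd038306f306da09fa023c0473026507bd0cde06d20dbc063f043003af071b0d670b5206f10b37030f09de022f045a006d06f60d570a780457081e017707ef0fd802c000910fa302a0065c053b0dcd069204b00a5407a4095d0704066c095800600b9301300b9105ef084d08690c070a22036e0ec801af01050baa0fd508a10095081c0c2c09ca0c8b0cc507dc07c800bb0962085f01e1028f0c17045400bd05f00fd4017406be0b020fc90f800d7e0b2002010b830bcb097e0d2b044004640f0f0e7204a006660e120942032d09a6042a05e402a90dd609af091906a70f730d830c2608ff08bb0d3d0b540815062d0bc9099a00cf0d240f0702d607b301ab0bae0d990310047c0f59001c0c900982012f020f0ea508bf043c06c80e5a0aa90f130cfd07e108340daf05100146011c03a10b3805ae0d700bde0df903010cee0077087c0eef08120dd3090e0e59070301b800350c9905a60c680e47008a0fa204f30f8c0c0c0e49083f075200590acb0d920d0209e103c50c330b2108bd0138098a0975040d00dc0bdf0859084000ad0b070f5e02d10b4a0a4000f9016204dd0d7b01130d960e960bb90b69093809b8077c0e3f073d0337009b0b56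0e08000200b40ddf024f06610d800b3a06a50c7007ff09100e580a0d0f7b0fc402f3067e01270590006f07ce033b0e9804e600ac0a5d0b1002e102a20c6c0ca706a309c60bc601340bb70f6d08e50eff09e502ea0d8f073803ea0b4b01bb0b6a03cf04f803930589094a037f090d0ad406120c4e0a30003306e007b60063009705e208fb0aa3054d07b00fb70b6104e505aa0d940b880bd60b49033307120c5d0f58083508700081092405bf026e05e70e0a0e2b0e3103fa07220c7d05bd04a308a30d5204690c7908c608980f2f043b05410d7102ae0a800ed5088800320f3a00c405950cf40b860e5c0306078b0fd3039001e701cc057804a70909025c060903fd0bb1007d0f5b08580552091c028008290dc90ef50b3d025504310169099b0316060f04f4051d0760012d057200b90e290fc5021f00ab06c30ba101c004e3074b0bc7075905b00b6809810b600f6a05360ef400990fc20b34033f052809770ba90e8f095a0ca006ba0bf703b20f68035407510d3602af023e0e670546003100c70e7607b509870e740cb70d3c049305fa02bc08710c0d0e2c0fab0f5000f80055043a0202001800af09fe057f06c90d18009e0826098305f50f9b06280bda0bee047702a801f305170dba067a02cf0a98024a080f04ec072404f70b9003300210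0361093309ec0a3e075f0abf082d0c2807cb0f910cac0c610b800c6505be0b75052206db00d204c705cc040804890aea0dcf05660c980c800ef60d9e060209cd067700de09ba0a550d6f0dc2096a0fa90d1902e305020bd70be0005405c30dbf0db307f0070c0f3b04da02900db805d40de0025e05ad04580d7d012806110cd0017f0a4108eb01a6090a09e80c6d044f094109a504d6052c02b70adf06300db50bea06ae0049014c0e2809c50b7f03e60161069508c307ab0a1a07430ab20cc1029401750ed908f102630ed40c2206180a0206dc0bf905c7006705840acf05640d3b0df2073007740d9f0bf00b8908f50dfb0e210438026607260db40c0e002c0e52041309e6008f0c9304ca0c2a0956076a08a00e0d072b090608f90b470e5e0dac028700240c5201820e13068a014a02a605000e97076403a9047b09fd0c670ad1021702390b9a0c6200b70f0403a201a807ed0d9d0c4700e6079601b60e68065501be004e034f03b5034c05c6081b00690d6506f409c40e1b0f8706b001e909b9067f0a110cb803c10043046209280e0f03bf0e6e06ed0b2c03920a1604350484063b09a00cc30d8c0f20040b0915055f0beb0b44089d023f0d93070f010e0ae9062a078101f408130617066f0e900eb50a0403520211080709a80d4d08250004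0c7603ae01420638062400460d81064d0f7a0e4a091f05bb048f05eb04db01d30ae503f408240a7e07db01de075b01b00d480c12036502180e1e05d00532004000c90dc00250003b054a0ac60e1c0a150a7301ea0495028b0a4d00d00eb90ece0846049b073a0fc708e400080a1e013e0d1a07360c570a34053003d80de709dc096508320ce40daa023101140ef80d0b091e02fb05ce0a9e0f82044704fe0d010372037d064e096f0b7a029200e5057e0c3f076102820ede0ba40118022702150015047805ea0a8708e80a0b050a050d0f4101ff0c130ab90c23042e0e70051c04a902c203600cc606ad055802ff022e02710ad001e0037502be0ebb0389080b01fb07da064400dd019c09c909db0e2e00d108d704aa072807b4032a02a503a709610dfc04850d880afb0dea035101370ace00750cd20e010e3406a90a560800022c001106fe0bd505a7065a0f6707d7005f062b07c904a60cb50ca409f00aec0d2504ee00a20f2904fd015306ac0bd800000a8b0d0e00a0019302e40a2a0631088607ec009f070a00b1078207460e9f0e0b07b20822004b0dd005870d1f0fc304f50649062200b503070d3807de00c604090e990ddc0293021b00b20295056c0270060a01220dee005704e8037608bc04d7092708ba0f660bab05e80da20cf30c45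055a0ba30b1303380fcd0f000b2607ee0b12086e09bb01df0b970a170fbe023709b60ac009ad026103aa0ad70302046f00f60c41047f036f0691084a02c907dd037e00e303d40b960a270a8a08740d5f0aef0f8500a709ed02ac01700a8e0016037403e70bca0da303a60e3c0c58061404d30c040f7d0e860ee1020c01870e8406210f9d015203b801100b36011606ef098c095b07c30b390c11073701490539029e0edd0a050d6c0d1c09bc09d303120890051b04bb0ee4030307ae0e650afa077204e90c1b05c504c803c2049208ce0dcb00ca0bc205ee06c00371002d04be075506f00a3b0e030b1b04c904fb0415068b05240ad80f0a093207bc06200c96096803d10ee2058c09490fd1084f07000a1d0176097c0878030d01b401a00ec108ec09950f71071d0bfb09c7034004390bfe072102d00742090f0c8105570b6f033e00560f440851045509220542005301d909d50694085504df09400e2a0f1a08e204190021039c07a90490087d088e08060aa201ad0d4e085b0f8b014e05a80e300685092d02f7045d0f3800fb08fd0f220e0e07c40a14014f0d3e096905e6026709600eb7004a038d08ea07340ced07c5005b098400a80b0408180c9c02720a9b018c02ab096d064b01ca021c0df6091a07950f7903e50f880b7006ec04e002bd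0e8c0ee302b60082091300730f7c02290f9c0533095e0cdb010b059405490a8900fe09b0078902210d5504b800ff02b50be903d30cbc0a7407f300b807b10c5008e901860384050b0f74086b00190edf06a40ae40f8604d20d90094505df02ed0a39067b077606070f3f0c2e0b1a0ec9038800120284029a0553099607b9002e0c5908c50866093402da024b01c20d5b012301db08c402860328076e0f0506d303de04740a4f038109fc01810fce09d90151028808b404b601060f210bdc0c910f100568012b048e02280d5309200e5f0ab309ff01ae0b2d01480c970d28029b06b9005a0b9c02b80ea408cb0c5f00520b5b033401ed0ef90a670a120a900dbb08e30b4d0cf1099006c70acc0ee706c507c1007b0bb20bfc0157058b0c85089f06cc03230f0906760615094c0df10bba086101aa04bc020304c50e6d00ce0d7501940d490ed302cb08df04320fbf05880ef105f8077f00280b5d04ff00c506560afd084409aa09ab0dd807b8060e0f3e03cb0769071f01560c4d0f3503cc016a09b3061e0f3909350e640b7302350766004108a401cd071c0895038008a2004c0de200da0b76039109b7017b0ceb0d7c0f8d0aa70ec709ce0d370c5c0cae0aa0006605200d5e0cdf0ed80f9a0d220f5708f00d630bbd03e105e10eda0e6001990b51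02fc0c370259085604c009dd0c74098f079b0fda010006650c0b09430e380b670c6909360b000ebd0c2b0d1e01bd0e320e610f5d054f0f370b78028307ad089905ac0145024604140a3f02eb07cd0e440a7f06f90ec50b92022b036d0a21040f03140d110d1d064807830ca5029d01010950090c0f26036307750cfa083d0b5907aa050c020d07d8088f09970e4502e50d6007f60fcb077a06400f4e09370ea603b60e420d4c0c4f01f507270b8b01f60a090329031901e40ddd0b6c035f0ac803c909d005bc0b46030e03be01e504b20d84074a0bdb0faf0c5609fb0ecb08a501ac0af70cd30caa0828075d02620e410ea803a80e5108aa03c80521041707c00e24001b027d05c9003705c0058d08390a7a036c0db603b007700b640e800f9f0adb08f803670cd503530c7a02ee01dd0a530ac30cdc08760b14032f09c203b40fa700030a8c0f170c1c04ef07790e16057104280ed105310bff09180a520c060bd307d90fae07650424064a0ca309c101890c6a07df0f5304cf0ba20f0c0bb50f1f093e0d9b079a0f2a05d5027f0525086701040b32006a000105dd0c7b0bb00269067d0346099d0a9c0f6b0fb609530cad0f030a94051e0b790d91085c0ed60d2e0d470868068f05e00ac70e78040a05b502300e1405b70a9205de021d03240321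0d59000f026404bd0fa109e9031f05830887079e035e0d3903e80c72056d008e073f03e40c4009ae0be60adc070b0c3b01360d740bf60fd605a50509068104660d95015a03ec028c061604f90b5c0bfd00200f32016d09520c6e059206e106b803ce089408fa0238097d006e08f6039d0ca10d2c0c3d02dd0e560c53095f0852042200fc024900250db2002305140c3100d30fc10e77002b007a006b0af009d40b950e3b00d90ea70dd10af60f020eeb074106010e81016e03f60ed007d3052e05620d690e9b0b2b027e0b870b6d0ca2097903690ca8007208ac05ff089a0a060529003a0efc01a70c1a0dfe09da0c290cf60c1807400107000a086d000d01e2038b04fc0cb000a301cf042f052b0fa40ce003bb0e6c07440c8302de0fbb03580eaf0331047a076f07090d1403080aaf0a960b5f07ba046a0a810456015f01c805b80b3f008c0d12049a0b6e02fe091b0d54041f0e04092b0188005d0f5603440b9b01b9035d0d8d016002ca031b097109b50a030fc8001300440d44046500cb0cbd031c055e034b0121075306a00f25097f09630dcc0d970e8d032004ad0e200ee50efb04eb055d08b9003d023607840abc0379072a01ec0c05052f0d2a00f00cd10ebc09020cda0d4b027604180d1007a00dda08cd06c101c505350cbe0a3d0bf5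081903250827036602000f24061f0b3100ea02970bec09760c3a04270e230a770f6c0fcf029c057c0d3109e408d50ce6088d0b6206970e8508f3002a0df50ca90139027b05d802d8019d025f07f90505065009480f1909080809032c014b068409170fb2091609f70b11056306a80cfe026a0a790540066d09d109250eed045208720ee60143060600c80da605a30a2505ca0b650dbe0944050e093003dd0f12065e031d0d3f0014082c0e7a023d0a9708a80115073505120ae109a4066a0223061b08ca0b0d011901d8055c0e8706330c7e0f180fb101d0094706cd04040a8f04b9012a03a40504032700cc0f2e03f5045107a607eb087f0de1069e09cc066b0e570fb505650cea08de0d860b9e025b0b050dc405560d6e0c6f0ea10bcd046103b30a0701fa0d9a00450c0806e40da10f840197022005f30e4f0d4f03d7089607bb053f07540b17015c0b0b03730516021407a50ba002f2066408c10be105f406cb015401fd0e0c0c5b0e8e068904670c2004e4087a03b10b5a041c06ea0aff0d8200f2009c07f5030c01c10ccb05910d34023a0b40024d024002d4043301f90905027c0c360e8801c6039901720e950cb402b304790a6d0af2082a03350f510f1b0ba8006508f40cf201350576097b07f202e00797076b03ab0b24082e0f0b0ae3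0d7809c80f5504a50820047d0e910fb30dd408ed0f9604dc03a501eb063706d50bf208100c5e0e7c0e5b00260f300b8502c70c9d00790b3b0216022d0a1b0e6a043402cd0b0303e00a88018b08dd037a043f0a650f6304d00022024502ba07c7072e0fd009e2088b0d05045b04a4092104ab0b4c069a0b160c880c25013a02a70c890a260ac504f207680ba60cb10c2f0a4b05e309f20ca60f2c03c005340eb604f60deb0aeb05860fcc052d0dfa0fa808c20bf40672031307310dc70486019f087507fd0c3505c1001f021a0c770d58059c054506ee0e50020a0a0e05d300270a1c0a0a01f80a76037006980a320c8203a30a1906730771042d07150aed0ce20b8f0cc20e1002f908e1075707730c600459048801a10d68044e084e0b550cc805510e350cc0058a0f92038c0168051f0a6a0c3e08d20bf80c7c0034001a05af0bed06f20f4f010c078c0ebe057a0225010f01670c090a23009303850cf502d90c43085705030b53060c01da0e7f0af30c6406fd038a0cd808d408a901b70b9f0166032e07e70c240fb80aab04940569092c02b90aca0e15063500c102e600710756069905190e3e0ae209f105010b0e0e4d0fba0ecf09e7050608d6041d07050d5a0dbd0f6402850d6b0cb9038e02e901d20a0f0675003c0e9a07e40111027a0fc6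00e203d500ae0b82065f0a620a1304b3010a03f20496071e00780205038f0c0f008307b706c405f900a90d7601f006fc0d6405730f4a0f770350053d0cd406e60ccf05ab07a30bd40de807d10df709a709d70c630fb40a38016501ce020404cb0603064f0ce30080083c0f810a9d00b009a30df80d0a08fe0e480b7401260e69062c0cbb0242085d0f4d0e4e073b0c0100e90f3d0062094d0f46091d056a026c09910d4104a1039e008809df09310347078d0e27027402220b280b1e0d62094e0da5076c0b980da400470a6806bb099c0257021e02530ee8007f064c06e9013d048302ec04030b2e07880305069609ee050f02f4058503860e9407f406e2024e0e55029f0821082b06b403fe04e20ce9084801d10f780eea09f402fd01a20d21087304cd02f60862015e07f701b2083805fd05ec03a00448041b06d70cfc04970a350abb077d0e6f0e06086c02c8046e09ef08910814045e057700cd0a4204d101640e250ec207cf040c075a00ba0e0905740bf102560e830dc5098d0322048c0aa60a7b0ecd0ae7029603e9019100680d6a0e3d07a20d7a0e660645004804bf09a10dc30fc003f00c95049e0a5c0a5f06040de509850582009603f9036405ba0aba0c300a6c07f802b00d320c2d0b0c09b104c4013306eb0bbf0f7006820ac40f15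014404af038706d006580b4e081d06260da907e90291078003c70654045c0e110e7d0a85053e05fe0c030f48097a063d06670f0e0bd1068705440559073307160a2f03d900ec00890d1b07580ef70c1508410be3071704100d2900170964068d0d5105080e7e01470d8a048b099f028a093a03db0a4e0da00a08094b04050233034a0b940bc4029906e70bbe06080e92012901c907cc0f0801ba01b5092a0fd205670f7e009806530a8d079c040206780d770a5b07100d130f0d0b06098e062503ba08e008630cef092e054e0cf708ad072300c20ac1080c0b430f6e0c5a0cab071406230ada00b6097207c20b2300a407e2064202790cff080a04060d87079309670e79092604ed03f3053a02090a9f04f00c510efe0d8505150bc50ce709700bc804700570031703d005b60b1f072003fb0f8905ed0dd7013c046006bc0359028103b90a990b35039f01dc061c07be01fc0a490843020b0e75035c0fdb083003f8071a0da80463079409be07e001c708d9065705b9093f0a750faa069c0dde0d7f07a8088c085a01a40c340420076700a60084024c0d5606930674075e093b0e360f11088108b20cc7051802ef0f3609b40ae60109013f044404450b5007d5022602bf03820e1909b207480c750de90eae07a10a710e2f0d46006c00360c210d4a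02c108be01960cce0a3a0275072f02770f5f0bb80b5709930719069f02340c860f690c10070805dc0d79063900ee0ade01730e17004f05a20eb00c44074e0f6504b70f2807f10f2b012c0527054b019a0597096b0d3a0243019e01080fbc0dad04de08d300f704910d2608f2037c0f520a840baf02e805f60ddb0a950eee0507096c01120bc103ac0e1d0a4a016c07e30d40049c0ead03ad07e60ce10a450cec0a5700ed0cb600e70c2704cc03f10ec30a240f7200a507ac0e5d0ec403eb07180d1501f20dec042501900ab804e10b480b4f009d0208056101ef0da70b19003f04a806a60b09064300100c9a03c4056e06b5036a0c000b77015908b10d66085e00e1015508c8068e03110f4b0e1808e708c704260e1a033909f5058f0d090be80c6605cb0785037b026f06e8041e03cd03ca0c8f060b01950ee9098b0fa00a460ccc08930808063604c608ae0b4105b20aaa08030cf0011e078e0a9301bc0eca0d50007407d40d230482053802b102e20cbf04710cca05fb0e3a0b7d0957066002980bef0a43059b05e50dae0125059a04000b18005e025207020c730b2a042b06d106d6077809f3062700760c9b02c4015d04870af8065b08ef070e0abd010d0c1f0f1d04d40847047505f10198099e045f0aa10d9c058e0de30c4b0e890db70e39,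
  0xfff09540b1b0790028d0b990392084b0b8e0b7f08c5061300f308c10f7004990ffe0fc9061e0b2e02630b2902160b950bd10afc0e55093407be04cf051509c50ffd05e605fd0d20036902bb037003450bfb0b590dfd00070ef70b0d072d05550ffc0fd408de0a9d039506fe079801810ea60b000e6c03e70f0401cf040607330ffb0bc604a7017107fd021d0a3a0317017800a20acb0fa30a920d4d019f0a6a0ffa04ad04880d070cc207700d5601bf0def0d8509c70b310baa04460e280b6b0ff9069a0f5e02730b7c09790b5106ab09ce0d72085f0ef50d690d92025e07960ff80e710c460040001e022301ac086b0f9c05920a9c041a0b7706f0097b0d860ff703fd09740f070acc0cb008bb0ba9015106a30877074e05a00653056403a10ff604250958028f05b30c110bd607a50f9007db0a1e083a04b20bb100d1079b0ff504f9043d0aa90d7d07ec091302d607340d1b036f0d280ca50c6b03a505320ff405790d11070f0a9f0e8d0c140ed2056308e70d89056c0f0104530c7d09500ff30da808dd084a0d9805430de60f4b089a011c057e0e920ded0062002c03ff0ff206970e5609f108db0c9e05d705c6052209bf09710e420d7c078a091108ef0ff1034708b105740f260d260cf2001a001107a30b2b0336061c02e2032b0b3a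0ff00a3902be006706470d4b0957091e0d5902f80c1709a503d603e40287041f0fef00b707fa087d06b408310ec600f20c450867012e005c0d08032f09d400440fee093d0f3106640ade07750db50a560dc6072e04100f19050501d70402069e0fed059e03f305ad01120eea01de082a09d20bb9007101530fa1092f0eb602b50fec015200590e0104ca065b0b300b460af502c90b0f06190e8e0421031208890feb07680ae20546056902d70276087c03b3032003130f7c079c0a170757029b0fea0aed074107cb0e5807510cd50d1e0a2d0c59061605a1037d013e0c2d0b330fe9045b0f490c6202c70ea4055002af0aab09da0fd3032a08b90094053f01da0fe806a2048209b30dcd0e9d06e600630fc50f9208930d360523058205d20e680fe70d0b0969035006740f280e3906f40f5100a30892029304fc077b021504930fe60f6d09f3057c01d10982029d0777045009e80efd0a43059404330477083e0fe50a9508a40341026b01ca07a805580e4003070c9a08940e2006af059007c70fe40d4c016907020865053c0a0f08290bcf0cc0007c0f5a02f0001701a406700fe30f5007610c670f440eaa0a9009810115079a078f0b9701b806310abf0e6a0fe2095d0cb30c7f071c0deb0fd008a104400ea3034c0817048c02f10c5b07b10fe1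0e250884023100b4070407500966049d063b0e5f04960a4b05040e8b058b0fe0055a04a401bc039b08d105110642091a065a080707ab0747000903b4034b0fdf08dc02070a46059603a7012708a2086007690c6605db018206060ca70d000fde019407c800300e440bee0f9b0dfc0b7e062b05ba0bba09630ad909ed06480fdd09480195014d07c60a6f0fd80df30d68084e032d07320a8304c8062103860fdc065e0ba300d506db0e0809140edf0800098e0e1a0a890f620a470ed40a680c9508b7087808d90b2401af06140bf206f60bdc04df0729021a08c700950da3098501a50a140b140907081306e90f37093f083f048707260c5f071300e9011f0c130cae01580a4a05ce02de094c0cdb0e670828086409be09b90cd402710d9e09dd0bc107d00d500b57037b0903023600960ba0042706ad0161051001cd093c09cf013d038e09370eb0068e043205970735095909f2007502720aeb02ee074d032508420a1b069f09f60166019b010f0a15089508700b0103f008f500c50bd30926058103bc09ea020e075f034d024a075404470d8d01c50600070a0a8a0cdc0efc01dc0eb402d90235077101ef03540c4004d202c30327007001a80f1f021105e9083706710bc000d606110a2b0513021005aa0441001908540f0a054d0b390a8108f4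0e300bc3041b0f8c07ed033a014e063501e806d40d54065d09aa091f0409065c029f0dbb07fe0e4f08050ae000350ac102a00429011603cd0be601f609e20e7605400db90aa400ae052509b20dd8087a06910310012c0552050d070800ad0d0e034f022707e4083d0fd70c9900ac0e3505b702fe0024036802fc017209840ebf0a65092e08340b4d07f90fca0a9102650bd90b0604920c290ccd06b009c406820be801ce001805760f880a32060401850e14038402d1013401d80c3c0f41039e018d088f0c1e0bf70992006f09960da20a67059109490c8501620306076203cb0e640a6b0bae05fb0c77007d0cea0916022a07810ecb095305b5055108ce00260f630973064b08750014017b0aa80cbd09290bec084700880ae505c30efe0188071a0e5c0c7b0cbf0d3d0b9d0947029e0422002f012106ec018c0a59026c007b051e052f090a06790a700f170dde0ec7086e02dd022101c802c80586015b06c803bb014f0473069305fa02db00e50c9b0458030400560be904c20228095c09ef07ee00930efb0a38001f0a790bdd0f9f08f20fab032609060d6f072807e809750f5f09520050014500fe05ff062706850fad01800d700a4104d501d6076b0b1c0d750363088b02200fcd061d027408a60a5a0f690583049c0f770d44083b0672057d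03730cd20a510c960bb807bc0b9800ca033f00b005d403ac0e18093b055f07950bfa0caf0b070f2b0c560a2f0b5a0ca101c7080400050abb0c240a0e0b1e0774041c0ed806d1082602ff0a550c69069907640036065f04170aad038d0a8504b006e40cd308a80dab0106040004ac0c92013b0e940b7207100457015e0ece09990ac9005301e306f2099a053d04740f64071e03440f8708fa096b0f220103046a07a7021e08b804d904bb03fe03b903a3000a045f0df00eb90c0e0d0c04a60aae06ca051f0c25054e0260012301460e9806340ca2040b04660638098c08a30527027e02480d8102000fb807c30e77013609180dd507aa0ce0080603a40c150cd10186073a01c20da909f705350b71047208be0dc70afd085b0b9309200a1301410f2704de0118044c00100f600e3205de0a99021f023b0c580b11020d01be0cd00a2006ed0b5e03d903e90c2a04b107030a8206be0c16018a083c08bc04370e870e1608c303b60f090abe0d0204b7005a0a250a070daf03e3074c096e0f710e910f6a0295040d0a340edb0d1402a605cf06b80bb4013106320eef015f01ed0c72024303530567052d00060fa20c0b06240c600ab8011a0c020799043e0e6909ee01420e7b0c7c045105070e1b025b01cb00720c7000ed0d65041d0a3b0dd40a8f0e78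03b707170a640d66015d0bef061b0f7601e0093803890be1086a074301910de20262067a0ce80db0000c0d010bf60b0207eb0a720f4f095f011e0d380b040f42003e0a6c08d00b3e01b00b270d9503f60e740e88023d0d1f09220d34085c047802f6094b050b0df100e201890ba606b9088e05b00765006c03210bd708b30af709020c5a0f48030b00ab00ce02b10dc00224078907b203c30512064e02b80bc2028a08a9054c036c015902e50a2a0832036a08e90adb074b05850a3c0b2c0ed90bcb0dbd085e01560c9c099302880c91095b09600b640ad005c50fa008740f9a063300c10a710167018304d80ced0efa042e0970075d0fcf088209360e6d005e0480089c018f046e0164011d029a06c001c30a4e09f807cf04c6042b09c0068d032c07e90f39077d04e008f9091703ab04ab07630c9007b004350ae30109010e03fa038101d20c4e02bc0a6006d30e47062a096d08200f960ca4040109bb0f0d08f70cf5031f0aaf038c09880012031d089e02440a3305750b03034e0ef3006a099107ca00890ac009e50f8d0135020608850b6802d40b74000f0f830a1801df0c820785029908160cbe07930d970dfb0adf0f550d67003c061507fc030c056e05b10a61066506c40d220b17067e0ebd071606b707000f0805340465022b03f50241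055604f00c6408f60f8e01790e8401f502470eda0ca302750ae909210fa90a1d0bd00d160de50a930b7806550de00fbb035d01e4031904fb06e200db00a50ddc0c1c014b0ebc06f106f70824089f05be0252038506e707b603a206cc03bd067f0c3f088708df0e6e0ee809440f660ea204890f1c06fb03ed0a0c027f05c2043c07a1031e08e20aa10b4504ea0f2400f70291039800760ead05030d180e5006d80c3b08460f290755002903f70e82054a05d10d5a030106c6070b0a0d0f3505590bf4039f04a30b940cd60f8f0650099f0dd101fb0940015a0a1f00d90af200380100039d03a9063f00ee0eed0c880ecc06c9003b013c059c0ae8051c096208c90cfc066a076a002d0e0d0b0a07e1099e09e600800c9307f8009a012d07ae050005f802680aac03eb0a4c0f9d02c40d490e490e5e096109de07300b1606c70749091b021b013900f6073c026d0c870be000eb09d605440cad02400d8b05e50086040808bf07f306e30ef9075c0f40067d05ac077c0e9c07010d960c0708cf0aff04ba0dbf097c00b605c1088d00ff0c4409a7012a0f3b0e5a05bd0bf30c6306c3021c0e33050e09fc04600f0c0d7e01a107390c3700150066098d05a7068604e30b8005360c8d090f0ef208d70b19076e0d630808056200aa0d420e9909c3045e0830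07cc0d9100f902010bdf04e104640d78038a07d80e6b048e05b20fdb08fe0ee50c4c06d60dc2032e062f0e620bfc0bb70ddd01db061f03c00577096f079f06520d3904e50d8a0e2103e60b4c02250a360ede02e90d84060e058c009d00bb07a406ae05e806a70ac70d0a00e7047604e70d120cc606e804f302f905c00e6003fb09cc05e70b18071806f803ce09ff0b84000e097f0a690db7089604ae067307ce0ba80a44033305d004cc0170017e02a10db3080207f60a73062601ab0a6609e30b440b6a0cff0b8501e501010c8f09460a100b5b059f05310e4503900c1b0db4045c0ccc05e307360f4309040b520cf609ac0a8006a503ec0212053a07ff0c1f06dc03b107210ad705710e950dd7003d0939061706a80af405d508970143061a0e9705990f2c0cab0e110d4f0fc00bff0dcc094f0ad20a2c04140270048101630fbc0140068802340d9303e207a9020a01c90315066d01e10d9a0b340c6e0d2e0c270bc4017a004900e1082f0e7d016d082e05010d17070e07940623026e01d50e36052a02f2090107660b4801960baf01b90b880c81038205f40675073804dc0e4e00ec02b00654016f02a201b4094d06b109a809cd02b20217049e008a046d06a902050c83078c00250dfa050805ae0ec902ca02bf0db80c0f049b02510c3a0786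09a20c780a09092d05da022901f0064600790b42052800f803620a310e6f0f2e011109870c9700c8016500dd0a7f0cbb0b9a0542096c06fa02cc06900ec00fda03a80aa706c50fae073701a3003206cd0a23046104a50f93001302920a5c0fce0de105470a3d0355027904cd012f0d2d0f7e0ea70404091d0788008303dd082d080e0e13066903c407720a620d6d07ad0b83054104a003770ba70a2704b90ae60fac09080ecd02e80de80e890d6403df0d37086d081c0abc0f890b470fd208e3011004cb0e700ed50b8c0aaa0a7d08fc0d600e530c5d044502800a97008f0a57014c0d73073d03590bac0e3e0c8004c5019d02450f3803320ce206ff028600920b5d09670ba20a4d000b0e5d0da1080f0b7500840a1104980f3d07de02300b0c0b65037905a605f30f4c0d610cbc0391030e0644038b0bf501f40822028103110cef08ab039a0dc30f6b03ea0c41066c08cb04eb040c03f20ab50bf90c03089908eb019a041e0ce60f67010d070d061205e40c200bb50c430bc90844066301f80a2802e703380a0608380ad80c5c08ca0ec80930024b03000e4b0b090b66030906d00d710ab304750d570d320610078b0b280c3d080d05530c6c093e08c60af90841044b0ac80ef40548077e048405a500870e460cb40296078706a4001d07600ddb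010a0308034a0cb10416026f07fb0f0001c406bc0d6e09cb03f80823051805f708e6025f0d9401e60d82050f0462056f04b40ed003400719004e0d2a063a0d210e2b09190acd0393001b09eb081100a10b700f0b0dc40923007f0b620ec50aca0aee0c8900a9057a03580fa40d1304d7056103b20519091c00a8040e0df70dad0dc10be70cf106bf084307c40f730d3a01740c12078006200b4e0e900cca0b600b6c0b9104280bc70cc30cf900160c050d030f2f06f90db602c002b30745043b04830ec3044805bb033d03d700cf04b50eb70ef8077a056d06bb09ad05f2073e0ad40dd3058e07120d4501d90cfb05ed01ff068103c503b50f7509c802ad05d60afa00e408660f1809fd0c8c049103d4002b0a8601c6075b0c060add0c94096a005402080077012905f50278058908cc0f3e07a20d770b8b0415025c0fb705c80397014a0ca608ac070c0b8a064a08210ee60dac02830f4a0968020b02aa0f81062d0f8b0c710a880f33059b028b08610f2305fc060b0c7907730ab20e850b430d27017d04f4033908af0fc8025d00b1047d0f95004202f500fa0ccb00bf08f80fc40c30075304390a190be50f120b2f0cb700e30e2d0629089000fb086f0fb3089d099d092b0dbe03af0f3a05170ca804c40eb503f906c10a530f910de7064f06df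06830beb01070bfd0c5e0de40667034600e807dd0d3b02a800dc0b6d04050eeb0b370909025402cf099c0c390d1d047c07d901a70ce30e5405cc077f06ef0f1a00690ab602570e340e1d08ad0cf004a2030208b405df0a7a0b9008e10570058a0b550b6301bd0a290b350ad60f970a0b021901b50c38087e0dce06430be401b109a60e090ea50e4a06ce04860c2305bf0dcb028208a501ae09b40a2405d904c10cee01f70396064c0c2807ac02030dca0b1302970c9805660d4803de0e0602ab0a7b07f40c350cc40bfe0a8c08e803dc049502490ce90a7503830c9d044a0fcb0058009701770c860bb301cc02f30133055e037e0b0e0a030aa6009c006d0de30f020f740f840a42004703d8085a07ba0b92008104b6087306aa02ae07df09780e31004c06980a3708bd0d1002320dc505e1074403da075a071100b305f90ad502c10ec203be0e2206770fb608190df9019c0a4f02690ab90137094209ae01570edc0e610b960a3001f90fbf0cac0253037f0e480e80087f01320ee20f2001ad02d208180b2302a4016c07b401280f470cc90e3a027b00310a840fc60db1059a0ed1081b098f05200a6e045504ef0b220c47060c01e20090024d03ae01bb0c6f0aec0f250ee9073106b50fc70b5604e40f9801a00ab006c205c40f5900610b5f06e0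0ee00e2c073b07150f9e05b8095a034207f006ea06fd00c906d70c330b2d080c0b9f0c4a05800a5207af0dec0a1a0bea0e1201ba033b024e0df6022203340b2008e505c703750a450dd906620b530856047a0b050bd8098009f0030a01eb0752011400c00a220467075e02560a3e0df209fa08c2005b08ee09000e570b100d290aa5044e074a005708ae03c702a705fe043f072f066607c10c01092c07a005a400fd015c05840c040a020c340e240b6703d205450f0e0e230eff03d307d5068903520c3208d404680d2b076f09430f80064104430f570b6902cb0411056b02f70d7902f40bb60f5d04ed0bbf07060423022e0209038f02590cc5051b06570a9402d00e4c055402a30eec071407e70c2e042a0d0409f90ac3012201200aea0f3f00cb09b500200b8707f70c0c0ee30ca00cd803240839010500f4031c09e1049f09e907e60ce70d1a0b0b0bc501b30ad1048d05260b410d5e008d0d410b400869002a0e0b0dcf08010cc7092708090989033108aa0b7302ac0e0006dd04f70eaf09bd04560ea80a5807d20b7602420d4702fb0d330ace057f0289072c00d7033c01d30d0f09d50a5b0cdd0e2e047e04520ee409950494069c09d9063e00b8036409af09ba05e20b1f0880056008f30c7a0af007200c3e03e10ab108ff00af0bca0742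077900e00e7a09a30f0f0c6d0365062e045903290cd9022d0cf30356016e03a00862057808d5066e0c000de9029c039c004309450f1603cc04180b9b0f1b0c1002390b320d620444068b09b00d5d0a630c22048a00390edd031b031600de0479057201440bbc0c26020f0f5c04aa0e4d0e5b0b8102dc07c903ca03e00bf0078406d50ef102a50d0d026101080f78090e0df808ec0cdf029009a00e0e01870ceb02fa0f680a2606bd0a0808270d8f037107ef06a102580b490803097204130c540d8008fd0f7f0ac50f2d0be30bde00c403990990089105a20b7b0d5f0f7d009b014903bf02a9034800ef058f023703300d7b086c04e60f5303740eb309650af30c5309050cb60b8d0c490cb204f20e960f320f860361095e0ed6054b08e00f850e020e590f4d0cb50d6b0fcc081e084f027d0b4f02c5071d08790dea0d530f8205d30ce50ba50dba0e3b049a07e5033507d4074f0b25009f0b08042c09100dd007e20d760e9a088c0cf80651052e02380aa2040a0c0a07da06da0430079e01e90d5504c30521042d06280f6e03800e070b4b08b20f560b7900e60871084c04240fb50e17013a02ea0bb20c7e0a2e09c90f790f2106840eee0acf0680051607bf0df5037201b20ed7028e0d3c01240f3c00cd0d150eae00d800b9069b00000ae40ba1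064d0a12009e00a7009900410c680aa003370fb40fc20fc3035a06e1062508720b5802ba04c0019e026a0d5c00740a8700f109fb0b1204f60bbb09760c8e0e0508d20e10023e092509ab09e70994016800d30ef0018e0b50029805240810046b046c0449089b0a480e7f031a0eb20c650e290ac602b4047b0b8900bd0c360514067b0d3f01190b9e08da090d00820198066803600cd70ed30485021807240eb80b3b0e430a5e0e260c08098a04e805380d2c02940eac0e1f068f08150997031804f108d805bc03c10c9f06cf09120463026606010506063007d706d207bb0faa0d400bd405a807d10a0103670eb100550c8b09b704fe0bce07f504bd0fa509320758068c02cd0530036d09980c4d085900ea01a90915081f00fc0bad031402e60791081a0f61040f0c4206ba037a0454034908cd043404af04dd01b700f509d70d7f00600a5d02850dee066006070e1c04fa0b8603050aef035b02e30e8f01020d4e0ce102b70b5c0f030dd20d05066b09ec035e0f7a0a960e9b08350034073f0d430a7e052b0cde0e720b1d072a0a00006b07c202ed048b0c5505950cc8011702ef030f028404c90986004d0a8b0e510cfe0e3d0cce018b06ee0d4a0e3f03ad06950d5205ef010c00450d6a018401ea075907ea0587098301fd076d09b6013f05dd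094a0d9c079d078d045a0b360d240dae0e8c0855051a084d0f1d060a07400bab020c03d001f309c2077601540b2605f109d3056a00280f1e06de01300eab01f10da507230f6f0a0a0d1c0a7607b90e0f05af0a1608ed0d2f03aa088a0d5104e905cb0199054f08a00b38065602ce0afe036605ca08e404db0c6a0c0d04d10b4a0387046f06a00ae701fa04f50264007a087b030d06d900c6003f0e8605730c1d00c7005d082b0cba060d076c098b06b20b82004f0f45050907c50dbc05d804d40ccf09df04120bf100370af101480c2b02460fd509c104da0d900c4f090b03c60f1003220eca055b0ee10c090abd0a4004b8003a07220d06053b09d00ef60fd603940f06058804a10f540c2c00c20bdb0964040705a3053705b60639053e0c5003b00e3c03cf0f6c0a5407090065045d00850c750a77012b0c8a03e80e5206080af807bd051d0fbe035f07a60c480f5b03570fb10b7d08250e1e07f205c901260858095100030b3d069408760420050c0f140da4006e078e01dd023f02ec0fb003c803c90a05085d03e50cfd0f7b06580cb90fba01aa0c4b0c73035c0c2106eb0ac40851035101d4083600b20a8e024c0e9e00d2083306050f940bbd00f009a903ba00da09c6072b062208ea0bcc0ec105f608f00e4104bf0dfe0dc8067c09a10bbe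0fb20bf8062c0267006803280e2f0ba40d83060f094108c4002300b504a90afb06ac0a7801a20c310e2a0aa30ec4080a0c740e810be203f10d9d0cc108500a9806f30f13064907b506f50b8f0dff0dd60a9b055c000205b408520bd20848099b02040376076705dc02500e1506180f5807e002330dc90a8d082c04f80e3803db02b608f104ee020205020f150497036b0676005f0c7604ec0d74090c00a40e65013804d3047000c30da00b1507920da704bc055d06920b1a09770849043606370aba0bcd08c8033e0f8a05f006a602eb05ab04e20ab4008e016a01c108fb0d88042f02e40a490cb809a402b90d9b092a06cb08a703a605ea063d0378074809fe03d101730c190c1a0b3c0ebb0c1807d609330636025a0fa601fe0b6e008c01e707e300980a2105cd07b709f40cda0dda09dc0303005209db04380d8c05330e03055709ca001c078301750fd90e630eba09f50ada02da04ff08d3064505eb0004010b0c84016b0d5801930e73093a023c0d35000d0471017c0faf002701ec0d8e0bed05a90e0c058d0df40af600ba0e7e01f201760a5f0ad309e00853097d00d4088607f10226023a01600549075601900640053901c0027a02d805ee04d007d3088108ba004b0b2a044d0d8705ec09e40797017f0cf4081d02770033022f004808d6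0fa70b5407460ecf00be0c610fc10d4608830e8a0e9308980a74007e0bd50caa01920ca9069d0147052902fd0d9f0e370e79027c0e2701d00ab709280fb9037c081205980f110fbd0051097e0ea104190659036e0d5b0b210e7c0da6022c002e07b30e75044f0ee706b601500f65042600010e9f0d6c09b102bd08b00a6d0113047f02d3070705930a3f059d0f2a0bc80a1c02d5052c07050b3f0857028c077804be09b8056500080d250b7a068705680f4e0d23060207270fd1097a0c520daa02e000a60adc03ef0f36084000460782019700d0032303880a9a0678066f0f460d090cf70d3e0cfa0d990ac203b80bda05e00e0a0d3108b5092406e50ddf046904fd0125086307250b6f04ce057b02c600bc0f5202df093501fc00cc04a808c008b60603043a0d3000730c570021034309d1050a071f03ee0868093108880a5002c203fc0a040c5102550db20e04048f03c20ae107cd02e10e8304c7011b040302130f3002140f720a7c0fa80b6109d8084505b90f050ea00104081400640ebe00220661044207b801b604b301550bb000910ce406090d1901ee0e660e190431071b03f40cec06b3095504d60f34068a024f0f990a35008b0ea900a006960490080b0078094e00df004a06fc0c2f095607dc01a603d50b9c07c00d7a09bc0a9e063c,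
  0xfff01b70de70e80080f02010bff0df0098a0a0b0622000b05440966051f0fa20ffe0ecb0165006d013e0a070c790030036c09ff0a4200a5083402fe03e3038b0ffd03f301de02480c530edf038709bf080209a309ed08a10b92002f00830c240ffc0983028c0ab30832039201310c340c99090f0b2e0cb00f260ca502c309f90ffb03590bed04d0009104c102d50d7a08bf0de2035d002503c607f304a20dc90ffa05e00a5008840416097a013b08200d2303fc005209680ed30b800bc807ad0ff90f8c0dbf0c82017d016c0e4d012d0d3904680910046206fd0420040303a30ff80137017a0bdb069306e60cd3052900770d2c020509f8034e01eb0d7c01c80ff70e6006d30b570f7d06c905cf01fe0ac5013a06b706c506ac0b7c077009b00ff60b2d03b60d8f05d8016a03c40a5f0d2d0ce206bc0c1f00340cf8040502cc0ff501770daf05f40e8b028f039b0581008d06f505e801570f7c0d6008bb05580ff40b4a02710c9b0f75000808a0064902df0d90056a0f0c0cc903b202db03e20ff301ab0cc1059d02d709c10e2402520bbe0a690c8c06d504f206b300f0009b0ff202b30ca901bc074a090e0e1d0d260de50f67097d0a6009180bbf0d500a980ff108e40ba80c4a02440bd00ce0048f06c60c6801f403a50fcb0a8f089b0ae5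0ff00b210ac40a110d030eb800d704c50f3f075704db093409d3073402f60ece0fef079107090bc7068404950e6e021c0c47054b06580d1e01d2089702c20e8c0fee0e850d9800fe03500e090bd204550d5404290e530836022306ba02cd00af0fed01510e42076b054702160f5c0a44055701200a3103cd0d9a0264034c05820fec0330095403900f76010801bf04c30cf60ecc029208300c6305320a0d04710feb029509af0aba00790aa10b7404ec08e904be0b3b0eb90d44086a070809550fea09fe08ed00b0037e0615094e08ba035c0dcd07df04490646053d0676027a0fe902ca066a0b2609950d360b6703840cff0ae6025b08e704400129063800c10fe80a2a0e0f0c0e019904320fd0027300280c730c650a460340054d0d2b0c940fe702800b52022a057701e60c46062609a60d2f015b0f510af708240f58026d0fe60d0a0f540a34027c043306ea02d00c7609e20ded0e2b0ace0827045e0fbc0fe50f1e049a0c2502320c3a0fbe09350ea000c70efb07fe0eee01bd0fca0c7c0fe408590203023a050f03d00413089e04d60d810207040e07f50eb1018f0ed90fe30a2d023606590cdd025e070b0ec4030505bb0327073607b00cc408400e0e0fe202a00000080d0e64054c05050f080251056d0fcf006c084f0db40c6201350fe1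074e0f2b0c560cfa05b3037a03fd03b0069d0140045c01c906a80f0108b80fe00e8e053c0c5a028403ce09090ec008f8027f09dd0d6a07a80564070f0a510fdf046e06fc065e068b04ce0c9d07470c120f250a40010f00ee0a23049f038d0fde0b7d031e058a09740ce70fb7020a011106030f56003101a0019c0f4700900fdd0d80054506cb0018087c0b8b041c045f087600f4062e0dea0f6b09c3024f0fdc0ea40a9f07ba01230f62013d08ac0f420e44083108d502f90a4f0d3807f204f6051d015a0c9f01f003310db103560c7f07bd08d608170f980d6607e90bab07dc0937028e0bcb03120b3d098201b004350aca0e99026e0839085f0aad01a702a20a030caf0b3a09f20e5e01f60f35018a07ce087a0b1d09bc0ba60dba0d870c6e06290b1b058b01a40c70051c0761002b0c8a019306bd006901720ad109e705ad00ec0c7b0a3f041a015d001c051a0af30cbc02670f140a0a07a10e320d4206cd001e0c770e88058309d50281087f06a40867084709530a2b0ed50297037101dd08a702190e0009f50a7100bb0be70a7305bd0725005806000f17087e0f60082d0eb20a8405b10f4e086d000500c809a00d0b01ba07780e4607c50d64081506b50a4c08da0eb00d450c5e0dd70c0c0ede06dc0d8e0c1a095b04520f77004506e00f1b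06f600560b4b08ab011400160d13069401540ee7068007f6098d0b0b0d9b00ae07d50d0008af010c0020049209410cf50c7408f10aa70682070d086803ee05410573053e0f950e810e1a0c400dff06f308ee030a0f8f0df608120cce07a00d730e950ccf0b010a250ced005b063906ed04f104cf0c5b089503f5057f00e90e500cb606f00656089f09940af60bef086505d700a30ed0067e0dbd0f7909a80f7e012a0aae02c90ec207d60006097c040a0a1400220ecd06d70e4f00d20b8f0bdd096a0af20186064408430b5303250f4406920db90f3d048108b109ca03570a9c015e0f160f5902a4001f0b1703c30da20eab02c605f80b4e0dc3094d0c1104cc0e3801020bb3073b00c501d70896055500a204b4047a02780a87060c03cb05740f8b0bf503d6033b037305260c040d7f066008130618039e0aee0b9f076d00bf03f90e7a0c090c6d01160d2709a10a530fa4047d07220833081f0f6d06720b690a8b03d7068d0eac071408b40ab5062c014208a90f380c4c077f08810a8107a203d209b105800a8d0a5b06af0bcd0ec70af1027b043d0ba405380493082b09ee0d4d01d005160e340e7d0e1e0bdf079506420a1c075c000f06620d63082e0d150e5104010c95045a0089063b042603640ed204150508035f02b50b5f029c075b0b9c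0acb03c70450056b03fe04900b990d5b071603420c580730094003bb04e60ee1037804d908d00be10cdc0bd9092f0ed1096702170acf08bd00330e7c016b08c00bc10c6a0aa90c4908e10db7005f026606b0059c07bb073304340e430cba0c6b0abc0bd70f9a0957064f047e006e05ac008f0ee0034409cd0be200c00ca003d80b5803aa0b08047c0eec02a80cac0d1d0a57076a085801aa092508df0d7b02fa0bda0f5f09110e2f0ad30bce096d0878094401df022001cf09010a6400fa006500fd035e07da0b9504a50fd40579039c0f6c0d3a05c70f55017c0b6c05ba0ceb01ee00540c6007260678010104e30534063a0e650cd60ab006f905f50d3500df02f10b0402600f4d05b70dde0b5a079806110d2e08dc02d2068305a70771028b0fad0b5c019a09a901640231077a0a3e0f0f0419052f068c03b702e702fc04240e5f085102dc020007e20b60051b0a5a0fba02aa01a50c1c0ccd0308090207e10ba207be0777060501f200cb06eb0eeb09d4037603fb00ab057e0cb40d75078d03480e04094b043b00230ed408530336032004b206e3020f03330c3905e207380668003c069801b40ba004d50c3c00800d1f08e608800d0f0ee2041e058f041b0b34016f04fa0e1c055e06f70de4057d0e0c0edb02e80b0c0238037d0a5c0bcc0061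03f60b5e09cc0b2b068e0a3d0ca203790cf40cd209b60d0705fa03fa0191063c0de605c800be0181006a0f020427066e02af0f7f01b307810e470f0b05bc0c480fa8081807d405d20b4f01c3046c05300a86052b0b380cc00dc60c6601d403c1004004f90533099105a8047b06de085206c303a000de05f0005d04f808fc029e034a072008b507f808f70c3d054a02f5031808770b410e590c5200c60a9209be06ff08c90805064a0e1704660a9909e009ce04cd0d4e056e056c0806057c0b61095a0c23085e0c3505ef0c9a0da70b0207ed03450be5081c08e007150d550e560c5009320a010e580ea101460fc4080705e30baf030707550f0a0ed6060a067b0b660a940f07032804ef0abf0e1608210e9b0b7b0bc005240c5c0bee09f004070d1c0790085d0d050e2d0d9c0cb107ec0af50f240d650ba90ce501f90ba300930837021b0e970594069f05e6098e011e057b0eb50b130c510498048402420ac005150d8908f60b9d0b640e830ec80c67003706fa046a012405da044f0c900c080f100d9101c60cad0f2202e10b2f0d0200710bfe06270beb05d30a6a09e406500d22093000db0a78090708ae027d01120b0608c6059909720c8708cf0fc20182062b0585007e064c00630e930f860b6b03850411078c02130bbb00700da504eb076e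0adb04fe09ef071106860cee09a409f709f60cd706750cfc04e807510d7e095f0e6b01c20f40063001c002650ae4036f0d3d09ac063705880c71032c0c890bf401130dc805de0d3b023e0c8308aa0ddb049408ec072a01c50d740be300740c920c20037503e00a0905af04b707b9051908d30d5c0cb30d8b0ebd0fc6065c0f1c0dee065f00a60f31098b023901210f4806a90b910f5b025a0dcf08f3002c062308850b07029b0eb606a1011d010d018d091c02400d2406c807bc0cbe0b790e0a0b700ac80c4e0d9502b20de00d68067907540f660dfe07960f1a0c0f0d4609810b8205490e260b72074b07f70f6107c603320e3f0b81091709d701ea049c0c4f067a0fb8063f04bb0f8a02c702240c100c5908710ecf056f007f06ab012e081a08880aac065200c4074305ab0e2204f308c5021a057a096e026105f20f1d0617003201590a630c8502680eaf0921012f0c010a7d00940df2020c0ca40bc606910ccc0152021e04720ad202b600dc0d200cb80dbc0b750e1b0bb207270b560696004b01610f92095d0b350a4507b6064d0da3029d061c0ad90d490aeb03c00aff0a8a009d01b602b70bf00a610fa106730e02093a08f00dc1004a0c410370068f01a906530e9c05e40a72082c04970c81030605500dfb0d0409c0003e0753046d0add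0fd6019b05be03b10049098f0c720a6d023c0f6f05c607e50339083a0cde072b084a06ef0e2501fd08d209d004af0a040c540aab07a3055a0a8904c805b2073c04300bd10ac906540b4d0d1805560a670822046f056305660f840d0e0669083505e50c380156093608d4059b0b5507e70704050b062004470c21029a08c1032603740fc70b3e07870b360e76028d0fa30bc50b7605d90f2c09d604b3060906b402260a830e8d0a560cd006c0073209880db30bfb01840303075601b50b900e9f0192030f0c5d04ca08ce09e309ea075206810c3204a40dd004ab0cd5006f0c1e0b9b0c9e04d40a1e03b9072e0dd80e450cf70b540c970c980a410cdb0e360bc40bde0b9800b807b40e350e400bc9011b045b04e105040d090d06009a0afe04180c0002580e4a092407fc0a3b0237017f086f0866077d070507fa0721004100f8077307600e71040604610d4101ae0c30077509730f8303f40fa902bd0efa030c0d830fdb00d802d40abe0fb505a50d1109cf003f061d0eba0cbf08cd03d90b6507ff0d5200530e0609bd05ee0a120b7f0aa308080f060ae8092b04f00e41024a0b6f071205f7025703720513052d04a808380d6f0a15013001d1013301970ae704040efe0fb90ef805ec010502470a180cf1026f0222049d04820da4081b0cd90f3a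03580a3608a503980d9606a50bb10d4f09eb0b0e0e2802c8035b0c3b036e08700b7e026a09fd0ee600c308010e9e02e205d002d8030d0f040b8c0bec0f27080005ed0f7a0dc204f4061f0b460b390b3f0f9301490d1607f407c904fb0f1901da09c2056206d9074806310003020e085b015300fb0d2a06a0020d0c4d07410bdc097f04480ad603880e7b01710e050a0c0d3308d1037c01cd07a607d8092002e602d305b4008401d30b2a0e9d0614069e05c10e8a0ca104b6012505bf065a0b1c075d090604de08160e3b099b0aa800550e230f3001db05c300570a330f0e09460d700e330fb106ae0a7a06970256080a073e0e3e02b403e70e790f650a1f004e04390e6a05c005420c44045d095c0afc02ef04ed0b0503ed0d780886083e0ef308ef0b850b42027007c00117040204dd029307d1017901e108c70a0207ca0fd104730d300cfd050000e8018704b9099706a601be041d04bc0b31066c0e1906e806190527017609b7096001e703c200270ddf0c3f058905fe03f004c6099f03f2059505a3093302f2098903b502ac02ee096b09c80706004d09790eaa042c02e0011c017b086e06e209860f8704d7093c05b6021d0e3001980d580c8e02e5025d0dad0a650f4a03290062069002e3066402760122085a020b0294071002d60a200f9e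042e0de90af000360ea20939099a0ad500ed0b9707b109c60ea8067007ef02a6055203f804dc0b9601d806550ab7060b077e0f820ce400e00c190291097b0faf05760903055f0666014300a8082f0b220daa0d140c2e0170032f03eb0db5035a056509a50e3c0ea30a160a9d07e80a210cea0e6f0cc2079905690a5805aa043f01060d940459005e0fbd090b0bb607820353081d099807cd07e408140431019f0a7e0602071b0cab05fb0ba70a280f6305670ee302540b8903bf02450f730b2c0bb50c6f0b6a09fc04830f2a0a4d0f110dc40a5e08ca096106c20f3403110b280f810f3706cf09140488014103100b860bbd0bba059a08b7010903d1028a03ca03090cae02f004c40229078e04ac0f780100070c0c36089206b108eb02dd02b1067d066f0d6c00f30893018e033d0f570850068700e204ad03350fa00e7802750f890a1903df0c1d02f409b904e509230593052c043a0a7b00e503cc0e69070e00760ea7009c0f280480064e0df4044e0e6d0cfe030b0e120230055d092808b309fb053605980126016e062d08480c170e6808f20841008101830a49003a0c0d018b02530fd504df04ae0060021f0d6e0144074604b50df3022f071a05b009c7079e08bc06d1044607f9099e05900f360b6e0f430b59081907f10864038f0066055b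016600870a520443079d00640df9054f096f03be04850263052207c709270bb7044b0bfc0a3c06d6089c0c07013c02ae01b9088d080c008a071800e307420f320f5e046006d20eed0a2f0bea0e7e0c2a0cf005f10b2507400a660ef703e4054e0362007d02a70f700723034d077409700321097e0fbb00f2024302da02770648030e0a4b03d40a550be40e18083c00680fbf09db0ec6026b0992014f06d000ce09c50afa0db607a406bb005c05e9031a0b3000cc0e9408cb0a350d5a09b304a1039f060605370ea902ea0d860cf90d92052507940c2b079c0cfb02c4025c0a2200ff04a7040d073109f30df10d010ee403a1042f02ce0a770fae0475045608d8047907cb044401030b27066709de0ce102ff0a5400b201fb0efd08fd0e730cb904510553064700ef0e840d5307a902fb088c04e40b500b6209ba04cb064009ad05350a430ca701270b7701680a39099903db0ab4002d0a4701a6094a09ae0e5d0ae900f70a8803660104045703380dfc0b2300c90095046b0a5d05d1022106e50f900c1504f509c9031b0ad70dd50d0d0d7d0e070a4e0a1004ee0fd20f1f011a0ad008b907490f2f0ead0b9a08ea026c09560edd0ce904540dd609d2065d05e70f460f3e0088039301690ec30e110a7402de0e9a0c4b02ed08f4074f0f9b0a750da1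03ec08ff0c26044a00f907680b400f7406510be8014b0559027e049e023f0a080707013f09930107033e0eff0e820d610eea0234024907440ab80750000c043805060cb5092a011f0bc204990fcc08560f2e0e6601e40290074d038300d0071e0854071c0f3b0635037f06d40b1f0f0d04c000d5058d015c05180e57032a0bb801af05fc0d1a04d204630e7f0a7903610042003b0c860e910c14094201ed06ce00c2008603160b320210086c0bca0b88073d04ea0d5604b0063203ae0e9004670fac076505860eae0b18039a03910f030bd40bfd0f4100110b73078909260bf90c370e7400a708de02d1062a02ba0eb701b206dd07d00469050d030104bf069b0958035208820b4c0d430a17066504230317065b0d4707e60465058e0fa6031902890c310deb055c01450c1307ea01f300e10b4905920bd3048c06df0d3207dd0e54071905cb084506b6063d0f4f002e0fb404c706710717057005dd0b140f970597025f048e00dd027209d901600c06039403e60bcf08440cec0d210685072808fe0e6c0e0b0d5f01750f1507e30417089a032e04a30f85020609520e9604ff01c402140b930a1b0916042a040005540c330cf30da00eb300d1027405f30a9309d1031f00ad0ebc03c50d7902a30af9043709f10ec5018c0ef502be0ca6026202cf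0dce0ac30f52051e06a2066307c10f53042d06ad00f10d3c0b0a025008940dcc0a6e0d4b0674036b0d08099d05ff0e9207d70c1807cf0c7e0502008e05b9078601950c840d8a0e3d01a805070a5906010985041005eb04450e4b0a7c0b5b02f308900cb7076f06da0dec01470fb201c109000f640d5e02550d5709e50f7200970e9808290bd60dfd06b200aa09510408078b033f0edc06570ac201c7048d01180a97002a0c550ef404a906e903ab0dfa0e5b0c2700da0b150bf20174028805a100ca06f2038003670a9b014d0df7075a033c000e03dd06b80fab0f5a003502e90a2e089d0d850f6a0a2c06be0cd101780e550db00776017e0d0c0baa0713082603690a050b370b2907350c2206aa0dab02860c610ebe022d0bf803680a85051000a9056101150c8b08790c1b0396032d0a820dd30fa70bf70874082a02350ae002120abd0397016d079b0a680503047008460cda0017061e05a00f33096504280b870702022c09780b2400a40a260fc10f7b07cc02b90faa0875036a02c000bd0d6b03a60d310ec90211031c0ef20ba1097501e8024c053a098c007a07c40026067c03810f9907bf0b0302960d930cc30afb02fd0828096c04b809220b440b6802b807720e290889020408550298092c091f0b9e00bc0e3901ce099c05ca012c01a2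061302830b47074503f100f6073703a8080b03ea0dc70e4901480e0d09a20dae0d620cc80a80052e039d0d3e09080a4a01ca070a004c0a8e0db201f808d9038a01730523070100120f200df8073f0d990f2d050c0ee906f804420a6b084c05db03220ddd0d48031309380e270e7503a4088a061a0bc30e4e081e06120fcd07ae09150a0e0d8c08e307b2008c06990b12077900440c0a069c0f9407f007930bb000010dbb0700034703340b8e0cdf09c40c5f05cc08420eb405f6008b02f70e8701f50de30fa50f9d093e0bb90ab20724012b01f102ec08a605430e2107c803410f180809006b071d0078059e05df0b43040b08720ca30d29094f0f23073a0fce07b301fc09590b110bac0c9306950c8806100dbe06bf01630b510324010e0f450af405b50d4c06ca0a7f0d7102bf01b1001308b6098405110d4a004808e50f1304fc038c013200d30bf309b5042505c90b6d0aa00da90e620476036305400e37022508c2079a01900b4807db0ef90f5d08fa0a290a700a6f004706c400ba03af07fb00e602bc07660f500dd903a707e00d7705ce0c28043e019e033a024b08ad0c8d0e130bd50ada05d60d510da60e520861058c02f80fd704d109430246078f072d023d0b200d82091b007201bb09190521052001a106db0b8300a1038901880950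0f3c08f908be0365084b03da04b10ce6050a095e0f680cc501e004bd036d0e2a03de059f041f00b40acd079200240c7d038e0ac107d20f090f0507aa0ade0139022b0d370a9e0964029902a1087300d904ba062508910adf0a06022e08fb06f4042b09e608d700eb052a08c305a603b801ff06fb03a904e208dd0c2f001a04d80f8e03ff0b450477090a075e0b710624062f0e200a9100e700d401fa000202bb011003bc014e05c50c050a3a091d03ac0096094c09da0fb6059605460d12010a02270962053f02a90ef10aa4083f03cf072f062100430b8a0b10030408100df501cc0b9405910f6e04f70e86093f02e401ef05a909ab05d5088705dc075901850aa502410b0f03c9064b06b9040f02870cc70cef078806a7019d0ccb0eca09450436073901e20dac0dc0013800b90d280d84049100e400820a320d760f71032309e80efc0ad808a209df08e80fda0fc8009907ee01550f39083b08a40e31079f09e10ea503b30b0d068905120adc0c690b330aea0c75074c0c96060700f5012808250b1a001903c8093d0bbc0aa2051405e10d970e630cf206040e720e08000a0e2c05710ae202820dd406e4088b08a3076701500a8c0a9506f10a300ebf07a5090c0d67024d09b80fc300100cbb0f120e7701800464098004860d69081102c10dc5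04aa0ac703b407c2009e0afd015800b3002906160acc06e1037b0d3f0ce3076401e308f50e3a042209a7010b0b3c009800b605c20dcb07620c2d0ed8076901d50f910382070306a30d1b08cc096909cb028503e90e8f03bd00a00c3e0c7a07af0e140b8d0c420aef08030343076304a0086b01cb066d0849034601ac060d0e5a014c09040e1f05840ac6080e0b190c9109d80ef0034b0a960bfa0b1e02180fb004140e150f69009f0f4b0bad08b20a0f09760ebb0c7802ab0c450d190db80d59077c06ec076c0aaa08c40729060e0fb3047800b10ab9049601e500fc03000be601670d3400ac067f0abb0eda0971053b06cc001d01a30860099003a20c030c6c0785087b088309050038091206330b78047405010862049b01b80d400cca0a1a0931091e00ea0dda01dc0f290bae003d0ed70dd102eb085c0c9c0def0caa050e03d301d60e8905720fc5048909ec0ad40be00f2105f9047f005105ae033704fd07d9094703ba0aed0ae1060f05600d6d0a6c072c09dc0412020901e90d9f02c50784007b07ab0ea601d905170bb40c570cd8048b044c0269056802b00409063607de0f9f016203e80641098704e90e700643063e0f88007500cf0f800857019401ad07ac0ee80d9e0e030de80b840645007c06fe06c705ea05a40cbd078300590b5d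044109fa04c20780068a0c29040c0a9a00920a130b630c02024e04e709130cc6005008a80d1705fd0a0004c907a703150dd208040073000d0ab103e5077b0215084d0aa604e009b40fd90da804a60ec100460453094806c100b5093b096303770ca807b706770c8000cd0c0b02ad05390a4807c308b0031404580f9c09490e6703990e4c0d5d03540c160be90a240d25001508c806340a3709960a62066b03ad05a2071f03e10eef05280ae30c6403950d100119092d015f0b160009084e0ddc01f7000403dc09aa075803f7031d061b09e9092e060802a5088f0f4902080f9600b70bd8043c0de1050909b2001b01ec0fd80e480ef60e61087d02280b00025908e20ba50ce80d8d018906e7078a0a1d0d72023b0085042105d4001407b8086906d802d90196069a0dca030204d30021035103600ee50af8004f09bb0fc900d6083d0bf1005a0aec0349013605b806ee0d880bf608990f8d0a760aaf05cd0b090007048a08980ab60202048708230d9d08db05c40cd4034f0b7a029f0fd30c4307eb054805750551044d014a07d3057807fd0e1005870a38013400670355090d05310e5c0c8f066109f402cb0f000863038607b5032b062802790c2c088e0a900039075f0e010fc003ef0797091a09770cb2068803d502330f4c0e2e04da0a270929,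
  0xfff05bf08610e5a00390b560dfb088d09b6054806b3061f0d9005d00d8300300ffe06c002dc04090e07091c0b3e08000af801e307b307c0015006de010a08530ffd0fc503000557070606e6035f0e14060302ac0b0b034a06470cd1061e0b030ffc0f1d0a8c0c4d0386037b042604530bfc00ca036c0be503ee0f4f08a40cce0ffb04de090900fd0a580ade0ec90613004f0e770187061708040ae508a609890ffa0e6a07bd000f0c3c087606e50d130b180906014a00cc069b076e0925003a0ff90be6088e00fa09d506ee0aba0e7a0299005c006e0fa808700d4106870e240ff8056d01d20d0702fc0082004c0e31087a0fd20628077a0ce304c0037f05300ff7064101520a3604710ba009bd066708ef0bb6086303c70b330f2a078101020ff6085f0da00fd50a9105c408f70be90fa601f207fb01b702f200c20da50dc30ff5027700af0d0e021f0699012b06c30a7101c005df08fa04a3047800fe02fe0ff40c350d540bbc0d4f09b10a1c099b09af090a00d201110544001b066b0b080ff3017b0462023002b905f80ded00da010e07910a800b9403d405990b0a0d3d0ff20cdd029d00c30c5309950e8908790b220e5d0a2806350de80615050c05aa0ff10592084603ea05c70d5d0c290ce70f840cee028901590c790eea04fd0b78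0ff0069508ba0e8a09a10b2f06b0062c037502cb01ec08b20ce2061c0916087b0fef0fce05d20df50c2c0770056c0e9c0c0f08c70b160e2107db078f096009150fee0d85028d02a20ad00b8d025e0967035d0b55006a08ea04fb05870beb0ed70fed0ea2002909200fb80ccb07620a8b0cd20aae061a0a7a03c00f850d87087e0fec00f5055a094905b00e8b019802bf017d019e013b04e804980fb60efb0c800feb02940e3a0a95011b06c2045701bf0f670a67036a01b3067504e20ef109610fea0ba40da3071c02ad0d8b026109620d6805db01bc0f330d4c0e3b0310080b0fe903e005690bf30a5c044a0eb60bef0ac10acd0c920a2e0cfe03e7040300e60fe8004607260d1004020e33011a05930bee051002800c4e0dff0f3d0e290b440fe70a9b022d0bf80084067a084a04490a9409cc0c6e06c4047c02a40d5c0fc80fe6004801f5046c02a10ae10c110164058d03800f04084500ce05ad010803570fe500ac05670deb09a00da20f3f0f000daf0ecb089c0535011507c20df90f8f0fe40dd70ac40ce002130e7d04840b530c1e0188005d03cf0de609c001410ef40fe30546036805060ed4008d05500c9c05af03b50e090eec0d8a060402d105dd0fe20a4201670c8d0265025304c3003f082407590f20013e090e019b0924040d0fe1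0f470b71074d0d5202500fbd076d0e1507d20e6d0b9805640742075a0c570fe009e50f3505d40bac0eab0d9905220edd09320cca0c9d0f8d08db0f420c990fdf0d9e0276002b01cf0fc20ddc0b7c0caf0eda07f70f2f014805450e840e190fde0d8f01a90bf7021206bf072506830341088c08d30de10e160b2607750fae0fdd0ab205970c01026b089a01e50a880bea063701df0ebd05a7085c027f066f0fdc04d20ae40dee0a38035a0aa5068c0c5605b200e2076908df0db701d0059e00e80ba80b9e05a90cef07ca08cf056109c207320b9302f809c101dd03db020e0d9f01ab0a7903d60e300b280ad40c7f0dab0d050dc90c9e013a0424000b03b009970b370a0700ad0bf5049c034806eb031a0d38034b0c13073800f309ac020d04bf0ea60a640ae80ed00e7f049e09430f5002da041905f60f9f01c600cf0d1600eb0c7009170f65012707da04080bfb0f7a077b0cc50d5005330fab0d20094500120c46028804a80bc8024e0607034d0df407d904ed06f005a604950751071f0a050b3501e00f6b0b3a07850bdc0db20c4b006d043a01ef09cd00a70d4607cc02ba08e907b8002701b50fdb0020073b0e0e029209ec01570e1b03950ae701790de00190086a0f6103530a5a01990446045204cc0c0d03e403cb020f0e130f9304ad0941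03490b360d1d0bc3054e0a900673039d0be005820edf0c330fb30d7f0d3705b900d10e6001fd0a890c7102670cfd0dc8015d093009330adf0788039e0bd001810ccd090000a10e260c930896020c07400c260e440dde0ce8081a05a80f770688055c0e2d0822066309d108a708b406220afc047609b70a7306d90f130e01057d0f570a610120013602200d22077700ba0dfe0b14060a03960c85063906c7004001c702290fbb0874081003e908f5007b036e0443068409480bf2034003340d4b037409a406600da10e2506ca0729077207ee049f05260957070d04eb0def050e034209df043002e2074f0d820d8002d4079506ec030e089b0be10c05082507dd07cd045c0e980a0d0aa60dae07ba0713098d03510f950f430db6098f08440bff086402a901ce0ba30fb403330c5a0f4a05c20fbc06a20efd0f74010c027a0bf60c610787091e008f064c03bb0570033909f10c6c05310cd600b7013d089d029e0b130e3e0ba7005107a302aa00c5075e0678038c0d6904d60221033d0dc0027b06a70b0201400f3802040a3a0cd3007a0dda0a32092f05840ab7040f07640da7036003250b8f0ce50b880d3a08c604a106e4000a0dca04660205002a02c10f9b0e520d6e052a084d09f201f0091b047d01750d7809c600e308d10f1201700d6a0f52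0d0b0ba9012c067c0e8d069c06710aea06fa09f60b300b5403560cbe02af0a0c076a09290c8c02070e9503d90ecf0862043806e20d250df007030e1c070203240f3b075703d300e50ac50eb20b0e02e90db001bb0bf9092b0565067004ef069404100a06093f04bd0c3d012a05660c7e02680ee3047706920d1c083a07eb0d7d04580b790573053e0d210ecd0ca501230fc90a3306c908590b3409f3003b0619071401cb09bc097a0bc704a503890b11087202fd0abc03450ae3086d096b0eb007f80d11050b044d01490bde02c0099a02c5063809be028f04d80e6e074807fa0a030fd70a400a2206d20281029a017702a609eb0a970782011f0ace09560c2e099e0f480d930ab40b7d03da0a1a0f8c08b30c660f86096f035b04f20a6006430d7000440e6405000d3608ce03020fc3026f0c5d02d80c6506db06340de302550579052f04b308970f7d01630266058a05e80937088204170b6102960d550ac709de0b3d0ce10f7608500e8c01a6083f09700272017f03a50f5e08d80bb0088a038a09fe0aaf04e70903030804c80985063c04590ae00176097808520067071103760fa20e1d04970d640223010602f30f0f093e0f300cff016000aa0c580cf104670b06070c03e304390c8604c703b60af3067d09cb03190456074a025203590b8e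030d0c67018603280c20098c0dce023905b700ae032303920e4a002d0107009f0c2a0eb506f700570c8e0adc0a830e82012d01960abd0dc50731021904b704f6055408af08750b6f02cd0f4b09a90f730e9b045002e8064e0d6f0ef20c47013502ea0e78006c04830f0a0d1f040a00f607a2086905da0a8d0ef50b9208420f8e0c4c03dc07460bb807df096801fb0507055f0d650a4f019205360318049103ba0952076c06c10dd90d190f82048d042c08300208032d01ad09a7019507d304be0a0a09660d060a9d06500cc6074505a00a4c0c22049304070ef308b900040e8e03ed09e105ca0c9b092d0f9c06640a6c008306a5057a047a029c011c01c30f0c01b904550d300ec00d790a1e0afe07740aab021e0eeb07d7088b08b704c10ba60ecc033c0a530fa300d70cc80f9205510a870d5e0e4601d90dd10cbb037d08f10343070809b408c907f10c09079706d608180bcd08e101170ab00849081901d500c70bca02600370030f04510cad02dd0c77007c015b0bf40d720b9a0bf105900ad20ae90a1b05b4047e0a740eae0b090eb4081d0475041c09bb09fb0d5f03a8009d0d63047b02450d31057f008a04bc071203cc0b820e050d23001d0f5f04c200c807de0aa804ab06cd0ca10c600a3b07bc00100a4302b10b6a04540cd4009105c6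023f0fb20d7705a305b809c5059f0c28029107ec0e47054f07280fbf0c7a06b1096e03320c960657034f04610c1403ad0c6d051d0dec0bbd04290a680dbb0d1204d10b2a070b01b20f1405fc05d703f60cf80b8000f80982044f07bf00f909d9098a0cdb0400044c0bc1055203d00a0006f80b4d0c9a012801a1070402a302340cde0b7204b6018b0076058f068109590eb30736046e033502d9074b0fcd0fb103b405bd015300d30f9a0f3e0f490b0d0bb408a801a30a7502ff0a9805ea07ef04b80e0d06020832071b0f0205710e9a073505de09720f4e0155043203af05530d9600db01b803fc02740be80fa509e9073c043401da02ef0c040f4104850aac071605a2046d0217095106200bdf05fe0355099c0914058b0a2b04720210022404bb04d00aa10a3d043e031709da00190f240a5709930c950f3a06970e920f550a2307e80bfa0fcf01cc0a2702bd09ed01c40383021b022f097c0a100bb909e8023302410f320503007000e70b470a13055806140dea020001e80d1407a80d320b7a0b5f00de0ad706910df70a960a55051c0d760f890dd80a4e038102a00939024b016200bb03a709f5024c03e106060ea9095e070a06330df10eff01a7008007e905750d3e000309a304b90469037e090207010dd50696080f0b32094a04050e41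060908cc02620a56020a03f2096306ce037c0bc2062902b70f220a8502690f8b07e7080508c40b5c06f901ed09ad06d50ee1041d07b70142072305e702b2009207c60470043309900b6801710e7203e2008b0e9303160adb0d91090f01e100490ad30c12052b04f40d0c06d302900bc00d4e00730e040501039c051200680e970fc404e303a2092202260fda046f0c5e0d0a0b870dd00c5c0f62010d03440747088806f504ba0f1901d800b1057701a00c3f0f5a09110a500b8907b000f701ac08f8018c048a052305f90e0306b4076606cc0514078906ff046a08f200620119085b005f077104fc0a6f0b4308bb0d0d0e40064802c409500db503270a1206360b3807fc0015085e0d4a0d6208e008ae005a00e0055e02e3024f08ac0a7e05ec0a8a0cfb07c5025104fe0d2608c50d2f0183037a0acb016e000700240f8000d50d3f08920fb5061d09080f0306b803010768062b0bdd02fa03900d33087f0edc02f500be05b509a80ea80ece05f1027307a40c7506890ea40193025a04d506cb00dd08f009650086092303c409960c940f630b4807d006fd00780a8e0f3c05fd06180023094603c80f6d00160dcd0413062703ab011d0653056e012e01c10abe0fa107d106a60ac600310282091d0e560df3048804a208a0014c0c420021000907cb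016104420c8900ea0311065e03040d6b07900c2d0b9b03520c15083b02e00b5209ae0ebc05210388083e09dd0e4c0425090b038401fe0fa906a0075202ab09e303990d860cf304aa0c48073e08cb0f9407d50a770cb00ce403b9070509bf0bb30d5702bb071a07e3011405940d090d9407ce0a7c074c013c0855032b03690ad507830cd5098409880998043108d501d60ca20b2303cd04cd0e5f079309b3083508480dcb036d02cf00a8007f0d2b0b2c0f3709f805880448020304e003b204790d880a0e087d094f0c3a09aa069e0bcc00870c7b0e58057e0ea50a2504f10ad60d340fd00d6c02b3017a00990b050720053a097400ab0d4d0a1507430e110a47008e0dbf0afa025f0e8509d804b50c430d3900a30dd20074015e0aa205ee00dc04a70c5b02060ef00b8b0c23038e0cb901ae02280e4b02780d7c028a0b590e1a06e30e1706c5019d001a089104f8000e0ad8072a05600d4800050eee0c3e05f200b5057b077e0cb2062d054d069a0c6f00e4068e077d09b50c2508fd0b1a05050c4f0d5a0346092a08210137039f01d306bc070e048e0fcc0773003807dc048c0a210f7901ca0056060c02d70ab303d70c0e09d7049d04b00dc40b490d24080305ba07fe0ed803f80c270cda0e2e0baa0b9f0c2b05a4051605370001033a078d0b1c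01ba031b085a088f05f409a500d80c680e610e3d07920e5b085809b200a00f4003b70f280e730cb402d608da093c08f609120263092703220a9e0c8b0378064b07be051e07aa08d60b0c026c0d61026e05b30cc707a904a601f80e69040105760eb80f4c003c0f1e0d350f5c0aaa04ee0a3708d70734011e06680aa305d60e57080c0cd90c170cd809d407ea0f87009507100f5d0248086e04f908ed07e202c80ee604da08e60910002e01030f2603d10f9d006f0d2908dd0ec100580cfa0d43009b0e0b00e1016d03ce027009350f9702840eac08730e8005410f2c06ed09d600410f06007e03310549012405cf06240d98079607a005f30f5609ca0e540ed90ba506d8046401af0a040cbf0831075800f40c7407c80169061b079b026a05250db40a52024a03c200bf0c8803610c5502c30bcf0c07038f09ba084f015405c10b0f0172076f0bd5020b009a012f0dac011005e40ea109380c060df8022b0d660a6b02e40676084e0d280a54073d0abf02a8065b0aec0b85019a06f10ca608540fd403aa062606fb0bd90c3600500b00070907b1085604860e480814063f0f210e88029807b504d9002c059c0b7b00d00cf903d80ce90dbc0b7507f304470b5a01290c980309060502c90bc40bd8071d0f910801043d0de900bc0dc207b900880a01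00110ddb0f7b079a05cb0cb80a51093b072b03a601a50bc606a10e7401fc0be20c2f0b90050d0dc10973013802df0e39030609440090098b007701560d42045e05ac0895050a0e450c0002930faa0a9304110ea3018505dc017e0c1909d2038b051704f703200e37015c07e60eaa09800ee00ee4026d0f530377017802fb014d0c4101050df208150c54082d0a46001c0a3e0d0303e80a2a0e4e0c380f15042801b60a2d0af708370be702950659042b025705d1003d0e2b044401840b5103660e0a0c7d0de20f340d45054c017c07180d51060e06490cea07e10a5e0a9201ee0a9f0a440dad03150f3606b20218003205a105020e860eaf08e2075b0eed05b102440d010b640f230cb60e23076108510a62054b05e20b1f049a0b2e0a6d03290b50064406f60151053c03470c4a05e10fc70e220aeb0556033f06f30126081f06d10a5f07190a3407b20f1f06010ca40d710707003300fc0db90d8407ff0b4106dc0fca0d9b0991021a00a4027501dc0eb10bf001180487062e02e10c7605890a7802e60a2901cd004d07ab0c3003f903eb075f0f29098708d90983025401d40f7800280e5c06ac08e800b30ef6065d0e650893005400b40bd101090f9606310b8606f20e6b08ca031d01740542064f055d00890fad01e7016f0bd3038d08a20d7e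06450b4c081106580d530e9e042e015a064a0ddd0ead09ef0f6e0f390b5b0fb7050902640c080b7e00ee04d304c504ff0806059a02f409f001b004820dcf0947014402f90c6907d4078b0ddf02a5018f01a2040607c40b3106bb075d09340e0207210ebe0f1a0b040cc008e40c1f0bba01e20f7f06be06fc094e06a400cb05950c5201e60bd4072209e70bdb065f03500bab0ebb0b1b0ede0d02097b04c60b250f0504f30ba100750f27099f039a06e00b1703050ca8080d036f01ea06ae08780d8e071509a202110018083d0ca00661063201310f2b0d44015f00590e340e1203580585043602160287010003130a260682098100260259023503ef01160dba0af4089809010d920489052c0ae20fa708a50ac308ad0d950d3c0e870d580a0f073302f60e66021406b901c20c5108bd0994079c016a09c70354030c032a06c601040b9d022506ab0dfd019c0f11082a0022096c0add04ae04990f46072c0afb0e2c0c64033b0d1b00350a5d053b0cf60d1a09d30f7107c303940e3600660f640a3f01f30b96096a005505ab03c10ab10e3802b0065506af0a1f0c8a07c10c7c028c0843020100a20372077c05e00d750bb202d2078a000c0c160158076503640d2c0079067e0eb70a65023e02310aed01de0eba0d470c32029f07ac078c04220b40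0586010104a008f40014094208470f5801f90c1d098e05400e490600066a03360b1d0e6708ec033708890492000d0ced08fe0c6b02020a2c0b6006c80e7b050f0975072d0f0d0bd70839023a0a8f069d09550bbb0bc90dc60ec3091a0cab01820b6c0d6d065c08d000b8006b09b00f160af50085045b0de408600b3c03a101be0cd70a760a5b0e0007630b690d600cf0038508a9001701db05c9085d0bb709640904023603a409c40af00427062f07170aee060f0fa00aa703d5064d05c0063a00ef075400cd0e0f09b9033e048b05110a160ad902be046b031e0314089403ca04ac0330022c07a60fc104cf0c9705d908170e6f00000fd603ae09e4061100f209fc05ed03670bbf0e7902d506510b150a63023806aa056f07990093018d0b8a0ae60b120ec8041504e9068d00c903b80d0f0b6506b60aca0d9c0b190ce605f0053808c0068f00a906210ee70b3903ac0ed306df06a308fb061601e9041e01120ed608230b6202ed086503a90b5e05c307b4036b01a80bcb0eca084b08bf06bd0bfd0a3c09fa07370e3f07270f880fba0ee8058c0a690b07014306860ac903380aa902e707cf05bc0e500e900ef707ed0a700a0b0ee20b2d01300f45042f08260efe0edb041b0ac805d807240e0c056302c7050808f30e1803f30809048103870c39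0bd6041f00020f5407860b3f068b0d00077800d60b8c09fd07300857092105a505fb063e07e5078e07f00c0a059d0283078001c80ac00519070f0dbd0b760760075003dd040e034e0382081208eb0ea706e90cba05680c1a0b63027e003e0749096d08dc05f5043c0c5f097600430bad031c09920c1b0d97075604a90dfc00f00d04028e0237004202c2032603ff03ec005e05270a30009e0f2e0da8051304120f7e06d0092e052806250c820db8051b0ea00739051a068a0ba2006002470f0b0665086706ef0784030a08840a810816016b022e04800a82005200450b77018a0125010f02f103de0b6d0572092c069309400e6c0be40883034c08ab0d2709530e94091904d4058304c90acf0420059805ff0cbc095d0b7f0bec0c34066e04e60a4a0fc004f00798069807a109860ca30b970496066201320bed0acc0bb10c0b0e2008cd036204d700d404040c62051508a300ff0c180c8f077f0cf408b805bb05e508b105cc025c021d023c007d0da603fd09260cac06e1089e019705fa032c00610d1509c3076b0ccc00b006da0e420f830a240ef905240a990dbe084001c5094c0a48017302d0073a03f10f17086f005b072f049406b707c700bd049b0877083c0b66095f043f0f7501130aa406ba00960529025b0be304f50c7309e602970e7c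01bd023b03c60f5101ff082f01650905047f0e9d0e2a00f105ce09f4030308200cb50e0605320a9c074100a605550f680139022200ed01f10e550610093601aa08b50b4f060b0c6308800a7d04a400250e4d024908f90cb3081b0f4d07e0040c067b090d0ccf056b0685086b0e63082902560c3b0b45044101450c370aad05e9005300d90b5804210db10bbe08d402320ec60cdf0d7a0ca902db0b2105eb0f810d2a0979027c04370f900e75099905be07ae04ec083309580b4b0037084108bc0435053906720dd4014b0b01001e0f6602790f99013f075508a10bda0285079d0bb506560ab6027d0d5607790b2b0e35094d0a860f01006301800a4b0f700c910c31007107670cc402460aef04630a2f0a200f0704db0fd1041a09690a9a0ab50bfe037302b8009c0e0808e7092804b20f590cc309db090c0243032e0e1e0db30de7095b03fa050403650094000804b40a1d0daa04ea0a490d6703e6093100a5043b065206080b7303f0080204df01c908710a180813035e0f7204400cb706540aff0f0e0af203790c2101890d8d0a3509ff0af9093a0e7005780c4400b6066d097e083609ee04cb06790cb1071e01f409770b6b0dd3019409cf089f02a70b8407a5080e0ab808660d8108c10286044b04680d400e1009b80faf047309710bd20146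07440c81019f0b990fd80d74069f0c7205e30e760c4507f200ec05e6020904ca0534056a0dc70dd605d306460d5b094b03c303fb066c0a840de504e508aa05c80ec7032f0fb9069001910f440d490a6a09c9077609a601470a7200c106dd0c4009180fbe00fb081e0d7b02de08be04af0612039103120f3102270a4508fc0dcc06ad04e40e28091f012206400cf704dc046509ea08ff06230eef0c100518001f00df0ca70bce02eb0ed1067f0a4100c4039b024005ef00e90cf2063b044e0a140c9003a00a1707a70cdc029b0ec20a190cfc0ac20f6c06e800690fcb0ceb00470df6046001d70b27045a00b20abb08870b950cc90a09024d0b29004e0a3907f5082e05b6004b03be0e990e91022a0215097d0c0c01a405cd008c082806690fb0080a03bc0562030b0dfa08de05430d9a0a7b0b8306fe04230e510f08048f0f10082701b101f707c90e7e06cf02ee0fd9097f089903df0954002f0393009803c9072e0e8f0f9e0a3103b303210c9f053f0b700e9606d40cc105d5018e0ab909e0086800640caa06740f1b09ab014f045d03bf03f7075c07af052d02b60b4603bd0072079f090704450c7802f708340bc50d0807940a4d0e43079e0398028b03fe0418082b0a5903f40e3c03b10680040b0c830ebf053d04c408c3035c07e405ae0b6e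0f7c0af608b0087c059b051f059108d20a6e04900e4f09dc0c4902bc074e0d3b0d89025d081c07b6010b0d2d02b401660b3b004a04fa00c60b200d590cd003f508ee06a8054a0e810ec50da909f902ce0c870eb90a7f00650f5b0f8a0afd058109f708e50a080d1806f4031f02580f180f1c016c0397060d0b740ed503a3055909c80913047403e50d1e00b9058e03d20e2f04b10e830e530b910f6f063d0cec0bae0fac0b1e042d0c500e5e0b420b240e710b10067700c00ada0e1f07fd083806d7023d05200ef808810fd301f60c1c0753012101e402420f2508c807d60cf50b9c06e702ae01d10f09084c042a0d9d0e320ec40cbd0c030ed201eb02ec0886041603c5000601b4063003070c2408b60642027101340a6608080e680b4a0c6a07d80d7300970d1702e50c590f98001307f90ad1088509d00f6a08900a02041402d3065a0d8c02f0082c021c0b5d0efc014e0e59037106660fc60f6000810aa005c5052e0ee509e2073f045f0e2708c200340c0207ad0f2d016802cc0e9f086c04ce062a08070b810700054705960b4e04dd0af107f4057c09ce00360a1104e10fa40ee90da401fa055b02c60d2e095c0efa03630b6705f707f6058002ca0cae02b5095a0133093d0574099d0e620cc207bb06a90b570baf06ea08e30c840f6906b5,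
  0xfff04b203fd06160a5e053f0e7107bb01b407c308530a6d09d8038f009001770ffe071500530d47007e03c306a7072902f5078c0e1c0b910d240f4f01fe07770ffd0ec40aef08b90e57076d0c9b017b02360a300a23058b0bac0524024008fe0ffc0353088d04230c6f0dee03730fca09de0b2b06df045205e80669091304560ffb044d029e03da047e058d09620ab004eb0ced0503028009140092098e027b0ffa05e90d3609650bd5098105c203570bf005f503a808d600af0edc024206d60ff90c700cb808fc009f03d705fc0d9c0e480d660f2b0058051f0034053e0cb50ff80392092901e20832060104f905600f1e0ce10e6d0ab1011308c401350ca70ff70b1b0c2a0b1706a90562014808f70d2301c604dc0ea500fe057b04f20e0b0ff60ea301790d520b5800550afe0f560d6400c1050b0337095400240f6300860ff501ac06490531054b01ce0406039e013f06f50fa609890d430be2026408f10ff402aa01e409ad0a3600c60624013d0525009a054009ab0895092507970fd20ff30ceb00c90a8709ff0c300d0108490b7607c2094109b70d150bb308a602e20ff20ada099e003d033b083d09370b0b0c3c023204f50038092c09400f08033f0ff10f6d016f0570092100dc0e2e079f0e0c07c10b000aca0a0903ff09e80be9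0ff00dce0dde0604059e07550b8b0f6909a2078009bd09150f1f00ea0c2b064c0fef07b80eed0e170f0200850a2204010ac0018305bf015f0ef60b10040804d40fee020b06880ab80ba60ef00b2504c8018709350d80088b0ddd00600ce40a0d0fed064702e0017a033205340d840a3b019b0f9807140e1505c708750d700f090fec02fc0e08010a0a4a0a8b08a5087e088a0a78092300a6035801260a4c0f1b0feb0e540237016b0198013708f808a10a43071e0c95034d02090167063b02d40fea0724048d01430aa003a405e3037a09e4063f079006e60fb102b200940c4a0fe904050a0f0b240f760a97005a0776081d042600d707810d200c2d0b990a280fe807260e2a09df010604da05a105900ac80b050c8704880959060b06d700f60fe701700b92031505ff0f20082e090601300d1904af02ea078406c502ad0d090fe6034707ce0d4901590810089d09c5040a032b097a03b303a0052f03c80e9a0fe5054d091f01e908ca099503b205b20cc30df10c0204b00d780f64006303910fe40d810fd807920acf0e750f490593062d0e4100bc0b3f04590c8a0b630ace0fe306780400002a081b043c01e70770090a0dcf0a370caa03e301a30df607850fe2067f076b043407fe0f2e0139087c091604250bb00c2406e009030652022d0fe1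0c830843030a064008450fb60f3307b907570b690a080c690fb20ebd00070fe007f002a20d510ea207ed0ac700180b120fb0025b0978003a0b3c0f8e0fd60fdf007608b4046a05b60da00d27036e0c5d09f909750c7c01ec05dc0d8603ca0fde0e90021200c20db8090d04c1004303890ce7095a000c07730851049509a30fdd07820a6303e90ed500e101690d39098500c4095c0ab506460a560f5f068e0fdc00d60f880c5f097200590a9204d603be019f0d0d083b03f60dd00c1306b603130ad2040b0c770c620660038e0bf6059509a404dd0b95081a05e40e7300d90d680a690c4b024c0ca60f160f520eeb088e06c209c406a200d503740e30066b0ed4089f05ea04ca0eda0dc300730912055e02f30cd701db001c0431007d035509c0036a036d0830028b0e7f02f10bfb036509ee024900cc0c92014900450fc405ca0ed2061405d70fa203860a2a008e028c052305d9018806410bff06f20efa0a58075b0ebb0bfe00b003f509d2062e0bf40f010cd100a102d20cba0ef402fa0bbe0fad05dd0360068c01e00f7c0e490210043b015d04f8012d02c402e30cfb08bd059f0b3b042b0f2a04b1065507300e0305ec03a20e000685073e03d60fc204ad056e05b80462065e09fa02820f0b07540873053500840e760bed0a950d55021903c6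00e90f8c02e40bc308d1093203c90fc103e80c750dea01d40b2d08a4037f0c5e0155054c071c0a9b084709d60d2a000203d80322077f0fb50924018e023908540d890ba107f2008f05630efb08e10e1d0c9408390d140e7d09440c93034a092e02a4022b0afd0c9e0df800ce0f2103db06da0a5d0bb104a601520fba01730a930aee0d0e0ad4018d0c6a018106b30ccc0f9108f305570cfc052a096e0487002102c007ec064204cd0ba30b4b0067074408fb01240905023a0d6b05220f3602d60b4d000501ea0270064304de0719076f06a40b09096c05d001ad0f430c64086200810e3e0ebc02b708d9027102a504400f05032a0f6c046e06ed064e0cf9010400d106030684092f06be03450ed005f00c46059d0805004f03790f8004bd007502ac06ef01bb0ae1048e01f30f8b04a70361038006630a85081909940b4e0fbe01ff043301150763023c0e0602be0cb90dc404810a610c220650004706930d6a06360d100aaa015b037e0806043903700f9e07a4051d0b3a0a120ba8032d08fa03dd068f09b204940ab207ae05c504e0049a0c040ed706f4003e028902ab0c66062104be0415013805a00674007a007005810b6e0eb60ac4094b096d0cb303090b4208ec0f19031e0f990d730e7a002c03fb091e0a07090107f80bad0a8909090120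07980edb0d5f02fb00a00e820faa0ca208ef09f60be008e402f700aa002205a302340e8005e5085f0b360c1605cf0ad309c80381088f017408170c55097e06ea0b9f0e0a07170f5d07400f6f0a4b003607fc0699000f0f3e062f002006ec0894013300ff07860de40dcd07610c8001610269063708c00daa04e5016e04c70ba20803061e05a502ee0eb907e704fe06af03200199001009ef08df0a860e310a46074b0c1908eb0c120f0e0a1306bd0ca4098001630d8e099a09fb09c20368022e054e0d69020106ca0bb601c209ca0dae025a00ca087800680abd020c044c0ec10d7606cb0d4c038202880b7f031404630d6e0fc602a8020402db07510c8e0870012909fe01230e8606bb04410c260e950e810c5107e40db101be0a2e03fe06a60ecc006f021f08a30f870b5007a9031f03d90118053905190c2104f70b930ae30e2d05b50e8f0a99014d097407710712044400140a2f044f04ab0f2f01ed04a20799070e0b0802b508e2026d0657055002770583047101b80a7606b0067a010006a807b20bd7036b0cd2012c08d50b5a000d0adc0ea00530059b005c04370c600e090fd40ac5088605df0eb00af10c140c72066405780c9a0e16034302970ba00d8b075d05db0d4e03f809a808070e5a05e1069a007704190689082a04f60d9d0c3d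0dec06d109100d720d8d0e2405ee02c7075f0ef90b7e09b40c3b00ee0aa200d806d90f71076c08e80bba0de60bf20b2c04420b3d04cf02ef03480de0015600f80d6f0c9f0d0f0e10008a0ef109040f6205a904e70c230c880a4408cd0bc90d370aac04d50a1e030709760fd10ade0bce093f0a0306fd058a03e2040d01e50352075c05cd06770ee507b00c9908aa00c00b600e1e02950b290b62055105b907df070b0e500dbb0dcb01d105ef0432001e0bc100a90ebe07a7045e090f0b02096a09ba0cf602590b040b8109a00fb806d5089601ae0d71002d0bdd060a010c0e5b06dd07db06860a170867058f00a2074d050a09e30e7b02b606c90ec30a9c00a50dff03cf01d909530509038b066704fb0d0a0c84066202b30ea702d909dd02170d870e2f046d03c70f9f03d5012b0b38083c06790aba00ab04120cd0069203620cbe0804056d0b6106650afa03b00f8d048601d60e6e00d403a300f2091d05490ba90ab905de0630047c0c8c09e5098f0e9b0fbb0dfa0e2b0c360e610f120b53033d03d30d960c4500120e47097b00080d6109a6029b0d79065f025503080cb20af60e6a0b2a08e003fa0bbb058c0fac0a8d043802530e8406fa07640f4608370e37022102bc08c90b430f070eb70e8b0484029c07a109110eea0fb90227016607d5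05c901a107620b4003b40958003c073b0b8d05ce06090e5103710f260c8b0d9000cd07450e6b0ebf0f7501ef0d38024406e30d110a1606c003ef0584005e078709b00a290bae002b0bb20e460cae0b3406e701d502520ab702c30b870e53095d0f7b0ee0096b08200ae8050d0bde039b0eb20424078b015a07420d410d560eaa070002200abe080f07e301f1002801b905f3093308dc02050acb061a08a90a40086a0898019d0d4b0f4d08e607bc082305c00a7e0e8a0760028a069e09c604300a150b1a086f00f5030e0fd902c80d1301250436078a03ed07cd0da30be40e420e91090008d40c59074307fa0d1f0f270882040c02a707830ee8009b0a3a06c40c29035c0f970ad000d00cd90df70e560066004907080f7708e706000a790571025c0b2602f60c1803120b35070a057c024a058e023f0ea60354045d0a01054f08790cab0fd00e680bdb0d02089305d408710ae00db4026a072d01420b07079b09d400bb0753035d0938090201500be30c74090c02c605da008908ba0fb70ce50f130ee207670df9022f08de0cd30f3d0e19086901aa01cb04b30ef800a4002703a601eb06ae07e50e340ae70ddb04f000030a000f1809e6009c0a4d0a710c860d45016504e90a3c0a49080c03230ede0b4a0b410cb0093b06b507b5097f05850d50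0a7405410d9a0c2509f4082c0ee40e200e0e061f0de50d3d05580e1f0555030b077e0b6b0f7801a00aad0f930ed60b88050509be07d8062502b002cc001a0c5b0df304570d120e7c0a770d2f05fe0a9f076e0bcc01de0bd80d97069d08bf0304050e0f040216051101c304a809b10e880d8a07310f320a1901b705d10b660a5a0cfa0bf801ee01c0085702810d98049104c409c301a50d3b095b087206bf09f30228092200cb0c850d3e0d0b046b071d0c2007c009d303970b7503ba0da50970047000820dd90cf308b3037c03ad05a20c080dc801dc0aa901b20705033405440f6802650cd5035b03060d95042c0dbd08cb079d0ad50f3f07c80dd607de0a840318017c04040d06050004720d2d09f10dca06590f6a094d024f04cb07cb0d1805210c490a27021b006103d2047a0aeb00e40ec908b7077806980bf702dd045f00830f110f310bfa057f03210e320258077903500b7b02cf00f905be0064008b0305003905ad00800a6f0c1a05520e930e390aec0cce08c30d1a0bd209d7038509b60ccd0bf9049c00330edd09300a1a00f70bb70814020002dc0338049e087705f20df505770e3f08b104a40b8e0af40e5d0e1b0c78013e068d073801b00f390acc0ead0e250afc006e0a330f740e72094f0e270d990e44031603fc0054069008a8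0d5909cd061c0c8907010f1d099c0a8307e00d750d830f42010e08ad0ec80deb098a07ef0cf40037053607250c73067600e80f8409490615096f0c3a001d081f09c70e05077b0825078d0631002e0ac30dfd0c4109830e620dc90ee7080b0e7902da0e4c05480d9e0a9805760d740dd7081104c6072109bb09510fbc07ee00a70dc5026601cf0e59022608c209670cc9022c0d9106ff043f0c340f2c02d802ba0dfb048a041e071f0c030f0f0f90069c04780d290b5403960b7d08c6095006aa0f100897075807c608ee04730114027308af03bd086005b40fa30ea400ae0cc50af0061d08ed07d40ef70a6b04ac0bc50f2902fd0d30011208d204a00e660d4d09430d6d099905a70e8506b1005d0aa1062600190f1a02bd0c4407ff06950dbc0cc40ae50ab3029108d80885015407c70cd60e83011d0ea10eae030303ce0157027c0023055c02de0e3b089104610dfe09ac0178003b006b073202f20de80e7e08b801b50ecd014a06ba0a0b033e07da08c70db301cc09b5085c07c901210d3c01da03d4067500c30d9b0d050349026b0e6f01960f450720016005910e600b1c0a3f0b6405a60d3103510c39042d06fb09550e7800160c0d08ae0a5b0b470d530ad1005f0fc500c50a3d0c4c071601e3093a0824005b033c0ddc0a670ec006c60d7e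0e010a1800ad089001fc09d909d5062c072b0b5509180d350507054a0ca90fc303f70aa306220aa600d3090e0bc009b800f10aa80d2b0996056b0035094a0b5f0575046f0e3c05f60388004c0f7e0b0105cc0513086e0b0f0ba4051208b603360a65092d08e90c000e8e0b0e099f008d037607a80c58006905290c7607e10285079e04110a2106730884082707bd0f030abb04d902f80302026c019405cb02240d330934092b03c20e4008ce080d0278070908bc0ddf08590be807cf0d1604470881093605ab09c9099109790e3d0a53067e0bf302ae01d209f7070f0e4e01a8083409e90e5e07030b80018f0cdc042f051e0b8f0eb802b40b7801c7021509af0a600dcc0f1400150f3409880b8402e706f10f2206a30842097d04fd06910ed90251049700ed01860d850c0506e507b30417009909420957005005f808cf0f860a730ce609070b2200bf05af0a54005706b20a6e03d104a10f53093d057908520bcf0947075904f409660eef0b5701c1044a0b5105820db20963001f000b0d2201270bbf0a8806ee0d6003280a0a040f015c00d20f2d0bd103f404c9070c0276093c054307f300e504f308fd0ef3085504aa043a0a200d5d0cb10b3204a30bea029d064504280a5007070c47086c0b5c000e03290454066804b50bd90a7a03bf0e6c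0eec0c2f09ae0c53065c0dab029a04a90b9a08330db707aa0d26087f045b0f3703e1067205f101e101f00d320b20038c0ea809c10b9b07680b7001160e5c0a11091c01190d3f0460087a0a310e9e0e870620020700060de70ccf0dd80574006c06bc01a40658014b0f9d0330076a010d0a81019a0da40b460a3909920af2035e0b680243074e0f9402c2062a023d012e036c0a2b0b3009600be1031b09f20f9b08400b9e0abc041f035a022209f0093903f10e69092a0df403ee0c4d0f1707e807d20f470e120b65069f07dc0db00eff09ed0427069b0b490d2c00be0f2309ec0ef50554049904e300620bb5082806e40e6705fa0fa405b001e6098d0f6e009106b4050805420aa5058602a00afb04d009690e640c3305aa08e3077a0bc207ab010309eb0414078f0efc014f09bf080e0072018501710c500b1f07560fbd06a50e2c0298080008630f480750018c00b60b9c056a013b0cf502d70d77010703110446034e07220b5901a20e2306020d67040909ce0caf0b6d01b30dbf0f28016203f0024d047b034f0bd40801084f07f407ad0eca0a6a0f570c1f0dd5085b05e204c00f44031d04130dac004109e108ac0f3a007400400f7008180f820c7b039505010cfe0e380cc60d4209e00f7907e60bb9032e0317083f09dc09a90e110d21048c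088702c101f50fc90458067105ba03b8055a0774076508dd05d204b609aa08d7041c0b3302140469040703b70baf0fb30c35028408db00e00abf07ac0c1b0d1d048f0fa1065107d70cff09f8006a04430fc00f92060e000a020302310e3308120a7d0dc00ec60a260b6f0588074f095606110a620cb40b8c039d0369032f086d0a42085005d808210c6c077d013c0225037706d2053307a307c50d7c08800a9a04db047d00db0fab0f060ba70bef08da0d4f0af804bb0fbf03dc07ca0241041d0af70bbd03a906fc03400da20b5d05c30272085600310e5f0f5b0be7004e0e180b7403e002600826048b017d090b0a9d0aae079c08c1085e0a57065604b70cf806ac05470097050206830071053d0c61011b0815076906cd0ee1057d02a903ec03330c43038d06cc0f7203d00da708350004087603100cdf0e6500fc04ef0c480dd304e4062b079405c604c501320841074103640808057304d7027f08f6012a0c6703a1079a07b40c7a060d09640d280d7b02b10c1d071a03270633020d07910c17073307d903250a7b089a0e280b2e0c960b6c06700d93072804bf0fd3029608b008d007fb093e0cfd0cf207fd03e7046401ca0a3803df026f02e607d1052605d60bcb059a071107a0086b0b060cc7014c03000eb10b37041a05d30baa04790a0c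01c9024e027406480e89082b0096010f02f00eb50b0a07b10b850d62015e059403cb011a02a6039c057a07ea06b7066e0dfc0faf0813047f04ce0ce30889097709e200fb03560a8208a00c1c0629019501c809080bc40b480a240c0f03660bca072302e107e20b71042009d00cb7055b0f9a0c9c05f408440d0002f40def04fc0c910b270cea0e1a0e2606280dc2050f0fd70363010501d00993038a0dc60da80bd3045c046703b9049607c400650ae909870bc8020a0a750ac906db05200a3504100be5063905670042067d0f66084e030d009803ea0946066d0a51078e051c0510064f0aea011e094e04d80ae20ad6033105170e02096807130d9f0d0700da0bfd02d1050c0247059901df056405e006e805c8042204bc0bfc0d7d0816027d04e603c40029079601d801900f6101280f850a0409a102a1091b0d540af903ae08ff0aff07d30cf70f6b08f209fc080a03590a3e0db50b7c03b60b520a640a470bbc027e083e07f10a94037500b50246019104500267061205b705590dc103410b390ea90e9706100108006d002f0b7a0a3202cd07a5055d01fd00eb0cc80f1c03cd087d0fa8029306f70928092005bb0b5600ac064b04ff08650fb40a1c052b00ec00c70e450326004d01f8038405a80bd00ded01f40de20e290ce909e708d30db9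03e504c20514082d07a204550a9e0e58083a0680021105f70c28099803c004ae05b30ae60ed106940cad0403060c084a04b40c0e091a0dd4079300e20c150aa70ce20b3e05380453056c00000a5908ea0d82077501f60f600ec20b0d0982017e0506089b044904ee037b086804890bf100b9072a03b50b2300b206960b03009e058702570ab601f70b670bee0b6a056906c109ea08640bda0b82053b0aed03c50eb40986028d02610a10011101a9023e038307d605680fdb00930d0403aa06dc02ed0f4c0d58030f0a6c02330cdb01360e130223046c0aaf0a45072f084b0b98063d016c0f3c00b806c70d8c0c3e0c110fa90e92047406b9027a0efe0537033a0e70020e08b2063207d006e103de0db603e404e809a50fda031c0d440e77063e0eaf021a081e00b10c570f670d1e03f90c5c0d340c7f089204df02f90b94026e02d301d702fe0dad06fe01af004a0e550d4a02eb0c2705fd07360a8a0b5e0eab0451059205fb0ca80d3a087b0ad8011f0fcb01b107460213089e0ca00d920cc10ca50d5a07bf04e205ae060f0ac60c3703f2011c04f104ed0a0e06f6084c0052095f03c101ba0ccb0e43028e065b02750f2500cf0d17063c033904fa06540c8f0230028f02e5087401cd06c809db0c1e0c710de9067b04a500e602bb0e36073403bc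063a06ab0a8007370fa70c5607be0e980cec0b2f004606eb02290fa002ff0748098c0c0c0b9d0d0c02af0cbc0268025407f60a4f0f240f9c008c0f51010204ea0a6605720a55025d0a7c074c049d02020b8a0319073d0b4c09970af501bc0c8d0cca03440749068b03ab051b0e520bd600de09cf03ac00fd07f9055302ec0d630078091901fa0f0c06a0097103a506270dd2039902620e8d0da60da90d5e0b7303720da10c6d08f509270ce80c090ee604850088024b01640c010b0c074a00440b9009b304350c6500c80c0b08bb028702380f1501a70e9d0a1d00f0070608f4011004290e3a0e4d0122098b063806d80d4607470b960ad702180f5c0d08034b0c310a0202560f4a06610eba0030073c080907af07950fa505960f7f025e075a06d30acd089c0ecb064a0d030d8f0b16083106d403e60917001701e802ce066f05450f730056007b08c8016a049f02cb01bf037d0f890fae07890aa4055604210727078807390a72019e0324020f0cb608660c3800250f7d0883096104d1065a0477014e067c0598064d0cdd0c3f01bd0ec701720f3b0a140a7f066a0b11084d0a410ad90d57065d05eb0b8900010b140cf00f9507dd0d6c0e4a0c320c4f0f5901ab0af30f3501c40d94016802e90527039301920cc0072c066c0b5b0a0502c50926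050405e70f000c0a04660fc807e9007f05280b1d057e06f008ab052e0346085a02d002c901f903940482025f05e6033505ac08be0c6b0b130a8f073f044e027902b904ba043d0e990d1b06810480053a0e4f039a0ac104450f8106230f4e0d880ce00561097c06060193015301750e9f007906cf00130adf04e101c50ee90e350fcf05320a480e0f02a30fd502080a340cbb044b040e01f2012f077c0c6300f4014501760b440a0603a70c5207020ee3095e0b790109039f0c100f4b01fb0e940c9008a7035f070d0ecf0cbd01410b8604480cde071b059707a608610e14099b05ed041b0ef20f5e0bdc06f308380c9802480bcd021c01580d4009f50bab073a02830984021e082f00090a1b03eb0294039803bb0634036f0515018006de0a900b4509900cf10c5a00510bdf0a5f0d7a05c40822011701840f55036706660c400492014609b9059c06180f8f06870c2c037806970de10eee0ae4099d08360cd808b50a4e054605bc0250009500870a7009cb06b80daf03b1094506c301820df00f0a0e740011021d05660c820048089904ec04d30cda0ca10fc708c50c060f96052d088c077201340e4b0f0d00b30fcc00b4023b071807f504b9061b07ba0ba504830c0709bc02990bc6032c04d20a2d0c7d01a60c970aab0a25076605c100ba0b31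045a081c0f7a0f8a0c9d0c2e063504b801dd0301016d084607cc02630cc20b9708f00518009d02df00a802450eb305b10fce0cef02ca029007b60c7e046501010752085d014005f907b70b1e0bf50d65061708a20f3005650e21003f0b83003208cc053c018a02920a680f40049009da0a8e0f5806050476049801d306130b7703cc0d7f03af082906d00bec023506a10516068a088803900f5a06f807350a2c0952056f0b21020609310e070e630eac084801510cac085801890efd0b15071003f306190bb406e20f410cee051a09480e040e0d0b19001b05a40f500608030c04930dba04cc09cc02bf01b603420ed30e960ed80475010b0be6058906f90a520add0dd10e2200dd075e041806530e9c007c06e90147072e041606ad00e70b720ec5097300e30f38094c0c420682043e00df042e02e80d48031a0d25052c0dbe06ce049b0b4f0dc70f830c79019708e50bc70cbf0a1f014406440ece042a0d5c0a960d5b058007f70d1c013a0c4e00f3070402b8022a013100260c810c6e0adb055f0f5407eb00b70ac205bd029f034c0de304020ca300a30b18028609a70cd40ab400fa0e8c0a910b280edf09fd02d505d50fcd0c540d2e04c30bb800bd0f650a5c038700ef09d1060704680beb0df20a8c017f08f9019c08020dda004b0c68018b]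

private theorem tabL_eq : tabL = NL.map fun l => tabN l.reverse := by decide +kernel

/-- one letter -/
private noncomputable def stT (a i : ℕ) : ℕ :=
  List.rec (motive := fun _ => ℕ → ℕ) (fun _ => i)
    (fun T _ ih a => Nat.rec (motive := fun _ => ℕ) (lkN T i) (fun b _ => ih b) a) tabL a

private theorem stT_eq (a : ℕ) {i : ℕ} (hi : i < 4060) : stT a i = appK (nthL NL a) i ∧ stT a i < 4060 := by
  have key : ∀ (L : List (List (ℕ × ℕ))), (∀ l ∈ L, OkNet 4060 l) → ∀ a : ℕ,
      List.rec (motive := fun _ => ℕ → ℕ) (fun _ => i)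
        (fun T _ ih a => Nat.rec (motive := fun _ => ℕ) (lkN T i) (fun b _ => ih b) a)
        (L.map fun l => tabN l.reverse) a = app (nthL L a) i ∧ app (nthL L a) i < 4060 := by
    intro L
    induction L with
    | nil => exact fun _ _ => ⟨rfl, hi⟩
    | cons l L ih =>
      intro h a
      cases a with
      | zero => exact lkN_app (h l List.mem_cons_self) hi
      | succ a => exact ih (fun m hm => h m (List.mem_cons_of_mem _ hm)) a
  have hN : ∀ l ∈ NL, OkNet 4060 l :=
    List.forall_mem_cons.2 ⟨okNet_sound okT, List.forall_mem_cons.2 ⟨okNet_sound okS,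
    List.forall_mem_cons.2 ⟨okNet_sound okW, List.forall_mem_cons.2 ⟨okNet_sound okF,
    List.forall_mem_cons.2 ⟨okNet_sound okD, List.forall_mem_cons.2 ⟨okNet_sound okY,
    List.forall_mem_cons.2 ⟨BitNetSimple.okNet_reverse (okNet_sound okS),
    List.forall_mem_cons.2 ⟨BitNetSimple.okNet_reverse (okNet_sound okF),
    List.forall_mem_cons.2 ⟨BitNetSimple.okNet_reverse (okNet_sound okD), List.forall_mem_nil _⟩⟩⟩⟩⟩⟩⟩⟩⟩
  have h := key NL hN a
  rw [← tabL_eq] at h
  rw [appK_eq]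
  exact ⟨h.1, lt_of_eq_of_lt h.1 h.2⟩

/-- `evalK` on the tables -/
private noncomputable def evalT (w : List ℕ) (i : ℕ) : ℕ :=
  List.rec (motive := fun _ => ℕ) i (fun a _ ih => forceN ih (stT a)) w

private theorem evalT_eq (w : List ℕ) {i : ℕ} (hi : i < 4060) : evalT w i = evalK w i ∧ evalT w i < 4060 := by
  induction w with
  | nil => exact ⟨rfl, hi⟩
  | cons a w ih =>
    show forceN (evalT w i) (stT a) = forceN (evalK w i) (appK (nthL NL a)) ∧ forceN (evalT w i) (stT a) < 4060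
    rw [forceN_eq, forceN_eq, ← ih.1]
    exact stT_eq a ih.2

/-- `chkRel` on the tables -/
private noncomputable def chkT (rels : List (List ℕ)) : Bool :=
  allL (fun r => allL (fun b => Nat.beq (evalT r b) b) [0, 29, 580, 577]) rels

private theorem chk_of_T {rels : List (List ℕ)} (h : chkT rels = true) : chkRel rels = true := by
  refine (allL_iff _ _).2 fun r hr => (allL_iff _ _).2 fun b hb => ?_
  have h1 := (allL_iff _ _).1 ((allL_iff _ _).1 h r hr) b hb
  have h2 : b < 4060 := (by decide : ∀ b ∈ [0, 29, 580, 577], b < 4060) b hb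
  rw [(evalT_eq r h2).1] at h1
  exact h1

/-- equality of two words on the tables -/
private noncomputable def eqT (u v : List ℕ) : Bool :=
  allL (fun b => Nat.beq (evalT u b) (evalT v b)) [0, 29, 580, 577]

private theorem chkEq_of_T {u v : List ℕ} (h : eqT u v = true) :
    allL (fun b => Nat.beq (evalK u b) (evalK v b)) [0, 29, 580, 577] = true := by
  refine (allL_iff _ _).2 fun b hb => ?_
  have h1 := (allL_iff _ _).1 h b hb
  have h2 : b < 4060 := (by decide : ∀ b ∈ [0, 29, 580, 577], b < 4060) b hb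
  rw [(evalT_eq u h2).1, (evalT_eq v h2).1] at h1
  exact h1

private theorem rel_of_T {rels : List (List ℕ)} (h : chkT rels = true) : ∀ r ∈ rels, wprod ml r = 1 :=
  rel_of_chk (chk_of_T h)

end

open Subgroup Cfsg Cfsg.Agent.H216.Pi Cfsg.Agent.H209.PiSpor
open Cfsg.Agent.SporadicB Cfsg.Agent.SporadicB.RuOrder Cfsg.Agent.SporRec.TCUpperCert Cfsg.Agent.SporRec.R3.Kernel
  Cfsg.Agent.RuD.Letters
open Cfsg.Agent.H978.RadRu (rep wprod_rep chkEqW eq_of_chkEqW ne_one_of)

section general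

variable {K : Type*} [Group K]

/-- some group generated by few conjugates of `g` has an element of order divisible by `s` -/
def Kl (s : ℕ) (g : K) : Prop := ¬ FC s (mm s) (MulAut.conj g)

theorem Kl.of_pow {s : ℕ} (x : K) (k : ℕ) (h : Kl s (x ^ k)) : Kl s x := by
  intro hFC
  apply h
  have h1 : H216.Pi.InC 1 (MulAut.conj x) (MulAut.conj (x ^ k)) := by
    rw [map_pow]
    exact (H216.Pi.InC.self _).pow k
  have h2 : FC s (mm s * 1) (MulAut.conj x) := by rwa [mul_one]
  exact h2.of_inC h1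

theorem Kl.of_conj {s : ℕ} (t x : K) (h : Kl s (t * x * t⁻¹)) : Kl s x := by
  intro hFC
  exact h (fc_conj_elt t hFC)

theorem two_le_mm (s : ℕ) : 2 ≤ mm s := by unfold mm; omega

theorem kl_of_prod {s m : ℕ} (hs : s.Prime) {u t : K} (h1 : (u * (t * u * t⁻¹)) ^ (m * s) = 1)
    (h2 : ∀ g : K, g ^ m = 1 → g = (u * (t * u * t⁻¹)) → False) (hc : center K = ⊥) : Kl s u := by
  intro hFC
  have hm : (u * (t * u * t⁻¹)) ^ m ≠ 1 := fun h => h2 _ h rfl
  have h3 : s ∣ orderOf (u * (t * u * t⁻¹)) := by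
    by_contra h4
    apply hm
    have h5 : Nat.Coprime (orderOf (u * (t * u * t⁻¹))) s := ((Nat.Prime.coprime_iff_not_dvd hs).2 h4).symm
    exact orderOf_dvd_iff_pow_eq_one.1 (h5.dvd_of_dvd_mul_right (orderOf_dvd_of_pow_eq_one h1))
  have h4 : H216.Pi.InC 2 (MulAut.conj u) (MulAut.conj (u * (t * u * t⁻¹))) := by
    rw [map_mul]
    have h5 : H216.Pi.InC 1 (MulAut.conj u) (MulAut.conj (t * u * t⁻¹)) := by
      rw [← cj_conj u t]
      exact H216.Pi.InC.cj_self _ t
    exact (H216.Pi.InC.self (MulAut.conj u)).mul h5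
  have h5 := (hFC.mono (two_le_mm s)) _ h4
  apply h5
  rw [orderOf_injective MulAut.conj (conj_inj hc)]
  exact h3

/-- elements of prime order `p`, `p ^ 2 ∤ |K|` -/
theorem of_prime [Finite K] (B : K → Prop) (hBp : ∀ (x : K) (k : ℕ), B (x ^ k) → B x)
    (hBc : ∀ t x : K, B (t * x * t⁻¹) → B x) {p : ℕ} (hp : p.Prime) (hcard : ¬ p ^ 2 ∣ Nat.card K) {y : K}
    (hy : orderOf y = p) (hB : B y) (x : K) (hx : orderOf x = p) : B x := by
  have hi : ¬ p ∣ (zpowers y).index := by
    rintro ⟨k, hk⟩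
    apply hcard
    rw [← card_mul_index (zpowers y), Nat.card_zpowers, hy, hk]
    exact ⟨k, by ring⟩
  obtain ⟨a, ha⟩ := exists_conj_mem hp hi hx
  apply hBc a
  have h1 : orderOf (a * x * a⁻¹) = p := by rw [orderOf_conj', hx]
  -- `y` is a power of `a x a⁻¹`
  have h2 : zpowers (a * x * a⁻¹) = zpowers y := by
    apply eq_of_le_of_card_ge
    · rw [zpowers_le]; exact ha
    · rw [Nat.card_zpowers, Nat.card_zpowers, h1, hy]
  have h3 : y ∈ zpowers (a * x * a⁻¹) := by rw [h2]; exact mem_zpowers y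
  obtain ⟨k, hk⟩ := (isOfFinOrder_of_finite (a * x * a⁻¹)).mem_powers_iff_mem_zpowers.2 h3
  apply hBp _ k
  have hk' : (a * x * a⁻¹) ^ k = y := hk
  rw [hk']
  exact hB

end general

theorem center_H : center RuOrder.H = ⊥ := by
  have hs : IsSimpleGroup RuOrder.H := Cfsg.Agent.SporadicB.RuSimple.isSimpleGroup_H
  refine Cfsg.Agent.CpAut.TwoInner.center_eq_bot_of_card hs ?_
  rw [RuOrder.card_H]
  norm_num

/-- the certificate: `w = u t u t⁻¹` satisfies `w ^ (m s) = 1`, and `w ^ m` moves `b` -/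
noncomputable def chkK (b s m : ℕ) (u t ti : List ℕ) : Bool :=
  and (and (Nat.ble (Nat.succ b) 4060) (not (Nat.beq (evalK (rep m (u ++ (t ++ (u ++ ti)))) b) b)))
    (chkT [t ++ ti, rep (m * s) (u ++ (t ++ (u ++ ti)))])

theorem kl_of_chk {b s m : ℕ} (hs : s.Prime) {u t ti : List ℕ} (h : chkK b s m u t ti = true) :
    Kl s (wprod ml u : RuOrder.H) := by
  unfold chkK at h
  rw [Bool.and_eq_true, Bool.and_eq_true] at h
  obtain ⟨⟨hb, h0⟩, hr⟩ := h
  have hr' := rel_of_T hr
  have r1 := hr' (t ++ ti) (by simp)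
  have r2 := hr' (rep (m * s) (u ++ (t ++ (u ++ ti)))) (by simp)
  have r3 : wprod ml (rep m (u ++ (t ++ (u ++ ti)))) ≠ 1 := ne_one_of (Nat.le_of_ble_eq_true hb) (by simpa using h0)
  simp only [wprod_rep, wprod_append] at r1 r2 r3
  have hvi : wprod ml ti = (wprod ml t)⁻¹ := (inv_eq_of_mul_eq_one_right r1).symm
  rw [hvi] at r2 r3
  have e : (wprod ml u : RuOrder.H) * (wprod ml t * (wprod ml u * (wprod ml t)⁻¹)) =
      wprod ml u * (wprod ml t * wprod ml u * (wprod ml t)⁻¹) := by group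
  rw [e] at r2 r3
  refine kl_of_prod hs (t := wprod ml t) r2 (fun g hg hge => r3 ?_) center_H
  rw [← hge]
  exact hg

def w13 : List ℕ := [1, 2, 7]
def w29 : List ℕ := [0, 5, 3, 3, 0, 5, 0, 5, 0, 7, 7, 5]

theorem k3_T : Kl 3 (wprod ml [0] : RuOrder.H) :=
  kl_of_chk (by norm_num) (b := 29) (m := 1) (t := [5]) (ti := [5]) (by decide +kernel)

private theorem _root_.Cfsg.Agent.KO0ead561.e0.{ku, kv} {α : Type kv} {M : List α → Sort ku} (φ : ∀ l, M l) {z : M List.nil} {s : ∀ a l, M l → M (List.cons a l)} (h0 : φ List.nil = z) (hs : ∀ a l, φ (List.cons a l) = s a l (φ l)) (l : List α) : φ l = @List.rec α M z s l := List.rec h0 (fun a l ih => (hs a l).trans (congrArg (s a l) ih)) l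
private noncomputable def _root_.Cfsg.Agent.KO0ead561.k17 : (by first | exact type_of% @Cfsg.Agent.RuD.Letters.forceN | exact Unit : Sort _) := by first | (refine @Subtype.val _ (fun g => @Cfsg.Agent.RuD.Letters.forceN = @g) (@Subtype.mk _ _ (@(fun x0 x1 => @Nat.rec.{1} @(fun x2 => ℕ) (@x1 (nat_lit 0)) @(fun x2 x3 => @x1 (@Nat.succ @x2)) @x0)) ?_); rfl') | exact @Cfsg.Agent.RuD.Letters.forceN | exact ()
private theorem _root_.Cfsg.Agent.KO0ead561.e17 : (by first | exact @Cfsg.Agent.RuD.Letters.forceN = @_root_.Cfsg.Agent.KO0ead561.k17 | exact True : Prop) := by first | (delta _root_.Cfsg.Agent.KO0ead561.k17; exact @Subtype.property _ (fun g => @Cfsg.Agent.RuD.Letters.forceN = @g) _) | rfl | trivial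
private noncomputable def _root_.Cfsg.Agent.KO0ead561.k21 : (by first | exact type_of% @Cfsg.Agent.H680.PiSpor.Ru.lkN | exact Unit : Sort _) := by first | (refine @Subtype.val _ (fun g => @Cfsg.Agent.H680.PiSpor.Ru.lkN = @g) (@Subtype.mk _ _ (@(fun x0 x1 => @Nat.mod (@Nat.shiftRight @x0 (@Nat.add (@Nat.mul (nat_lit 256) (@Nat.mod @x1 (nat_lit 256))) (@Nat.mul (nat_lit 16) (@Nat.div @x1 (nat_lit 256))))) (nat_lit 4096))) ?_); rfl') | exact @Cfsg.Agent.H680.PiSpor.Ru.lkN | exact ()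
private theorem _root_.Cfsg.Agent.KO0ead561.e21 : (by first | exact @Cfsg.Agent.H680.PiSpor.Ru.lkN = @_root_.Cfsg.Agent.KO0ead561.k21 | exact True : Prop) := by first | (delta _root_.Cfsg.Agent.KO0ead561.k21; exact @Subtype.property _ (fun g => @Cfsg.Agent.H680.PiSpor.Ru.lkN = @g) _) | rfl | trivial
private noncomputable def _root_.Cfsg.Agent.KO0ead561.k22 : (by first | exact type_of% @Cfsg.Agent.H680.PiSpor.Ru.stT | exact Unit : Sort _) := by first | (refine @Subtype.val _ (fun g => @Cfsg.Agent.H680.PiSpor.Ru.stT = @g) (@Subtype.mk _ _ (@(fun x0 x1 => @List.rec.{1, 0} ℕ @(fun x2 => ℕ → ℕ) @(fun x2 => @x1) @(fun x2 x3 x4 x5 => @Nat.rec.{1} @(fun x6 => ℕ) (@Cfsg.Agent.KO0ead561.k21 @x2 @x1) @(fun x6 x7 => @x4 @x6) @x5) @Cfsg.Agent.H680.PiSpor.Ru.tabL @x0)) ?_); rewrite [← Cfsg.Agent.KO0ead561.e21]; (try delta Cfsg.Agent.H680.PiSpor.Ru.stT); (try generalize @Cfsg.Agent.H680.PiSpor.Ru.lkN = g0); (try generalize @Cfsg.Agent.H680.PiSpor.Ru.tabL = g1); rfl')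 | exact @Cfsg.Agent.H680.PiSpor.Ru.stT | exact ()
private theorem _root_.Cfsg.Agent.KO0ead561.e22 : (by first | exact @Cfsg.Agent.H680.PiSpor.Ru.stT = @_root_.Cfsg.Agent.KO0ead561.k22 | exact True : Prop) := by first | (delta _root_.Cfsg.Agent.KO0ead561.k22; exact @Subtype.property _ (fun g => @Cfsg.Agent.H680.PiSpor.Ru.stT = @g) _) | rfl | trivial
private noncomputable def _root_.Cfsg.Agent.KO0ead561.k23 : (by first | exact type_of% @Cfsg.Agent.H680.PiSpor.Ru.chkT | exact Unit : Sort _) := by first | (refine @Subtype.val _ (fun g => @Cfsg.Agent.H680.PiSpor.Ru.chkT = @g) (@Subtype.mk _ _ (@(fun x0 => @Cfsg.Agent.SporRec.R3.Kernel.allL _ @(fun x1 => @Cfsg.Agent.SporRec.R3.Kernel.allL _ @(fun x2 => @Nat.beq (@List.rec.{1, 0} ℕ @(fun x3 => ℕ) @x2 @(fun x3 x4 x5 => @Cfsg.Agent.KO0ead561.k17 @x5 (@Cfsg.Agent.KO0ead561.k22 @x3)) @x1) @x2) ((nat_lit 0) :: ((nat_lit 29) :: ((nat_lit 580) :: ((nat_lit 577) :: []))))) @x0)) ?_); rewrite [← Cfsg.Agent.KO0ead561.e22,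 ← Cfsg.Agent.KO0ead561.e17]; (try delta Cfsg.Agent.H680.PiSpor.Ru.chkT Cfsg.Agent.H680.PiSpor.Ru.evalT); (try generalize @Cfsg.Agent.SporRec.R3.Kernel.allL = g0); (try generalize @Cfsg.Agent.RuD.Letters.forceN = g1); (try generalize @Cfsg.Agent.H680.PiSpor.Ru.stT = g2); rfl') | exact @Cfsg.Agent.H680.PiSpor.Ru.chkT | exact ()
private theorem _root_.Cfsg.Agent.KO0ead561.e23 : (by first | exact @Cfsg.Agent.H680.PiSpor.Ru.chkT = @_root_.Cfsg.Agent.KO0ead561.k23 | exact True : Prop) := by first | (delta _root_.Cfsg.Agent.KO0ead561.k23; exact @Subtype.property _ (fun g => @Cfsg.Agent.H680.PiSpor.Ru.chkT = @g) _) | rfl | trivial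
private noncomputable def _root_.Cfsg.Agent.KO0ead561.k24.{ku0} : type_of% @List.append.{ku0} := @(fun x0 x1 x2 => @List.rec.{(ku0+1), ku0} @x0 @(fun x3 => (@List.{ku0} @x0) → @List.{ku0} @x0) @(fun x3 => @x3) @(fun x3 x4 x5 x6 => @x3 :: (@x5 @x6)) @x1 @x2)
private theorem _root_.Cfsg.Agent.KO0ead561.e24.{ku0} : @List.append.{ku0} = @_root_.Cfsg.Agent.KO0ead561.k24.{ku0} := by delta _root_.Cfsg.Agent.KO0ead561.k24; funext a0 a1 a2; refine (congrFun (_root_.Cfsg.Agent.KO0ead561.e0 (fun a1 a2 => @List.append.{ku0} a0 a1 a2) ?_ (fun c0 c1 => ?_) a1) a2 :) <;> (rfl')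
private noncomputable def _root_.Cfsg.Agent.KO0ead561.k25 : (by first | exact type_of% @Cfsg.Agent.H978.RadRu.rep | exact Unit : Sort _) := by first | (refine @Subtype.val _ (fun g => @Cfsg.Agent.H978.RadRu.rep = @g) (@Subtype.mk _ _ (@(fun x0 x1 => @Nat.rec.{1} @(fun x2 => @List.{0} ℕ) [] @(fun x2 x3 => @Cfsg.Agent.KO0ead561.k24.{0} _ @x1 @x3) @x0)) ?_); rewrite [← Cfsg.Agent.KO0ead561.e24.{0}]; rfl') | exact @Cfsg.Agent.H978.RadRu.rep | exact ()
private theorem _root_.Cfsg.Agent.KO0ead561.e25 : (by first | exact @Cfsg.Agent.H978.RadRu.rep = @_root_.Cfsg.Agent.KO0ead561.k25 | exact True : Prop) := by first | (delta _root_.Cfsg.Agent.KO0ead561.k25; exact @Subtype.property _ (fun g => @Cfsg.Agent.H978.RadRu.rep = @g) _) | rfl | trivial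
private noncomputable def _root_.Cfsg.Agent.KO0ead561.oEq.{ku} (α : Sort ku) (a b : Nat) (f t : α) : α := @Decidable.rec (a = b) (fun _ => α) (fun _ => f) (fun _ => t) (Nat.decEq a b)
private noncomputable def _root_.Cfsg.Agent.KO0ead561.k26.{ku} (α : Sort ku) (a b : Nat) (f t : α) : α := @Bool.rec (fun _ => α) f t (Nat.beq a b)
private theorem _root_.Cfsg.Agent.KO0ead561.e26.{ku} : @_root_.Cfsg.Agent.KO0ead561.oEq.{ku} = @_root_.Cfsg.Agent.KO0ead561.k26.{ku} := funext fun α => funext fun a => funext fun b => funext fun f => funext fun t => by delta _root_.Cfsg.Agent.KO0ead561.oEq _root_.Cfsg.Agent.KO0ead561.k26; cases h : Nat.beq a b <;> cases Nat.decEq a b <;> rename_i g <;> first | rfl | exact absurd g (Nat.ne_of_beq_eq_false h) | exact absurd (Nat.eq_of_beq_eq_true h) g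
private noncomputable def _root_.Cfsg.Agent.KO0ead561.k27 : (by first | exact type_of% @Cfsg.Agent.Lib.BitNet.sw | exact Unit : Sort _) := by first | (refine @Subtype.val _ (fun g => @Cfsg.Agent.Lib.BitNet.sw = @g) (@Subtype.mk _ _ (@(fun x0 x1 x2 => @Bool.rec.{1} @(fun x3 => ℕ) (@Bool.rec.{1} @(fun x3 => ℕ) @x2 (@Nat.sub @x2 @x0) (@Bool.rec.{1} @(fun x3 => @Bool) @Bool.false (@Bool.rec.{1} @(fun x3 => @Bool) @Bool.true @Bool.false (@Cfsg.Agent.KO0ead561.k26.{1} @Bool (@Nat.land (nat_lit 1) (@Nat.shiftRight @x1 (@Nat.sub @x2 @x0))) (nat_lit 0) @Bool.false @Bool.true)) (@Nat.ble @x0 @x2))) (@Nat.add @x2 @x0) (@Bool.rec.{1} @(fun x3 => @Bool) @Bool.true @Bool.false (@Cfsg.Agent.KO0ead561.k26.{1} @Bool (@Nat.land (nat_lit 1) (@Nat.shiftRight @x1 @x2)) (nat_lit 0) @Bool.false @Bool.true)))) ?_); rewrite [← Cfsg.Agent.KO0ead561.e26.{1}]; rfl') | exact @Cfsg.Agent.Lib.BitNet.sw | exact ()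
private theorem _root_.Cfsg.Agent.KO0ead561.e27 : (by first | exact @Cfsg.Agent.Lib.BitNet.sw = @_root_.Cfsg.Agent.KO0ead561.k27 | exact True : Prop) := by first | (delta _root_.Cfsg.Agent.KO0ead561.k27; exact @Subtype.property _ (fun g => @Cfsg.Agent.Lib.BitNet.sw = @g) _) | rfl | trivial
private noncomputable def _root_.Cfsg.Agent.KO0ead561.k28 : (by first | exact type_of% @Cfsg.Agent.RuD.Letters.appK | exact Unit : Sort _) := by first | (refine @Subtype.val _ (fun g => @Cfsg.Agent.RuD.Letters.appK = @g) (@Subtype.mk _ _ (@(fun x0 => @List.rec.{1, 0} (ℕ × ℕ) @(fun x1 => ℕ → ℕ) @(fun x1 => @x1) @(fun x1 x2 x3 x4 => @Cfsg.Agent.KO0ead561.k17 (@Cfsg.Agent.KO0ead561.k27 (@Prod.fst.{0, 0} _ _ @x1) (@Prod.snd.{0, 0} _ _ @x1) @x4) @x3) @x0)) ?_); rewrite [← Cfsg.Agent.KO0ead561.e27, ← Cfsg.Agent.KO0ead561.e17]; (try delta Cfsg.Agent.RuD.Letters.appK); (try generalize @Cfsg.Agent.RuD.Letters.forceN = g0); (try generalize @Cfsg.Agent.Lib.BitNet.sw = g1); rfl')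 | exact @Cfsg.Agent.RuD.Letters.appK | exact ()
private theorem _root_.Cfsg.Agent.KO0ead561.e28 : (by first | exact @Cfsg.Agent.RuD.Letters.appK = @_root_.Cfsg.Agent.KO0ead561.k28 | exact True : Prop) := by first | (delta _root_.Cfsg.Agent.KO0ead561.k28; exact @Subtype.property _ (fun g => @Cfsg.Agent.RuD.Letters.appK = @g) _) | rfl | trivial
private noncomputable def _root_.Cfsg.Agent.KO0ead561.k29 : (by first | exact type_of% @Cfsg.Agent.RuD.Letters.evalK | exact Unit : Sort _) := by first | (refine @Subtype.val _ (fun g => @Cfsg.Agent.RuD.Letters.evalK = @g) (@Subtype.mk _ _ (@(fun x0 x1 => @List.rec.{1, 0} ℕ @(fun x2 => ℕ) @x1 @(fun x2 x3 x4 => @Cfsg.Agent.KO0ead561.k17 @x4 (@Cfsg.Agent.KO0ead561.k28 (@Cfsg.Agent.RuD.Letters.nthL @Cfsg.Agent.RuD.Letters.NL @x2))) @x0)) ?_); rewrite [← Cfsg.Agent.KO0ead561.e28, ← Cfsg.Agent.KO0ead561.e17]; (try delta Cfsg.Agent.RuD.Letters.evalK); (try generalize @Cfsg.Agent.RuD.Letters.forceN = g0); (try generalize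 @Cfsg.Agent.RuD.Letters.appK = g1); (try generalize @Cfsg.Agent.RuD.Letters.nthL = g2); (try generalize @Cfsg.Agent.RuD.Letters.NL = g3); rfl') | exact @Cfsg.Agent.RuD.Letters.evalK | exact ()
private theorem _root_.Cfsg.Agent.KO0ead561.e29 : (by first | exact @Cfsg.Agent.RuD.Letters.evalK = @_root_.Cfsg.Agent.KO0ead561.k29 | exact True : Prop) := by first | (delta _root_.Cfsg.Agent.KO0ead561.k29; exact @Subtype.property _ (fun g => @Cfsg.Agent.RuD.Letters.evalK = @g) _) | rfl | trivial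
private noncomputable def _root_.Cfsg.Agent.KO0ead561.k30 : (by first | exact type_of% @Cfsg.Agent.H680.PiSpor.Ru.chkK | exact Unit : Sort _) := by first | (refine @Subtype.val _ (fun g => @Cfsg.Agent.H680.PiSpor.Ru.chkK = @g) (@Subtype.mk _ _ (@(fun x0 x1 x2 x3 x4 x5 => @Bool.rec.{1} @(fun x6 => @Bool) @Bool.false (@Cfsg.Agent.KO0ead561.k23 ((@Cfsg.Agent.KO0ead561.k24.{0} _ @x4 @x5) :: ((@Cfsg.Agent.KO0ead561.k25 (@Nat.mul @x2 @x1) (@Cfsg.Agent.KO0ead561.k24.{0} _ @x3 (@Cfsg.Agent.KO0ead561.k24.{0} _ @x4 (@Cfsg.Agent.KO0ead561.k24.{0} _ @x3 @x5)))) :: []))) (@Bool.rec.{1} @(fun x6 => @Bool) @Bool.false (@Bool.rec.{1} @(fun x6 => @Bool) @Bool.true @Bool.false (@Nat.beq (@Cfsg.Agent.KO0ead561.k29 (@Cfsg.Agent.KO0ead561.k25 @x2 (@Cfsg.Agent.KO0ead561.k24.{0} _ @x3 (@Cfsg.Agent.KO0ead561.k24.{0} _ @x4 (@Cfsg.Agent.KO0ead561.k24.{0} _ @x3 @x5)))) @x0) @x0)) (@Nat.ble (@Nat.succ @x0) (nat_lit 4060))))) ?_); rewrite [← Cfsg.Agent.KO0ead561.e29, ← Cfsg.Agent.KO0ead561.e25,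 ← Cfsg.Agent.KO0ead561.e24.{0}, ← Cfsg.Agent.KO0ead561.e23]; (try delta Cfsg.Agent.H680.PiSpor.Ru.chkK); (try generalize @Cfsg.Agent.H680.PiSpor.Ru.chkT = g0); (try generalize @Cfsg.Agent.H978.RadRu.rep = g1); (try generalize @Cfsg.Agent.RuD.Letters.evalK = g2); rfl') | exact @Cfsg.Agent.H680.PiSpor.Ru.chkK | exact ()
private theorem _root_.Cfsg.Agent.KO0ead561.e30 : (by first | exact @Cfsg.Agent.H680.PiSpor.Ru.chkK = @_root_.Cfsg.Agent.KO0ead561.k30 | exact True : Prop) := by first | (delta _root_.Cfsg.Agent.KO0ead561.k30; exact @Subtype.property _ (fun g => @Cfsg.Agent.H680.PiSpor.Ru.chkK = @g) _) | rfl | trivial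

theorem k3_SS : Kl 3 (wprod ml [1, 1] : RuOrder.H) :=
  kl_of_chk (by norm_num) (b := 29) (m := 2) (t := [2, 3, 5, 7]) (ti := [3, 5, 7, 2]) (by (first | (rewrite [Cfsg.Agent.KO0ead561.e30]; decide +kernel) | decide +kernel))

theorem k3_F : Kl 3 (wprod ml [3] : RuOrder.H) :=
  kl_of_chk (by norm_num) (b := 29) (m := 2) (t := [2, 5]) (ti := [5, 2]) (by decide +kernel)

theorem k3_x13 : Kl 3 (wprod ml w13 : RuOrder.H) :=
  kl_of_chk (by norm_num) (b := 29) (m := 2) (t := [4, 5]) (ti := [5, 8]) (by decide +kernel)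

theorem k3_x29 : Kl 3 (wprod ml w29 : RuOrder.H) :=
  kl_of_chk (by norm_num) (b := 29) (m := 1) (t := [0, 1]) (ti := [6, 0]) (by (first | (rewrite [Cfsg.Agent.KO0ead561.e30]; decide +kernel) | decide +kernel))

theorem k3_c5 : Kl 3 (wprod ml H978.RadRu.wc : RuOrder.H) :=
  kl_of_chk (by norm_num) (b := 29) (m := 1) (t := [0, 1]) (ti := [6, 0]) (by decide +kernel)

theorem k3_b5 : Kl 3 (wprod ml H978.RadRu.wb : RuOrder.H) :=
  kl_of_chk (by norm_num) (b := 29) (m := 1) (t := [2, 1, 8, 3]) (ti := [7, 4, 6, 2]) (by (first | (rewrite [Cfsg.Agent.KO0ead561.e30]; decide +kernel) | decide +kernel))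

theorem k3_a5b0 : Kl 3 (wprod ml (H978.RadRu.wa ++ rep 0 H978.RadRu.wb) : RuOrder.H) :=
  kl_of_chk (by norm_num) (b := 29) (m := 1) (t := [2, 5, 4]) (ti := [8, 5, 2]) (by (first | (rewrite [Cfsg.Agent.KO0ead561.e30, Cfsg.Agent.KO0ead561.e25]; decide +kernel) | decide +kernel))

theorem k3_a5b1 : Kl 3 (wprod ml (H978.RadRu.wa ++ rep 1 H978.RadRu.wb) : RuOrder.H) :=
  kl_of_chk (by norm_num) (b := 29) (m := 1) (t := [5]) (ti := [5]) (by (first | (rewrite [Cfsg.Agent.KO0ead561.e30, Cfsg.Agent.KO0ead561.e25]; decide +kernel) | decide +kernel))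

theorem k3_a5b2 : Kl 3 (wprod ml (H978.RadRu.wa ++ rep 2 H978.RadRu.wb) : RuOrder.H) :=
  kl_of_chk (by norm_num) (b := 29) (m := 1) (t := [4, 0, 8]) (ti := [4, 0, 8]) (by (first | (rewrite [Cfsg.Agent.KO0ead561.e30, Cfsg.Agent.KO0ead561.e25]; decide +kernel) | decide +kernel))

theorem k3_a5b3 : Kl 3 (wprod ml (H978.RadRu.wa ++ rep 3 H978.RadRu.wb) : RuOrder.H) :=
  kl_of_chk (by norm_num) (b := 29) (m := 1) (t := [1, 8, 0, 5]) (ti := [5, 0, 4, 6]) (by (first | (rewrite [Cfsg.Agent.KO0ead561.e30, Cfsg.Agent.KO0ead561.e25]; decide +kernel) | decide +kernel))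

theorem k3_a5b4 : Kl 3 (wprod ml (H978.RadRu.wa ++ rep 4 H978.RadRu.wb) : RuOrder.H) :=
  kl_of_chk (by norm_num) (b := 29) (m := 1) (t := [2, 3]) (ti := [7, 2]) (by (first | (rewrite [Cfsg.Agent.KO0ead561.e30, Cfsg.Agent.KO0ead561.e25]; decide +kernel) | decide +kernel))

theorem k5_T : Kl 5 (wprod ml [0] : RuOrder.H) :=
  kl_of_chk (by norm_num) (b := 29) (m := 1) (t := [4, 5]) (ti := [5, 8]) (by decide +kernel)

theorem k5_SS : Kl 5 (wprod ml [1, 1] : RuOrder.H) :=
  kl_of_chk (by norm_num) (b := 29) (m := 1) (t := [2]) (ti := [2]) (by decide +kernel)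

theorem k5_F : Kl 5 (wprod ml [3] : RuOrder.H) :=
  kl_of_chk (by norm_num) (b := 29) (m := 1) (t := [1, 2, 3, 6]) (ti := [1, 7, 2, 6]) (by decide +kernel)

theorem k5_x13 : Kl 5 (wprod ml w13 : RuOrder.H) :=
  kl_of_chk (by norm_num) (b := 29) (m := 1) (t := [5]) (ti := [5]) (by decide +kernel)

theorem k5_x29 : Kl 5 (wprod ml w29 : RuOrder.H) :=
  kl_of_chk (by norm_num) (b := 29) (m := 1) (t := [1, 2, 6]) (ti := [1, 2, 6]) (by (first | (rewrite [Cfsg.Agent.KO0ead561.e30]; decide +kernel) | decide +kernel))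

theorem k5_c3 : Kl 5 (wprod ml H51.Rad3.Ru.wc : RuOrder.H) :=
  kl_of_chk (by norm_num) (b := 29) (m := 1) (t := [5]) (ti := [5]) (by decide +kernel)

theorem k5_b3 : Kl 5 (wprod ml H51.Rad3.Ru.wb : RuOrder.H) :=
  kl_of_chk (by norm_num) (b := 29) (m := 1) (t := [1]) (ti := [6]) (by (first | (rewrite [Cfsg.Agent.KO0ead561.e30]; decide +kernel) | decide +kernel))

theorem k5_a3b0 : Kl 5 (wprod ml (H51.Rad3.Ru.wa ++ rep 0 H51.Rad3.Ru.wb) : RuOrder.H) :=
  kl_of_chk (by norm_num) (b := 29) (m := 1) (t := [2]) (ti := [2]) (by (first | (rewrite [Cfsg.Agent.KO0ead561.e30, Cfsg.Agent.KO0ead561.e25]; decide +kernel) | decide +kernel))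

theorem k5_a3b1 : Kl 5 (wprod ml (H51.Rad3.Ru.wa ++ rep 1 H51.Rad3.Ru.wb) : RuOrder.H) :=
  kl_of_chk (by norm_num) (b := 29) (m := 1) (t := [1, 2, 1]) (ti := [6, 2, 6]) (by (first | (rewrite [Cfsg.Agent.KO0ead561.e30, Cfsg.Agent.KO0ead561.e25]; decide +kernel) | decide +kernel))

theorem k5_a3b2 : Kl 5 (wprod ml (H51.Rad3.Ru.wa ++ rep 2 H51.Rad3.Ru.wb) : RuOrder.H) :=
  kl_of_chk (by norm_num) (b := 29) (m := 1) (t := [1, 5]) (ti := [5, 6]) (by (first | (rewrite [Cfsg.Agent.KO0ead561.e30, Cfsg.Agent.KO0ead561.e25]; decide +kernel) | decide +kernel))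


theorem ord13 : orderOf (wprod ml w13 : RuOrder.H) = 13 := by
  have : Fact (Nat.Prime 13) := ⟨by norm_num⟩
  have h1 : chkT [rep 13 w13] = true := by decide +kernel
  have h2 := rel_of_T h1 (rep 13 w13) (by simp)
  rw [wprod_rep] at h2
  exact orderOf_eq_prime h2 (ne_one_of (b := 29) (by norm_num) (by decide +kernel))

theorem ord29 : orderOf (wprod ml w29 : RuOrder.H) = 29 := by
  have : Fact (Nat.Prime 29) := ⟨by norm_num⟩
  have h1 : chkT [rep 29 w29] = true := by decide +kernel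
  have h2 := rel_of_T h1 (rep 29 w29) (by simp)
  rw [wprod_rep] at h2
  exact orderOf_eq_prime h2 (ne_one_of (b := 29) (by norm_num) (by decide +kernel))

theorem ord7 : orderOf (wprod ml [3] : RuOrder.H) = 7 := by
  have : Fact (Nat.Prime 7) := ⟨by norm_num⟩
  have h1 : chkT [rep 7 [3]] = true := by decide +kernel
  have h2 := rel_of_T h1 (rep 7 [3]) (by simp)
  rw [wprod_rep] at h2
  exact orderOf_eq_prime h2 (ne_one_of (b := 29) (by norm_num) (by decide +kernel))

theorem fin : Finite RuOrder.H := H436.TwoRu.finite_H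

theorem two_of {s : ℕ} (hT : Kl s (wprod ml [0] : RuOrder.H)) (hS : Kl s (wprod ml [1, 1] : RuOrder.H)) (x : RuOrder.H)
    (hx : orderOf x = 2) : Kl s x := by
  have h2 : x * x = 1 := by rw [← pow_two, ← hx, pow_orderOf_eq_one]
  have h1 : x ≠ 1 := by
    rintro rfl
    rw [orderOf_one] at hx
    omega
  have wS : (wprod ml [1, 1] : RuOrder.H) = S * S := by
    rw [wprod_cons, wprod_cons, wprod_nil, mul_one]; rfl
  have wT : (wprod ml [0] : RuOrder.H) = T := by
    rw [wprod_cons, wprod_nil, mul_one]; rfl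
  rw [wS] at hS
  rw [wT] at hT
  rcases Cfsg.Agent.OddHalf.D9.Ru.XLevel.isConj_or h2 h1 with h | h
  · obtain ⟨c, hc⟩ := isConj_iff.1 h.symm
    exact Kl.of_conj c x (by rw [hc]; exact hS)
  · obtain ⟨c, hc⟩ := isConj_iff.1 h.symm
    exact Kl.of_conj c x (by rw [hc]; exact hT)

theorem five_of {s : ℕ} (h1 : Kl s (wprod ml H978.RadRu.wc : RuOrder.H)) (h2 : Kl s (wprod ml H978.RadRu.wb : RuOrder.H))
    (h3 : ∀ j < 5, Kl s (wprod ml (H978.RadRu.wa ++ rep j H978.RadRu.wb) : RuOrder.H)) (x : RuOrder.H)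
    (hx : orderOf x = 5) : Kl s x := by
  have := fin
  have hr := rel_of_chk H978.RadRu.chk_rels
  have r1 := hr (rep 5 H978.RadRu.wa) (by simp)
  have r2 := hr (rep 5 H978.RadRu.wb) (by simp)
  have r3 := hr (rep 5 H978.RadRu.wc) (by simp)
  have e1 : wprod ml (H978.RadRu.wa ++ H978.RadRu.wc) = wprod ml (H978.RadRu.wc ++ H978.RadRu.wa) :=
    eq_of_chkEqW (chkEq_of_T (by decide +kernel))
  have e2 : wprod ml (H978.RadRu.wb ++ H978.RadRu.wc) = wprod ml (H978.RadRu.wc ++ H978.RadRu.wb) :=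
    eq_of_chkEqW (chkEq_of_T (by decide +kernel))
  have e3 : wprod ml (H978.RadRu.wa ++ H978.RadRu.wb) = wprod ml (H978.RadRu.wc ++ (H978.RadRu.wb ++ H978.RadRu.wa)) :=
    eq_of_chkEqW (chkEq_of_T (by decide +kernel))
  simp only [wprod_rep, wprod_append] at r1 r2 r3 e1 e2 e3
  refine H51.Rad3.of_cube (Kl s) Kl.of_pow Kl.of_conj (p := 5) (by norm_num) ?_ e1 e2 e3 r1 r2 r3
    (ne_one_of (b := 29) (by norm_num) (by decide +kernel)) h1 h2 ?_ x hx
  · rw [RuOrder.card_H]
    norm_num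
  · intro j hj
    rw [← wprod_rep, ← wprod_append]
    exact h3 j hj

theorem three_of {s : ℕ} (h1 : Kl s (wprod ml H51.Rad3.Ru.wc : RuOrder.H))
    (h2 : Kl s (wprod ml H51.Rad3.Ru.wb : RuOrder.H))
    (h3 : ∀ j < 3, Kl s (wprod ml (H51.Rad3.Ru.wa ++ rep j H51.Rad3.Ru.wb) : RuOrder.H)) (x : RuOrder.H)
    (hx : orderOf x = 3) : Kl s x := by
  have := fin
  have hr := rel_of_chk H51.Rad3.Ru.chk_rels
  have r1 := hr (rep 3 H51.Rad3.Ru.wa) (by simp)
  have r2 := hr (rep 3 H51.Rad3.Ru.wb) (by simp)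
  have r3 := hr (rep 3 H51.Rad3.Ru.wc) (by simp)
  have e1 : wprod ml (H51.Rad3.Ru.wa ++ H51.Rad3.Ru.wc) = wprod ml (H51.Rad3.Ru.wc ++ H51.Rad3.Ru.wa) :=
    eq_of_chkEqW (chkEq_of_T (by decide +kernel))
  have e2 : wprod ml (H51.Rad3.Ru.wb ++ H51.Rad3.Ru.wc) = wprod ml (H51.Rad3.Ru.wc ++ H51.Rad3.Ru.wb) :=
    eq_of_chkEqW (chkEq_of_T (by decide +kernel))
  have e3 : wprod ml (H51.Rad3.Ru.wa ++ H51.Rad3.Ru.wb) =
      wprod ml (H51.Rad3.Ru.wc ++ (H51.Rad3.Ru.wb ++ H51.Rad3.Ru.wa)) :=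
    eq_of_chkEqW (chkEq_of_T (by decide +kernel))
  simp only [wprod_rep, wprod_append] at r1 r2 r3 e1 e2 e3
  refine H51.Rad3.of_cube (Kl s) Kl.of_pow Kl.of_conj (p := 3) (by norm_num) ?_ e1 e2 e3 r1 r2 r3
    (ne_one_of (b := 29) (by norm_num) (by decide +kernel)) h1 h2 ?_ x hx
  · rw [RuOrder.card_H]
    norm_num
  · intro j hj
    rw [← wprod_rep, ← wprod_append]
    exact h3 j hj

theorem prime_cases {p : ℕ} (hp : p.Prime) (hd : p ∣ 145926144000) :
    p = 2 ∨ p = 3 ∨ p = 5 ∨ p = 7 ∨ p = 13 ∨ p = 29 := by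
  have h : (145926144000 : ℕ) = 2 ^ 14 * (3 ^ 3 * (5 ^ 3 * (7 * (13 * 29)))) := by norm_num
  rw [h] at hd
  rcases hp.dvd_mul.1 hd with hd | hd
  · exact Or.inl ((Nat.prime_dvd_prime_iff_eq hp (by norm_num)).1 (hp.dvd_of_dvd_pow hd))
  rcases hp.dvd_mul.1 hd with hd | hd
  · exact Or.inr (Or.inl ((Nat.prime_dvd_prime_iff_eq hp (by norm_num)).1 (hp.dvd_of_dvd_pow hd)))
  rcases hp.dvd_mul.1 hd with hd | hd
  · exact Or.inr (Or.inr (Or.inl ((Nat.prime_dvd_prime_iff_eq hp (by norm_num)).1 (hp.dvd_of_dvd_pow hd))))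
  rcases hp.dvd_mul.1 hd with hd | hd
  · exact Or.inr (Or.inr (Or.inr (Or.inl ((Nat.prime_dvd_prime_iff_eq hp (by norm_num)).1 hd))))
  rcases hp.dvd_mul.1 hd with hd | hd
  · exact Or.inr (Or.inr (Or.inr (Or.inr (Or.inl ((Nat.prime_dvd_prime_iff_eq hp (by norm_num)).1 hd)))))
  · exact Or.inr (Or.inr (Or.inr (Or.inr (Or.inr ((Nat.prime_dvd_prime_iff_eq hp (by norm_num)).1 hd)))))

theorem ncs_of_kl {s : ℕ} (h : ∀ x : RuOrder.H, (orderOf x).Prime → orderOf x ≠ s → Kl s x) : NCs s RuOrder.H := by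
  have := fin
  refine ncs_of_inner center_H (fun p hp hps g hg _ hFC => ?_) fun x => ?_
  · exact h g (by rw [hg]; exact hp) (by rw [hg]; exact hps) hFC
  · obtain ⟨g, hg⟩ := Cfsg.Agent.OddHalf.Table.OutRu.inner x
    exact ⟨g, hg.symm⟩

theorem ncs_H_3 : NCs 3 RuOrder.H := by
  have := fin
  apply ncs_of_kl
  intro x hp hne
  have hd : orderOf x ∣ 145926144000 := by rw [← RuOrder.card_H]; exact orderOf_dvd_natCard x
  rcases prime_cases hp hd with h | h | h | h | h | h
  · exact two_of k3_T k3_SS x h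
  · exact absurd h hne
  · refine five_of k3_c5 k3_b5 (fun j hj => ?_) x h
    interval_cases j
    · exact k3_a5b0
    · exact k3_a5b1
    · exact k3_a5b2
    · exact k3_a5b3
    · exact k3_a5b4
  · exact of_prime _ Kl.of_pow Kl.of_conj (by norm_num) (by rw [RuOrder.card_H]; norm_num) ord7 k3_F x h
  · exact of_prime _ Kl.of_pow Kl.of_conj (by norm_num) (by rw [RuOrder.card_H]; norm_num) ord13 k3_x13 x h
  · exact of_prime _ Kl.of_pow Kl.of_conj (by norm_num) (by rw [RuOrder.card_H]; norm_num) ord29 k3_x29 x h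

theorem ncs_H_5 : NCs 5 RuOrder.H := by
  have := fin
  apply ncs_of_kl
  intro x hp hne
  have hd : orderOf x ∣ 145926144000 := by rw [← RuOrder.card_H]; exact orderOf_dvd_natCard x
  rcases prime_cases hp hd with h | h | h | h | h | h
  · exact two_of k5_T k5_SS x h
  · refine three_of k5_c3 k5_b3 (fun j hj => ?_) x h
    interval_cases j
    · exact k5_a3b0
    · exact k5_a3b1
    · exact k5_a3b2
  · exact absurd h hne
  · exact of_prime _ Kl.of_pow Kl.of_conj (by norm_num) (by rw [RuOrder.card_H]; norm_num) ord7 k5_F x h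
  · exact of_prime _ Kl.of_pow Kl.of_conj (by norm_num) (by rw [RuOrder.card_H]; norm_num) ord13 k5_x13 x h
  · exact of_prime _ Kl.of_pow Kl.of_conj (by norm_num) (by rw [RuOrder.card_H]; norm_num) ord29 k5_x29 x h

/-- **`Ru`** -/
theorem ncs_Ru {K : Type*} [Group K] [Finite K] (h : Spor.IsoRu K) : NCs 3 K ∧ NCs 5 K := by
  have := fin
  obtain ⟨e⟩ := h
  exact ⟨ncs_congr (e.trans Cfsg.Agent.RuLat.Main.equiv).symm ncs_H_3,
    ncs_congr (e.trans Cfsg.Agent.RuLat.Main.equiv).symm ncs_H_5⟩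

end Cfsg.Agent.H680.PiSpor.Ru
end

-- part: H69/PiSpor/MNodes
section
prune_inst 0x10000000000000
set_option linter.all false
open scoped Cfsg.Agent.FastGrp

/-!
# S4324, the Monster: dihedral groups in the group of the nodes (helper69)

The nodes `5 - 4 - 3 - 2 - 1 - 0 - 6 - 7 - 8 - 9` generate a symmetric group of degree 11. Involutions `vv` (of
`H820.OutNodes`: `uu vv` has order 7), `u5`, `u3` with `u5 vv` of order 5 and `u3 vv` of order 3; involutions `u11`, `v11` with
`u11 v11` of order 11.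
-/

set_option autoImplicit false
set_option maxRecDepth 100000

namespace Cfsg.Agent.H69.MNodes

open Cfsg.Agent.Bimonster Cfsg.Agent.Bimonster.Tits
open Cfsg.Agent.H820.OutNodes (uu vv vv_sq)

variable {G : Type*} [Group G] {t : ℕ → G}

def u11 (t : ℕ → G) : G := t 5 * t 3 * t 1 * t 6 * t 8

def v11 (t : ℕ → G) : G := t 4 * t 2 * t 0 * t 7 * t 9

def u5 (t : ℕ → G) : G := t 5 * t 3 * t 0

def u3 (t : ℕ → G) : G := t 5 * t 2 * t 0

theorem u11_sq (h : CoxRel 14 t) : u11 t * u11 t = 1 := by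
  have h1 := eq_of_run h.valid (ms := [1, 4, 7, 10, 12, 1, 4, 7, 9, 1, 4, 6, 1, 3, 0]) (n := 5) (w := [5, 3, 1, 6, 8, 5, 3, 1, 6, 8]) (by decide +kernel)
  rw [one_pow] at h1
  rw [← h1]
  simp only [ev_cons, ev_nil, mul_one, u11, mul_assoc]

theorem v11_sq (h : CoxRel 14 t) : v11 t * v11 t = 1 := by
  have h1 := eq_of_run h.valid (ms := [1, 4, 7, 10, 12, 1, 4, 7, 9, 1, 4, 6, 1, 3, 0]) (n := 5) (w := [4, 2, 0, 7, 9, 4, 2, 0, 7, 9]) (by decide +kernel)
  rw [one_pow] at h1
  rw [← h1]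
  simp only [ev_cons, ev_nil, mul_one, v11, mul_assoc]

theorem u5_sq (h : CoxRel 14 t) : u5 t * u5 t = 1 := by
  have h1 := eq_of_run h.valid (ms := [1, 4, 6, 1, 3, 0]) (n := 3) (w := [5, 3, 0, 5, 3, 0]) (by decide +kernel)
  rw [one_pow] at h1
  rw [← h1]
  simp only [ev_cons, ev_nil, mul_one, u5, mul_assoc]

theorem u3_sq (h : CoxRel 14 t) : u3 t * u3 t = 1 := by
  have h1 := eq_of_run h.valid (ms := [1, 4, 6, 1, 3, 0]) (n := 3) (w := [5, 2, 0, 5, 2, 0]) (by decide +kernel)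
  rw [one_pow] at h1
  rw [← h1]
  simp only [ev_cons, ev_nil, mul_one, u3, mul_assoc]

def cert11 : List ℕ :=
  [136, 139, 142, 145, 121, 124, 127, 130, 133, 136, 139, 142, 146, 121, 124, 127, 109, 112, 115, 97, 100, 103, 82, 85,
   88, 91, 70, 73, 76, 55, 58, 61, 64, 43, 46, 49, 28, 31, 34, 37, 40, 43, 46, 50, 55, 58, 61, 65, 70, 73, 77, 82, 85,
   88, 92, 97, 100, 104, 109, 112, 116, 121, 124, 128, 133, 136, 139, 100, 103, 106, 109, 112, 115, 118, 121, 88, 91,
   94, 97, 100, 103, 106, 73, 76, 79, 82, 85, 88, 91, 61, 64, 67, 70, 73, 76, 79, 46, 49, 52, 55, 58, 61, 64, 37, 40,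
   43, 46, 49, 52, 25, 28, 31, 34, 37, 13, 16, 19, 22, 25, 28, 31, 34, 38, 43, 46, 49, 53, 58, 61, 65, 70, 73, 76, 80,
   85, 88, 92, 97, 100, 103, 107, 112, 115, 118, 122, 127, 130, 133, 136, 140, 145, 149, 154, 157, 160, 162, 127, 130,
   133, 124, 127, 130, 134, 139, 142, 145, 121, 124, 127, 130, 134, 139, 76, 79, 82, 85, 88, 91, 94, 97, 100, 103, 106,
   109, 112, 115, 118, 121, 124, 127, 130, 134, 140, 146, 109, 112, 94, 97, 100, 103, 82, 85, 88, 70, 73, 76, 58, 61,
   64, 43, 46, 49, 52, 55, 58, 61, 65, 70, 73, 77, 82, 85, 89, 94, 97, 100, 104, 109, 113, 118, 121, 100, 103, 106, 85,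
   88, 91, 94, 73, 76, 79, 61, 64, 67, 52, 55, 40, 43, 46, 49, 52, 56, 61, 64, 68, 73, 76, 80, 85, 88, 91, 95, 100, 103,
   107, 112, 115, 118, 122, 127, 130, 133, 136, 139, 91, 94, 97, 100, 76, 79, 82, 85, 64, 67, 70, 52, 55, 58, 46, 37,
   40, 43, 47, 52, 55, 59, 64, 67, 71, 76, 79, 82, 86, 91, 94, 97, 101, 106, 109, 112, 115, 118, 122, 127, 130, 43, 46,
   49, 52, 55, 58, 61, 64, 67, 70, 73, 76, 79, 82, 85, 88, 91, 94, 40, 43, 46, 49, 52, 55, 58, 61, 64, 67, 70, 73, 76,
   34, 37, 40, 43, 46, 49, 52, 55, 58, 28, 31, 34, 37, 40, 43, 19, 22, 25, 28, 10, 13, 16, 19, 22, 25, 29, 34, 37, 40,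
   44, 49, 52, 55, 59, 64, 67, 70, 73, 77, 82, 85, 88, 91, 95, 100, 103, 106, 109, 112, 115, 118, 122, 127, 131, 136,
   140, 145, 149, 154, 157, 159, 106, 109, 103, 106, 110, 115, 118, 121, 124, 127, 130, 133, 100, 103, 106, 110, 115,
   118, 121, 97, 100, 103, 106, 110, 115, 118, 122, 127, 130, 134, 139, 142, 145, 94, 97, 100, 103, 106, 110, 115, 118,
   122, 127, 130, 134, 139, 25, 28, 31, 34, 37, 40, 43, 46, 49, 52, 55, 58, 61, 64, 67, 70, 73, 76, 79, 82, 85, 88, 91,
   94, 97, 100, 103, 106, 110, 115, 118, 122, 127, 130, 134, 140, 146, 85, 67, 70, 73, 76, 79, 52, 55, 58, 61, 37, 40,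
   43, 46, 49, 52, 55, 58, 62, 67, 70, 73, 76, 80, 86, 91, 76, 79, 58, 61, 64, 67, 70, 46, 49, 52, 34, 37, 40, 43, 46,
   49, 53, 58, 61, 64, 67, 71, 76, 80, 85, 88, 92, 97, 100, 103, 106, 109, 112, 115, 118, 121, 67, 70, 73, 49, 52, 55,
   58, 61, 40, 43, 31, 34, 37, 40, 44, 49, 52, 55, 58, 62, 67, 70, 74, 79, 82, 85, 88, 92, 97, 100, 103, 106, 58, 61,
   64, 67, 40, 43, 46, 49, 52, 34, 28, 31, 35, 40, 43, 46, 49, 53, 58, 61, 64, 68, 73, 76, 79, 82, 85, 88, 92, 97, 100,
   103, 107, 112, 115, 118, 122, 127, 130, 133, 136, 139, 49, 52, 55, 58, 61, 31, 34, 37, 40, 43, 26, 31, 34, 37, 40,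
   44, 49, 52, 55, 58, 62, 67, 70, 73, 76, 79, 82, 85, 88, 92, 97, 100, 103, 107, 112, 115, 118, 122, 127, 130, 22, 25,
   28, 31, 34, 37, 40, 43, 46, 49, 52, 55, 19, 22, 25, 28, 31, 34, 13, 7, 10, 14, 19, 22, 25, 28, 31, 35, 40, 43, 46,
   49, 52, 56, 61, 64, 67, 70, 73, 76, 79, 82, 85, 88, 92, 97, 100, 103, 107, 112, 115, 118, 122, 127, 131, 136, 140,
   145, 149, 154, 156, 73, 70, 74, 79, 82, 85, 88, 91, 94, 97, 100, 103, 106, 109, 67, 70, 74, 79, 82, 85, 88, 91, 64,
   67, 70, 74, 79, 82, 85, 88, 92, 97, 100, 103, 106, 110, 115, 118, 121, 124, 127, 130, 133, 61, 64, 67, 70, 74, 79,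
   82, 85, 88, 92, 97, 100, 103, 106, 110, 115, 118, 121, 58, 61, 64, 67, 70, 74, 79, 82, 85, 88, 92, 97, 100, 103, 106,
   110, 115, 118, 122, 127, 130, 134, 139, 142, 145, 55, 58, 61, 64, 67, 70, 74, 79, 82, 85, 88, 92, 97, 100, 103, 106,
   110, 115, 118, 122, 127, 130, 134, 139, 10, 13, 16, 19, 22, 25, 28, 31, 34, 37, 40, 43, 46, 49, 52, 55, 58, 61, 64,
   67, 70, 74, 79, 82, 85, 88, 92, 97, 100, 103, 106, 110, 115, 118, 122, 127, 130, 134, 140, 146, 28, 31, 34, 37, 40,
   43, 47, 25, 28, 31, 34, 37, 41, 46, 50, 55, 58, 61, 64, 67, 70, 73, 76, 79, 82, 85, 88, 91, 22, 25, 28, 31, 35, 40,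
   43, 46, 50, 55, 58, 61, 64, 67, 70, 19, 22, 25, 29, 34, 37, 40, 43, 46, 50, 55, 58, 61, 64, 67, 71, 76, 79, 82, 85,
   88, 92, 97, 100, 103, 106, 109, 112, 115, 118, 121, 16, 19, 23, 28, 31, 34, 37, 40, 43, 46, 50, 55, 58, 61, 64, 67,
   71, 76, 79, 82, 85, 88, 92, 97, 100, 103, 106, 13, 17, 22, 25, 28, 31, 34, 37, 40, 43, 46, 50, 55, 58, 61, 64, 67,
   71, 76, 79, 82, 85, 88, 92, 97, 100, 103, 107, 112, 115, 118, 122, 127, 130, 133, 136, 139, 11, 16, 19, 22, 25, 28,
   31, 34, 37, 40, 43, 46, 50, 55, 58, 61, 64, 67, 71, 76, 79, 82, 85, 88, 92, 97, 100, 103, 107, 112, 115, 118, 122,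
   127, 130, 5, 10, 13, 16, 19, 22, 25, 28, 31, 34, 37, 40, 43, 46, 50, 55, 58, 61, 64, 67, 71, 76, 79, 82, 85, 88, 92,
   97, 100, 103, 107, 112, 115, 118, 122, 127, 131, 136, 140, 145, 149, 153, 26, 31, 34, 37, 40, 43, 46, 49, 52, 55, 58,
   61, 64, 67, 70, 73, 22, 26, 31, 34, 37, 40, 43, 46, 49, 19, 22, 26, 31, 34, 37, 40, 43, 46, 50, 55, 58, 61, 64, 67,
   70, 74, 79, 82, 85, 88, 91, 94, 97, 100, 103, 106, 109, 16, 19, 22, 26, 31, 34, 37, 40, 43, 46, 50, 55, 58, 61, 64,
   67, 70, 74, 79, 82, 85, 88, 91, 13, 16, 19, 22, 26, 31, 34, 37, 40, 43, 46, 50, 55, 58, 61, 64, 67, 70, 74, 79, 82,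
   85, 88, 92, 97, 100, 103, 106, 110, 115, 118, 121, 124, 127, 130, 133, 10, 13, 16, 19, 22, 26, 31, 34, 37, 40, 43,
   46, 50, 55, 58, 61, 64, 67, 70, 74, 79, 82, 85, 88, 92, 97, 100, 103, 106, 110, 115, 118, 121, 7, 10, 13, 16, 19, 22,
   26, 31, 34, 37, 40, 43, 46, 50, 55, 58, 61, 64, 67, 70, 74, 79, 82, 85, 88, 92, 97, 100, 103, 106, 110, 115, 118,
   122, 127, 130, 134, 139, 142, 145, 4, 7, 10, 13, 16, 19, 22, 26, 31, 34, 37, 40, 43, 46, 50, 55, 58, 61, 64, 67, 70,
   74, 79, 82, 85, 88, 92, 97, 100, 103, 106, 110, 115, 118, 122, 127, 130, 134, 139, 1, 4, 7, 10, 13, 16, 19, 22, 26,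
   31, 34, 37, 40, 43, 46, 50, 55, 58, 61, 64, 67, 70, 74, 79, 82, 85, 88, 92, 97, 100, 103, 106, 110, 115, 118, 122,
   127, 130, 134, 140, 146, 150, 28, 31, 34, 37, 40, 43, 46, 25, 28, 31, 34, 37, 40, 22, 25, 28, 31, 34, 19, 22, 25, 28,
   16, 19, 22, 13, 16, 10, 5, 11, 17, 23, 29, 35, 41, 47, 52, 55, 58, 61, 64, 67, 70, 73, 76, 79, 82, 85, 88, 91, 94,
   97, 100, 103, 106, 109, 112, 115, 118, 121, 124, 127, 130, 133, 136, 139, 142, 145, 147, 73, 76, 79, 82, 85, 70, 73,
   76, 79, 67, 70, 73, 64, 67, 61, 56, 62, 68, 74, 80, 86, 91, 94, 97, 100, 103, 106, 109, 112, 115, 118, 121, 124, 127,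
   130, 133, 136, 139, 142, 144, 106, 109, 112, 103, 106, 100, 95, 101, 107, 113, 118, 121, 124, 127, 130, 133, 136,
   139, 141, 127, 122, 128, 133, 136, 138, 135, 49, 52, 55, 58, 61, 64, 67, 70, 73, 76, 79, 43, 46, 49, 52, 55, 58, 61,
   64, 67, 70, 37, 40, 43, 46, 49, 52, 55, 58, 61, 31, 34, 37, 40, 43, 46, 49, 52, 25, 28, 31, 34, 37, 40, 43, 19, 22,
   25, 28, 31, 34, 13, 16, 19, 22, 25, 28, 31, 35, 40, 44, 49, 53, 58, 62, 67, 71, 76, 80, 85, 88, 91, 94, 97, 100, 103,
   106, 109, 112, 115, 118, 121, 124, 127, 130, 132, 85, 88, 91, 94, 97, 100, 103, 76, 79, 82, 85, 88, 91, 94, 67, 70,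
   73, 76, 79, 82, 85, 58, 61, 64, 67, 70, 73, 76, 49, 52, 55, 58, 61, 64, 67, 70, 73, 77, 82, 86, 91, 95, 100, 104,
   109, 112, 115, 118, 121, 124, 127, 129, 109, 112, 115, 100, 103, 106, 91, 94, 97, 100, 103, 107, 112, 116, 121, 124,
   126, 121, 123, 120, 28, 31, 34, 37, 40, 43, 46, 49, 52, 55, 58, 61, 25, 28, 31, 34, 37, 40, 43, 46, 49, 52, 22, 25,
   28, 31, 34, 37, 40, 43, 19, 22, 25, 28, 31, 34, 16, 19, 22, 25, 13, 10, 14, 19, 22, 26, 31, 35, 40, 44, 49, 53, 58,
   62, 67, 70, 73, 76, 79, 82, 85, 88, 91, 94, 97, 100, 103, 106, 109, 112, 115, 117, 67, 70, 73, 76, 79, 82, 85, 88,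
   58, 61, 64, 67, 70, 73, 76, 79, 49, 52, 55, 58, 61, 64, 67, 70, 40, 43, 46, 49, 52, 55, 58, 31, 34, 37, 40, 43, 46,
   49, 52, 55, 59, 64, 67, 71, 76, 80, 85, 89, 94, 97, 100, 103, 106, 109, 112, 114, 94, 97, 100, 103, 85, 88, 91, 76,
   79, 82, 85, 88, 92, 97, 100, 104, 109, 111, 108, 100, 103, 105, 52, 55, 58, 61, 64, 67, 70, 73, 76, 46, 49, 52, 55,
   58, 61, 64, 67, 40, 43, 46, 49, 52, 55, 58, 34, 37, 40, 43, 28, 31, 34, 37, 40, 44, 49, 52, 55, 59, 64, 68, 73, 77,
   82, 85, 88, 91, 94, 97, 100, 102, 82, 85, 88, 91, 73, 76, 79, 64, 67, 70, 73, 76, 80, 85, 88, 92, 97, 99, 96, 88, 91,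
   93, 76, 79, 82, 85, 88, 90, 37, 40, 43, 46, 49, 52, 55, 58, 61, 64, 34, 37, 40, 43, 46, 49, 52, 55, 31, 34, 37, 40,
   43, 46, 28, 25, 29, 34, 37, 40, 43, 47, 52, 56, 61, 65, 70, 73, 76, 79, 82, 85, 87, 70, 73, 76, 61, 64, 52, 55, 58,
   61, 65, 70, 73, 77, 82, 84, 81, 73, 76, 78, 43, 46, 49, 52, 55, 58, 61, 64, 67, 70, 73, 75, 58, 61, 64, 52, 46, 49,
   53, 58, 61, 65, 70, 72, 69, 61, 64, 66, 40, 43, 46, 49, 52, 55, 58, 61, 63, 25, 28, 31, 34, 37, 40, 43, 46, 49, 52,
   55, 58, 60, 43, 46, 49, 38, 43, 46, 50, 55, 57, 54, 46, 49, 51, 34, 37, 40, 43, 46, 48, 22, 25, 28, 31, 34, 37, 40,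
   43, 45, 42, 37, 39, 28, 31, 34, 36, 19, 22, 25, 28, 31, 33, 10, 13, 16, 19, 22, 25, 28, 30, 27, 24, 19, 21, 13, 16,
   18, 7, 10, 13, 15, 12, 9, 6, 3, 0]

private noncomputable def _root_.Cfsg.Agent.LsF.f984a86_0 : {f // @Cfsg.Agent.Bimonster.Tits.head = f} := ⟨_, by first | (delta Cfsg.Agent.Bimonster.Tits.head; rewrite [Cfsg.Agent.LsF.and_eq, Cfsg.Agent.LsF.dBoolEq_eq, Cfsg.Agent.LsF.ite_eq]; (try delta Cfsg.Agent.Bimonster.Tits.head.match_1); (try delta Cfsg.Agent.Bimonster.Tits.head._sparseCasesOn_1); (try rewrite [Cfsg.Agent.LsF.instDecEq_eq, Cfsg.Agent.LsF.dite_eq]); exact rfl) | exact rfl⟩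
private noncomputable def _root_.Cfsg.Agent.LsF.f984a86_1 : {f // @Cfsg.Agent.Bimonster.Tits.step = f} := ⟨_, by first | (delta Cfsg.Agent.Bimonster.Tits.step Cfsg.Agent.Bimonster.Tits.step._f Nat.brecOn.go Nat.brecOn; rewrite [Cfsg.Agent.LsF.f984a86_0.2]; (try delta Cfsg.Agent.Bimonster.Tits.step.match_3); (try delta Cfsg.Agent.Bimonster.Tits.step.match_1); (try delta Nat.casesOn List.casesOn Option.casesOn); first | dsimp -zeta only | exact rfl) | exact rfl⟩
private noncomputable def _root_.Cfsg.Agent.LsF.f984a86_2 : {f // @Cfsg.Agent.Bimonster.Tits.run = f} := ⟨_, by first | (delta Cfsg.Agent.Bimonster.Tits.run List.brecOn List.brecOn.go Cfsg.Agent.Bimonster.Tits.run._f; rewrite [Cfsg.Agent.LsF.f984a86_1.2, Cfsg.Agent.LsF.nadd_pat, Cfsg.Agent.LsF.ndiv_pat, Cfsg.Agent.LsF.nmod_pat, Cfsg.Agent.LsF.instDecEq_eq, Cfsg.Agent.LsF.ite_eq]; (try delta Cfsg.Agent.Bimonster.Tits.run.match_1); (try delta Cfsg.Agent.Bimonster.Tits.step.match_1); (try delta List.casesOn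 Option.casesOn); first | dsimp -zeta only | exact rfl) | exact rfl⟩
private noncomputable def _root_.Cfsg.Agent.LsF.f984a86_3 : {f // @Cfsg.Agent.Bimonster.par = f} := ⟨_, by first | (delta Cfsg.Agent.Bimonster.par; rewrite [Cfsg.Agent.LsF.nmul_pat, Cfsg.Agent.LsF.nmod_pat, Cfsg.Agent.LsF.nshr_pat]; exact rfl) | exact rfl⟩
private noncomputable def _root_.Cfsg.Agent.LsF.f984a86_4 : {f // @Cfsg.Agent.Bimonster.adjB = f} := ⟨_, by first | (delta Cfsg.Agent.Bimonster.adjB; rewrite [Cfsg.Agent.LsF.f984a86_3.2, Cfsg.Agent.LsF.or_eq]; exact rfl) | exact rfl⟩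
private noncomputable def _root_.Cfsg.Agent.LsF.f984a86_5 : {f // @Cfsg.Agent.Bimonster.rules = f} := ⟨_, by first | (delta Cfsg.Agent.Bimonster.rules; rewrite [Cfsg.Agent.LsF.f984a86_4.2, Cfsg.Agent.LsF.and_eq, Cfsg.Agent.LsF.not_eq]; exact rfl) | exact rfl⟩
private noncomputable def _root_.Cfsg.Agent.LsF.f984a86_6 : {f // @Cfsg.Agent.Bimonster.Tits.rep = f} := ⟨_, by first | (delta Cfsg.Agent.Bimonster.Tits.rep Nat.brecOn.go Nat.brecOn Cfsg.Agent.Bimonster.Tits.rep._f; rewrite [Cfsg.Agent.LsF.lappend_pat]; (try delta Cfsg.Agent.Bimonster.Tits.rep.match_1); (try delta Nat.casesOn); first | dsimp -zeta only | exact rfl) | exact rfl⟩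
theorem pow11 (h : CoxRel 14 t) : (u11 t * v11 t) ^ 11 = 1 := by
  have h1 := eq_of_run h.valid (ms := cert11) (n := 55) (w := rep 11 [5, 3, 1, 6, 8, 4, 2, 0, 7, 9]) (by (refine of_decide_eq_true ?_; (try (rewrite [Cfsg.Agent.LsF.f984a86_2.2, Cfsg.Agent.LsF.f984a86_5.2, Cfsg.Agent.LsF.f984a86_6.2, Cfsg.Agent.LsF.dProdEq_eq, Cfsg.Agent.LsF.instDecEq_eq, Cfsg.Agent.LsF.dListEq_eq, Cfsg.Agent.LsF.dOptEq_eq, Cfsg.Agent.LsF.decide_eq])); decide +kernel))
  rw [ev_rep, one_pow] at h1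
  rw [← h1]
  simp only [ev_cons, ev_nil, mul_one, u11, v11, mul_assoc]

def cert5 : List ℕ :=
  [7, 10, 12, 19, 22, 24, 19, 13, 16, 20, 11, 5, 10, 14, 19, 23, 28, 30, 8, 13, 16, 19, 4, 8, 13, 1, 4, 8, 14, 20, 25,
   27, 24, 10, 5, 11, 16, 19, 21, 18, 13, 16, 18, 13, 15, 12, 9, 6, 4, 6, 1, 3, 0]

theorem pow5 (h : CoxRel 14 t) : (u5 t * vv t) ^ 5 = 1 := by
  have h1 := eq_of_run h.valid (ms := cert5) (n := 15) (w := rep 5 [5, 3, 0, 4, 2, 0]) (by decide +kernel)
  rw [ev_rep, one_pow] at h1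
  rw [← h1]
  simp only [ev_cons, ev_nil, mul_one, u5, vv, mul_assoc]

theorem pow3 (h : CoxRel 14 t) : (u3 t * vv t) ^ 3 = 1 := by
  have h1 := eq_of_run h.valid (ms := [4, 7, 9, 4, 6, 2, 7, 10, 12, 7, 9, 6, 3, 1, 4, 6, 1, 3, 0]) (n := 9) (w := rep 3 [5, 2, 0, 4, 2, 0]) (by decide +kernel)
  rw [ev_rep, one_pow] at h1
  rw [← h1]
  simp only [ev_cons, ev_nil, mul_one, u3, vv, mul_assoc]

theorem inv_of_sq {a : G} (h : a * a = 1) : a⁻¹ = a := inv_eq_of_mul_eq_one_left h

/-- two adjacent nodes commute only if all nodes are equal -/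
theorem eq_of_comm (h : CoxRel 14 t) {i j : ℕ} (hi : i < 14) (hj : j < 14) (ha : adjB i j = true)
    (hc : Commute (t i) (t j)) : t i = t j := by
  have b := h.br i hi j hj ha
  rw [hc.eq, mul_assoc, h.sq i hi, mul_one, ← hc.eq, mul_assoc, h.sq j hj, mul_one] at b
  exact b.symm

theorem cm (h : CoxRel 14 t) {i j : ℕ} (hi : i < 14) (hj : j < 14) (ha : adjB i j = false) : Commute (t i) (t j) :=
  h.cm i hi j hj ha

/-- `t 3 ≠ t 2` -/
theorem ne32 (h : CoxRel 14 t) (hne : t 0 ≠ t 1) : t 3 ≠ t 2 := by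
  intro e
  have e1 : t 2 = t 1 := MonsterP.NodesNe.step h (i := 3) (by norm_num) (by norm_num) (by norm_num) (by decide)
    (by decide) e
  exact hne (MonsterP.NodesNe.step h (i := 2) (by norm_num) (by norm_num) (by norm_num) (by decide) (by decide) e1).symm

/-- `t 5 ≠ t 4` -/
theorem ne54 (h : CoxRel 14 t) (hne : t 0 ≠ t 1) : t 5 ≠ t 4 := by
  intro e
  have e1 : t 4 = t 3 := MonsterP.NodesNe.step h (i := 5) (by norm_num) (by norm_num) (by norm_num) (by decide)
    (by decide) e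
  have e2 : t 3 = t 2 := MonsterP.NodesNe.step h (i := 4) (by norm_num) (by norm_num) (by norm_num) (by decide)
    (by decide) e1
  exact ne32 h hne e2

/-- `t 8 ≠ t 9` -/
theorem ne89 (h : CoxRel 14 t) (hne : t 0 ≠ t 1) : t 8 ≠ t 9 := by
  intro e
  have e1 : t 8 = t 7 := MonsterP.NodesNe.step h (i := 9) (by norm_num) (by norm_num) (by norm_num) (by decide)
    (by decide) e.symm
  have e2 : t 7 = t 6 := MonsterP.NodesNe.step h (i := 8) (by norm_num) (by norm_num) (by norm_num) (by decide)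
    (by decide) e1
  have e3 : t 6 = t 0 := MonsterP.NodesNe.step h (i := 7) (by norm_num) (by norm_num) (by norm_num) (by decide)
    (by decide) e2
  exact hne (MonsterP.NodesNe.step h (i := 6) (by norm_num) (by norm_num) (by norm_num) (by decide) (by decide) e3)

theorem ne_eleven (h : CoxRel 14 t) (hne : t 0 ≠ t 1) : u11 t * v11 t ≠ 1 := by
  intro e
  have e1 : u11 t = v11 t := by
    rw [mul_eq_one_iff_eq_inv] at e
    rw [e, inv_of_sq (v11_sq h)]
  have c1 : Commute (t 9) (u11 t) := by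
    rw [e1]
    exact ((((cm h (by norm_num) (by norm_num) (by decide)).mul_right (cm h (by norm_num) (by norm_num)
      (by decide))).mul_right (cm h (by norm_num) (by norm_num) (by decide))).mul_right
      (cm h (by norm_num) (by norm_num) (by decide))).mul_right (Commute.refl _)
  have c2 : Commute (t 9) (t 5 * t 3 * t 1 * t 6) :=
    (((cm h (by norm_num) (by norm_num) (by decide)).mul_right (cm h (by norm_num) (by norm_num)
      (by decide))).mul_right (cm h (by norm_num) (by norm_num) (by decide))).mul_right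
      (cm h (by norm_num) (by norm_num) (by decide))
  have c3 : Commute (t 9) (t 8) := by
    have h1 : t 8 = (t 5 * t 3 * t 1 * t 6)⁻¹ * u11 t := by rw [u11]; group
    rw [h1]
    exact c2.inv_right.mul_right c1
  exact ne89 h hne (eq_of_comm h (by norm_num) (by norm_num) (by decide) c3.symm)

theorem ne_five (h : CoxRel 14 t) (hne : t 0 ≠ t 1) : u5 t * vv t ≠ 1 := by
  intro e
  have e1 : u5 t = vv t := by
    rw [mul_eq_one_iff_eq_inv] at e
    rw [e, inv_of_sq (vv_sq h)]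
  have c1 : Commute (t 2) (u5 t) := by
    rw [e1]
    exact ((cm h (by norm_num) (by norm_num) (by decide)).mul_right (Commute.refl _)).mul_right
      (cm h (by norm_num) (by norm_num) (by decide))
  have c3 : Commute (t 2) (t 3) := by
    have h1 : t 3 = (t 5)⁻¹ * u5 t * (t 0)⁻¹ := by rw [u5]; group
    rw [h1]
    exact ((cm h (by norm_num) (by norm_num) (by decide)).inv_right.mul_right c1).mul_right
      (cm h (by norm_num) (by norm_num) (by decide)).inv_right
  exact ne32 h hne (eq_of_comm h (by norm_num) (by norm_num) (by decide) c3.symm)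

theorem ne_three (h : CoxRel 14 t) (hne : t 0 ≠ t 1) : u3 t * vv t ≠ 1 := by
  intro e
  have e1 : u3 t = vv t := by
    rw [mul_eq_one_iff_eq_inv] at e
    rw [e, inv_of_sq (vv_sq h)]
  apply ne54 h hne
  rw [u3, vv, mul_assoc, mul_assoc] at e1
  exact mul_right_cancel e1

theorem ord11 (h : CoxRel 14 t) (hne : t 0 ≠ t 1) : orderOf (u11 t * v11 t) = 11 := by
  have : Fact (Nat.Prime 11) := ⟨by norm_num⟩
  exact orderOf_eq_prime (pow11 h) (ne_eleven h hne)

theorem ord5 (h : CoxRel 14 t) (hne : t 0 ≠ t 1) : orderOf (u5 t * vv t) = 5 := by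
  have : Fact (Nat.Prime 5) := ⟨by norm_num⟩
  exact orderOf_eq_prime (pow5 h) (ne_five h hne)

theorem ord3 (h : CoxRel 14 t) (hne : t 0 ≠ t 1) : orderOf (u3 t * vv t) = 3 := by
  have : Fact (Nat.Prime 3) := ⟨by norm_num⟩
  exact orderOf_eq_prime (pow3 h) (ne_three h hne)

end Cfsg.Agent.H69.MNodes

private theorem dce_3c15d8e2731c : _root_.True := by
  try have : _root_.True := by simp only [_root_.Cfsg.Agent.H69.MNodes.u5.eq_1]
  try have : _root_.True := by simp only [_root_.Cfsg.Agent.H69.MNodes.u3.eq_1]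
  try have : _root_.True := by simp only [_root_.Cfsg.Agent.H69.MNodes.u11.eq_1]
  try have : _root_.True := by simp only [_root_.Cfsg.Agent.H69.MNodes.v11.eq_1]
  exact _root_.True.intro
end

-- part: H69/PiSpor/MReal
section
set_option linter.all false
open scoped Cfsg.Agent.FastGrp

/-!
# S4324, the Monster: two conjugates of `z` whose product has order divisible by `s` (helper69)

`zp hs : ∃ g h, s ∣ orderOf (g z g⁻¹ * (h z h⁻¹))` for `s = 3, 5, 7, 11, 13` in the model of the Monster, `z` of class 2B.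
-/

set_option autoImplicit false
set_option maxRecDepth 100000

namespace Cfsg.Agent.H69.MReal

open Subgroup Cfsg

section general

variable {G : Type*} [Group G]

/-- two involutions whose product has odd order are conjugate -/
theorem conj_of_odd {a b : G} (ha : a * a = 1) (hb : b * b = 1) (ho : Odd (orderOf (a * b))) :
    ∃ g : G, g * a * g⁻¹ = b := by
  obtain ⟨m, hm⟩ := ho
  have hai : a⁻¹ = a := inv_eq_of_mul_eq_one_left ha
  have hbi : b⁻¹ = b := inv_eq_of_mul_eq_one_left hb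
  have h1 : ∀ n : ℕ, a * ((a * b) ^ n)⁻¹ = (a * b) ^ n * a := by
    intro n
    induction n with
    | zero => simp
    | succ n ih =>
      calc a * ((a * b) ^ (n + 1))⁻¹ = a * ((a * b) ^ n)⁻¹ * (b⁻¹ * a⁻¹) := by
            rw [pow_succ', mul_inv_rev, mul_inv_rev, mul_assoc]
        _ = (a * b) ^ n * a * (b * a) := by rw [ih, hai, hbi]
        _ = (a * b) ^ (n + 1) * a := by rw [pow_succ]; group
  refine ⟨(a * b) ^ m, ?_⟩
  have h2 : (a * b) ^ (2 * m) = b * a := by
    have h3 : (a * b) ^ (2 * m) * (a * b) = 1 := by rw [← pow_succ, ← hm, pow_orderOf_eq_one]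
    rw [eq_inv_of_mul_eq_one_left h3, mul_inv_rev, hai, hbi]
  calc (a * b) ^ m * a * ((a * b) ^ m)⁻¹ = (a * b) ^ m * (a * ((a * b) ^ m)⁻¹) := by group
    _ = (a * b) ^ m * (a * b) ^ m * a := by rw [h1, mul_assoc]
    _ = b * a * a := by rw [← pow_add, ← two_mul, h2]
    _ = b := by rw [mul_assoc, ha, mul_one]

end general

open Cfsg.Agent.MonsterX Cfsg.Agent.MonsterX.MainPack Cfsg.Agent.MonsterU
open Cfsg.Agent.MonsterP Cfsg.Agent.MonsterN
open Cfsg.Agent.H131.T5M13 (orderOf_conj')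

/-- the product of two conjugates of `z` has order divisible by `s` -/
def ZP (s : ℕ) : Prop := ∃ g h : ↥InstData.M.G, s ∣ orderOf (g * KDone.K.z * g⁻¹ * (h * KDone.K.z * h⁻¹))

theorem six_le (g g' : ↥InstData.M.G) : orderOf (g * tG KDone.mGroup KDone.mRep * g⁻¹ *
    (g' * tG KDone.mGroup KDone.mRep * g'⁻¹)) ≤ 6 := by
  have h1 : orderOf (tG KDone.mGroup KDone.mRep * ((g⁻¹ * g') * tG KDone.mGroup KDone.mRep * (g⁻¹ * g')⁻¹)) ≤ 6 :=
    six Instance.mGroup Instance.mRep Instance.mLat InstanceFinal.mOrbit Instance.mTrans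
      InstanceFinal.mExtra.order_le (g⁻¹ * g')
  have h2 := orderOf_conj' g (tG KDone.mGroup KDone.mRep * ((g⁻¹ * g') * tG KDone.mGroup KDone.mRep * (g⁻¹ * g')⁻¹))
  have h3 : g * (tG KDone.mGroup KDone.mRep * ((g⁻¹ * g') * tG KDone.mGroup KDone.mRep * (g⁻¹ * g')⁻¹)) * g⁻¹ =
      g * tG KDone.mGroup KDone.mRep * g⁻¹ * (g' * tG KDone.mGroup KDone.mRep * g'⁻¹) := by group
  rw [h3] at h2
  omega

theorem ne_one_of_order' {a b : ↥InstData.M.G} (ha : a * a = 1) {n : ℕ} (hn : orderOf (a * b) = n) (h2 : 2 < n) :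
    b ≠ 1 := by
  rintro rfl
  rw [mul_one] at hn
  have h1 : orderOf a ∣ 2 := orderOf_dvd_of_pow_eq_one (by rw [pow_two, ha])
  have := Nat.le_of_dvd (by norm_num) h1
  omega

/-- an involution `b` whose product with an involution has odd order `> 6` is conjugate to `z` -/
theorem isZ {a b : ↥InstData.M.G} (ha : a * a = 1) (hb : b * b = 1) {n : ℕ} (hn : orderOf (a * b) = n) (hodd : Odd n)
    (h6 : 6 < n) : ∃ g, g * KDone.K.z * g⁻¹ = b := by
  rcases MFive.Row.two b hb (ne_one_of_order' ha hn (by omega)) with h1 | ⟨g, hg⟩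
  · exact h1
  · exfalso
    obtain ⟨k, hk⟩ := conj_of_odd ha hb (by rw [hn]; exact hodd)
    have h2 := six_le (k⁻¹ * g) g
    have h3 : k⁻¹ * g * tG KDone.mGroup KDone.mRep * (k⁻¹ * g)⁻¹ = a := by
      calc k⁻¹ * g * tG KDone.mGroup KDone.mRep * (k⁻¹ * g)⁻¹ = k⁻¹ * (g * tG KDone.mGroup KDone.mRep * g⁻¹) * k := by
            group
        _ = k⁻¹ * (k * a * k⁻¹) * k := by rw [hg, hk]
        _ = a := by group
    rw [h3, hg, hn] at h2
    omega

/-- `b` conjugate to `z`, `a b` of odd order `s` -/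
theorem zp_of {a b : ↥InstData.M.G} (ha : a * a = 1) (hb : b * b = 1) (hz : ∃ g, g * KDone.K.z * g⁻¹ = b) {s : ℕ}
    (hs : orderOf (a * b) = s) (hodd : Odd s) : ZP s := by
  obtain ⟨g, hg⟩ := hz
  obtain ⟨k, hk⟩ := conj_of_odd ha hb (by rw [hs]; exact hodd)
  refine ⟨k⁻¹ * g, g, ?_⟩
  have h3 : k⁻¹ * g * KDone.K.z * (k⁻¹ * g)⁻¹ = a := by
    calc k⁻¹ * g * KDone.K.z * (k⁻¹ * g)⁻¹ = k⁻¹ * (g * KDone.K.z * g⁻¹) * k := by group
      _ = k⁻¹ * (k * a * k⁻¹) * k := by rw [hg, hk]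
      _ = a := by group
  rw [h3, hg, hs]

theorem cox : Bimonster.CoxRel 14 (NodesGrp.y LitFin.H) := (NodesGrp.prel LitFin.H).cox

theorem ne01 : NodesGrp.y LitFin.H 0 ≠ NodesGrp.y LitFin.H 1 := NodesNe.ne LitFin.H

theorem vv_z : ∃ g, g * KDone.K.z * g⁻¹ = H820.OutNodes.vv (NodesGrp.y LitFin.H) :=
  isZ (H820.OutNodes.uu_sq cox) (H820.OutNodes.vv_sq cox) (H820.OutNodes.orderOf_prod cox ne01) (by decide) (by norm_num)

theorem zp3 : ZP 3 := zp_of (MNodes.u3_sq cox) (H820.OutNodes.vv_sq cox) vv_z (MNodes.ord3 cox ne01) (by decide)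

theorem zp5 : ZP 5 := zp_of (MNodes.u5_sq cox) (H820.OutNodes.vv_sq cox) vv_z (MNodes.ord5 cox ne01) (by decide)

theorem zp7 : ZP 7 := zp_of (H820.OutNodes.uu_sq cox) (H820.OutNodes.vv_sq cox) vv_z
  (H820.OutNodes.orderOf_prod cox ne01) (by decide)

theorem zp11 : ZP 11 := zp_of (MNodes.u11_sq cox) (MNodes.v11_sq cox)
  (isZ (MNodes.u11_sq cox) (MNodes.v11_sq cox) (MNodes.ord11 cox ne01) (by decide) (by norm_num))
  (MNodes.ord11 cox ne01) (by decide)

/-- `s = 13`: `z` normalises but does not centralise a Sylow 13-subgroup -/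
theorem zp13 : ZP 13 := by
  have hfin := MFive.Row.finite_model
  have hp : Fact (Nat.Prime 13) := ⟨by norm_num⟩
  obtain ⟨x, z, t, Q, h⟩ := H131.T5M13.model_D
  obtain ⟨R, hR, -, -, hQR, hRc, -⟩ := h.hyp.exists_R
  have hzz : z * z = 1 := by rw [← pow_two, ← h.hyp.hz, pow_orderOf_eq_one]
  obtain ⟨r, hr, hzr⟩ : ∃ r ∈ R, z * r ≠ r * z := by
    by_contra hcon
    push Not at hcon
    apply h.hyp.cz
    have h1 : R ≤ centralizer ({z} : Set ↥InstData.M.G) := fun r hr => mem_centralizer_singleton_iff.2 (hcon r hr).symm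
    have h2 := card_dvd_of_le h1
    rw [hRc] at h2
    exact (pow_dvd_pow 13 (by norm_num)).trans h2
  -- the product of `z` and `r z r⁻¹`
  have hb : (r * z * r⁻¹) * (r * z * r⁻¹) = 1 := by
    calc (r * z * r⁻¹) * (r * z * r⁻¹) = r * (z * z) * r⁻¹ := by group
      _ = 1 := by rw [hzz]; group
  have hmem : z * (r * z * r⁻¹) ∈ R := by
    have h1 := hQR z h.hyp.zQ r hr
    have h2 : z * (r * z * r⁻¹) = (z * r * z⁻¹) * r⁻¹ := by
      rw [inv_eq_of_mul_eq_one_left hzz]; group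
    rw [h2]
    exact mul_mem h1 (inv_mem hr)
  have hne : z * (r * z * r⁻¹) ≠ 1 := by
    intro h1
    apply hzr
    have h2 : z = r * z * r⁻¹ := by
      rw [mul_eq_one_iff_eq_inv, mul_inv_rev, mul_inv_rev, inv_inv, inv_eq_of_mul_eq_one_left hzz, ← mul_assoc] at h1
      exact h1
    calc z * r = r * z * r⁻¹ * r := by rw [← h2]
      _ = r * z := by group
  obtain ⟨k, hk⟩ := IsPGroup.iff_orderOf.1 hR ⟨_, hmem⟩
  rw [Subgroup.orderOf_mk] at hk
  have hk0 : k ≠ 0 := by
    rintro rfl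
    rw [pow_zero, orderOf_eq_one_iff] at hk
    exact hne hk
  have hodd : Odd (13 ^ k) := Odd.pow (by decide)
  have hle : 13 ^ 1 ≤ 13 ^ k := Nat.pow_le_pow_right (by norm_num) (by omega)
  obtain ⟨g, h', hgh⟩ := zp_of hzz hb (isZ hzz hb hk hodd (by omega)) hk hodd
  exact ⟨g, h', (dvd_pow_self 13 hk0).trans hgh⟩

theorem zp {s : ℕ} (hs : s = 3 ∨ s = 5 ∨ s = 7 ∨ s = 11 ∨ s = 13) : ZP s := by
  rcases hs with rfl | rfl | rfl | rfl | rfl
  exacts [zp3, zp5, zp7, zp11, zp13]

end Cfsg.Agent.H69.MReal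
end

-- part: H69/PiSpor/MThree
section
set_option linter.all false
open scoped Cfsg.Agent.FastGrp

/-!
# S4324, the Monster: the elements of order 3 (helper69)

`exists_model` (helper96's argument, `H96/Wf/M.lean`, with the order of the quotient): a proper subgroup `D = C(x₀)` with a
homomorphism onto the Suzuki sporadic group, such that every element of order 3 has a conjugate in `D` outside the kernel.
-/

set_option autoImplicit false
set_option linter.style.haveILetI false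

namespace Cfsg.Agent.H69.MThree

open Subgroup Cfsg Cfsg.Agent.H749
open Cfsg.Agent.MonsterU Cfsg.Agent.LThree Cfsg.Agent.LThreeMB
open Cfsg.Agent.MonsterU.Ch
open Cfsg.Agent.MonsterU.Lam2 (L2 IsType)
open Cfsg.Agent.MonsterX.KSide Cfsg.Agent.MonsterX.KLift
open Cfsg.Spor (Co1)
open Cfsg.Agent.H459.Rad
open Cfsg.Agent.H345.IRowM
open Cfsg.Agent.BpSpor.MThree (Dat exists_hom ker_solvable)
open Cfsg.Agent.H96.Wf (CoThree.exists_pair)
open Cfsg.Agent.H96.Wf.M (exists_good)

universe u v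

section lift

variable {G : Type u} {V P W : Type*} [Group G] [AddCommGroup V] [Module ℚ V]
  [DistribMulAction G V] [SMulCommClass G ℚ V] [Group P] [AddCommGroup W] [Module ℚ W]
  {M : KS G V P W} {θ : leechLattice → P}

theorem exists_of_lift [Finite G] [IsSimpleGroup G] (hna : center G = ⊥) (L : Lift M θ) (hc : KChart.Cent M) (I : CoOne)
    (h0 : ClassOf 1) (ht : TrNe M.z (KChart.pi hc)) (hpair : HasPair M.z (KChart.pi hc))
    (hex : ∀ x : G, orderOf x = 3 → (∃ v : G, v * v = 1 ∧ v ≠ 1 ∧ v * x = x * v) →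
      ∃ g : G, (g * M.z * g⁻¹) * x = x * (g * M.z * g⁻¹))
    (hcard : 3 ^ 20 ∣ Nat.card G) (hcard' : ¬ 3 ^ 21 ∣ Nat.card G) :
    ∃ (D : Subgroup G) (X : Type) (_ : Group X) (F : D →* X), D ≠ ⊤ ∧ IsSimpleGroup X ∧
      Nat.card X = 448345497600 ∧ Function.Surjective F ∧
      ∀ x : G, orderOf x = 3 → ∃ (g : G) (hg : g * x * g⁻¹ ∈ D), F ⟨g * x * g⁻¹, hg⟩ ≠ 1 := by
  haveI : Fact (Nat.Prime 3) := ⟨Nat.prime_three⟩
  have h := KChart.chart L hc
  obtain ⟨x₀, hx₀, hfr₀, hidx⟩ := exists_x₀ h I h0 ht hpair hex hcard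
  have hx₀o : orderOf (x₀ : G) = 3 := by rw [Subgroup.orderOf_coe]; exact hx₀
  have hDat := Cfsg.Agent.BpSpor.MThree.dat_zero L hc ht hx₀ hfr₀ (I.suz _ (orderOf_pi h hx₀) hfr₀)
  have hX : IsSimpleGroup (XX (KChart.pi hc x₀)) := hDat.simple
  have hXc : Nat.card (XX (KChart.pi hc x₀)) = 448345497600 := hDat.card
  obtain ⟨N, F, hN, hNo, hsup, hNF, hFφ, hFs, hFk⟩ := exists_hom
    (fun K _ _ hK => Cfsg.Agent.S0205.result hK) hDat.ord hDat.iso hX (by rw [hXc]; decide) (toXX (KChart.pi hc) x₀)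
    hDat.surj (ker_solvable hDat.ker)
  have hne : centralizer ({(x₀ : G)} : Set G) ≠ ⊤ := by
    intro h1
    have h2 : (x₀ : G) ∈ center G := by
      rw [mem_center_iff]
      intro y
      exact mem_centralizer_singleton_iff.1 (h1 ▸ mem_top y)
    rw [hna, mem_bot] at h2
    rw [h2, orderOf_one] at hx₀o
    norm_num at hx₀o
  refine ⟨centralizer ({(x₀ : G)} : Set G), XX (KChart.pi hc x₀), inferInstance, F, hne, hX, hXc, hFs, ?_⟩
  intro x hx
  obtain ⟨g, hg⟩ := Cfsg.Agent.H533.T5.exists_conj_mem_of_index hidx hx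
  by_cases hF : F ⟨g * x * g⁻¹, hg⟩ = 1
  swap
  · exact ⟨g, hg, hF⟩
  have hx' : orderOf (g * x * g⁻¹) = 3 := by
    rw [← hx]
    exact orderOf_injective (MulAut.conj g).toMonoidHom (MulAut.conj g).injective x
  -- the element is in the solvable radical
  have hrad : (⟨g * x * g⁻¹, hg⟩ : ↥(centralizer ({(x₀ : G)} : Set G))) ∈
      solvableRadical ↥(centralizer ({(x₀ : G)} : Set G)) := by
    have h1 : F.ker ≤ solvableRadical ↥(centralizer ({(x₀ : G)} : Set G)) :=
      le_sSup ⟨inferInstance, hFk⟩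
    exact h1 hF
  obtain ⟨s, hs2, hs1, hsy⟩ := Cfsg.Agent.H345.MOrb.exists_inv hDat (Cfsg.Agent.BpSpor.BThree.not_nine h hx₀ hfr₀)
    (fun h1 => hcard' (h1.trans (card_subgroup_dvd_card _)))
    (x₀ := (⟨(x₀ : G), mem_centralizer_singleton_iff.2 rfl⟩ : ↥(centralizer ({(x₀ : G)} : Set G))))
    (by rw [Subgroup.orderOf_mk]; exact hx₀o)
    (fun d => Subtype.ext (mem_centralizer_singleton_iff.1 d.2))
    (y := ⟨g * x * g⁻¹, hg⟩) (Subtype.ext (by
      show (g * x * g⁻¹) ^ 3 = 1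
      rw [← hx', pow_orderOf_eq_one])) hrad
  obtain ⟨m, hm⟩ := hex _ hx' ⟨s, congrArg Subtype.val hs2, fun h1 => hs1 (Subtype.ext h1), congrArg Subtype.val hsy⟩
  -- a conjugate in `C(z)`
  set y : G := m⁻¹ * (g * x * g⁻¹) * m with hy
  have hyz : y * M.z = M.z * y := by
    calc y * M.z = m⁻¹ * ((g * x * g⁻¹) * (m * M.z * m⁻¹)) * m := by rw [hy]; group
      _ = m⁻¹ * ((m * M.z * m⁻¹) * (g * x * g⁻¹)) * m := by rw [hm]
      _ = M.z * y := by rw [hy]; group
  have hyo : orderOf y = 3 := by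
    rw [← hx', hy]
    have := orderOf_injective (MulAut.conj m⁻¹).toMonoidHom (MulAut.conj m⁻¹).injective (g * x * g⁻¹)
    rw [← this]
    congr 1
    show m⁻¹ * (g * x * g⁻¹) * m = m⁻¹ * (g * x * g⁻¹) * m⁻¹⁻¹
    rw [inv_inv]
  obtain ⟨n, k, hnk, hk⟩ := exists_good h h0 hx₀ hfr₀ (x := ⟨y, mem_centralizer_singleton_iff.2 hyz⟩)
    (by rw [Subgroup.orderOf_mk]; exact hyo)
  have hnk' : n * y * n⁻¹ = ((k : ↥(centralizer ({(x₀ : G)} : Set G))) : G) := hnk
  have e1 : (n * m⁻¹ * g) * x * (n * m⁻¹ * g)⁻¹ = ((k : ↥(centralizer ({(x₀ : G)} : Set G))) : G) := by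
    rw [← hnk', hy]; group
  refine ⟨n * m⁻¹ * g, by rw [e1]; exact (k : ↥(centralizer ({(x₀ : G)} : Set G))).2, ?_⟩
  have e2 : (⟨(n * m⁻¹ * g) * x * (n * m⁻¹ * g)⁻¹, by rw [e1]; exact (k : ↥(centralizer ({(x₀ : G)} : Set G))).2⟩ :
      ↥(centralizer ({(x₀ : G)} : Set G))) = k := Subtype.ext e1
  rw [e2, hFφ]
  exact hk

end lift

/-! ### The model -/

open Cfsg.Agent.MonsterX Cfsg.Agent.MonsterX.InstData Cfsg.Agent.MonsterX.MainPack
open Cfsg.Agent.MonsterP Cfsg.Agent.MonsterN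
open Cfsg.Agent.MonsterX.MainBasic Cfsg.Agent.MonsterX.MainSimple Cfsg.Agent.MonsterX.Model

theorem exists_model : ∃ (D : Subgroup ↥InstData.M.G) (X : Type) (_ : Group X) (F : D →* X), D ≠ ⊤ ∧ IsSimpleGroup X ∧
      Nat.card X = 448345497600 ∧ Function.Surjective F ∧
      ∀ x : ↥InstData.M.G, orderOf x = 3 → ∃ (g : ↥InstData.M.G) (hg : g * x * g⁻¹ ∈ D), F ⟨g * x * g⁻¹, hg⟩ ≠ 1 := by
  have := Row.finite_model
  have := Row.simple_model
  obtain ⟨A, B, F⟩ := LThreeM.SigRow.facts_model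
  refine exists_of_lift ?_ KDone.lft Row.cent CoOneFin.coOne LThreeCo1.Ranks.zero
    (KPair.trNe KDone.lft Row.cent (LThreeMBTr.traceNe KDone.lft LThreeMBTr.TensK.tens))
    (KPair.hasPair KDone.lft Row.cent Row.second COct.octPair) ?_ ?_ ?_
  · exact center_eq_bot (by rw [F.card]; norm_num)
  · rintro x hx ⟨v, hv, hv1, hc⟩
    exact LThreeM.FiRow.exists_z_of_comm (by rw [← hx, pow_orderOf_eq_one]) hv hv1 hc.symm
  · rw [F.card]
    norm_num
  · rw [F.card]
    norm_num

/-- **The elements of order 3 of the Monster.** -/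
theorem ni_model {s : ℕ} (hs : s.Prime) (hs3 : 3 ≠ s) (hd : s ∣ 448345497600) :
    H209.PiSpor.NI s 3 ↥InstData.M.G := by
  have := Row.finite_model
  obtain ⟨D, X, _, F, hD, hX, hXc, hF, hx⟩ := exists_model
  have hfX : Finite X := Nat.finite_of_card_ne_zero (by rw [hXc]; norm_num)
  refine H209.PiSpor.NI.of_forall hs Nat.prime_three hs3 fun g hg => ?_
  obtain ⟨a, ha, hFa⟩ := hx g hg
  exact ⟨a, D, hD, ha, H209.PiSpor.not_mem_coreIn_of_hom ha F hF
    (H216.Pi.core_eq_bot_of_simple hs (by rw [hXc]; exact hd)) hFa⟩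

end Cfsg.Agent.H69.MThree
end

-- part: H73/Pi/PolF4
section
prune_inst 0x16074440762020000008582b3003c56fe0005b2006b8801d9400b4006827f6205022f60b4a01b129a2aa205203d0048130801f0421000000a000000411d05a1802a52069348a000460009000084000000000000000000000000000000051004200000000
set_option linter.all false
open scoped Cfsg.Agent.FastGrp

/-!
# S4324: automorphisms of prime order of `F₄(2^n)` (helper73)

* `gen` : seven conjugates of the standard polarity generate a group containing the inner automorphisms;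
* `fieldInner_or_gen` : an automorphism of prime order of `F₄(F)`, `F` finite of characteristic two, is the product of an
  inner and a field automorphism, or seven of its conjugates generate a group containing the inner automorphisms.
-/

set_option autoImplicit false
set_option linter.unusedSectionVars false

namespace Cfsg.Agent.H73.Pi.PolF4

open Subgroup Cfsg Cfsg.Lie
open Cfsg.Agent.ChevalleyStructure.Elts Cfsg.Agent.ChevalleyStructure.TwF4.Rel
open Cfsg.Agent.ChevalleyStructure.TwF4.Tables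
open Cfsg.Agent.H79.SimpleGen Cfsg.Agent.H296.FFour Cfsg.Agent.H216.Pi
open Cfsg.Agent.BpExc.FamExt Cfsg.Agent.BpExc.FamField Cfsg.Agent.BpExc.FamUntw Cfsg.Agent.CpAut.RgdUntw

/-! ### The group generated by conjugates of an automorphism -/

section Abs

variable {K : Type*} [Group K]

/-- the elements of `K` whose inner automorphisms lie in the group generated by the conjugates -/
def SS {n : ℕ} (τ : MulAut K) (f : Fin n → K) : Subgroup K :=
  (Subgroup.closure (Set.range fun i => cj τ (f i))).comap (MulAut.conj : K →* MulAut K)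

theorem mul_mem_SS {n : ℕ} {τ : MulAut K} {f : Fin n → K} {i0 : Fin n} (h0 : f i0 = 1) (i : Fin n) :
    f i * (τ (f i))⁻¹ ∈ SS τ f := by
  show MulAut.conj (f i * (τ (f i))⁻¹) ∈ Subgroup.closure _
  have h1 : MulAut.conj (f i * (τ (f i))⁻¹) = cj τ (f i) * (cj τ (f i0))⁻¹ := by
    rw [h0]
    ext g
    simp only [cj, MulAut.mul_apply, MulAut.conj_apply, mul_assoc, _root_.map_mul, _root_.map_inv, _root_.MulAut.inv_apply, _root_.MulAut.conj_symm_apply, _root_.map_one, _root_.one_mul, _root_.inv_one, _root_.mul_one, _root_.MulEquiv.apply_symm_apply]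
  rw [h1]
  exact mul_mem (subset_closure ⟨i, rfl⟩) (inv_mem (subset_closure ⟨i0, rfl⟩))

theorem apply_mem_SS {n : ℕ} {τ : MulAut K} {f : Fin n → K} {i0 : Fin n} (h0 : f i0 = 1) {k : K} (hk : k ∈ SS τ f) :
    τ k ∈ SS τ f := by
  show MulAut.conj (τ k) ∈ Subgroup.closure _
  have h1 : MulAut.conj (τ k) = cj τ (f i0) * MulAut.conj k * (cj τ (f i0))⁻¹ := by
    rw [h0]
    ext g
    simp only [cj, MulAut.mul_apply, MulAut.conj_apply, mul_assoc, _root_.map_one, _root_.one_mul, _root_.inv_one, _root_.mul_one, _root_.MulAut.inv_apply, _root_.map_mul, _root_.MulEquiv.apply_symm_apply, _root_.map_inv]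
  rw [h1]
  have h2 : cj τ (f i0) ∈ Subgroup.closure (Set.range fun i => cj τ (f i)) := subset_closure ⟨i0, rfl⟩
  exact mul_mem (mul_mem h2 hk) (inv_mem h2)

end Abs

/-! ### Words -/

section Words

variable {F : Type} [Field F] [CharP F 2]

theorem X_eq (r : ℕ) (t : F) : (X r t : GL chevF4.Idx F) = xG hp4.inList r t := Units.ext rfl

/-- the product of a word in the group -/
def wS (w : List (ℕ × F)) : ↥(chevF4.group F) := (w.map fun p => xS hp4.inList p.1 p.2).prod

theorem coe_wS (w : List (ℕ × F)) : ((wS w : ↥(chevF4.group F)) : GL chevF4.Idx F) = W w := by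
  induction w with
  | nil => rfl
  | cons p w ih =>
    rw [W_cons, ← ih]
    show ((xS hp4.inList p.1 p.2 * wS w : ↥(chevF4.group F)) : GL chevF4.Idx F) = _
    rw [Subgroup.coe_mul, coe_xS, X_eq]

theorem wS_eq (w w' : List (ℕ × ℕ × ℕ)) (h : chkWord w w' = true) (t u : F) :
    wS (wordK t u w) = wS (wordK t u w') := by
  apply Subtype.ext
  rw [coe_wS, coe_wS]
  exact W_eq_of_chkWord w w' h t u

theorem wS_cons (t u : F) (r a b : ℕ) (w : List (ℕ × ℕ × ℕ)) : wS (wordK t u ((r, a, b) :: w)) =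
    xS hp4.inList r (t ^ a * u ^ b) * wS (wordK t u w) := rfl

theorem wS_nil' (t u : F) : wS (wordK t u ([] : List (ℕ × ℕ × ℕ))) = 1 := rfl

theorem y_inv (r : ℕ) (t : F) : (xS hp4.inList r t)⁻¹ = xS hp4.inList r t := by
  rw [xS_inv, CharTwo.neg_eq]

end Words

/-! ### Generation -/

section Gen

variable {F : Type} [Field F] [CharP F 2]

local notation "y" => xS (F := F) hp4.inList

theorem chk1 : chkWord [(24,0,0),(33,0,0),(23,0,0),(14,0,0),(24,0,0),(23,0,0),(14,0,0),(33,0,0),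
    (24,0,0),(33,0,0),(23,0,0),(14,0,0),(24,0,0),(23,0,0),(14,0,0),(33,0,0)] [(24,0,0),(23,0,0)] = true := by
  decide +kernel

theorem chk2 : (chkWord [(24,0,0),(23,0,0),(25,0,0),(27,0,0),(23,0,0),(24,0,0),(27,0,0),(25,0,0)] [(26,0,0)] &&
    chkWord [(24,0,0),(23,0,0),(26,0,0),(23,0,0),(24,0,0)] [(25,0,0)] &&
    chkWord [(24,0,0),(23,0,0),(22,0,0),(20,0,0),(23,0,0),(24,0,0),(20,0,0),(22,0,0)] [(21,0,0),(22,0,0)] &&
    chkWord [(24,0,0),(23,0,0),(21,0,0),(22,0,0),(23,0,0),(24,0,0)] [(22,0,0)]) = true := by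
  decide +kernel

theorem chk3 : (chkWord [(26,1,0),(22,0,0),(26,1,0),(22,0,0)] [(24,1,0)] &&
    chkWord [(26,1,0),(23,0,0),(26,1,0),(23,0,0)] [(25,1,0)] &&
    chkWord [(21,0,0),(25,0,0),(21,0,0),(25,0,0)] [(23,0,0)] &&
    chkWord [(24,1,0),(33,0,1),(25,0,0),(33,0,1),(24,1,0),(25,0,0)] [(26,1,0)] &&
    chkWord [(24,1,0),(25,0,1),(24,1,0),(25,0,1)] [(26,1,1)] &&
    chkWord [(26,1,1),(22,0,0),(26,1,1),(22,0,0)] [(24,1,1)] &&
    chkWord [(24,1,0),(21,0,0),(24,1,0),(21,0,0)] [(22,1,0)] &&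
    chkWord [(25,1,0),(21,0,0),(25,1,0),(21,0,0)] [(23,1,0)]) = true := by
  decide +kernel

variable {S : Subgroup ↥(chevF4.group F)}

/-- the parts of `chk3` as identities -/
theorem rels (t u : F) :
    y 26 t * (y 22 1 * (y 26 t * y 22 1)) = y 24 t ∧
    y 26 t * (y 23 1 * (y 26 t * y 23 1)) = y 25 t ∧
    y 21 1 * (y 25 1 * (y 21 1 * y 25 1)) = y 23 1 ∧
    y 24 t * (y 33 u * (y 25 1 * (y 33 u * (y 24 t * y 25 1)))) = y 26 t ∧
    y 24 t * (y 25 u * (y 24 t * y 25 u)) = y 26 (t * u) ∧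
    y 26 (t * u) * (y 22 1 * (y 26 (t * u) * y 22 1)) = y 24 (t * u) ∧
    y 24 t * (y 21 1 * (y 24 t * y 21 1)) = y 22 t ∧
    y 25 t * (y 21 1 * (y 25 t * y 21 1)) = y 23 t := by
  have h := chk3
  simp only [Bool.and_eq_true] at h
  obtain ⟨⟨⟨⟨⟨⟨⟨h1, h2⟩, h3⟩, h4⟩, h5⟩, h6⟩, h7⟩, h8⟩ := h
  refine ⟨?_, ?_, ?_, ?_, ?_, ?_, ?_, ?_⟩
  · simpa only [wS_cons, wS_nil', pow_zero, pow_one, mul_one, one_mul] using wS_eq _ _ h1 t u
  · simpa only [wS_cons, wS_nil', pow_zero, pow_one, mul_one, one_mul] using wS_eq _ _ h2 t u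
  · simpa only [wS_cons, wS_nil', pow_zero, pow_one, mul_one, one_mul] using wS_eq _ _ h3 t u
  · simpa only [wS_cons, wS_nil', pow_zero, pow_one, mul_one, one_mul] using wS_eq _ _ h4 t u
  · simpa only [wS_cons, wS_nil', pow_zero, pow_one, mul_one, one_mul] using wS_eq _ _ h5 t u
  · simpa only [wS_cons, wS_nil', pow_zero, pow_one, mul_one, one_mul] using wS_eq _ _ h6 t u
  · simpa only [wS_cons, wS_nil', pow_zero, pow_one, mul_one, one_mul] using wS_eq _ _ h7 t u
  · simpa only [wS_cons, wS_nil', pow_zero, pow_one, mul_one, one_mul] using wS_eq _ _ h8 t u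

/-- **The elements with parameter one.** -/
theorem ones (h1 : y 24 1 * y 33 1 ∈ S) (h2 : y 23 1 * y 14 1 ∈ S) (h3 : y 24 1 * y 23 1 * (y 14 1 * y 33 1) ∈ S)
    (h4 : y 25 1 * y 27 1 ∈ S) (h5 : y 22 1 * y 20 1 ∈ S) :
    y 25 1 ∈ S ∧ y 22 1 ∈ S ∧ y 26 1 ∈ S ∧ y 21 1 ∈ S ∧ y 24 1 ∈ S ∧ y 23 1 ∈ S := by
  have hc : y 24 1 * y 23 1 ∈ S := by
    have e := wS_eq _ _ chk1 (1 : F) 1
    simp only [wS_cons, wS_nil', pow_zero, mul_one] at e
    rw [← e]
    have e2 : y 24 1 * (y 33 1 * (y 23 1 * (y 14 1 * (y 24 1 * (y 23 1 * (y 14 1 * (y 33 1 * (y 24 1 * (y 33 1 *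
        (y 23 1 * (y 14 1 * (y 24 1 * (y 23 1 * (y 14 1 * y 33 1)))))))))))))) =
        (y 24 1 * y 33 1) * (y 23 1 * y 14 1) * (y 24 1 * y 23 1 * (y 14 1 * y 33 1)) *
        ((y 24 1 * y 33 1) * (y 23 1 * y 14 1) * (y 24 1 * y 23 1 * (y 14 1 * y 33 1))) := by
      simp only [mul_assoc]
    rw [e2]
    exact mul_mem (mul_mem (mul_mem h1 h2) h3) (mul_mem (mul_mem h1 h2) h3)
  have hc' : y 23 1 * y 24 1 ∈ S := by
    have := inv_mem hc
    rwa [mul_inv_rev, y_inv, y_inv] at this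
  have h4' : y 27 1 * y 25 1 ∈ S := by
    have := inv_mem h4
    rwa [mul_inv_rev, y_inv, y_inv] at this
  have h5' : y 20 1 * y 22 1 ∈ S := by
    have := inv_mem h5
    rwa [mul_inv_rev, y_inv, y_inv] at this
  have h := chk2
  simp only [Bool.and_eq_true] at h
  obtain ⟨⟨⟨k1, k2⟩, k3⟩, k4⟩ := h
  have e1 := wS_eq _ _ k1 (1 : F) 1
  have e2 := wS_eq _ _ k2 (1 : F) 1
  have e3 := wS_eq _ _ k3 (1 : F) 1
  have e4 := wS_eq _ _ k4 (1 : F) 1
  simp only [wS_cons, wS_nil', pow_zero, mul_one] at e1 e2 e3 e4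
  have m26 : y 26 1 ∈ S := by
    rw [← e1]
    have : y 24 1 * (y 23 1 * (y 25 1 * (y 27 1 * (y 23 1 * (y 24 1 * (y 27 1 * y 25 1)))))) =
      (y 24 1 * y 23 1) * (y 25 1 * y 27 1) * (y 23 1 * y 24 1) * (y 27 1 * y 25 1) := by simp only [mul_assoc]
    rw [this]
    exact mul_mem (mul_mem (mul_mem hc h4) hc') h4'
  have m25 : y 25 1 ∈ S := by
    rw [← e2]
    have : y 24 1 * (y 23 1 * (y 26 1 * (y 23 1 * y 24 1))) = (y 24 1 * y 23 1) * y 26 1 * (y 23 1 * y 24 1) := by
      simp only [mul_assoc]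
    rw [this]
    exact mul_mem (mul_mem hc m26) hc'
  have m1 : y 21 1 * y 22 1 ∈ S := by
    rw [← e3]
    have : y 24 1 * (y 23 1 * (y 22 1 * (y 20 1 * (y 23 1 * (y 24 1 * (y 20 1 * y 22 1)))))) =
      (y 24 1 * y 23 1) * (y 22 1 * y 20 1) * (y 23 1 * y 24 1) * (y 20 1 * y 22 1) := by simp only [mul_assoc]
    rw [this]
    exact mul_mem (mul_mem (mul_mem hc h5) hc') h5'
  have m22 : y 22 1 ∈ S := by
    rw [← e4]
    have : y 24 1 * (y 23 1 * (y 21 1 * (y 22 1 * (y 23 1 * y 24 1)))) =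
      (y 24 1 * y 23 1) * (y 21 1 * y 22 1) * (y 23 1 * y 24 1) := by simp only [mul_assoc]
    rw [this]
    exact mul_mem (mul_mem hc m1) hc'
  have m21 : y 21 1 ∈ S := by
    have := mul_mem m1 (inv_mem m22)
    rwa [mul_inv_cancel_right] at this
  obtain ⟨r1, r2, r3, -⟩ := rels (1 : F) 1
  refine ⟨m25, m22, m26, m21, ?_, ?_⟩
  · rw [← r1]
    exact mul_mem m26 (mul_mem m22 (mul_mem m26 m22))
  · rw [← r3]
    exact mul_mem m21 (mul_mem m25 (mul_mem m21 m25))

/-- **All the root elements.** -/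
theorem all_mem [Finite F] {g : Fˣ} (hg : ∀ x : Fˣ, x ∈ zpowers g) {v : F} (m25 : y 25 1 ∈ S) (m22 : y 22 1 ∈ S)
    (m21 : y 21 1 ∈ S) (m24 : y 24 1 ∈ S) (m23 : y 23 1 ∈ S) (m33 : y 24 (g : F) * y 33 v ∈ S) (t : F) :
    y 24 t ∈ S ∧ y 25 t ∈ S ∧ y 22 t ∈ S ∧ y 23 t ∈ S := by
  have s1 : ∀ t : F, y 26 t ∈ S → y 24 t ∈ S ∧ y 25 t ∈ S := by
    intro t ht
    obtain ⟨r1, r2, -⟩ := rels t (1 : F)
    refine ⟨?_, ?_⟩
    · rw [← r1]; exact mul_mem ht (mul_mem m22 (mul_mem ht m22))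
    · rw [← r2]; exact mul_mem ht (mul_mem m23 (mul_mem ht m23))
  have s2 : ∀ t : F, y 24 t ∈ S → y 26 t ∈ S := by
    intro t ht
    obtain ⟨-, -, -, -, r5, -⟩ := rels t (1 : F)
    rw [mul_one] at r5
    rw [← r5]
    exact mul_mem ht (mul_mem m25 (mul_mem ht m25))
  have s3 : ∀ t u : F, y 24 t ∈ S → y 24 u ∈ S → y 24 (t * u) ∈ S := by
    intro t u ht hu
    obtain ⟨-, -, -, -, r5, -⟩ := rels t u
    have hu' := (s1 u (s2 u hu)).2
    refine (s1 _ ?_).1
    rw [← r5]
    exact mul_mem ht (mul_mem hu' (mul_mem ht hu'))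
  have hgm : y 24 (g : F) ∈ S := by
    refine (s1 _ ?_).1
    obtain ⟨-, -, -, r4, -⟩ := rels (g : F) v
    have m33' : y 33 v * y 24 (g : F) ∈ S := by
      have := inv_mem m33
      rwa [mul_inv_rev, y_inv, y_inv] at this
    rw [← r4]
    have e : y 24 (g : F) * (y 33 v * (y 25 1 * (y 33 v * (y 24 (g : F) * y 25 1)))) =
      (y 24 (g : F) * y 33 v) * y 25 1 * (y 33 v * y 24 (g : F)) * y 25 1 := by simp only [mul_assoc]
    rw [e]
    exact mul_mem (mul_mem (mul_mem m33 m25) m33') m25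
  have hpow : ∀ n : ℕ, y 24 ((g : F) ^ n) ∈ S := by
    intro n
    induction n with
    | zero => rw [pow_zero]; exact m24
    | succ n ih => rw [pow_succ]; exact s3 _ _ ih hgm
  have h24 : y 24 t ∈ S := by
    by_cases ht : t = 0
    · rw [ht, xS_zero]; exact one_mem _
    · have hh := hg (Units.mk0 t ht)
      rw [← mem_powers_iff_mem_zpowers] at hh
      obtain ⟨n, hn⟩ := hh
      have : t = (g : F) ^ n := by
        rw [← Units.val_pow_eq_pow_val]
        exact congrArg Units.val hn.symm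
      rw [this]
      exact hpow n
  have h25 := (s1 t (s2 t h24)).2
  obtain ⟨-, -, -, -, -, -, r7, r8⟩ := rels t (1 : F)
  refine ⟨h24, h25, ?_, ?_⟩
  · rw [← r7]; exact mul_mem h24 (mul_mem m21 (mul_mem h24 m21))
  · rw [← r8]; exact mul_mem h25 (mul_mem m21 (mul_mem h25 m21))

theorem tabs : br 24 = 33 ∧ br 23 = 14 ∧ br 25 = 27 ∧ br 22 = 20 ∧
    ∀ i < 4, chevF4.simple i ∈ [24, 25, 27, 33] ∧ chevF4.neg (chevF4.simple i) ∈ [14, 20, 22, 23] := by
  decide +kernel

theorem la_pos : ∀ r < 48, la r = 1 ∨ la r = 2 := by decide +kernel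

/-- **Seven conjugates of the standard polarity.** -/
theorem gen [Finite F] {m : ℕ} {τ : MulAut ↥(chevF4.group F)}
    (hτ : ∀ r < 48, ∀ t : F, τ (y r t) = y (br r) ((t ^ 2 ^ m) ^ la r)) :
    ∃ f : Fin 7 → ↥(chevF4.group F), SS τ f = ⊤ := by
  classical
  obtain ⟨g, hg⟩ := IsCyclic.exists_generator (α := Fˣ)
  obtain ⟨b24, b23, b25, b22, bs⟩ := tabs
  let f : Fin 7 → ↥(chevF4.group F) := ![1, y 24 1, y 23 1, y 24 1 * y 23 1, y 25 1, y 22 1, y 24 (g : F)]
  refine ⟨f, ?_⟩
  have h0 : f 0 = 1 := rfl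
  have hone : ∀ r : ℕ, ((1 : F) ^ 2 ^ m) ^ la r = 1 := fun r => by rw [one_pow, one_pow]
  have t24 : τ (y 24 1) = y 33 1 := by rw [hτ 24 (by norm_num), hone, b24]
  have t23 : τ (y 23 1) = y 14 1 := by rw [hτ 23 (by norm_num), hone, b23]
  have t25 : τ (y 25 1) = y 27 1 := by rw [hτ 25 (by norm_num), hone, b25]
  have t22 : τ (y 22 1) = y 20 1 := by rw [hτ 22 (by norm_num), hone, b22]
  have m1 : y 24 1 * y 33 1 ∈ SS τ f := by
    have := mul_mem_SS (τ := τ) h0 1
    rwa [show f 1 = y 24 1 from rfl, t24, y_inv] at this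
  have m2 : y 23 1 * y 14 1 ∈ SS τ f := by
    have := mul_mem_SS (τ := τ) h0 2
    rwa [show f 2 = y 23 1 from rfl, t23, y_inv] at this
  have m3 : y 24 1 * y 23 1 * (y 14 1 * y 33 1) ∈ SS τ f := by
    have := mul_mem_SS (τ := τ) h0 3
    rwa [show f 3 = y 24 1 * y 23 1 from rfl, map_mul, t24, t23, mul_inv_rev, y_inv, y_inv] at this
  have m4 : y 25 1 * y 27 1 ∈ SS τ f := by
    have := mul_mem_SS (τ := τ) h0 4
    rwa [show f 4 = y 25 1 from rfl, t25, y_inv] at this
  have m5 : y 22 1 * y 20 1 ∈ SS τ f := by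
    have := mul_mem_SS (τ := τ) h0 5
    rwa [show f 5 = y 22 1 from rfl, t22, y_inv] at this
  have m6 : y 24 (g : F) * y 33 (((g : F) ^ 2 ^ m) ^ la 24) ∈ SS τ f := by
    have := mul_mem_SS (τ := τ) h0 6
    rwa [show f 6 = y 24 (g : F) from rfl, hτ 24 (by norm_num), b24, y_inv] at this
  obtain ⟨a25, a22, -, a21, a24, a23⟩ := ones m1 m2 m3 m4 m5
  have key := all_mem hg a25 a22 a21 a24 a23 m6
  -- the images under the polarity
  have hsurj : ∀ (r : ℕ) (hr : r < 48) (t : F), ∃ u : F, (u ^ 2 ^ m) ^ la r = t := by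
    intro r hr t
    have h2 : ∀ (n : ℕ) (t : F), ∃ u : F, u ^ 2 ^ n = t := by
      intro n t
      have := (bijective_iterateFrobenius F 2 n).2 t
      obtain ⟨u, hu⟩ := this
      exact ⟨u, by rw [← hu, iterateFrobenius_def]⟩
    rcases la_pos r hr with h | h
    · obtain ⟨u, hu⟩ := h2 m t
      exact ⟨u, by rw [h, pow_one, hu]⟩
    · obtain ⟨u, hu⟩ := h2 (m + 1) t
      exact ⟨u, by rw [h, ← pow_mul, ← pow_succ, hu]⟩
  have him : ∀ r < 48, (∀ t, y r t ∈ SS τ f) → ∀ t, y (br r) t ∈ SS τ f := by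
    intro r hr h t
    obtain ⟨u, hu⟩ := hsurj r hr t
    have h1 := apply_mem_SS (τ := τ) h0 (h u)
    rwa [hτ r hr, hu] at h1
  have k33 := him 24 (by norm_num) (fun t => (key t).1)
  have k27 := him 25 (by norm_num) (fun t => (key t).2.1)
  have k20 := him 22 (by norm_num) (fun t => (key t).2.2.1)
  have k14 := him 23 (by norm_num) (fun t => (key t).2.2.2)
  rw [b24] at k33
  rw [b25] at k27
  rw [b22] at k20
  rw [b23] at k14
  apply eq_top_of_simple hp4.inList
  · intro i hi t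
    have := (bs i hi).1
    simp only [List.mem_cons, List.not_mem_nil, or_false] at this
    rcases this with h | h | h | h <;> rw [h]
    · exact (key t).1
    · exact (key t).2.1
    · exact k27 t
    · exact k33 t
  · intro i hi t
    have := (bs i hi).2
    simp only [List.mem_cons, List.not_mem_nil, or_false] at this
    rcases this with h | h | h | h <;> rw [h]
    · exact k14 t
    · exact k20 t
    · exact (key t).2.2.1
    · exact (key t).2.2.2

end Gen

/-! ### The normal form -/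

section Form

open Cfsg.Agent.H79.FieldAuts Cfsg.Agent.H79.DiagAuts Cfsg.Agent.H79.OutChev Cfsg.Agent.H442.OutCyc

variable {F : Type} [Field F]

/-- diagonal automorphisms of `F₄(F)` are inner -/
theorem inner_of_diag [Fintype F] {d : MulAut ↥(chevF4.group F)} (hd : chevF4.IsDiagonalAut d) :
    ∃ c : ↥(chevF4.group F), d = MulAut.conj c := by
  have h1 : Nat.card (DB (D := chevF4) (by simp) F) ∣ 1 := OI.card_DB_dvd _ F
    (S1035.result (F := F) (q := Nat.card F) (Nat.card_eq_fintype_card (α := F)).symm (chevF4, 1) (by simp only [_root_.Nat.card_eq_fintype_card, _root_.List.mem_cons, _root_.Prod.mk.injEq, _root_.and_true, _root_.List.not_mem_nil, _root_.or_false, _root_.true_or, _root_.or_true]))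
  have h2 : DB (D := chevF4) (by simp) F = ⊥ := Subgroup.card_eq_one.1 (Nat.dvd_one.1 h1)
  have h3 : (QuotientGroup.mk' (Inn ↥(chevF4.group F))) d ∈ DB (D := chevF4) (by simp) F := by
    obtain ⟨c, hc⟩ := (diagFacts (D := chevF4) (by simp) F).exists_c d hd
    exact ⟨d, ⟨c, hc⟩, rfl⟩
  rw [h2, mem_bot] at h3
  obtain ⟨c, hc⟩ := (QuotientGroup.eq_one_iff (N := Inn ↥(chevF4.group F)) _).1 h3
  exact ⟨c, hc.symm⟩

variable [CharP F 2]

theorem fieldInner_or_gen [Fintype F] (x : MulAut ↥(chevF4.group F)) (hx : (orderOf x).Prime) :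
    (∃ (a : ↥(chevF4.group F)) (σ : RingAut F), x = MulAut.conj a * fieldHom hp4.inList F σ) ∨
    (∃ f : Fin 7 → ↥(chevF4.group F), ∀ k, MulAut.conj k ∈ Subgroup.closure (Set.range fun i => cj x (f i))) := by
  have : Fact (Nat.Prime 2) := ⟨Nat.prime_two⟩
  have hP : PerfectRing F 2 := PerfectRing.ofFiniteOfIsReduced 2 F
  have hfac : ∀ θ : MulAut ↥(chevF4.group F), ∃ (b : ↥(chevF4.group F)) (d g φ : MulAut ↥(chevF4.group F)),
      chevF4.IsDiagonalAut d ∧ chevF4.IsGraphAut g ∧ chevF4.IsFieldAut φ ∧ θ = MulAut.conj b * d * g * φ :=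
    fun θ => Cfsg.Agent.H79.Steinberg.exists_fac_mul hp4.inList θ
  rcases hx.eq_two_or_odd' with h2 | hodd
  · -- involutions
    obtain ⟨b, d, g, φ, hd, hg, hφ, e⟩ := hfac x
    by_cases hg1 : g = 1
    · left
      obtain ⟨c, rfl⟩ := inner_of_diag hd
      obtain ⟨σ, rfl⟩ := (isFieldAut_iff hp4.inList φ).1 hφ
      exact ⟨b * c, σ, by rw [e, hg1, mul_one, map_mul]⟩
    · right
      have hxx : x * x = 1 := by rw [← pow_two, ← h2, pow_orderOf_eq_one]
      obtain ⟨m, τ, ζ, hcard, hτ, hζ⟩ := Cfsg.Agent.H296.FFour.main hxx hd hg hφ hg1 (y := b) (fun a => by rw [e]; rfl)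
      obtain ⟨f, hf⟩ := gen (m := m) (τ := al F * fld chevF4 τ) (fun r hr t => by
        rw [MulAut.mul_apply, fld_xS, al_xS hr, hτ])
      refine ⟨fun i => ζ⁻¹ (f i), fun k => ?_⟩
      have h1 : ζ k ∈ SS (al F * fld chevF4 τ) f := by rw [hf]; trivial
      have h2 : MulAut.conj (ζ k) ∈ Subgroup.closure (Set.range fun i => cj (al F * fld chevF4 τ) (f i)) := h1
      have h3 : MulAut.conj k = (MulAut.conj ζ⁻¹) (MulAut.conj (ζ k)) := by
        ext g
        simp only [MulAut.conj_apply, MulAut.mul_apply, _root_.Subgroup.coe_mul, _root_.InvMemClass.coe_inv, _root_.Units.val_mul, _root_.Matrix.coe_units_inv, _root_.map_inv, _root_.MulAut.inv_apply, _root_.MulAut.conj_symm_apply, _root_.map_mul, _root_.MulEquiv.symm_apply_apply]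
      have h4 : ∀ i, cj x (ζ⁻¹ (f i)) = (MulAut.conj ζ⁻¹) (cj (al F * fld chevF4 τ) (f i)) := by
        intro i
        have e1 : MulAut.conj (ζ⁻¹ (f i)) = ζ⁻¹ * MulAut.conj (f i) * ζ := by
          ext g
          simp only [MulAut.conj_apply, MulAut.mul_apply, _root_.MulAut.inv_apply, _root_.Subgroup.coe_mul, _root_.InvMemClass.coe_inv, _root_.Units.val_mul, _root_.Matrix.coe_units_inv, _root_.map_mul, _root_.MulEquiv.symm_apply_apply, _root_.map_inv]
        rw [hζ, MulAut.conj_apply]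
        unfold cj
        rw [e1]
        group
      rw [h3]
      have h5 : (Set.range fun i => cj x (ζ⁻¹ (f i))) =
          (MulAut.conj ζ⁻¹).toMonoidHom '' (Set.range fun i => cj (al F * fld chevF4 τ) (f i)) := by
        rw [← Set.range_comp]
        congr 1
        funext i
        exact h4 i
      rw [h5, ← MonoidHom.map_closure]
      exact ⟨_, h2, rfl⟩
  · -- odd order
    left
    obtain ⟨k, hk⟩ := hodd
    have hsq : x ^ (k + 1) * x ^ (k + 1) = x := by
      rw [← pow_add]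
      have : k + 1 + (k + 1) = orderOf x + 1 := by omega
      rw [this, pow_succ, pow_orderOf_eq_one, one_mul]
    obtain ⟨b, d, g, φ, hd, hg, hφ, e⟩ := hfac (x ^ (k + 1))
    obtain ⟨c, rfl⟩ := inner_of_diag hd
    have hF : ∀ {α β : MulAut ↥(chevF4.group F)}, chevF4.IsFieldAut α → chevF4.IsFieldAut β →
        chevF4.IsFieldAut (α * β) := by
      intro α β ha hb
      obtain ⟨σ, rfl⟩ := (isFieldAut_iff hp4.inList α).1 ha
      obtain ⟨σ', rfl⟩ := (isFieldAut_iff hp4.inList β).1 hb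
      exact (isFieldAut_iff hp4.inList _).2 ⟨σ * σ', (map_mul _ _ _).symm⟩
    have hsqF : chevF4.IsFieldAut (g * φ * (g * φ)) := by
      by_cases hg1 : g = 1
      · rw [hg1, one_mul]
        exact hF hφ hφ
      · have hga := eq_al hg hg1
        obtain ⟨τ, rfl⟩ := Cfsg.Agent.H296.ESixGF.eq_fld hp4 hφ
        subst hga
        have e1 : al F * fld chevF4 τ * (al F * fld chevF4 τ) = al F * al F * (fld chevF4 τ * fld chevF4 τ) := by
          calc al F * fld chevF4 τ * (al F * fld chevF4 τ) = al F * (fld chevF4 τ * al F) * fld chevF4 τ := by group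
            _ = al F * (al F * fld chevF4 τ) * fld chevF4 τ := by rw [al_mul_fld]
            _ = _ := by group
        rw [e1, al_sq]
        refine hF ((isFieldAut_iff hp4.inList _).2 ⟨(frobeniusEquiv F 2 : F ≃+* F), ?_⟩) (hF hφ hφ)
        refine aut_ext4 _ _ fun r hr t => ?_
        rw [phi_xS, fieldHom_xS _ _ hr]
        rfl
    obtain ⟨σ, hσ⟩ := (isFieldAut_iff hp4.inList _).1 hsqF
    refine ⟨b * c * (g * φ) (b * c), σ, ?_⟩
    rw [← hσ]
    have e2 : x ^ (k + 1) = MulAut.conj (b * c) * (g * φ) := by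
      rw [e, map_mul]; group
    rw [← hsq, e2]
    ext a
    simp only [MulAut.conj_apply, MulAut.mul_apply, map_mul, mul_assoc, _root_.inv_mul_cancel_left, _root_.map_inv, _root_.Subgroup.coe_mul, _root_.InvMemClass.coe_inv, _root_.Units.val_mul, _root_.Matrix.coe_units_inv]

/-- **The automorphisms with `FC` are type preserving.** -/
theorem fieldInner_of_FC [Fintype F] {x : MulAut ↥(chevF4.group F)} (hx : (orderOf x).Prime) {s m : ℕ} (hs : s.Prime)
    (hsK : s ∣ Nat.card ↥(chevF4.group F)) (hm : 7 ≤ m) (hF : FC s m x) :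
    ∃ (a : ↥(chevF4.group F)) (σ : RingAut F), x = MulAut.conj a * fieldHom hp4.inList F σ := by
  rcases fieldInner_or_gen x hx with h | ⟨f, hf⟩
  · exact h
  · exfalso
    have : Fact s.Prime := ⟨hs⟩
    obtain ⟨k, hk⟩ := exists_prime_orderOf_dvd_card' s hsK
    have h1 : Cfsg.Agent.H216.Pi.InC m x (MulAut.conj k) := Cfsg.Agent.H216.Pi.InC.mono hm ⟨f, hf k⟩
    refine hF _ h1 ?_
    have h2 : orderOf (MulAut.conj k) = orderOf k :=
      orderOf_injective (MulAut.conj : ↥(chevF4.group F) →* MulAut ↥(chevF4.group F))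
        (H70.OutCount.conj_injective hp4.inList) k
    rw [h2, hk]

end Form

end Cfsg.Agent.H73.Pi.PolF4
end

-- part: H442/Pi/SecA
section
prune_inst 0x200074043362020000180012a2001c72da000420000b8800008008000c892c4025030e61b270011212b000c54035004813080020420000000a000000011d05810000000081080100400008000000000000000000000000000000000000010000200000000
set_option linter.all false
open scoped Cfsg.Agent.FastGrp

-- part: H442/Pi/LinA
section
/-!
# S4324, PSL: linear algebra (helper442)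

* `scalar_of_reducible` : a reducible linear map which is scalar on the large invariant subspaces and quotients is
  scalar;
* `exists_fixed` : a semilinear map of order `p` whose field automorphism has order `p` has a fixed vector;
* `false_of_line` : a semilinear, not linear, bijection is not scalar modulo a line.
-/

set_option autoImplicit false

namespace Cfsg.Agent.H442.Pi

open Module Submodule

section Lin

variable {F V : Type*} [Field F] [AddCommGroup V] [Module F V] [FiniteDimensional F V]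

/-- **A reducible linear map which is scalar on all large invariant subspaces and quotients is scalar.** -/
theorem scalar_of_reducible {n d : ℕ} (hn : finrank F V = n) (hd : 2 ≤ d) (hnd : 2 * d ≤ n + 1) (A : V →ₗ[F] V)
    (h1 : ∀ W : Submodule F V, W ≠ ⊤ → d ≤ finrank F W → (∀ v ∈ W, A v ∈ W) → ∃ c : F, ∀ v ∈ W, A v = c • v)
    (h2 : ∀ W : Submodule F V, W ≠ ⊥ → finrank F W + d ≤ n → (∀ v ∈ W, A v ∈ W) → ∃ c : F, ∀ v, A v - c • v ∈ W)
    {W : Submodule F V} (hb : W ≠ ⊥) (ht : W ≠ ⊤) (hW : ∀ v ∈ W, A v ∈ W) : ∃ c : F, ∀ v, A v = c • v := by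
  by_cases hdW : d ≤ finrank F W
  · -- scalar on `W`
    obtain ⟨c, hc⟩ := h1 W ht hdW hW
    have hnt : Nontrivial W := by
      rw [Submodule.nontrivial_iff_ne_bot]; exact hb
    obtain ⟨v, hv⟩ := exists_ne (0 : W)
    have hv0 : (v : V) ≠ 0 := fun h => hv (Subtype.ext h)
    -- a second vector
    obtain ⟨w, hwW, hw⟩ : ∃ w ∈ W, w ∉ span F {(v : V)} := by
      by_contra hcon
      push Not at hcon
      have h3 : W ≤ span F {(v : V)} := fun w hw => hcon w hw
      have h4 := finrank_mono h3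
      rw [finrank_span_singleton hv0] at h4
      omega
    have hw0 : w ≠ 0 := fun h => hw (h ▸ zero_mem _)
    have key : ∀ a b : V, a ∈ W → b ∈ W → a ≠ 0 → b ∉ span F {a} → ∀ u, A u - c • u ∈ span F {a} := by
      intro a b ha hb' ha0 hba
      obtain ⟨c', hc'⟩ := h2 (span F {a}) (by rwa [Ne, span_singleton_eq_bot]) (by
        rw [finrank_span_singleton ha0]; omega) (by
        intro u hu
        obtain ⟨r, rfl⟩ := mem_span_singleton.1 hu
        rw [map_smul, hc a ha]
        exact smul_mem _ _ (smul_mem _ _ (mem_span_singleton_self a)))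
      have h3 := hc' b
      rw [hc b hb', ← sub_smul] at h3
      have h4 : c = c' := by
        by_contra hne
        apply hba
        have h5 := smul_mem _ (c - c')⁻¹ h3
        rwa [smul_smul, inv_mul_cancel₀ (sub_ne_zero.2 hne), one_smul] at h5
      rw [h4]; exact hc'
    refine ⟨c, fun u => ?_⟩
    have h3 := key v w v.2 hwW hv0 hw u
    have h4 := key w v hwW v.2 hw0 (by
      intro h
      obtain ⟨r, hr⟩ := mem_span_singleton.1 h
      have hr0 : r ≠ 0 := by
        rintro rfl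
        rw [zero_smul] at hr
        exact hv0 hr.symm
      apply hw
      rw [mem_span_singleton]
      exact ⟨r⁻¹, by rw [← hr, smul_smul, inv_mul_cancel₀ hr0, one_smul]⟩) u
    obtain ⟨r, hr⟩ := mem_span_singleton.1 h3
    obtain ⟨s, hs⟩ := mem_span_singleton.1 h4
    by_cases hs0 : s = 0
    · rw [hs0, zero_smul] at hs
      exact (sub_eq_zero.1 hs.symm)
    · exfalso
      apply hw
      rw [mem_span_singleton]
      exact ⟨s⁻¹ * r, by rw [mul_smul, hr, ← hs, smul_smul, inv_mul_cancel₀ hs0, one_smul]⟩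
  · -- scalar on `V / W`
    have hpos : 0 < finrank F W := by
      rw [Module.finrank_pos_iff]
      rw [Submodule.nontrivial_iff_ne_bot]; exact hb
    obtain ⟨c, hc⟩ := h2 W hb (by omega) hW
    -- hyperplanes containing `W`
    have hyp : ∀ f : V →ₗ[F] F, f ≠ 0 → W ≤ LinearMap.ker f → ∃ a : F, ∀ v, f v = 0 → A v = a • v := by
      intro f hf hWf
      have hlt : LinearMap.ker f ≠ ⊤ := fun h => hf (LinearMap.ker_eq_top.1 h)
      have hrk := LinearMap.finrank_range_add_finrank_ker f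
      have hr1 : finrank F (LinearMap.range f) ≤ 1 := (finrank_le _).trans (by rw [finrank_self])
      obtain ⟨a, ha⟩ := h1 (LinearMap.ker f) hlt (by omega) (by
        intro v hv
        have h3 : A v = (A v - c • v) + c • v := by rw [sub_add_cancel]
        rw [h3]
        exact add_mem (hWf (hc v)) (smul_mem _ _ hv))
      exact ⟨a, fun v hv => ha v hv⟩
    obtain ⟨f, hf, hWf⟩ := exists_le_ker_of_lt_top W (lt_top_iff_ne_top.2 ht)
    obtain ⟨a, ha⟩ := hyp f hf hWf
    -- a vector of `ker f` outside `W`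
    have hrk := LinearMap.finrank_range_add_finrank_ker f
    have hr1 : finrank F (LinearMap.range f) ≤ 1 := (finrank_le _).trans (by rw [finrank_self])
    obtain ⟨u, hu, huW⟩ : ∃ u, f u = 0 ∧ u ∉ W := by
      by_contra hcon
      push Not at hcon
      have h3 : LinearMap.ker f ≤ W := fun u hu => hcon u hu
      have h4 := finrank_mono h3
      omega
    obtain ⟨g, hgu, hWg⟩ := exists_le_ker_of_notMem huW
    have hg : g ≠ 0 := fun h => hgu (by rw [h]; rfl)
    obtain ⟨b, hb'⟩ := hyp g hg hWg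
    -- a common vector
    obtain ⟨w, hw⟩ : ∃ w : W, w ≠ 0 := by
      have hnt : Nontrivial W := by
        rw [Submodule.nontrivial_iff_ne_bot]; exact hb
      exact exists_ne 0
    have hw0 : (w : V) ≠ 0 := fun h => hw (Subtype.ext h)
    have hab : a = b := by
      have h3 := (ha w (hWf w.2)).symm.trans (hb' w (hWg w.2))
      rw [← sub_eq_zero, ← sub_smul, smul_eq_zero] at h3
      exact sub_eq_zero.1 (h3.resolve_right hw0)
    refine ⟨a, fun v => ?_⟩
    have h3 : v = (g v / g u) • u + (v - (g v / g u) • u) := by abel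
    have h4 : g (v - (g v / g u) • u) = 0 := by
      rw [map_sub, map_smul, smul_eq_mul, div_mul_cancel₀ _ hgu, sub_self]
    rw [h3, map_add, map_smul, ha u hu, hb' _ h4, ← hab, smul_add, smul_comm]

end Lin

section Semi

variable {F V : Type*} [Field F] [AddCommGroup V] [Module F V]

/-- a semilinear, not linear, bijection is not scalar modulo a line -/
theorem false_of_line {σ : F ≃+* F} {g : Equiv.Perm V} (hs : ∀ (a : F) v, g (a • v) = σ a • g v) {b : F} (hb : σ b ≠ b)
    {W : Submodule F V} (hW : W ≠ ⊤) (hgW : ∀ v, g v ∈ W → v ∈ W) {c : F} (hc : ∀ v, g v - c • v ∈ W) : False := by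
  obtain ⟨v, hv⟩ : ∃ v, v ∉ W := by
    by_contra h
    push Not at h
    exact hW (eq_top_iff.2 fun v _ => h v)
  have h1 := hc (b • v)
  rw [hs] at h1
  have h2 := W.smul_mem (σ b) (hc v)
  have h3 := W.sub_mem h1 h2
  have h4 : σ b • g v - c • b • v - σ b • (g v - c • v) = (c * (σ b - b)) • v := by
    rw [smul_sub, mul_smul, sub_smul, smul_sub, smul_comm (σ b) c v]
    abel
  rw [h4] at h3
  by_cases hc0 : c = 0
  · apply hv
    apply hgW
    have h5 := hc v
    rwa [hc0, zero_smul, sub_zero] at h5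
  · apply hv
    have h5 : c * (σ b - b) ≠ 0 := mul_ne_zero hc0 (sub_ne_zero.2 hb)
    have h6 := W.smul_mem (c * (σ b - b))⁻¹ h3
    rwa [smul_smul, inv_mul_cancel₀ h5, one_smul] at h6

end Semi

end Cfsg.Agent.H442.Pi
end

-- part: H442/Pi/IrrA
section
/-!
# S4324, PSL: irreducible elements, I (helper442)

* `not_dvd_centralizer` : centralisers of order prime to the characteristic;
* `comm_irr`, `comm_diag` : the two cases in which only scalars commute.
-/

set_option autoImplicit false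
set_option linter.unusedSectionVars false

namespace Cfsg.Agent.H442.Pi

open Matrix
open Cfsg.Agent.ClassicalGeometry.AutPSL.Root
open Cfsg.Agent.ClassicalGeometry.AutPSL.Auto
open Cfsg.Agent.ClassicalGeometry.AutPSL.Main

variable {F : Type*} [Field F] {ι : Type*} [Fintype ι] [DecidableEq ι]

/-- `SL` elements as elements of `GL`. -/
def toGL (x : SpecialLinearGroup ι F) : GL ι F := ⟨x.1, (x⁻¹).1, by
  rw [← Matrix.SpecialLinearGroup.coe_mul, mul_inv_cancel, Matrix.SpecialLinearGroup.coe_one], by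
  rw [← Matrix.SpecialLinearGroup.coe_mul, inv_mul_cancel, Matrix.SpecialLinearGroup.coe_one]⟩

theorem toGL_val (x : SpecialLinearGroup ι F) : (toGL x : Matrix ι ι F) = x.1 := rfl

theorem cj_toGL (x : SpecialLinearGroup ι F) : cj (toGL x) = MulAut.conj x := by
  apply MulEquiv.ext
  intro g
  apply Subtype.ext
  rw [coe_cj, MulAut.conj_apply, Matrix.SpecialLinearGroup.coe_mul, Matrix.SpecialLinearGroup.coe_mul]
  rfl

theorem lift_conj (x : SpecialLinearGroup ι F) : lift (MulAut.conj x) = MulAut.conj (pr x) := by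
  apply MulEquiv.ext
  intro g
  obtain ⟨g, rfl⟩ := pr_surjective g
  rw [lift_pr, MulAut.conj_apply, MulAut.conj_apply, map_mul, map_mul, map_inv]

theorem cj_eq_of_smul {A B : GL ι F} {c : F} (h : (B : Matrix ι ι F) = c • (A : Matrix ι ι F)) : cj B = cj A := by
  have h1 : cj (B * A⁻¹) = 1 := by
    refine cj_eq_one_of_scalar (r := c) ?_
    rw [Units.val_mul, h, Matrix.smul_mul, ← Units.val_mul, mul_inv_cancel, Units.val_one, scalar_apply,
      smul_one_eq_diagonal]
  rw [map_mul, map_inv, mul_inv_eq_one] at h1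
  exact h1

theorem ne_zero_of_sl [Nonempty ι] (B : SpecialLinearGroup ι F) : (B : Matrix ι ι F) ≠ 0 := by
  intro h
  have h1 := B.2
  rw [h, det_zero] at h1
  exact zero_ne_one h1

/-- **centralisers of order prime to the characteristic** -/
theorem not_dvd_centralizer [Finite F] [Nonempty ι] {t : ℕ} [ht : Fact t.Prime] [CharP F t]
    {B : SpecialLinearGroup ι F}
    (hB : ∀ h : SpecialLinearGroup ι F, h.1 * B.1 = B.1 * h.1 → ∀ μ : F, h.1 ^ t = μ • 1 → ∃ c : F, h.1 = c • 1) :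
    ¬ t ∣ Nat.card (Subgroup.centralizer ({pr B} : Set (Matrix.ProjectiveSpecialLinearGroup ι F))) := by
  intro hd
  obtain ⟨⟨y, hy⟩, hyo⟩ := exists_prime_orderOf_dvd_card' t hd
  rw [Subgroup.orderOf_mk] at hyo
  obtain ⟨h, rfl⟩ := pr_surjective y
  have h1 : pr (B * h) = pr (h * B) := by
    rw [map_mul, map_mul]
    rw [Subgroup.mem_centralizer_iff] at hy
    exact hy _ rfl
  obtain ⟨c, hc⟩ := exists_smul_of_pr_eq h1
  have h2 : pr (1 : SpecialLinearGroup ι F) = pr (h ^ t) := by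
    rw [map_pow, map_one, ← hyo, pow_orderOf_eq_one]
  obtain ⟨μ, hμ⟩ := exists_smul_of_pr_eq h2
  replace hc : (h : Matrix ι ι F) * (B : Matrix ι ι F) = c • ((B : Matrix ι ι F) * (h : Matrix ι ι F)) := hc
  replace hμ : (h : Matrix ι ι F) ^ t = μ • (1 : Matrix ι ι F) := (Matrix.SpecialLinearGroup.coe_pow h t).symm.trans hμ
  have h3 : ∀ k : ℕ, (h : Matrix ι ι F) ^ k * (B : Matrix ι ι F) = c ^ k • ((B : Matrix ι ι F) * (h : Matrix ι ι F) ^ k) := by
    intro k
    induction k with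
    | zero => simp
    | succ k ih =>
      rw [pow_succ, mul_assoc, hc, Matrix.mul_smul, ← mul_assoc, ih, Matrix.smul_mul, smul_smul, pow_succ c,
        mul_comm c, mul_assoc]
  have h4 := h3 t
  rw [hμ, Matrix.smul_mul, one_mul, Matrix.mul_smul, mul_one, smul_smul] at h4
  have hμ0 : μ ≠ 0 := by
    rintro rfl
    have h5 : ((h : Matrix ι ι F) ^ t).det = 1 := by rw [det_pow, h.2, one_pow]
    rw [hμ, zero_smul, det_zero] at h5
    exact zero_ne_one h5
  have h5 : c ^ t = 1 := by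
    have h6 : (μ - c ^ t * μ) • (B : Matrix ι ι F) = 0 := by rw [sub_smul, h4, sub_self]
    rcases smul_eq_zero.1 h6 with h7 | h7
    · have h8 : c ^ t * μ = 1 * μ := by rw [one_mul]; exact (sub_eq_zero.1 h7).symm
      exact mul_right_cancel₀ hμ0 h8
    · exact absurd h7 (ne_zero_of_sl B)
  have h6 : c = 1 := by
    have h7 : frobenius F t c = frobenius F t 1 := by rw [frobenius_def, frobenius_def, h5, one_pow]
    exact frobenius_inj F t h7
  rw [h6, one_smul] at hc
  obtain ⟨e, he⟩ := hB h hc μ hμ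
  have h7 : pr (1 : SpecialLinearGroup ι F) = pr h := pr_eq_of_smul (c := e) he
  rw [← h7, map_one, orderOf_one] at hyo
  exact ht.out.one_lt.ne hyo

/-- the commuting algebra of an irreducible matrix contains no `t`-elements -/
theorem comm_irr [Finite F] [Nonempty ι] {t : ℕ} [ht : Fact t.Prime] [CharP F t] {B h : Matrix ι ι F}
    (irr : ∀ W : Submodule F (ι → F), W ≠ ⊥ → (∀ v ∈ W, B *ᵥ v ∈ W) → W = ⊤) (hc : h * B = B * h) {μ : F}
    (hμ : h ^ t = μ • 1) : ∃ c : F, h = c • 1 := by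
  obtain ⟨ν, hν⟩ := (Finite.injective_iff_surjective.1 (frobenius_inj F t)) μ
  rw [frobenius_def] at hν
  have : CharP (Matrix ι ι F) t := Matrix.charP t
  refine ⟨ν, ?_⟩
  have h1 : (h - ν • (1 : Matrix ι ι F)) ^ t = 0 := by
    rw [sub_pow_char_of_commute t ((Commute.one_right h).smul_right ν), hμ, smul_pow, one_pow, hν, sub_self]
  let W : Submodule F (ι → F) := LinearMap.ker (toLin' (h - ν • (1 : Matrix ι ι F)))
  have hW : ∀ v, v ∈ W ↔ (h - ν • (1 : Matrix ι ι F)) *ᵥ v = 0 := fun v => by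
    rw [LinearMap.mem_ker, toLin'_apply]
  have h2 : W ≠ ⊥ := by
    intro h3
    have hinj : Function.Injective (toLin' (h - ν • (1 : Matrix ι ι F))) := LinearMap.ker_eq_bot.1 h3
    have h4 : ∀ k : ℕ, Function.Injective (toLin' ((h - ν • (1 : Matrix ι ι F)) ^ k)) := by
      intro k
      induction k with
      | zero =>
        rw [pow_zero, toLin'_one]
        exact Function.injective_id
      | succ k ih =>
        rw [pow_succ, toLin'_mul]
        exact ih.comp hinj
    have h5 := h4 t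
    rw [h1, map_zero] at h5
    obtain ⟨u, hu⟩ := exists_ne (0 : ι → F)
    exact hu (h5 (by rw [LinearMap.zero_apply, LinearMap.zero_apply]))
  have h3 := irr W h2 (by
    intro v hv
    rw [hW] at hv ⊢
    rw [mulVec_mulVec, sub_mul, smul_mul_assoc, one_mul, hc, ← mulVec_zero B, ← hv, mulVec_mulVec, mul_sub,
      Matrix.mul_smul, mul_one])
  have h4 : h - ν • (1 : Matrix ι ι F) = 0 := by
    apply Matrix.toLin'.injective
    rw [map_zero]
    exact LinearMap.ker_eq_top.1 h3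
  exact sub_eq_zero.1 h4

/-- a diagonal matrix with distinct entries -/
theorem comm_diag [Finite F] [Nonempty ι] {t : ℕ} [ht : Fact t.Prime] [CharP F t] {z : ι → F}
    (hz : Function.Injective z) {h : Matrix ι ι F} (hc : h * diagonal z = diagonal z * h) {μ : F}
    (hμ : h ^ t = μ • 1) : ∃ c : F, h = c • 1 := by
  have h1 : h = diagonal (fun i => h i i) := by
    ext i j
    by_cases hij : i = j
    · rw [hij, diagonal_apply_eq]
    · rw [diagonal_apply_ne _ hij]
      have h2 := congrFun (congrFun hc i) j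
      rw [mul_diagonal, diagonal_mul] at h2
      have h3 : (z j - z i) * h i j = 0 := by rw [sub_mul, mul_comm, h2, sub_self]
      rcases mul_eq_zero.1 h3 with h4 | h4
      · exact absurd (hz (sub_eq_zero.1 h4)) (fun h => hij h.symm)
      · exact h4
  have h2 : ∀ i, (h i i) ^ t = μ := by
    intro i
    have h3 := congrFun (congrFun hμ i) i
    rw [h1, diagonal_pow, diagonal_apply_eq, Matrix.smul_apply, one_apply_eq, smul_eq_mul, mul_one] at h3
    exact h3
  obtain ⟨i₀⟩ := ‹Nonempty ι›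
  refine ⟨h i₀ i₀, ?_⟩
  have h3 : ∀ i, h i i = h i₀ i₀ := fun i => frobenius_inj F t (by rw [frobenius_def, frobenius_def, h2, h2])
  rw [h1]
  ext i j
  by_cases hij : i = j
  · rw [hij, diagonal_apply_eq, Matrix.smul_apply, one_apply_eq, smul_eq_mul, mul_one, diagonal_apply_eq, h3]
  · rw [diagonal_apply_ne _ hij, Matrix.smul_apply, one_apply_ne hij, smul_zero]

end Cfsg.Agent.H442.Pi
end

-- part: H442/Pi/SecA
section
/-!
# S4324, PSL: the sections of `SL(V)` (helper442)

`V` of finite dimension over `F`, `Γ = SL(V)`, `x` an automorphism of `Γ / Z(Γ)` induced by the semilinear bijection `g`.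

* `sub_scalar` : `g` is a scalar on the invariant subspaces of large dimension;
* `quot_scalar` : `g` is a scalar on the invariant quotients of large dimension;
* `eSL` : `PSL_n(F)` as a quotient of `SL(V)`, `V = F ^ n`; `comp_lift` : the automorphisms.
-/

set_option autoImplicit false
set_option linter.unusedSectionVars false

namespace Cfsg.Agent.H442.Pi

open Module Submodule
open Cfsg.Agent.BpCl (Semi)
open Cfsg.Agent.H952.Rc (Comp)
open Cfsg.Agent.H216.Pi (PC)
open Cfsg.Agent.H809.Sec (IsSc Ind section_lemma sgood_sl semiGood_sl)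

universe u v

section Sections

variable {F : Type u} {V : Type v} [Field F] [Finite F] [AddCommGroup V] [Module F V] [FiniteDimensional F V]

/-- an element of `SL(V)` moving a proper subspace -/
theorem exists_moving (h2 : 2 ≤ finrank F V) {W : Submodule F V} (hb : W ≠ ⊥) (ht : W ≠ ⊤) :
    ∃ k : V ≃ₗ[F] V, LinearEquiv.det k = 1 ∧ ∃ w ∈ W, k w ∉ W := by
  obtain ⟨w, hw, hw0⟩ := W.exists_mem_ne_zero_of_ne_bot hb
  obtain ⟨v, hv⟩ : ∃ v, v ∉ W := by
    by_contra h
    push Not at h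
    exact ht (eq_top_iff.2 fun v _ => h v)
  have hv0 : v ≠ 0 := fun h => hv (h ▸ W.zero_mem)
  obtain ⟨k, hk, hkw⟩ := H957.T5Conf.exists_sl_of_lt (F := F) (k := 1) (u := fun _ => w) (v := fun _ => v)
    (LinearIndependent.of_subsingleton (0 : Fin 1) hw0) (LinearIndependent.of_subsingleton (0 : Fin 1) hv0)
    (by omega)
  exact ⟨k, hk, w, hw, by rw [hkw 0]; exact hv⟩

variable {x : MulAut (↥(LinearEquiv.det (R := F) (M := V)).ker ⧸ Subgroup.center ↥(LinearEquiv.det (R := F) (M := V)).ker)}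
  {g : Equiv.Perm V} {φ : F ≃+* F}

/-- the kernel of the determinant -/
def slKer (F : Type u) (V : Type v) [Field F] [AddCommGroup V] [Module F V] :
    SpecialLinearGroup F V ≃* ↥(LinearEquiv.det (R := F) (M := V)).ker where
  toFun g := ⟨g.toLinearEquiv, g.2⟩
  invFun g := ⟨g.1, g.2⟩
  left_inv _ := rfl
  right_inv _ := rfl
  map_mul' _ _ := rfl

theorem center_scal : ∀ z ∈ Subgroup.center ↥(LinearEquiv.det (R := F) (M := V)).ker, IsSc F (⇑z.1) := by
  intro z hz
  have h1 : (slKer F V).symm z ∈ Subgroup.center (SpecialLinearGroup F V) :=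
    (MulEquivClass.apply_mem_center_iff (slKer F V).symm).2 hz
  obtain ⟨r, -, hr⟩ := SpecialLinearGroup.mem_center_iff.1 h1
  refine ⟨r, fun v => ?_⟩
  exact congrArg (fun f : V →ₗ[F] V => f v) hr

/-- a linear automorphism mapping a subspace into itself -/
theorem mem_iff_of_le {W : Submodule F V} {k : V ≃ₗ[F] V} (h : ∀ v ∈ W, k v ∈ W) (v : V) : k v ∈ W ↔ v ∈ W := by
  refine ⟨fun hv => ?_, h v⟩
  have h1 : W.map (k : V →ₗ[F] V) = W := by
    apply Submodule.eq_of_le_of_finrank_eq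
    · rintro _ ⟨w, hw, rfl⟩
      exact h w hw
    · exact LinearEquiv.finrank_map_eq k W
  rw [← h1] at hv
  obtain ⟨w, hw, hwv⟩ := hv
  rwa [← k.injective hwv]

/-- **invariant subspaces** -/
theorem sub_scalar {s : ℕ} (hs : s.Prime) (h3 : 3 ≤ s)
    (hg : Semi φ g) (hx : Comp x g) (hPC : PC s x) {W : Submodule F V} (hW : ∀ v ∈ W, g v ∈ W) (hne : W ≠ ⊤)
    {i : ℕ} (hi : 2 ≤ i) (hiw : i ≤ finrank F W) (hd : s ∣ Nat.card F ^ i - 1) : ∃ c : F, ∀ v ∈ W, g v = c • v := by
  have : Finite V := Module.finite_of_finite F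
  have hWV : finrank F W < finrank F V := Submodule.finrank_lt hne
  have hb : W ≠ ⊥ := by
    rintro rfl
    rw [finrank_bot] at hiw
    omega
  have h0 : g 0 = 0 := by
    have := hg.add 0 0
    rw [add_zero] at this
    exact left_eq_add.1 this
  obtain ⟨c, hc⟩ := section_lemma (p := (LinearMap.id : W →ₗ[F] W)) (Y := (LinearEquiv.det (R := F) (M := W)).ker)
    hs hPC center_scal hg hx Function.surjective_id hW (by
      intro b b' hbb hb0
      have h1 : b = 0 := hb0
      rw [LinearMap.id_apply]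
      apply Subtype.ext
      rw [hbb, h1]
      exact h0) (by
      obtain ⟨k, hk, w, hw, hkw⟩ := exists_moving (by omega) hb hne
      exact ⟨k, hk, fun T hT => hkw ((hT.1 w).2 hw)⟩) (by
      intro y _
      let b : Basis (Fin (finrank F W)) F W := finBasis F W
      have hu : LinearIndependent F (fun k => (b k : V)) :=
        b.linearIndependent.map' W.subtype (LinearMap.ker_eq_bot.2 W.subtype_injective)
      have hv : LinearIndependent F (fun k => (y (b k) : V)) :=
        b.linearIndependent.map' (W.subtype.comp (y : W →ₗ[F] W))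
          (LinearMap.ker_eq_bot.2 (W.subtype_injective.comp y.injective))
      obtain ⟨k, hk, hku⟩ := H957.T5Conf.exists_sl_of_lt hu hv hWV
      have h1 : (k : V →ₗ[F] V).comp W.subtype = W.subtype.comp (y : W →ₗ[F] W) := b.ext hku
      have h2 : ∀ w : W, k w = y w := fun w => congrArg (fun f : W →ₗ[F] V => f w) h1
      refine ⟨k, hk, mem_iff_of_le fun v hv => ?_, fun b b' hbb => ?_⟩
      · have h4 := h2 ⟨v, hv⟩
        change k v = _ at h4
        rw [h4]
        exact (y ⟨v, hv⟩).2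
      · apply Subtype.ext
        rw [LinearMap.id_apply, LinearMap.id_apply, hbb]
        exact h2 b)
    (fun _ _ T _ y hy => (inferInstance : (LinearEquiv.det (R := F) (M := W)).ker.Normal).conj_mem y hy T)
    (sgood_sl hs h3 (by omega) (by omega) hiw hd) (semiGood_sl (by omega) φ)
  exact ⟨c, fun v hv => congrArg Subtype.val (hc ⟨v, hv⟩ ⟨g v, hW v hv⟩ rfl)⟩

/-- **invariant quotients** -/
theorem quot_scalar {s : ℕ} (hs : s.Prime) (h3 : 3 ≤ s)
    (hg : Semi φ g) (hx : Comp x g) (hPC : PC s x) {W : Submodule F V} (hW : ∀ v ∈ W, g v ∈ W) (hne : W ≠ ⊥)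
    {i : ℕ} (hi : 2 ≤ i) (hiw : finrank F W + i ≤ finrank F V) (hd : s ∣ Nat.card F ^ i - 1) :
    ∃ c : F, ∀ v, g v - c • v ∈ W := by
  have : Finite V := Module.finite_of_finite F
  have hq := W.finrank_quotient_add_finrank
  have hpos : 0 < finrank F W := by
    rw [Module.finrank_pos_iff, Submodule.nontrivial_iff_ne_bot]; exact hne
  have htop : W ≠ ⊤ := by
    rintro rfl
    rw [finrank_top] at hiw
    omega
  let π : (⊤ : Submodule F V) →ₗ[F] V ⧸ W := W.mkQ.comp (⊤ : Submodule F V).subtype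
  have hπ : ∀ v : (⊤ : Submodule F V), π v = 0 ↔ (v : V) ∈ W := fun v => by
    change W.mkQ (v : V) = 0 ↔ _
    rw [Submodule.mkQ_apply, Submodule.Quotient.mk_eq_zero]
  have : Finite (V ⧸ W) := Quotient.finite _
  obtain ⟨c, hc⟩ := section_lemma (p := π) (Y := (LinearEquiv.det (R := F) (M := V ⧸ W)).ker)
    hs hPC center_scal hg hx (by
      intro u
      obtain ⟨v, rfl⟩ := W.mkQ_surjective u
      exact ⟨⟨v, Submodule.mem_top⟩, rfl⟩) (fun _ _ => Submodule.mem_top) (by
      intro b b' hbb hb0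
      rw [hπ] at hb0 ⊢
      rw [hbb]
      exact hW _ hb0) (by
      obtain ⟨k, hk, w, hw, hkw⟩ := exists_moving (by omega) hne htop
      refine ⟨k, hk, fun T hT => hkw ?_⟩
      rw [← hπ ⟨k w, Submodule.mem_top⟩, hT.2 ⟨w, Submodule.mem_top⟩ ⟨k w, Submodule.mem_top⟩ rfl,
        (hπ ⟨w, Submodule.mem_top⟩).2 hw, map_zero]) (by
      intro y _
      let b : Basis (Fin (finrank F (V ⧸ W))) F (V ⧸ W) := finBasis F (V ⧸ W)
      choose a ha using fun i => W.mkQ_surjective (b i)
      choose a' ha' using fun i => W.mkQ_surjective (y (b i))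
      have hu : LinearIndependent F (fun i => W.mkQ (a i)) := by
        simp only [ha]; exact b.linearIndependent
      have hv : LinearIndependent F (fun i => W.mkQ (a' i)) := by
        simp only [ha']
        exact b.linearIndependent.map' (y : (V ⧸ W) →ₗ[F] V ⧸ W) (LinearMap.ker_eq_bot.2 y.injective)
      obtain ⟨k, hk, hkW, hku⟩ := H548.BS.exists_sl_mod (by omega) rfl hu hv
      have hkW' : ∀ w ∈ W, k w ∈ W := fun w hw => by
        rw [← hkW]; exact ⟨w, hw, rfl⟩
      have h1 : (W.mapQ W (k : V →ₗ[F] V) hkW') = (y : (V ⧸ W) →ₗ[F] V ⧸ W) := by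
        refine b.ext fun i => ?_
        rw [← ha i, Submodule.mkQ_apply, Submodule.mapQ_apply]
        change W.mkQ (k (a i)) = y (W.mkQ (a i))
        rw [hku, ha', ha]
      refine ⟨k, hk, fun v => ⟨fun _ => Submodule.mem_top, fun _ => Submodule.mem_top⟩, fun v v' hv' => ?_⟩
      have h2 := congrArg (fun f : (V ⧸ W) →ₗ[F] V ⧸ W => f (W.mkQ v)) h1
      change W.mkQ (v' : V) = y (W.mkQ v)
      rw [hv']
      exact h2)
    (fun _ _ T _ y hy => (inferInstance : (LinearEquiv.det (R := F) (M := V ⧸ W)).ker.Normal).conj_mem y hy T)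
    (sgood_sl hs h3 (by omega) (show 1 ≤ i by omega) (by omega) hd) (semiGood_sl (by omega) φ)
  refine ⟨c, fun v => ?_⟩
  have h1 := hc ⟨v, Submodule.mem_top⟩ ⟨g v, Submodule.mem_top⟩ rfl
  have h2 : W.mkQ (g v) = c • W.mkQ v := h1
  rw [← map_smul, Submodule.mkQ_apply, Submodule.mkQ_apply, Submodule.Quotient.eq] at h2
  exact h2

end Sections

end Cfsg.Agent.H442.Pi
end
end

-- part: H442/Pi/RowPSL_mg
section
prune_inst 0x3004044002000000800280001c42aa000000000888000080080004802c4200000820900001020020000400380048130800200000000000000000011900800000000080080000400008000000000000000000000000000000000000010000000000000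
set_option linter.all false
open scoped Cfsg.Agent.FastGrp

-- part: H442/Pi/GraphA
section
/-!
# S4324, PSL: graph automorphisms, I (helper442)

`V` of finite dimension over `F`, `Γ = SL(V)`, `b` a nondegenerate sesquilinear form, `x` the automorphism
`h ↦ (h^*)⁻¹` of `Γ / Z(Γ)`; `W`, `W'` subspaces with `W' = W^⊥`, `W = W'^⊥`.

* `scal_of_pair` : `h' = c h` on `W` for the elements `h` stabilising `W` and `W'`.
-/

set_option autoImplicit false
set_option linter.unusedSectionVars false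

namespace Cfsg.Agent.H442.Pi

open Module Submodule
open Cfsg.Agent.H216.Pi (PC coreIn)
open Cfsg.Agent.H809.Sec (IsSc SGood)

universe u v

section

variable {F : Type u} {V : Type v} [Field F] [Finite F] [AddCommGroup V] [Module F V] [FiniteDimensional F V]
  {Γ : Subgroup (V ≃ₗ[F] V)}

/-- nondegenerate reflexive `σ`-sesquilinear forms -/
structure SForm (σ : F ≃+* F) (b : V → V → F) : Prop where
  add_left : ∀ u v w, b (u + v) w = b u w + b v w
  smul_left : ∀ (a : F) u v, b (a • u) v = a * b u v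
  add_right : ∀ u v w, b u (v + w) = b u v + b u w
  smul_right : ∀ (a : F) u v, b u (a • v) = σ a * b u v
  nondeg : ∀ u, (∀ v, b u v = 0) → u = 0
  refl : ∀ u v, b u v = 0 → b v u = 0

/-- `x` is induced by the form `b` -/
def Adj (x : MulAut (↥Γ ⧸ Subgroup.center ↥Γ)) (b : V → V → F) : Prop :=
  ∀ h : Γ, ∃ h' : Γ, (∀ u v, b (h'.1 u) (h.1 v) = b u v) ∧
    x (QuotientGroup.mk' (Subgroup.center ↥Γ) h) = QuotientGroup.mk' (Subgroup.center ↥Γ) h'

/-- the stabiliser of `W` and `W'` -/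
def Stb (Γ : Subgroup (V ≃ₗ[F] V)) (W W' : Submodule F V) : Subgroup ↥Γ where
  carrier := {h | (∀ v, h.1 v ∈ W ↔ v ∈ W) ∧ ∀ v, h.1 v ∈ W' ↔ v ∈ W'}
  mul_mem' := by
    rintro a b ⟨ha1, ha2⟩ ⟨hb1, hb2⟩
    refine ⟨fun v => ?_, fun v => ?_⟩
    · change a.1 (b.1 v) ∈ W ↔ v ∈ W
      rw [ha1, hb1]
    · change a.1 (b.1 v) ∈ W' ↔ v ∈ W'
      rw [ha2, hb2]
  one_mem' := ⟨fun _ => Iff.rfl, fun _ => Iff.rfl⟩
  inv_mem' := by
    rintro a ⟨ha1, ha2⟩
    have hj : ∀ v, a.1 ((a⁻¹).1 v) = v := fun v => a.1.apply_symm_apply v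
    exact ⟨fun v => by rw [← ha1, hj], fun v => by rw [← ha2, hj]⟩

theorem adj_mem {b : V → V → F} {W W' : Submodule F V}
    (hW' : ∀ u, u ∈ W' ↔ ∀ w ∈ W, b u w = 0) (hW : ∀ u, u ∈ W ↔ ∀ w ∈ W', b u w = 0) {h h' : Γ}
    (hh : h ∈ Stb Γ W W') (hb : ∀ u v, b (h'.1 u) (h.1 v) = b u v) : h' ∈ Stb Γ W W' := by
  have hinv : ∀ v, h.1 (h.1.symm v) = v := fun v => h.1.apply_symm_apply v
  refine ⟨mem_iff_of_le fun v hv => ?_, mem_iff_of_le fun v hv => ?_⟩
  · rw [hW]
    intro w hw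
    rw [← hinv w, hb]
    exact (hW v).1 hv _ ((hh.2 _).1 (by rw [hinv]; exact hw))
  · rw [hW']
    intro w hw
    rw [← hinv w, hb]
    exact (hW' v).1 hv _ ((hh.1 _).1 (by rw [hinv]; exact hw))

theorem scal_of_pair (hZ : ∀ z ∈ Subgroup.center ↥Γ, IsSc F (⇑z.1)) {s : ℕ} (hs : s.Prime)
    {x : MulAut (↥Γ ⧸ Subgroup.center ↥Γ)} {σ : F ≃+* F} {b : V → V → F} (hF : SForm σ b) (hx : Adj x b)
    (hPC : PC s x) {W W' : Submodule F V}
    (hW' : ∀ u, u ∈ W' ↔ ∀ w ∈ W, b u w = 0) (hW : ∀ u, u ∈ W ↔ ∀ w ∈ W', b u w = 0)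
    {k₀ : Γ} (hk₀ : k₀ ∉ Stb Γ W W') {Y : Subgroup (W ≃ₗ[F] W)} (hY : SGood s Y) (hYn : Y.Normal)
    (hl : ∀ y ∈ Y, ∃ k ∈ Stb Γ W W', ∀ w : W, k.1 (w : V) = y w) {h h' : Γ} (hh : h ∈ Stb Γ W W')
    (hb : ∀ u v, b (h'.1 u) (h.1 v) = b u v) : ∃ c : F, ∀ w ∈ W, h'.1 w = c • h.1 w := by
  have hVf : Finite V := Module.finite_of_finite F
  have : Finite (V ≃ₗ[F] V) := Finite.of_injective (fun f : V ≃ₗ[F] V => (f : V → V)) DFunLike.coe_injective
  have : Finite ↥Γ := inferInstance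
  let mk := QuotientGroup.mk' (Subgroup.center ↥Γ)
  let M : Subgroup (↥Γ ⧸ Subgroup.center ↥Γ) := (Stb Γ W W').map mk
  have hzs : Subgroup.center ↥Γ ≤ Stb Γ W W' := by
    intro z hz
    obtain ⟨c, hc⟩ := hZ z hz
    exact ⟨mem_iff_of_le fun v hv => by rw [hc]; exact smul_mem _ _ hv,
      mem_iff_of_le fun v hv => by rw [hc]; exact smul_mem _ _ hv⟩
  have hMmem : ∀ k : Γ, mk k ∈ M ↔ k ∈ Stb Γ W W' := by
    intro k
    constructor
    · rintro ⟨l, hl, hkl⟩
      have h1 : l⁻¹ * k ∈ Subgroup.center ↥Γ := by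
        rw [← QuotientGroup.eq]; exact hkl
      have h2 := (Stb Γ W W').mul_mem hl (hzs h1)
      rwa [mul_inv_cancel_left] at h2
    · intro hk
      exact ⟨k, hk, rfl⟩
  have hMne : M ≠ ⊤ := by
    intro hM
    apply hk₀
    rw [← hMmem, hM]
    exact Subgroup.mem_top _
  have hxap : ∀ k k' : Γ, (∀ u v, b (k'.1 u) (k.1 v) = b u v) → k ∈ Stb Γ W W' → k' ∈ Stb Γ W W' :=
    fun k k' hkk hk => adj_mem hW' hW hk hkk
  have hMx : ∀ m ∈ M, x m ∈ M := by
    rintro _ ⟨k, hk, rfl⟩
    obtain ⟨k', hk1, hk2⟩ := hx k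
    rw [hk2]
    exact ⟨k', hxap k k' hk1 hk, rfl⟩
  have key := hPC M hMne hMx
  -- the image of the core
  let N : Subgroup (W ≃ₗ[F] W) :=
    { carrier := {n | ∃ k ∈ Stb Γ W W', mk k ∈ coreIn s M ∧ ∀ w : W, k.1 (w : V) = n w}
      mul_mem' := by
        rintro a c ⟨k, hk1, hk2, hk3⟩ ⟨l, hl1, hl2, hl3⟩
        refine ⟨k * l, mul_mem hk1 hl1, ?_, fun w => ?_⟩
        · rw [map_mul]; exact mul_mem hk2 hl2
        · change k.1 (l.1 (w : V)) = a (c w)
          rw [hl3, hk3]
      one_mem' := ⟨1, one_mem _, by rw [map_one]; exact one_mem _, fun _ => rfl⟩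
      inv_mem' := by
        rintro a ⟨k, hk1, hk2, hk3⟩
        refine ⟨k⁻¹, inv_mem hk1, ?_, fun w => ?_⟩
        · rw [map_inv]; exact inv_mem hk2
        · have h1 := hk3 (a⁻¹ w)
          have h2 : a (a⁻¹ w) = w := a.apply_symm_apply w
          rw [h2] at h1
          rw [← h1]
          exact k.1.symm_apply_apply _ }
  have hNY : ∀ y ∈ Y, ∀ n ∈ N, y * n * y⁻¹ ∈ N := by
      rintro y hy n ⟨k, hk1, hk2, hk3⟩
      obtain ⟨l, hl1, hl2⟩ := hl y hy
      refine ⟨l * k * l⁻¹, mul_mem (mul_mem hl1 hk1) (inv_mem hl1), ?_, fun w => ?_⟩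
      · rw [map_mul, map_mul, map_inv]
        exact H216.Pi.coreIn_conj_mem ⟨l, hl1, rfl⟩ hk2
      · change l.1 (k.1 ((l⁻¹).1 (w : V))) = y (n (y⁻¹ w))
        have h1 : (l⁻¹).1 (w : V) = (y⁻¹ w : W) := by
          have h2 := hl2 (y⁻¹ w)
          have h3 : y (y⁻¹ w) = w := y.apply_symm_apply w
          rw [h3] at h2
          rw [← h2]
          exact l.1.symm_apply_apply _
        rw [h1, hk3, hl2]
  have hNp : ∀ n ∈ N, ∃ k : ℕ, ¬ s ∣ k ∧ IsSc F (⇑(n ^ k)) := by
      rintro n ⟨k, hk1, hk2, hk3⟩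
      refine ⟨Nat.card ↥(coreIn s M), ?_, ?_⟩
      · intro hd
        have h1 := H216.Pi.coreIn_coprime (s := s) M
        exact hs.one_lt.ne' (Nat.Coprime.eq_one_of_dvd h1.symm hd)
      · have h1 : (mk k) ^ Nat.card ↥(coreIn s M) = 1 := by
          have h2 := pow_card_eq_one' (x := (⟨mk k, hk2⟩ : ↥(coreIn s M)))
          exact congrArg Subtype.val h2
        have h2 : k ^ Nat.card ↥(coreIn s M) ∈ Subgroup.center ↥Γ := by
          rw [← map_pow] at h1
          exact (QuotientGroup.eq_one_iff _).1 h1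
        obtain ⟨c, hc⟩ := hZ _ h2
        refine ⟨c, fun w => Subtype.ext ?_⟩
        have h3 : ∀ (j : ℕ) (w : W), (k ^ j).1 (w : V) = (n ^ j) w := by
          intro j w
          induction j with
          | zero => rfl
          | succ j ih =>
            rw [pow_succ', pow_succ']
            change k.1 ((k ^ j).1 (w : V)) = n ((n ^ j) w)
            rw [ih, hk3]
        have h4 := h3 (Nat.card ↥(coreIn s M)) w
        rw [← h4]
        exact hc w
  have hN1 : ∀ n ∈ N ⊓ Y, IsSc F (⇑n) := by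
    refine hY.core (N ⊓ Y) inf_le_right ?_ (fun n hn => hNp n hn.1)
    intro y hy n hn
    exact ⟨hNY y hy n hn.1, Y.mul_mem (Y.mul_mem hy hn.2) (Y.inv_mem hy)⟩
  have hN : ∀ n ∈ N, IsSc F (⇑n) := by
    intro r hr
    apply hY.lin
    intro y hy
    obtain ⟨c, hc⟩ := hN1 (r * y * r⁻¹ * y⁻¹) ⟨by
      have h3 : r * y * r⁻¹ * y⁻¹ = r * (y * r⁻¹ * y⁻¹) := by group
      rw [h3]
      exact N.mul_mem hr (hNY y hy _ (N.inv_mem hr)), Y.mul_mem (hYn.conj_mem y hy r) (Y.inv_mem hy)⟩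
    refine ⟨c, fun v => ?_⟩
    have h4 := hc (y (r v))
    have h5 : (r * y * r⁻¹ * y⁻¹) (y (r v)) = r (y v) := by
      have : (r * y * r⁻¹ * y⁻¹) * (y * r) = r * y := by group
      exact LinearEquiv.congr_fun this v
    rw [← h5, h4]
  -- the element `h⁻¹ h'`
  obtain ⟨h'', h1, h2⟩ := hx h
  -- `h''` and `h'` agree
  have hneg : ∀ u v, b (-u) v = - b u v := fun u v => by
    rw [← neg_one_smul F u, hF.smul_left, neg_one_mul]
  have heq : h' = h'' := by
    apply Subtype.ext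
    apply LinearEquiv.ext
    intro u
    rw [← sub_eq_zero]
    apply hF.nondeg
    intro v
    have h3 : h.1 (h.1.symm v) = v := h.1.apply_symm_apply v
    rw [← h3, sub_eq_add_neg, hF.add_left, hneg, hb, h1, add_neg_cancel]
  subst heq
  have hh' := hxap h h' hb hh
  have hkS : h⁻¹ * h' ∈ Stb Γ W W' := mul_mem (inv_mem hh) hh'
  have hkM : mk (h⁻¹ * h') ∈ coreIn s M := by
    have h3 := key (mk h) ⟨h, hh, rfl⟩
    rw [h2] at h3
    exact h3
  obtain ⟨k, hk⟩ : ∃ k : Γ, k = h⁻¹ * h' := ⟨_, rfl⟩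
  rw [← hk] at hkS hkM
  let f : W →ₗ[F] W := (k.1 : V →ₗ[F] V).restrict (fun v hv => (hkS.1 v).2 hv)
  have hf : Function.Injective f := by
    intro u w huw
    exact Subtype.ext (k.1.injective (congrArg Subtype.val huw))
  let n : W ≃ₗ[F] W := LinearEquiv.ofInjectiveEndo f hf
  have hn : ∀ w : W, k.1 (w : V) = n w := fun w => rfl
  obtain ⟨c, hc⟩ := hN n ⟨k, hkS, hkM, hn⟩
  refine ⟨c, fun w hw => ?_⟩
  have h3 := congrArg Subtype.val (hc ⟨w, hw⟩)
  rw [← hn] at h3
  have h4 : h' = h * k := by rw [hk, mul_inv_cancel_left]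
  rw [h4]
  change h.1 (k.1 w) = c • h.1 w
  change k.1 w = c • w at h3
  rw [h3, map_smul]

end

end Cfsg.Agent.H442.Pi
end

-- part: H442/Pi/GraphB
section
/-!
# S4324, PSL: graph automorphisms, II (helper442)

* `false_of_anis` : the form is not alternating;
* `false_of_alt` : the form is alternating.
-/

set_option autoImplicit false
set_option linter.unusedSectionVars false

namespace Cfsg.Agent.H442.Pi

open Module Submodule
open Cfsg.Agent.H216.Pi (PC)
open Cfsg.Agent.H809.Sec (sgood_sl)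

universe u v

section

variable {F : Type u} {V : Type v} [Field F] [Finite F] [AddCommGroup V] [Module F V] [FiniteDimensional F V]
  {σ : F ≃+* F} {b : V → V → F}

theorem SForm.zero_left (h : SForm σ b) (v : V) : b 0 v = 0 := by
  have := h.smul_left 0 0 v
  rwa [zero_smul, zero_mul] at this

theorem SForm.zero_right (h : SForm σ b) (v : V) : b v 0 = 0 := h.refl _ _ (h.zero_left v)

/-- the functional `b(·, v)` -/
def SForm.fn (h : SForm σ b) (v : V) : V →ₗ[F] F where
  toFun u := b u v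
  map_add' u w := h.add_left u w v
  map_smul' a u := h.smul_left a u v

/-- the subspace `W^⊥` -/
def SForm.perp (h : SForm σ b) (W : Submodule F V) : Submodule F V where
  carrier := {u | ∀ w ∈ W, b u w = 0}
  add_mem' := fun {x y} hx hy w hw => by rw [h.add_left, hx w hw, hy w hw, add_zero]
  zero_mem' := fun w _ => h.zero_left w
  smul_mem' := fun a x hx w hw => by rw [h.smul_left, hx w hw, mul_zero]

theorem SForm.le_finrank_perp (h : SForm σ b) (W : Submodule F V) :
    finrank F V ≤ finrank F W + finrank F (h.perp W) := by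
  let e := finBasis F W
  let f : V →ₗ[F] (Fin (finrank F W) → F) := LinearMap.pi fun i => h.fn (e i)
  have h1 : LinearMap.ker f ≤ h.perp W := by
    intro u hu w hw
    have h2 : ∀ i, b u (e i) = 0 := fun i => congrFun (LinearMap.mem_ker.1 hu) i
    have h3 : (⟨w, hw⟩ : W) ∈ span F (Set.range e) := by rw [e.span_eq]; exact mem_top
    have h4 : ∀ z ∈ span F (Set.range e), b u (z : V) = 0 := by
      intro z hz
      induction hz using Submodule.span_induction with
      | mem z hz => obtain ⟨i, rfl⟩ := hz; exact h2 i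
      | zero => exact h.zero_right u
      | add x y _ _ hx hy => rw [Submodule.coe_add, h.add_right, hx, hy, add_zero]
      | smul a x _ hx => rw [Submodule.coe_smul, h.smul_right, hx, mul_zero]
    exact h4 _ h3
  have h2 := LinearMap.finrank_range_add_finrank_ker f
  have h3 : finrank F (LinearMap.range f) ≤ finrank F W := by
    refine (finrank_le _).trans ?_
    rw [Module.finrank_fin_fun]
  have h4 := finrank_mono h1
  omega

theorem SForm.exists_pair (h : SForm σ b) (h2 : 2 ≤ finrank F V) {v : V} (hv : b v v ≠ 0) :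
    ∃ v y : V, b v v ≠ 0 ∧ b y y ≠ 0 ∧ b v y = 0 ∧ b y v = 0 := by
  by_cases hy : ∃ y, b y v = 0 ∧ b y y ≠ 0
  · obtain ⟨y, h1, h3⟩ := hy
    exact ⟨v, y, hv, h3, h.refl _ _ h1, h1⟩
  push Not at hy
  have hv0 : v ≠ 0 := fun h1 => hv (by rw [h1]; exact h.zero_left 0)
  -- `w ∈ v^⊥`
  have hpv : h.perp (span F {v}) ≠ ⊥ := by
    intro h1
    have h3 := h.le_finrank_perp (span F {v})
    rw [h1, finrank_bot, finrank_span_singleton hv0] at h3
    omega
  obtain ⟨w, hw, hw0⟩ := Submodule.exists_mem_ne_zero_of_ne_bot hpv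
  have hwv : b w v = 0 := hw v (mem_span_singleton_self v)
  have hvw : b v w = 0 := h.refl _ _ hwv
  obtain ⟨u, huv, huw⟩ : ∃ u, b u v = 0 ∧ b u w ≠ 0 := by
    by_contra hcon
    push Not at hcon
    apply hw0
    apply h.nondeg
    intro z
    apply h.refl
    have h3 : z = (z + (-(b z v / b v v)) • v) + (b z v / b v v) • v := by
      rw [neg_smul, neg_add_cancel_right]
    have h4 : b (z + (-(b z v / b v v)) • v) v = 0 := by
      rw [h.add_left, h.smul_left, neg_mul, div_mul_cancel₀ _ hv, add_neg_cancel]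
    rw [h3, h.add_left, hcon _ h4, h.smul_left, hvw, mul_zero, add_zero]
  have huu : b u u = 0 := hy u huv
  have hww : b w w = 0 := hy w hwv
  have hvu : b v u = 0 := h.refl _ _ huv
  obtain ⟨a, ha⟩ : ∃ a, a = -(b u w / b v v) := ⟨_, rfl⟩
  have ha0 : a ≠ 0 := by rw [ha]; exact neg_ne_zero.2 (div_ne_zero huw hv)
  have h5 : b (a • v + u) (v + w) = 0 := by
    rw [h.add_right, h.add_left, h.add_left, h.smul_left, h.smul_left, huv, hvw, mul_zero, add_zero, zero_add, ha,
      neg_mul, div_mul_cancel₀ _ hv, neg_add_cancel]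
  refine ⟨v + w, a • v + u, ?_, ?_, h.refl _ _ h5, h5⟩
  · rw [h.add_right, h.add_left, h.add_left, hwv, hvw, hww, add_zero, add_zero, add_zero]
    exact hv
  · have h6 : b (a • v + u) (a • v + u) = a * (σ a * b v v) := by
      simp only [h.add_right, h.add_left, h.smul_left, h.smul_right, hvu, huu, huv, mul_zero, add_zero]
    rw [h6]
    exact mul_ne_zero ha0 (mul_ne_zero (by simpa using ha0) hv)

variable {x : MulAut (↥(LinearEquiv.det (R := F) (M := V)).ker ⧸ Subgroup.center ↥(LinearEquiv.det (R := F) (M := V)).ker)}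

/-- **the form is not alternating** -/
theorem false_of_anis {s : ℕ} (hs : s.Prime) (h3 : 3 ≤ s)
    (hF : SForm σ b) (hx : Adj x b) (hPC : PC s x) (hn : 3 ≤ finrank F V) {i : ℕ} (hi : 2 ≤ i)
    (hin : 2 * i ≤ finrank F V + 1) (hd : s ∣ Nat.card F ^ i - 1) {v : V} (hv : b v v ≠ 0) : False := by
  obtain ⟨v, y, hv, hy, hvy, hyv⟩ := hF.exists_pair (by omega) hv
  have hv0 : v ≠ 0 := fun h1 => hv (by rw [h1]; exact hF.zero_left 0)
  have hy0 : y ≠ 0 := fun h1 => hy (by rw [h1]; exact hF.zero_left 0)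
  obtain ⟨W, hW⟩ : ∃ W, W = hF.perp (span F {v}) := ⟨_, rfl⟩
  have hWm : ∀ u, u ∈ W ↔ b u v = 0 := by
    intro u
    rw [hW]
    constructor
    · intro h; exact h v (mem_span_singleton_self v)
    · intro h w hw
      obtain ⟨r, rfl⟩ := mem_span_singleton.1 hw
      rw [hF.smul_right, h, mul_zero]
  have hWf : finrank F V ≤ 1 + finrank F W := by
    have h1 := hF.le_finrank_perp (span F {v})
    rwa [finrank_span_singleton hv0, ← hW] at h1
  have hvW : v ∉ W := fun h => hv ((hWm v).1 h)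
  have hWt : W ≠ ⊤ := fun h => hvW (h ▸ mem_top)
  have hyW : y ∈ W := (hWm y).2 hyv
  have hWb : W ≠ ⊥ := fun h => hy0 (by rw [h, mem_bot] at hyW; exact hyW)
  have hWlt := Submodule.finrank_lt hWt
  -- `W^⊥ = ⟨v⟩`
  have hperp : ∀ u, u ∈ span F {v} ↔ ∀ w ∈ W, b u w = 0 := by
    intro u
    constructor
    · intro hu w hw
      obtain ⟨r, rfl⟩ := mem_span_singleton.1 hu
      rw [hF.smul_left, hF.refl _ _ ((hWm w).1 hw), mul_zero]
    · intro hu
      have e1 : u = (u + (-(b u v / b v v)) • v) + (b u v / b v v) • v := by rw [neg_smul, neg_add_cancel_right]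
      have e2 : b (u + (-(b u v / b v v)) • v) v = 0 := by
        rw [hF.add_left, hF.smul_left, neg_mul, div_mul_cancel₀ _ hv, add_neg_cancel]
      have e3 : u + (-(b u v / b v v)) • v = 0 := by
        apply hF.nondeg
        intro z
        have e4 : z = (z + (-(b z v / b v v)) • v) + (b z v / b v v) • v := by rw [neg_smul, neg_add_cancel_right]
        have e5 : z + (-(b z v / b v v)) • v ∈ W := (hWm _).2 (by
          rw [hF.add_left, hF.smul_left, neg_mul, div_mul_cancel₀ _ hv, add_neg_cancel])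
        rw [e4, hF.add_right, hF.smul_right, e2, mul_zero, add_zero, hF.add_left, hu _ e5, hF.smul_left,
          hF.refl _ _ ((hWm _).1 e5), mul_zero, add_zero]
      rw [e1, e3, zero_add]
      exact smul_mem _ _ (mem_span_singleton_self v)
  have hperp' : ∀ u, u ∈ W ↔ ∀ w ∈ span F {v}, b u w = 0 := by
    intro u
    rw [hW]; rfl
  -- a moving element
  obtain ⟨k₀, hk₀, w₀, hw₀, hkw₀⟩ := exists_moving (by omega) hWb hWt
  -- `z`
  obtain ⟨z, hzv, hzy, hz0⟩ : ∃ z, b z v = 0 ∧ b z y = 0 ∧ z ≠ 0 := by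
    have h1 : hF.perp (span F {v, y}) ≠ ⊥ := by
      intro h1
      have h4 := hF.le_finrank_perp (span F {v, y})
      rw [h1, finrank_bot] at h4
      have h5 : finrank F (span F ({v, y} : Set V)) ≤ 2 := by
        rw [span_insert]
        refine (finrank_add_le_finrank_add_finrank _ _).trans ?_
        rw [finrank_span_singleton hv0, finrank_span_singleton hy0]
      omega
    obtain ⟨z, hz, hz0⟩ := Submodule.exists_mem_ne_zero_of_ne_bot h1
    exact ⟨z, hz v (subset_span (by simp)), hz y (subset_span (by simp)), hz0⟩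
  have hzs : z ∉ span F {v, y} := by
    intro h
    obtain ⟨α, β, rfl⟩ := mem_span_pair.1 h
    have e1 : α = 0 := by
      rw [hF.add_left, hF.smul_left, hF.smul_left, hyv, mul_zero, add_zero] at hzv
      exact (mul_eq_zero.1 hzv).resolve_right hv
    have e2 : β = 0 := by
      rw [hF.add_left, hF.smul_left, hF.smul_left, hvy, mul_zero, zero_add] at hzy
      exact (mul_eq_zero.1 hzy).resolve_right hy
    apply hz0
    rw [e1, e2, zero_smul, zero_smul, add_zero]
  obtain ⟨f, hfz, hf⟩ := exists_le_ker_of_notMem hzs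
  have hfv : f v = 0 := hf (subset_span (by simp))
  have hfy : f y = 0 := hf (subset_span (by simp))
  let T : V ≃ₗ[F] V := LinearEquiv.transvection hfy
  have hTa : ∀ u, T u = u + f u • y := fun u => rfl
  have hTd : LinearEquiv.det T = 1 := LinearEquiv.transvection.det_eq_one hfy
  have hT : (⟨T, hTd⟩ : ↥(LinearEquiv.det (R := F) (M := V)).ker) ∈ Stb _ W (span F {v}) := by
    refine ⟨mem_iff_of_le fun u hu => ?_, mem_iff_of_le fun u hu => ?_⟩
    · change T u ∈ W
      rw [hTa]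
      exact add_mem hu (smul_mem _ _ hyW)
    · change T u ∈ span F {v}
      obtain ⟨r, rfl⟩ := mem_span_singleton.1 hu
      rw [hTa, map_smul, hfv, smul_zero, zero_smul, add_zero]
      exact hu
  obtain ⟨T', hT1, -⟩ := hx ⟨T, hTd⟩
  obtain ⟨c, hc⟩ := scal_of_pair (k₀ := ⟨k₀, hk₀⟩) (by exact center_scal) hs hF hx hPC (W := W) (W' := span F {v}) hperp hperp'
    (fun h => hkw₀ ((h.1 w₀).2 hw₀))
    (sgood_sl hs h3 (by omega) (show 1 ≤ i by omega) (by omega) hd) inferInstance (by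
      intro q _
      let e : Basis (Fin (finrank F W)) F W := finBasis F W
      have hinj : Function.Injective ((span F {v}).mkQ.comp W.subtype) := by
        rw [← LinearMap.ker_eq_bot, LinearMap.ker_eq_bot']
        intro w hw
        have h1 : (w : V) ∈ span F {v} := by
          rw [LinearMap.comp_apply, mkQ_apply, Submodule.Quotient.mk_eq_zero] at hw
          exact hw
        obtain ⟨r, hr⟩ := mem_span_singleton.1 h1
        have h4 := (hWm w).1 w.2
        rw [← hr, hF.smul_left] at h4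
        have h5 := (mul_eq_zero.1 h4).resolve_right hv
        apply Subtype.ext
        rw [← hr, h5, zero_smul]
        rfl
      have hu : LinearIndependent F (fun k => (span F {v}).mkQ ((e k : W) : V)) :=
        e.linearIndependent.map' ((span F {v}).mkQ.comp W.subtype) (LinearMap.ker_eq_bot.2 hinj)
      have hw : LinearIndependent F (fun k => (span F {v}).mkQ ((q (e k) : W) : V)) :=
        e.linearIndependent.map' (((span F {v}).mkQ.comp W.subtype).comp (q : W →ₗ[F] W))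
          (LinearMap.ker_eq_bot.2 (hinj.comp q.injective))
      obtain ⟨k, hk, hkv, hku⟩ := H548.BS.exists_sl_mod (by omega) rfl hu hw
      have h1 : (k : V →ₗ[F] V).comp W.subtype = W.subtype.comp (q : W →ₗ[F] W) := e.ext hku
      have h2 : ∀ w : W, k w = q w := fun w => congrArg (fun f : W →ₗ[F] V => f w) h1
      refine ⟨⟨k, hk⟩, ⟨mem_iff_of_le fun u hu => ?_, mem_iff_of_le fun u hu => ?_⟩, h2⟩
      · have h4 := h2 ⟨u, hu⟩
        change k u = _ at h4
        change k u ∈ W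
        rw [h4]
        exact (q ⟨u, hu⟩).2
      · change k u ∈ span F {v}
        rw [← hkv]
        exact ⟨u, hu, rfl⟩) hT hT1
  have hTy : T y = y := by rw [hTa, hfy, zero_smul, add_zero]
  have hcy : T'.1 y = c • y := by
    have h1 := hc y hyW
    change T'.1 y = c • T y at h1
    rwa [hTy] at h1
  have hc0 : c ≠ 0 := by
    rintro rfl
    rw [zero_smul] at hcy
    exact hy0 (T'.1.injective (hcy.trans (map_zero _).symm))
  have h4 := hT1 y z
  change b (T'.1 y) (T z) = b y z at h4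
  rw [hcy, hTa, hF.smul_left, hF.add_right, hF.refl _ _ hzy, hF.smul_right, zero_add] at h4
  have h5 := mul_ne_zero hc0 (mul_ne_zero (show σ (f z) ≠ 0 by simpa only [_root_.ne_eq, _root_.EmbeddingLike.map_eq_zero_iff] using hfz) hy)
  exact h5 h4

/-- a maximal totally isotropic subspace -/
theorem SForm.exists_lagrangian (h : SForm σ b) (halt : ∀ v, b v v = 0) :
    ∃ W : Submodule F V, ∀ u, u ∈ W ↔ ∀ w ∈ W, b u w = 0 := by
  obtain ⟨W, hW, hmax⟩ : ∃ W : Submodule F V, (∀ u ∈ W, ∀ w ∈ W, b u w = 0) ∧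
      ∀ W' : Submodule F V, (∀ u ∈ W', ∀ w ∈ W', b u w = 0) → finrank F W' ≤ finrank F W := by
    classical
    have hex : ∃ k, ∃ W : Submodule F V, (∀ u ∈ W, ∀ w ∈ W, b u w = 0) ∧ finrank F W = k :=
      ⟨_, ⊥, fun u hu w _ => by rw [mem_bot] at hu; rw [hu]; exact h.zero_left w, rfl⟩
    have hb : ∀ k, (∃ W : Submodule F V, (∀ u ∈ W, ∀ w ∈ W, b u w = 0) ∧ finrank F W = k) → k ≤ finrank F V := by
      rintro k ⟨W, -, rfl⟩
      exact finrank_le W
    obtain ⟨W, hW, hWk⟩ := Nat.findGreatest_spec (P := fun k => ∃ W : Submodule F V, (∀ u ∈ W, ∀ w ∈ W, b u w = 0) ∧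
      finrank F W = k) (hb _ hex.choose_spec) hex.choose_spec
    refine ⟨W, hW, fun W' hW' => ?_⟩
    rw [hWk]
    exact Nat.le_findGreatest (finrank_le W') ⟨W', hW', rfl⟩
  refine ⟨W, fun u => ⟨fun hu => hW u hu, fun hu => ?_⟩⟩
  by_contra huW
  have h1 := hmax (W ⊔ span F {u}) (by
    intro x hx y hy
    obtain ⟨w1, hw1, z1, hz1, rfl⟩ := mem_sup.1 hx
    obtain ⟨w2, hw2, z2, hz2, rfl⟩ := mem_sup.1 hy
    obtain ⟨r1, rfl⟩ := mem_span_singleton.1 hz1
    obtain ⟨r2, rfl⟩ := mem_span_singleton.1 hz2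
    simp only [h.add_right, h.add_left, h.smul_left, h.smul_right, hW _ hw1 _ hw2, hu _ hw2,
      h.refl _ _ (hu _ hw1), halt u, mul_zero, add_zero])
  have h2 : W < W ⊔ span F {u} := by
    refine lt_of_le_of_ne le_sup_left fun h3 => huW ?_
    rw [h3]
    exact mem_sup_right (mem_span_singleton_self u)
  have h3 := finrank_lt_finrank_of_lt h2
  omega

/-- **the form is alternating** -/
theorem false_of_alt {s : ℕ} (hs : s.Prime) (h3 : 3 ≤ s)
    (hF : SForm σ b) (hx : Adj x b) (hPC : PC s x) (hn : 3 ≤ finrank F V) {i : ℕ} (hi : 2 ≤ i)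
    (hin : 2 * i ≤ finrank F V + 1) (hd : s ∣ Nat.card F ^ i - 1) (halt : ∀ v, b v v = 0) : False := by
  obtain ⟨W, hW⟩ := hF.exists_lagrangian halt
  have hWp : hF.perp W = W := by
    ext u
    rw [hW u]
    rfl
  have hWf := hF.le_finrank_perp W
  rw [hWp] at hWf
  have hiW : i ≤ finrank F W := by omega
  have hWt : W ≠ ⊤ := by
    rintro rfl
    have h1 : finrank F V = 0 := by
      rw [finrank_zero_iff]
      refine ⟨fun u w => ?_⟩
      have h2 : ∀ u : V, u = 0 := fun u => hF.nondeg u fun v => (hW u).1 mem_top v mem_top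
      rw [h2 u, h2 w]
    omega
  have hWb : W ≠ ⊥ := by
    rintro rfl
    rw [finrank_bot] at hiW
    omega
  have hWlt := Submodule.finrank_lt hWt
  obtain ⟨k₀, hk₀, w₀, hw₀, hkw₀⟩ := exists_moving (by omega) hWb hWt
  obtain ⟨y, hyW, hy0⟩ := Submodule.exists_mem_ne_zero_of_ne_bot hWb
  obtain ⟨z, hzW, hz⟩ : ∃ z ∈ W, z ∉ span F {y} := by
    by_contra hcon
    push Not at hcon
    have h1 : W ≤ span F {y} := fun w hw => hcon w hw
    have h2 := finrank_mono h1
    rw [finrank_span_singleton hy0] at h2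
    omega
  obtain ⟨f, hfz, hf⟩ := exists_le_ker_of_notMem hz
  have hfy : f y = 0 := hf (mem_span_singleton_self y)
  let T : V ≃ₗ[F] V := LinearEquiv.transvection hfy
  have hTa : ∀ u, T u = u + f u • y := fun u => rfl
  have hTd : LinearEquiv.det T = 1 := LinearEquiv.transvection.det_eq_one hfy
  have hT : (⟨T, hTd⟩ : ↥(LinearEquiv.det (R := F) (M := V)).ker) ∈ Stb _ W W := by
    have h1 : ∀ u ∈ W, T u ∈ W := fun u hu => by
      rw [hTa]
      exact add_mem hu (smul_mem _ _ hyW)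
    exact ⟨mem_iff_of_le h1, mem_iff_of_le h1⟩
  obtain ⟨T', hT1, -⟩ := hx ⟨T, hTd⟩
  obtain ⟨c, hc⟩ := scal_of_pair (k₀ := ⟨k₀, hk₀⟩) (by exact center_scal) hs hF hx hPC (W := W) (W' := W) hW hW
    (fun h => hkw₀ ((h.1 w₀).2 hw₀))
    (sgood_sl hs h3 (by omega) (show 1 ≤ i by omega) hiW hd) inferInstance (by
      intro q _
      let e : Basis (Fin (finrank F W)) F W := finBasis F W
      have hu : LinearIndependent F (fun k => (e k : V)) :=
        e.linearIndependent.map' W.subtype (LinearMap.ker_eq_bot.2 W.subtype_injective)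
      have hv : LinearIndependent F (fun k => (q (e k) : V)) :=
        e.linearIndependent.map' (W.subtype.comp (q : W →ₗ[F] W))
          (LinearMap.ker_eq_bot.2 (W.subtype_injective.comp q.injective))
      obtain ⟨k, hk, hku⟩ := H957.T5Conf.exists_sl_of_lt hu hv hWlt
      have h1 : (k : V →ₗ[F] V).comp W.subtype = W.subtype.comp (q : W →ₗ[F] W) := e.ext hku
      have h2 : ∀ w : W, k w = q w := fun w => congrArg (fun f : W →ₗ[F] V => f w) h1
      have h4 : ∀ u ∈ W, k u ∈ W := by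
        intro u hu
        have h4 := h2 ⟨u, hu⟩
        change k u = _ at h4
        rw [h4]
        exact (q ⟨u, hu⟩).2
      exact ⟨⟨k, hk⟩, ⟨mem_iff_of_le h4, mem_iff_of_le h4⟩, h2⟩) hT hT1
  have hT'W := adj_mem hW hW hT hT1
  -- `T'` is trivial on `W`
  have hT'1 : ∀ w ∈ W, T'.1 w = w := by
    intro w hw
    rw [← sub_eq_zero]
    apply hF.nondeg
    intro u
    have h1 := hT1 w u
    change b (T'.1 w) (T u) = b w u at h1
    rw [hTa, hF.add_right, hF.smul_right, (hW (T'.1 w)).1 ((hT'W.1 w).2 hw) y hyW, mul_zero, add_zero] at h1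
    have h2 : b (-w) u = - b w u := by rw [← neg_one_smul F w, hF.smul_left, neg_one_mul]
    rw [sub_eq_add_neg, hF.add_left, h1, h2, add_neg_cancel]
  have h4 := hc y hyW
  change T'.1 y = c • T y at h4
  rw [hT'1 y hyW, hTa, hfy, zero_smul, add_zero] at h4
  have hc1 : c = 1 := by
    have h5 : (1 - c) • y = 0 := by rw [sub_smul, one_smul, ← h4, sub_self]
    exact (sub_eq_zero.1 ((smul_eq_zero.1 h5).resolve_right hy0)).symm
  have h5 := hc z hzW
  change T'.1 z = c • T z at h5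
  rw [hT'1 z hzW, hTa, hc1, one_smul] at h5
  have h6 : f z • y = 0 := by
    have h7 : z + f z • y = z + 0 := by rw [add_zero, ← h5]
    exact add_left_cancel h7
  rcases smul_eq_zero.1 h6 with h7 | h7
  · exact hfz h7
  · exact hy0 h7

end

end Cfsg.Agent.H442.Pi
end

-- part: H442/Pi/IrrB
section
/-!
# S4324, PSL: irreducible elements, II (helper442)

* `det_eq_one_of_irr` : an irreducible matrix with `X ^ p = 1` has determinant 1;
* `exists_monomial` : an irreducible matrix with `A ^ p = λ`, not a `p`-th power, is monomial in a suitable basis;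
* `exists_of_monomial` : the commutator with a diagonal matrix.
-/

set_option autoImplicit false
set_option linter.unusedSectionVars false

namespace Cfsg.Agent.H442.Pi

open Matrix Polynomial
open Cfsg.Agent.ClassicalGeometry.AutPSL.Root
open Cfsg.Agent.ClassicalGeometry.AutPSL.Auto
open Cfsg.Agent.ClassicalGeometry.AutPSL.Main

variable {F : Type*} [Field F] {ι : Type*} [Fintype ι] [DecidableEq ι]

theorem false_of_eigenvector (hι : 2 ≤ Fintype.card ι) {X : Matrix ι ι F}
    (irr : ∀ W : Submodule F (ι → F), W ≠ ⊥ → (∀ v ∈ W, X *ᵥ v ∈ W) → W = ⊤) {v : ι → F} (hv : v ≠ 0) {c : F}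
    (h : X *ᵥ v = c • v) : False := by
  have h1 := irr (Submodule.span F {v}) (by rwa [Ne, Submodule.span_singleton_eq_bot]) (by
    intro u hu
    obtain ⟨r, rfl⟩ := Submodule.mem_span_singleton.1 hu
    rw [mulVec_smul, h]
    exact Submodule.smul_mem _ _ (Submodule.smul_mem _ _ (Submodule.mem_span_singleton_self v)))
  have h2 := finrank_span_singleton (K := F) hv
  rw [h1, finrank_top, Module.finrank_fintype_fun_eq_card] at h2
  omega

theorem aeval_toLin' {p : ℕ} {X : Matrix ι ι F} {l : F} (hX : X ^ p = l • 1) :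
    aeval (toLin' X) (Polynomial.X ^ p - C l) = 0 := by
  rw [map_sub, map_pow, aeval_X, aeval_C, ← toLin'_pow, hX, map_smul, toLin'_one, Algebra.algebraMap_eq_smul_one,
    sub_eq_zero]
  rfl

theorem det_eq_one_of_irr (hι : 2 ≤ Fintype.card ι) {p : ℕ} (hp : p.Prime) {X : Matrix ι ι F} (hX : X ^ p = 1)
    (irr : ∀ W : Submodule F (ι → F), W ≠ ⊥ → (∀ v ∈ W, X *ᵥ v ∈ W) → W = ⊤) : X.det = 1 := by
  have hne' : Nonempty ι := Fintype.card_pos_iff.1 (by omega)
  by_contra hne
  have hd : X.det ^ p = 1 := by rw [← det_pow, hX, det_one]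
  have : Fact p.Prime := ⟨hp⟩
  have hδ : IsPrimitiveRoot X.det p := IsPrimitiveRoot.iff_orderOf.2 (orderOf_eq_prime hd hne)
  have h1 : minpoly F (toLin' X) ∣ Polynomial.X ^ p - 1 := by
    refine minpoly.dvd F _ ?_
    have h2 := aeval_toLin' (p := p) (X := X) (l := 1) (by rw [hX, one_smul])
    rwa [C_1] at h2
  have h2 : (minpoly F (toLin' X)).Splits :=
    (X_pow_sub_one_splits hδ).of_dvd (X_pow_sub_C_ne_zero hp.pos 1) h1
  obtain ⟨c, hc⟩ := h2.exists_eval_eq_zero (minpoly.degree_pos (LinearMap.isIntegral (toLin' X))).ne'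
  obtain ⟨v, hv⟩ := (Module.End.hasEigenvalue_of_isRoot (f := toLin' X) hc).exists_hasEigenvector
  refine false_of_eigenvector hι irr hv.2 (c := c) ?_
  have h3 := hv.apply_eq_smul
  rwa [toLin'_apply] at h3

/-- **monomial form** -/
theorem exists_monomial {n : ℕ} (hn : 1 ≤ n) {p : ℕ} (hp : p.Prime) {A : GL (Fin n) F} {l : F}
    (hA : (A : Matrix (Fin n) (Fin n) F) ^ p = l • 1) (hl : ∀ b : F, b ^ p ≠ l)
    (irr : ∀ W : Submodule F (Fin n → F), W ≠ ⊥ → (∀ v ∈ W, (A : Matrix (Fin n) (Fin n) F) *ᵥ v ∈ W) → W = ⊤) :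
    n = p ∧ ∃ P : GL (Fin n) F, ∀ i j, ((P⁻¹ * A * P : GL (Fin n) F) : Matrix (Fin n) (Fin n) F) i j ≠ 0 →
      i = finRotate n j := by
  have : NeZero n := ⟨by omega⟩
  have : Nonempty (Fin n) := ⟨0⟩
  have hirr := X_pow_sub_C_irreducible_of_prime hp hl
  have hmin := minpoly.eq_of_irreducible_of_monic hirr (aeval_toLin' hA) (monic_X_pow_sub_C l hp.ne_zero)
  have h1 : p ≤ n := by
    have h2 := natDegree_le_of_dvd (LinearMap.minpoly_dvd_charpoly (toLin' (A : Matrix (Fin n) (Fin n) F)))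
      (LinearMap.charpoly_monic _).ne_zero
    rw [← hmin, natDegree_X_pow_sub_C, LinearMap.charpoly_natDegree, Module.finrank_fintype_fun_eq_card,
      Fintype.card_fin] at h2
    exact h2
  obtain ⟨v, hv⟩ := exists_ne (0 : Fin n → F)
  obtain ⟨b, hb⟩ : ∃ b : Fin p → (Fin n → F), ∀ i, b i = ((A : Matrix (Fin n) (Fin n) F) ^ (i : ℕ)) *ᵥ v :=
    ⟨_, fun _ => rfl⟩
  have hp0 := hp.pos
  have hAb : ∀ i : ℕ, (A : Matrix (Fin n) (Fin n) F) *ᵥ (((A : Matrix (Fin n) (Fin n) F) ^ i) *ᵥ v) =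
      ((A : Matrix (Fin n) (Fin n) F) ^ (i + 1)) *ᵥ v := fun i => by
    rw [mulVec_mulVec, ← pow_succ']
  have hspan : Submodule.span F (Set.range b) = ⊤ := by
    refine irr _ ?_ ?_
    · intro h
      apply hv
      have h2 : b ⟨0, hp0⟩ ∈ Submodule.span F (Set.range b) := Submodule.subset_span ⟨_, rfl⟩
      rw [h, Submodule.mem_bot, hb] at h2
      simpa using h2
    · intro u hu
      induction hu using Submodule.span_induction with
      | mem u hu =>
        obtain ⟨i, rfl⟩ := hu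
        rw [hb, hAb]
        by_cases hi : (i : ℕ) + 1 < p
        · have h2 : b ⟨i + 1, hi⟩ ∈ Submodule.span F (Set.range b) := Submodule.subset_span ⟨_, rfl⟩
          rwa [hb] at h2
        · have h3 : (i : ℕ) + 1 = p := by have := i.2; omega
          rw [h3, hA, smul_mulVec, one_mulVec]
          have h2 : b ⟨0, hp0⟩ ∈ Submodule.span F (Set.range b) := Submodule.subset_span ⟨_, rfl⟩
          rw [hb, pow_zero, one_mulVec] at h2
          exact Submodule.smul_mem _ _ h2
      | zero => rw [mulVec_zero]; exact Submodule.zero_mem _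
      | add x y _ _ hx hy => rw [mulVec_add]; exact Submodule.add_mem _ hx hy
      | smul a x _ hx => rw [mulVec_smul]; exact Submodule.smul_mem _ _ hx
  have h2 : n ≤ p := by
    have h3 := finrank_range_le_card (R := F) b
    unfold Set.finrank at h3
    rw [hspan, finrank_top, Module.finrank_fintype_fun_eq_card, Fintype.card_fin, Fintype.card_fin] at h3
    exact h3
  have hnp : n = p := le_antisymm h2 h1
  refine ⟨hnp, ?_⟩
  subst hnp
  -- the matrix with columns `b i`
  obtain ⟨M, hM⟩ : ∃ M : Matrix (Fin n) (Fin n) F, M = Matrix.of fun r i => b i r := ⟨_, rfl⟩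
  have hMe : ∀ i, M *ᵥ Pi.single i 1 = b i := by
    intro i
    rw [mulVec_single_one]
    funext r
    rw [hM]
    rfl
  have hsur : Function.Surjective M.mulVec := by
    have h3 : LinearMap.range (toLin' M) = ⊤ := by
      rw [eq_top_iff, ← hspan, Submodule.span_le]
      rintro _ ⟨i, rfl⟩
      exact ⟨Pi.single i 1, by rw [toLin'_apply, hMe]⟩
    intro u
    have h4 : u ∈ LinearMap.range (toLin' M) := by rw [h3]; exact Submodule.mem_top
    obtain ⟨w, hw⟩ := h4
    exact ⟨w, by rw [← hw, toLin'_apply]⟩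
  obtain ⟨P, hP⟩ := mulVec_surjective_iff_isUnit.1 hsur
  refine ⟨P, fun i j hij => ?_⟩
  have hcol : ((P⁻¹ * A * P : GL (Fin n) F) : Matrix (Fin n) (Fin n) F) i j =
      (((P⁻¹ * A * P : GL (Fin n) F) : Matrix (Fin n) (Fin n) F) *ᵥ Pi.single j 1) i := by
    rw [mulVec_single_one]; rfl
  rw [hcol, Units.val_mul, Units.val_mul, ← mulVec_mulVec, ← mulVec_mulVec, hP, hMe, hb, hAb] at hij
  have hPb : ∀ k : Fin n, ((P⁻¹ : GL (Fin n) F) : Matrix (Fin n) (Fin n) F) *ᵥ b k = Pi.single k 1 := by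
    intro k
    rw [← hMe, ← hP, mulVec_mulVec, ← Units.val_mul, inv_mul_cancel, Units.val_one, one_mulVec]
  obtain ⟨m, rfl⟩ : ∃ m, n = m + 1 := ⟨n - 1, by omega⟩
  rw [finRotate_apply]
  by_cases hj : (j : ℕ) + 1 < m + 1
  · have h3 := hPb ⟨j + 1, hj⟩
    rw [hb] at h3
    rw [h3] at hij
    have h4 : i = ⟨j + 1, hj⟩ := by
      by_contra h5
      exact hij (Pi.single_eq_of_ne h5 1)
    rw [h4]
    apply Fin.ext
    have h5 : j ≠ Fin.last m := by
      intro h6
      rw [h6, Fin.val_last] at hj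
      omega
    rw [Fin.val_add_one_of_lt (Fin.lt_last_iff_ne_last.2 h5)]
  · have h3 : (j : ℕ) + 1 = m + 1 := by have := j.2; omega
    rw [h3, hA, smul_mulVec, one_mulVec, mulVec_smul] at hij
    have h4 := hPb 0
    rw [hb, Fin.val_zero, pow_zero, one_mulVec] at h4
    rw [h4] at hij
    have h5 : i = 0 := by
      by_contra h6
      apply hij
      rw [Pi.smul_apply, Pi.single_eq_of_ne h6, smul_zero]
    have h6 : j = Fin.last m := Fin.ext (by rw [Fin.val_last]; omega)
    rw [h5, h6, Fin.last_add_one]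

/-- diagonal matrices in `SL` -/
def dg (e : ι → Fˣ) (he : ∏ i, e i = 1) : Matrix.SpecialLinearGroup ι F :=
  ⟨diagonal fun i => (e i : F), by
    rw [det_diagonal, ← Units.coe_prod, he, Units.val_one]⟩

/-- **the commutator of a monomial matrix with a diagonal matrix** -/
theorem exists_of_monomial [Finite F] [Nonempty ι] {t : ℕ} [ht : Fact t.Prime] [CharP F t] {A : GL ι F}
    {σ : Equiv.Perm ι} (hA : ∀ i j, (A : Matrix ι ι F) i j ≠ 0 → i = σ j) {d : ι → Fˣ} (hd : ∏ i, d i = 1)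
    (hz : Function.Injective fun j => d (σ j) / d j) :
    ∃ g : Matrix.SpecialLinearGroup ι F, H216.Pi.InC 2 (lift (cj A)) (MulAut.conj (pr g)) ∧
      ¬ t ∣ Nat.card (Subgroup.centralizer ({pr g} : Set (Matrix.ProjectiveSpecialLinearGroup ι F))) := by
  have hd' : ∏ i, d (σ.symm i) = 1 := by rw [Equiv.prod_comp σ.symm d, hd]
  have hdz : ∏ i, (d i / d (σ.symm i)) = 1 := by rw [Finset.prod_div_distrib, hd, hd', div_one]
  have h1 : cj A (dg d hd) = dg (fun i => d (σ.symm i)) hd' := by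
    apply Subtype.ext
    rw [coe_cj]
    have h2 : (A : Matrix ι ι F) * (dg d hd).1 = (dg (fun i => d (σ.symm i)) hd').1 * (A : Matrix ι ι F) := by
      ext i j
      change ((A : Matrix ι ι F) * diagonal fun i => (d i : F)) i j =
        ((diagonal fun i => (d (σ.symm i) : F)) * (A : Matrix ι ι F)) i j
      rw [mul_diagonal, diagonal_mul]
      by_cases h3 : (A : Matrix ι ι F) i j = 0
      · rw [h3, zero_mul, mul_zero]
      · rw [hA i j h3, Equiv.symm_apply_apply, mul_comm]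
    rw [h2, mul_assoc, ← Units.val_mul, mul_inv_cancel, Units.val_one, mul_one]
  have h2 : dg d hd = dg (fun i => d i / d (σ.symm i)) hdz * dg (fun i => d (σ.symm i)) hd' := by
    apply Subtype.ext
    rw [Matrix.SpecialLinearGroup.coe_mul]
    change (diagonal fun i => (d i : F)) = (diagonal fun i => ((d i / d (σ.symm i) : Fˣ) : F)) *
      diagonal fun i => (d (σ.symm i) : F)
    rw [diagonal_mul_diagonal]
    congr 1
    funext i
    rw [← Units.val_mul, div_mul_cancel]
  refine ⟨dg (fun i => d i / d (σ.symm i)) hdz, ?_, ?_⟩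
  · have h3 := H216.Pi.InC.commutator (lift (cj A)) (pr (dg d hd))
    have h4 : pr (dg d hd) * lift (cj A) (pr (dg d hd))⁻¹ = pr (dg (fun i => d i / d (σ.symm i)) hdz) := by
      rw [map_inv, lift_pr, h1, mul_inv_eq_iff_eq_mul, ← map_mul, ← h2]
    rwa [h4] at h3
  · refine not_dvd_centralizer fun h hc μ hμ => comm_diag (z := fun i => ((d i / d (σ.symm i) : Fˣ) : F)) ?_ hc hμ
    intro i j hij
    have h3 := Units.ext hij
    have h4 : σ.symm i = σ.symm j := hz (by
      change d (σ (σ.symm i)) / d (σ.symm i) = d (σ (σ.symm j)) / d (σ.symm j)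
      rw [Equiv.apply_symm_apply, Equiv.apply_symm_apply, h3])
    exact σ.symm.injective h4

end Cfsg.Agent.H442.Pi
end

-- part: H442/Pi/IrrC
section
/-!
# S4324, PSL: irreducible elements, III (helper442)

`false_of_irreducible` : plan, section 2 (b).
-/

set_option autoImplicit false
set_option linter.unusedSectionVars false

namespace Cfsg.Agent.H442.Pi

open Matrix
open Cfsg.Agent.ClassicalGeometry.AutPSL.Root
open Cfsg.Agent.ClassicalGeometry.AutPSL.Auto
open Cfsg.Agent.ClassicalGeometry.AutPSL.Main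

/-- the exponents `i ^ 2` -/
theorem exists_family_five {G : Type*} [CommGroup G] {p : ℕ} (hp : p.Prime) (h5 : 5 ≤ p) {w : G} (hw : orderOf w = p) :
    ∃ d : Fin p → G, ∏ i, d i = 1 ∧ Function.Injective fun j => d (finRotate p j) / d j := by
  have : Fact p.Prime := ⟨hp⟩
  have : NeZero p := ⟨hp.ne_zero⟩
  obtain ⟨φ, hφ⟩ : ∃ φ : ZMod p →+ Additive G, Function.Injective φ := by
    refine ⟨ZMod.lift p ⟨zmultiplesHom _ (Additive.ofMul w), ?_⟩, ?_⟩
    · rw [zmultiplesHom_apply, ← hw]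
      change Additive.ofMul (w ^ ((orderOf w : ℕ) : ℤ)) = 0
      rw [zpow_natCast, pow_orderOf_eq_one]
      rfl
    · rw [ZMod.lift_injective]
      intro m hm
      have h1 : w ^ m = 1 := by
        have h2 : Additive.ofMul (w ^ m) = 0 := hm
        exact h2
      rw [ZMod.intCast_zmod_eq_zero_iff_dvd, ← hw]
      exact orderOf_dvd_iff_zpow_eq_one.2 h1
  have hone : ZMod.finEquiv p 1 = 1 := by
    obtain ⟨m, rfl⟩ : ∃ m, p = m + 1 := ⟨p - 1, by omega⟩
    rfl
  refine ⟨fun i => (φ ((ZMod.finEquiv p i) ^ 2)).toMul, ?_, ?_⟩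
  · have h1 : ∑ i : Fin p, (ZMod.finEquiv p i) ^ 2 = 0 := by
      have h2 := Equiv.sum_comp (ZMod.finEquiv p).toEquiv (fun x : ZMod p => x ^ 2)
      rw [FiniteField.sum_pow_lt_card_sub_one _ 2 (by rw [ZMod.card]; omega)] at h2
      exact h2
    rw [← toMul_sum, ← map_sum, h1, map_zero]
    rfl
  · intro i j hij
    have key : ∀ j : Fin p, (φ ((ZMod.finEquiv p (finRotate p j)) ^ 2)).toMul / (φ ((ZMod.finEquiv p j) ^ 2)).toMul =
        (φ (2 * ZMod.finEquiv p j + 1)).toMul := by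
      intro j
      rw [← toMul_sub, ← map_sub, finRotate_apply, map_add, hone]
      congr 2
      ring
    simp only [key] at hij
    have h1 : (2 : ZMod p) * ZMod.finEquiv p i + 1 = 2 * ZMod.finEquiv p j + 1 := hφ hij
    have h2 : (2 : ZMod p) ≠ 0 := by
      intro h
      have h3 : ((2 : ℕ) : ZMod p) = 0 := by exact_mod_cast h
      rw [ZMod.natCast_eq_zero_iff] at h3
      have := Nat.le_of_dvd (by norm_num) h3
      omega
    exact (ZMod.finEquiv p).injective (mul_left_cancel₀ h2 (add_right_cancel h1))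

theorem exists_family_three {G : Type*} [CommGroup G] {s : ℕ} (hs : s.Prime) (h5 : 5 ≤ s) {a : G} (ha : orderOf a = s) :
    ∃ d : Fin 3 → G, ∏ i, d i = 1 ∧ Function.Injective fun j => d (finRotate 3 j) / d j := by
  have hne : ∀ k : ℕ, 0 < k → k < 7 → k ≠ 5 → a ^ k ≠ 1 := by
    intro k hk1 hk2 hk3 h
    have h1 := orderOf_dvd_of_pow_eq_one h
    rw [ha] at h1
    have h2 := Nat.le_of_dvd hk1 h1
    interval_cases k
    all_goals first
      | omega
      | skip
    interval_cases s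
    all_goals first
      | omega
      | (revert hs; decide)
  have h3 := hne 3 (by norm_num) (by norm_num) (by norm_num)
  have h6 := hne 6 (by norm_num) (by norm_num) (by norm_num)
  refine ⟨![a, a, (a ^ 2)⁻¹], ?_, ?_⟩
  · rw [Fin.prod_univ_three]
    simp only [Matrix.cons_val_zero, Matrix.cons_val_one, Matrix.cons_val]
    rw [← pow_two, mul_inv_cancel]
  · have e0 : (fun j => (![a, a, (a ^ 2)⁻¹] : Fin 3 → G) (finRotate 3 j) / (![a, a, (a ^ 2)⁻¹] : Fin 3 → G) j) =
        ![1, (a ^ 3)⁻¹, a ^ 3] := by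
      funext j
      fin_cases j
      · simp [finRotate_apply]
      · simp [finRotate_apply]
        rw [div_eq_mul_inv, ← mul_inv, ← pow_succ]
      · simp [finRotate_apply]
        rw [← pow_succ']
    rw [e0]
    have h4 : (a ^ 3)⁻¹ ≠ a ^ 3 := by
      intro h
      apply h6
      rw [inv_eq_iff_mul_eq_one, ← pow_add] at h
      exact h
    have h7 : (a ^ 3)⁻¹ ≠ 1 := fun h => h3 (inv_eq_one.1 h)
    intro i j hij
    fin_cases i <;> fin_cases j <;> simp at hij ⊢
    all_goals first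
      | exact h3 hij
      | exact h3 hij.symm
      | exact h4 hij
      | exact h4 hij.symm

theorem conj_irr {n : ℕ} {F : Type*} [Field F] {A : Matrix (Fin n) (Fin n) F} {c : F} (hc : c ≠ 0)
    (irr : ∀ W : Submodule F (Fin n → F), W ≠ ⊥ → (∀ v ∈ W, A *ᵥ v ∈ W) → W = ⊤) :
    ∀ W : Submodule F (Fin n → F), W ≠ ⊥ → (∀ v ∈ W, (c • A) *ᵥ v ∈ W) → W = ⊤ := by
  intro W hW h
  refine irr W hW fun v hv => ?_
  have h1 := W.smul_mem c⁻¹ (h v hv)
  rwa [smul_mulVec, smul_smul, inv_mul_cancel₀ hc, one_smul] at h1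

/-- **plan, section 2 (b)** : irreducible elements -/
theorem false_of_irreducible {n : ℕ} (hn : 3 ≤ n) {F : Type} [Field F] [Finite F] {t : ℕ} (ht : t.Prime)
    [CharP F t] {s : ℕ} (hs : s.Prime) (hs3 : 3 ≤ s) (hst : s ≠ t)
    (hL : IsLieTypeChar t (Matrix.ProjectiveSpecialLinearGroup (Fin n) F))
    (hsK : s ∣ Nat.card (Matrix.ProjectiveSpecialLinearGroup (Fin n) F))
    (h3 : n = 3 → s ≠ 3 → s ∣ Nat.card F - 1) {A : GL (Fin n) F} {p : ℕ} (hp : p.Prime) (hps : p ≠ s) {l : F}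
    (hA : (A : Matrix (Fin n) (Fin n) F) ^ p = l • 1)
    (irr : ∀ W : Submodule F (Fin n → F), W ≠ ⊥ → (∀ v ∈ W, (A : Matrix (Fin n) (Fin n) F) *ᵥ v ∈ W) → W = ⊤)
    (hFC : H216.Pi.FC s 11 (lift (cj A))) : False := by
  have : Fact t.Prime := ⟨ht⟩
  have : Nonempty (Fin n) := ⟨⟨0, by omega⟩⟩
  have hfin := Finite.of_surjective _ (pr_surjective (ι := Fin n) (F := F))
  have hl0 : l ≠ 0 := by
    rintro rfl
    have h1 : (A : Matrix (Fin n) (Fin n) F) ^ p * ((A⁻¹ : GL (Fin n) F) : Matrix (Fin n) (Fin n) F) ^ p = 1 := by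
      rw [← Units.val_pow_eq_pow_val, ← Units.val_pow_eq_pow_val, ← Units.val_mul, inv_pow, mul_inv_cancel,
        Units.val_one]
    rw [hA, zero_smul, zero_mul] at h1
    exact zero_ne_one h1
  by_cases hl : ∃ b : F, b ^ p = l
  · -- a scalar multiple of `A` has order `p`
    obtain ⟨b, hb⟩ := hl
    have hb0 : b ≠ 0 := by
      rintro rfl
      rw [zero_pow hp.ne_zero] at hb
      exact hl0 hb.symm
    have h1 : (b⁻¹ • (A : Matrix (Fin n) (Fin n) F)) ^ p = 1 := by
      rw [smul_pow, hA, smul_smul, inv_pow, hb, inv_mul_cancel₀ hl0, one_smul]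
    have h2 := conj_irr (inv_ne_zero hb0) irr
    have h4 := det_eq_one_of_irr (by rw [Fintype.card_fin]; omega) hp h1 h2
    obtain ⟨B, hB⟩ : ∃ B : Matrix.SpecialLinearGroup (Fin n) F, B.1 = b⁻¹ • (A : Matrix (Fin n) (Fin n) F) :=
      ⟨⟨_, h4⟩, rfl⟩
    have h5 : cj A = MulAut.conj B := by
      rw [← cj_toGL]
      exact (cj_eq_of_smul (by rw [toGL_val, hB])).symm
    have h6 : lift (cj A) = MulAut.conj (pr B) := by rw [h5, lift_conj]
    have h7 : ¬ t ∣ Nat.card (Subgroup.centralizer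
        ({pr B} : Set (Matrix.ProjectiveSpecialLinearGroup (Fin n) F))) := by
      refine not_dvd_centralizer fun h hc μ hμ => comm_irr ?_ hc hμ
      rw [hB]
      exact h2
    refine H955.PiG.false_of_regular ht hL hs hsK (k := 1) (m := 11) ?_ h7 (by norm_num)
      (fun h => absurd h hst) hFC
    rw [← h6]
    exact H216.Pi.InC.self _
  · -- monomial
    push Not at hl
    obtain ⟨hnp, P, hP⟩ := exists_monomial (by omega) hp hA hl irr
    subst hnp
    -- a family
    obtain ⟨d, hd, hz⟩ : ∃ d : Fin n → Fˣ, ∏ i, d i = 1 ∧ Function.Injective fun j => d (finRotate n j) / d j := by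
      by_cases h4 : 5 ≤ n
      · have h5 : n ∣ Nat.card Fˣ := by
          by_contra h6
          have h7 : (Nat.card Fˣ).Coprime n := ((Nat.Prime.coprime_iff_not_dvd hp).2 h6).symm
          obtain ⟨b, hb⟩ := (powCoprime h7).surjective (Units.mk0 l hl0)
          apply hl b
          rw [← Units.val_pow_eq_pow_val]
          have h8 : b ^ n = Units.mk0 l hl0 := hb
          rw [h8, Units.val_mk0]
        have : Fact n.Prime := ⟨hp⟩
        obtain ⟨w, hw⟩ := exists_prime_orderOf_dvd_card' n h5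
        exact exists_family_five hp h4 hw
      · have h5 : n = 3 := by
          have h6 : n ≠ 4 := by rintro rfl; exact absurd hp (by decide)
          omega
        subst h5
        have h6 := h3 rfl (fun h => hps h.symm)
        have : Fact s.Prime := ⟨hs⟩
        rw [← Nat.card_units] at h6
        obtain ⟨a, ha⟩ := exists_prime_orderOf_dvd_card' s h6
        have h7 : 5 ≤ s := by
          have h8 : s ≠ 4 := by rintro rfl; exact absurd hs (by decide)
          omega
        exact exists_family_three hs h7 ha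
    obtain ⟨g, hg1, hg2⟩ := exists_of_monomial (t := t) (A := P⁻¹ * A * P) hP hd hz
    refine H955.PiG.false_of_regular ht hL hs hsK (x := lift (cj (P⁻¹ * A * P))) (k := 2) (m := 11) hg1 hg2
      (by norm_num) (fun h => absurd h hst) ?_
    have h5 := hFC.tr (lift (cj P⁻¹))
    rw [H216.Pi.tr_mulAut] at h5
    have h6 : lift (cj P⁻¹) * lift (cj A) * (lift (cj P⁻¹))⁻¹ = lift (cj (P⁻¹ * A * P)) := by
      rw [← map_inv, ← map_inv, ← map_mul, ← map_mul, ← map_mul, ← map_mul, inv_inv]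
    rwa [h6] at h5

end Cfsg.Agent.H442.Pi
end

-- part: H442/Pi/SecB
section
/-!
# S4324, PSL: automorphisms which are not of graph type (helper442)

* `eSL` : `PSL_n(F)` as a quotient of `SL(V)`, `V = F ^ n`; `comp_of_ind` : the automorphisms;
* `false_of_semi` : plan, section 2 (a), (b), (c).
-/

set_option autoImplicit false
set_option linter.unusedSectionVars false

namespace Cfsg.Agent.H442.Pi

open Matrix Module Submodule
open Cfsg.Agent.ClassicalGeometry.AutPSL.Root
open Cfsg.Agent.ClassicalGeometry.AutPSL.Auto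
open Cfsg.Agent.ClassicalGeometry.AutPSL.Main
open Cfsg.Agent.BpCl (Semi)
open Cfsg.Agent.H952.Rc (Comp)
open Cfsg.Agent.H216.Pi (PC FC)
open Cfsg.Agent.H897.MeetPSL (rho smap smap_apply rho_apply semi_smap ind_smap)
open Cfsg.Agent.H903.SylSemi (Ind)
open Cfsg.Agent.H199.PslAut (Psi phi)

variable {F : Type} [Field F] {n : ℕ}

/-- `SL_n(F)` and `SL(V)` -/
noncomputable def eS (n : ℕ) (F : Type) [Field F] :
    Matrix.SpecialLinearGroup (Fin n) F ≃* ↥(LinearEquiv.det (R := F) (M := Fin n → F)).ker :=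
  Matrix.SpecialLinearGroup.toLin'_equiv.trans (slKer F (Fin n → F))

theorem eS_apply (M : Matrix.SpecialLinearGroup (Fin n) F) (v : Fin n → F) :
    (eS n F M).1 v = (M : Matrix (Fin n) (Fin n) F) *ᵥ v := by
  change Matrix.SpecialLinearGroup.toLin' M v = _
  rw [Matrix.SpecialLinearGroup.toLin'_apply]
  rfl

/-- `PSL_n(F)` as a quotient of `SL(V)` -/
noncomputable def eSL (n : ℕ) (F : Type) [Field F] :
    Matrix.ProjectiveSpecialLinearGroup (Fin n) F ≃* ↥(LinearEquiv.det (R := F) (M := Fin n → F)).ker ⧸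
      Subgroup.center ↥(LinearEquiv.det (R := F) (M := Fin n → F)).ker :=
  QuotientGroup.congr _ _ (eS n F) (by
    ext z
    constructor
    · rintro ⟨w, hw, rfl⟩
      exact (MulEquivClass.apply_mem_center_iff (eS n F)).2 hw
    · intro hz
      refine ⟨(eS n F).symm z, (MulEquivClass.apply_mem_center_iff (eS n F).symm).2 hz, ?_⟩
      exact (eS n F).apply_symm_apply z)

theorem eSL_pr (M : Matrix.SpecialLinearGroup (Fin n) F) :
    eSL n F (pr M) = QuotientGroup.mk' _ (eS n F M) := rfl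

theorem comp_of_ind {x : MulAut (Matrix.ProjectiveSpecialLinearGroup (Fin n) F)} {g : Equiv.Perm (Fin n → F)}
    (h : Ind (pr : Matrix.SpecialLinearGroup (Fin n) F →* _) (rho n F) g x) :
    Comp (H459.Rad.tr (eSL n F) x) g := by
  intro k
  obtain ⟨M, rfl⟩ := (eS n F).surjective k
  obtain ⟨M', h1, h2⟩ := h M
  refine ⟨eS n F M', fun v => ?_, ?_⟩
  · rw [eS_apply, eS_apply]
    have h3 := congrArg (fun f : Equiv.Perm (Fin n → F) => f (g v)) h1
    have h4 : g⁻¹ (g v) = v := g.symm_apply_apply v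
    simp only [Equiv.Perm.mul_apply] at h3
    rw [h4, rho_apply, rho_apply] at h3
    exact h3
  · rw [H459.Rad.tr_apply, ← eSL_pr, ← eSL_pr, MulEquiv.symm_apply_apply, h2]

/-- **plan, section 2 (a), (b), (c)** : automorphisms which are not of graph type -/
theorem false_of_semi [Finite F] (hn : 3 ≤ n) {t : ℕ} (ht : t.Prime) [CharP F t] {s : ℕ} (hs : s.Prime)
    (hs3 : 3 ≤ s) (hst : s ≠ t) (hL : IsLieTypeChar t (Matrix.ProjectiveSpecialLinearGroup (Fin n) F))
    (hsK : s ∣ Nat.card (Matrix.ProjectiveSpecialLinearGroup (Fin n) F)) {i : ℕ} (hi : 2 ≤ i)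
    (hin : 2 * i ≤ n + 1) (hd : s ∣ Nat.card F ^ i - 1) (h3 : n = 3 → s ≠ 3 → s ∣ Nat.card F - 1)
    {A : GL (Fin n) F} {σ : F ≃+* F} {p : ℕ} (hp : p.Prime) (hps : p ≠ s)
    (hx : orderOf (lift (cj A * fld σ)) = p) (hPC : PC s (lift (cj A * fld σ)))
    (hFC : FC s 11 (lift (cj A * fld σ))) : False := by
  have : Fact p.Prime := ⟨hp⟩
  have : Nonempty (Fin n) := ⟨⟨0, by omega⟩⟩
  have : Nontrivial (Fin n → F) := Function.nontrivial
  have hfin := Finite.of_surjective _ (pr_surjective (ι := Fin n) (F := F))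
  have hfr : finrank F (Fin n → F) = n := Module.finrank_fin_fun F
  -- the semilinear map
  have hind : Ind (pr : Matrix.SpecialLinearGroup (Fin n) F →* _) (rho n F) (smap A σ) (lift (cj A * fld σ)) := by
    have h1 := ind_smap A σ
    rw [map_mul]
    exact h1
  have hsm : CpAut.Descent.Semi (smap A σ) σ := ⟨(semi_smap A σ).1, (semi_smap A σ).2⟩
  have hsm' : Semi σ (smap A σ) := ⟨(semi_smap A σ).1, (semi_smap A σ).2⟩
  have hcomp := comp_of_ind hind
  have hfin2 := Finite.of_equiv _ (eSL n F).toEquiv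
  have hPC' := hPC.tr (eSL n F)
  obtain ⟨a, ha⟩ := H716.S5.uniq_psl (by omega) (smap A σ ^ p) ⟨σ ^ p, (hsm.pow p).1, (hsm.pow p).2⟩ (by
    have h1 := hind.pow p
    rwa [← hx, pow_orderOf_eq_one, hx] at h1)
  have hap : ∀ v, (smap A σ ^ p) v = (a : F) • v := fun v => by rw [ha]; rfl
  have hquot : ∀ W : Submodule F (Fin n → F), W ≠ ⊥ → finrank F W + i ≤ n → (∀ v ∈ W, smap A σ v ∈ W) →
      ∃ c : F, ∀ v, smap A σ v - c • v ∈ W := fun W hW1 hW2 hW3 =>
    quot_scalar hs hs3 hsm' hcomp hPC' hW3 hW1 hi (by rw [hfr]; exact hW2) hd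
  by_cases hσ : σ = 1
  · subst hσ
    have hAv : ∀ v, smap A 1 v = (A : Matrix (Fin n) (Fin n) F) *ᵥ v := fun v => rfl
    have hAp : ∀ k : ℕ, ∀ v, (smap A 1 ^ k) v = ((A : Matrix (Fin n) (Fin n) F) ^ k) *ᵥ v := by
      intro k v
      induction k with
      | zero => simp
      | succ k ih => rw [pow_succ', Equiv.Perm.mul_apply, ih, hAv, mulVec_mulVec, pow_succ']
    have hA : (A : Matrix (Fin n) (Fin n) F) ^ p = (a : F) • 1 := by
      apply Matrix.mulVec_injective
      funext v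
      rw [← hAp, hap, smul_mulVec, one_mulVec]
    rw [map_one, mul_one] at hx hFC
    by_cases irr : ∀ W : Submodule F (Fin n → F), W ≠ ⊥ → (∀ v ∈ W, (A : Matrix (Fin n) (Fin n) F) *ᵥ v ∈ W) → W = ⊤
    · exact false_of_irreducible hn ht hs hs3 hst hL hsK h3 hp hps hA irr hFC
    · push Not at irr
      obtain ⟨W, hW1, hW2, hW3⟩ := irr
      obtain ⟨c, hc⟩ := scalar_of_reducible (F := F) hfr hi hin (toLin' (A : Matrix (Fin n) (Fin n) F))
        (fun W' h1 h2 h4 => sub_scalar hs hs3 hsm' hcomp hPC' (W := W') (fun v hv => h4 v hv) h1 hi h2 hd)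
        (fun W' h1 h2 h4 => hquot W' h1 h2 (fun v hv => h4 v hv)) hW1 hW3 (fun v hv => hW2 v hv)
      have h4 : scalar (Fin n) c = (A : Matrix (Fin n) (Fin n) F) := by
        apply Matrix.mulVec_injective
        funext v
        have h5 := hc v
        rw [toLin'_apply] at h5
        rw [h5, scalar_apply, Matrix.diagonal_const_mulVec]
      rw [cj_eq_one_of_scalar h4, map_one, orderOf_one] at hx
      exact hp.one_lt.ne hx
  · -- semilinear
    have hσp : σ ^ p = 1 := by
      obtain ⟨v, hv⟩ := exists_ne (0 : Fin n → F)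
      apply RingEquiv.ext
      intro b
      have h1 := (hsm.pow p).smul b v
      rw [hap, hap, smul_smul, smul_smul] at h1
      have h2 := smul_left_injective F hv h1
      rw [mul_comm] at h2
      exact (mul_right_cancel₀ a.ne_zero h2).symm
    have hord : orderOf σ = p := orderOf_eq_prime hσp hσ
    obtain ⟨c, hc⟩ := CpAut.Descent.exists_scale hsm hord hp.pos a.ne_zero hap (exists_ne 0)
    have hsc : CpAut.Descent.Semi (CpAut.Descent.scal (Fin n → F) c * smap A σ) σ := by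
      have h1 := (CpAut.Descent.semi_scal (V := Fin n → F) c).mul hsm
      rwa [one_mul] at h1
    obtain ⟨b, hb⟩ := CpAut.Descent.exists_basis hsc hord hp.pos hc (ι := Fin n) (by rw [hfr, Fintype.card_fin])
    obtain ⟨v, hv0, hv⟩ : ∃ v, v ≠ 0 ∧ smap A σ v = ((c⁻¹ : Fˣ) : F) • v := by
      refine ⟨b ⟨0, by omega⟩, b.ne_zero _, ?_⟩
      have h1 := hb ⟨0, by omega⟩
      rw [Equiv.Perm.mul_apply, CpAut.Descent.scal_apply] at h1
      rw [← h1, smul_smul, ← Units.val_mul, inv_mul_cancel, Units.val_one, one_smul, h1]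
    obtain ⟨e, he⟩ : ∃ e, σ e ≠ e := by
      by_contra h
      push Not at h
      exact hσ (RingEquiv.ext h)
    have hWf := finrank_span_singleton (K := F) hv0
    obtain ⟨c', hc'⟩ := hquot (span F {v}) (by rwa [Ne, span_singleton_eq_bot]) (by rw [hWf]; omega) (by
      intro u hu
      obtain ⟨r, rfl⟩ := mem_span_singleton.1 hu
      rw [hsm.smul, hv]
      exact smul_mem _ _ (smul_mem _ _ (mem_span_singleton_self v)))
    refine false_of_line (σ := σ) (g := smap A σ) hsm.smul he (W := span F {v}) ?_ ?_ hc'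
    · intro h
      rw [h, finrank_top, hfr] at hWf
      omega
    · intro u hu
      obtain ⟨r, hr⟩ := mem_span_singleton.1 hu
      have h1 : smap A σ (σ.symm (r * c) • v) = r • v := by
        rw [hsm.smul, hv, RingEquiv.apply_symm_apply, smul_smul, mul_assoc, ← Units.val_mul, mul_inv_cancel,
          Units.val_one, mul_one]
      rw [← (smap A σ).injective (h1.trans hr)]
      exact smul_mem _ _ (mem_span_singleton_self v)

end Cfsg.Agent.H442.Pi
end

-- part: H442/Pi/GraphC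
section
/-!
# S4324, PSL: graph automorphisms, III (helper442)

`false_of_graph` : plan, section 2 (d).
-/

set_option autoImplicit false
set_option linter.unusedSectionVars false

namespace Cfsg.Agent.H442.Pi

open Matrix Module
open Cfsg.Agent.ClassicalGeometry.AutPSL.Root
open Cfsg.Agent.ClassicalGeometry.AutPSL.Auto
open Cfsg.Agent.ClassicalGeometry.AutPSL.Main
open Cfsg.Agent.H216.Pi (PC FC)
open Cfsg.Agent.H199.PslAut

variable {F : Type} [Field F] {n : ℕ}

theorem exists_pow_form {B : GL (Fin n) F} {τ : F ≃+* F} (k : ℕ) :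
    ∃ (C : GL (Fin n) F) (ρ : F ≃+* F), (Psi n F B * phi n F τ) ^ k = Psi n F C * phi n F ρ := by
  induction k with
  | zero => exact ⟨1, 1, by rw [pow_zero, map_one, map_one, mul_one]⟩
  | succ k ih =>
    obtain ⟨C, ρ, h⟩ := ih
    refine ⟨C * mapGL ρ B, ρ * τ, ?_⟩
    rw [pow_succ, h, map_mul, map_mul, mul_assoc (Psi n F C), ← mul_assoc (phi n F ρ), phi_mul_Psi]
    simp only [mul_assoc]

theorem graph_sq (A : GL (Fin n) F) (σ : F ≃+* F) :
    (Psi n F A * phi n F σ * iot n F) * (Psi n F A * phi n F σ * iot n F) =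
      Psi n F (A * mapGL σ (itGL A)) * phi n F (σ * σ) := by
  have h1 : iot n F * (Psi n F A * phi n F σ * iot n F) = Psi n F (itGL A) * phi n F σ := by
    rw [← mul_assoc, ← mul_assoc, iot_mul_Psi, mul_assoc (Psi n F (itGL A)), iot_mul_phi, mul_assoc, mul_assoc,
      iot_mul_iot, mul_one]
  rw [mul_assoc (Psi n F A * phi n F σ), h1, mul_assoc, ← mul_assoc (phi n F σ), phi_mul_Psi, map_mul, map_mul]
  simp only [mul_assoc]

theorem graph_order (hn : 3 ≤ n) {A : GL (Fin n) F} {σ : F ≃+* F} {p : ℕ} (hp : p.Prime)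
    (hx : (Psi n F A * phi n F σ * iot n F) ^ p = 1) :
    σ * σ = 1 ∧ ∃ u : Fˣ, A * mapGL σ (itGL A) = scal n F u := by
  have h2 : p = 2 := by
    by_contra hne
    obtain ⟨k, hk⟩ := hp.odd_of_ne_two hne
    rw [hk, pow_succ, pow_mul, pow_two, graph_sq] at hx
    obtain ⟨C, ρ, h⟩ := exists_pow_form (B := A * mapGL σ (itGL A)) (τ := σ * σ) k
    rw [h] at hx
    refine not_graph' hn (g := C * mapGL ρ A) (σ := ρ * σ) (τ := 1) ?_
    rw [map_one, ← hx, map_mul, map_mul, mul_assoc (Psi n F C) (phi n F ρ), ← mul_assoc (phi n F ρ),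
      ← mul_assoc (phi n F ρ), phi_mul_Psi]
    simp only [mul_assoc]
  subst h2
  rw [pow_two, graph_sq] at hx
  have h3 := Psi_phi_eq (by omega) (g := A * mapGL σ (itGL A)) (σ := σ * σ) (τ := 1) (by rw [hx, map_one])
  exact ⟨h3.2, h3.1⟩

/-- the form -/
def gf (A : GL (Fin n) F) (σ : F ≃+* F) (u v : Fin n → F) : F :=
  (((A⁻¹ : GL (Fin n) F) : Matrix (Fin n) (Fin n) F) *ᵥ u) ⬝ᵥ (fun i => σ (v i))

theorem map_mulVec_fun (σ : F ≃+* F) (M : Matrix (Fin n) (Fin n) F) (v : Fin n → F) :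
    (fun i => σ ((M *ᵥ v) i)) = (M.map σ) *ᵥ (fun i => σ (v i)) := by
  funext i
  rw [mulVec, mulVec, dotProduct, dotProduct, map_sum]
  exact Finset.sum_congr rfl fun j _ => by rw [map_mul, Matrix.map_apply]

theorem sform_gf {A : GL (Fin n) F} {σ : F ≃+* F} (hσ : σ * σ = 1) {u₀ : Fˣ}
    (hA : A * mapGL σ (itGL A) = scal n F u₀) : SForm σ (gf A σ) := by
  have hAe : (A : Matrix (Fin n) (Fin n) F) = (u₀ : F) • ((A : Matrix (Fin n) (Fin n) F)ᵀ.map σ) := by
    have h1 : A = scal n F u₀ * (mapGL σ (itGL A))⁻¹ := by rw [← hA, mul_inv_cancel_right]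
    have h2 : (((mapGL σ (itGL A))⁻¹ : GL (Fin n) F) : Matrix (Fin n) (Fin n) F) =
        (A : Matrix (Fin n) (Fin n) F)ᵀ.map σ := by
      rw [← map_inv, coe_mapGL, coe_itGL_inv]
    conv_lhs => rw [h1]
    rw [Units.val_mul, h2, coe_scal, scalar_apply, ← smul_one_eq_diagonal, Matrix.smul_mul, one_mul]
  have hBA : ∀ v : Fin n → F, (A : Matrix (Fin n) (Fin n) F) *ᵥ (((A⁻¹ : GL (Fin n) F) : Matrix (Fin n) (Fin n) F) *ᵥ v)
      = v := fun v => by rw [mulVec_mulVec, ← Units.val_mul, mul_inv_cancel, Units.val_one, one_mulVec]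
  have hσσ : ∀ a : F, σ (σ a) = a := fun a => by
    have h1 := congrArg (fun τ : F ≃+* F => τ a) hσ
    exact h1
  have hu₀ : (u₀ : F) ≠ 0 := u₀.ne_zero
  have hsymm : ∀ u v, (u₀ : F) * gf A σ u v = σ (gf A σ v u) := by
    intro u v
    obtain ⟨z, rfl⟩ : ∃ z, (A : Matrix (Fin n) (Fin n) F) *ᵥ z = v := ⟨_, hBA v⟩
    have hz : ((A⁻¹ : GL (Fin n) F) : Matrix (Fin n) (Fin n) F) *ᵥ ((A : Matrix (Fin n) (Fin n) F) *ᵥ z) = z := by
      rw [mulVec_mulVec, ← Units.val_mul, inv_mul_cancel, Units.val_one, one_mulVec]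
    have e1 : gf A σ u ((A : Matrix (Fin n) (Fin n) F) *ᵥ z) =
        (((A : Matrix (Fin n) (Fin n) F)ᵀ.map σ) *ᵥ (((A⁻¹ : GL (Fin n) F) : Matrix (Fin n) (Fin n) F) *ᵥ u)) ⬝ᵥ
          (fun i => σ (z i)) := by
      unfold gf
      rw [map_mulVec_fun, dotProduct_mulVec, ← mulVec_transpose, Matrix.transpose_map]
    have e2 : σ (gf A σ ((A : Matrix (Fin n) (Fin n) F) *ᵥ z) u) = u ⬝ᵥ (fun i => σ (z i)) := by
      unfold gf
      rw [hz, dotProduct, dotProduct, map_sum]
      exact Finset.sum_congr rfl fun j _ => by rw [map_mul, hσσ, mul_comm]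
    rw [e1, e2, ← smul_eq_mul, ← smul_dotProduct, ← smul_mulVec, ← hAe, hBA]
  refine ⟨?_, ?_, ?_, ?_, ?_, ?_⟩
  · intro u v w
    unfold gf
    rw [mulVec_add, add_dotProduct]
  · intro a u v
    unfold gf
    rw [mulVec_smul, smul_dotProduct, smul_eq_mul]
  · intro u v w
    unfold gf
    rw [← dotProduct_add]
    congr 1
    funext i
    exact map_add σ _ _
  · intro a u v
    unfold gf
    rw [← smul_eq_mul, ← dotProduct_smul]
    congr 1
    funext i
    exact map_mul σ _ _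
  · intro u hu
    have h1 : ((A⁻¹ : GL (Fin n) F) : Matrix (Fin n) (Fin n) F) *ᵥ u = 0 := by
      funext i
      have h2 := hu (Pi.single i 1)
      unfold gf at h2
      have h3 : (fun j => σ ((Pi.single i (1 : F) : Fin n → F) j)) = Pi.single i 1 := by
        funext j
        by_cases hj : j = i
        · rw [hj, Pi.single_eq_same, map_one]
        · rw [Pi.single_eq_of_ne hj, map_zero]
      rw [h3, dotProduct_single_one] at h2
      exact h2
    rw [← hBA u, h1, mulVec_zero]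
  · intro u v huv
    have h1 := hsymm u v
    rw [huv, mul_zero] at h1
    exact (map_eq_zero σ).1 h1.symm

theorem adj_gf {A : GL (Fin n) F} {σ : F ≃+* F} :
    Adj (H459.Rad.tr (eSL n F) (Psi n F A * phi n F σ * iot n F)) (gf A σ) := by
  intro h
  obtain ⟨M, rfl⟩ := (eS n F).surjective h
  refine ⟨eS n F (cj A (fld σ (itr M))), fun u v => ?_, ?_⟩
  · rw [eS_apply, eS_apply]
    unfold gf
    rw [map_mulVec_fun, coe_cj, ← mulVec_mulVec, ← mulVec_mulVec, mulVec_mulVec _ _ (A : Matrix (Fin n) (Fin n) F),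
      ← Units.val_mul, inv_mul_cancel, Units.val_one, one_mulVec]
    have h1 : (fld σ (itr M) : Matrix.SpecialLinearGroup (Fin n) F).1ᵀ * (M : Matrix (Fin n) (Fin n) F).map σ = 1 := by
      have h2 : (fld σ (itr M) : Matrix.SpecialLinearGroup (Fin n) F).1ᵀ =
          ((M⁻¹ : Matrix.SpecialLinearGroup (Fin n) F) : Matrix (Fin n) (Fin n) F).map σ := by
        ext i j
        rfl
      rw [h2, ← Matrix.map_mul, ← Matrix.SpecialLinearGroup.coe_mul, inv_mul_cancel, Matrix.SpecialLinearGroup.coe_one,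
        Matrix.map_one _ (map_zero σ) (map_one σ)]
    rw [← vecMul_transpose, ← dotProduct_mulVec, mulVec_mulVec, h1, one_mulVec]
  · rw [H459.Rad.tr_apply, ← eSL_pr, ← eSL_pr, MulEquiv.symm_apply_apply]
    rfl

/-- **plan, section 2 (d)** : automorphisms of graph type -/
theorem false_of_graph [Finite F] (hn : 3 ≤ n) {s : ℕ} (hs : s.Prime) (hs3 : 3 ≤ s) {i : ℕ} (hi : 2 ≤ i) (hin : 2 * i ≤ n + 1) (hd : s ∣ Nat.card F ^ i - 1)
    {A : GL (Fin n) F} {σ : F ≃+* F} (hp : (orderOf (lift (cj A * fld σ * itr))).Prime)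
    (hPC : PC s (lift (cj A * fld σ * itr))) : False := by
  have hfin := Finite.of_surjective _ (pr_surjective (ι := Fin n) (F := F))
  have hfin2 := Finite.of_equiv _ (eSL n F).toEquiv
  have he : lift (cj A * fld σ * itr) = Psi n F A * phi n F σ * iot n F := by rw [map_mul, map_mul]; rfl
  rw [he] at hp hPC
  obtain ⟨hσ, u₀, hA⟩ := graph_order hn hp (pow_orderOf_eq_one _)
  have hfr : finrank F (Fin n → F) = n := Module.finrank_fin_fun F
  have hF := sform_gf hσ hA
  have hadj := adj_gf (A := A) (σ := σ)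
  have hPC' := hPC.tr (eSL n F)
  by_cases halt : ∀ v, gf A σ v v = 0
  · exact false_of_alt hs hs3 hF hadj hPC' (by rw [hfr]; exact hn) hi (by rw [hfr]; exact hin) hd halt
  · push Not at halt
    obtain ⟨v, hv⟩ := halt
    exact false_of_anis hs hs3 hF hadj hPC' (by rw [hfr]; exact hn) hi (by rw [hfr]; exact hin) hd hv

end Cfsg.Agent.H442.Pi
end

-- part: H442/Pi/Arith
section
/-!
# S4324, PSL: noncyclic Sylow subgroups (helper442)

`exists_exponent` : a noncyclic Sylow `s`-subgroup of `PSL_n(q)`, `s ∤ 2 q`: `n ≥ 3` and `s ∣ q ^ i - 1` for some `i ≥ 2`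
with `2 i ≤ n + 1`.
-/

set_option autoImplicit false

namespace Cfsg.Agent.H442.Pi

open Matrix Cfsg.Agent.H104 Cfsg.Agent.H104.TwoLines Cfsg.Agent.H104.RankBound Cfsg.Agent.H104.RowPSL

variable {F : Type} [Field F] [Fintype F]

theorem rank2_sl {n s : ℕ} [hs : Fact s.Prime] (hs2 : s ≠ 2)
    (P : Sylow s (Matrix.ProjectiveSpecialLinearGroup (Fin n) F)) (hP : ¬ IsCyclic P) :
    Rank2 s (Matrix.SpecialLinearGroup (Fin n) F) := by
  obtain ⟨a, b, hab, ha, hb, hb1, hind⟩ := H110.Fpr.exists_rank_two hs2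
    (QuotientGroup.mk' (Subgroup.center (Matrix.SpecialLinearGroup (Fin n) F)))
    (QuotientGroup.mk'_surjective _) P hP
  refine ⟨b, a, hb, ha, hab.symm, hb1, ?_⟩
  intro h
  have h1 : a⁻¹ ∈ Subgroup.zpowers b := inv_mem h
  obtain ⟨i, hi⟩ := (isOfFinOrder_iff_pow_eq_one.2 ⟨s, hs.out.pos, hb⟩).mem_powers_iff_mem_zpowers.2 h1
  refine hind i ?_
  have h2 : b ^ i = a⁻¹ := hi
  rw [h2, mul_inv_cancel]

theorem exists_exponent {n : ℕ} (hn : 2 ≤ n) {s : ℕ} [hs : Fact s.Prime] (hs2 : s ≠ 2) (hsF : (s : F) ≠ 0)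
    (P : Sylow s (Matrix.ProjectiveSpecialLinearGroup (Fin n) F)) (hP : ¬ IsCyclic P) :
    3 ≤ n ∧ (∃ i, 2 ≤ i ∧ 2 * i ≤ n + 1 ∧ s ∣ Nat.card F ^ i - 1) ∧ (n = 3 → s ∣ Nat.card F - 1) := by
  have h1 := rank2_sl hs2 P hP
  have h2 := bound_linear hsF (slHom (F := F) (Fin n)) (slHom_injective _) h1
  rw [Fintype.card_fin] at h2
  have he := orderOf_pos (qU F s hsF)
  have hd := dvd_pow_orderOf (F := F) (p := s) hsF
  rw [Nat.card_eq_fintype_card]
  have hn3 : 3 ≤ n := by
    by_contra hcon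
    obtain rfl : n = 2 := by omega
    obtain ⟨-, -, -, -, -, h3, -⟩ := bound_form hsF (slHom (F := F) (Fin 2)) (slHom_injective _) h1
      (!![0, 1; -1, 0]) (by rw [det_fin_two]; simp) (by
        intro g
        change (g : Matrix (Fin 2) (Fin 2) F).transpose * !![0, 1; -1, 0] * (g : Matrix (Fin 2) (Fin 2) F) = _
        have hdet := g.det_coe
        rw [det_fin_two] at hdet
        ext i j
        (revert i j; simp only [Matrix.mul_apply, Fin.sum_univ_two, _root_.Fin.forall_fin_succ, _root_.Matrix.transpose_apply, _root_.Matrix.of_apply, _root_.Matrix.cons_val', _root_.Matrix.cons_val_fin_one, Fin.isValue, _root_.Matrix.cons_val_zero, _root_.Matrix.cons_val_one, _root_.MulZeroClass.mul_zero, _root_.mul_neg, _root_.mul_one, _root_.zero_add, _root_.neg_mul, _root_.add_zero, _root_.Matrix.cons_val_succ, _root_.Fin.succ_zero_eq_one, _root_.IsEmpty.forall_iff, _root_.and_true, _root_.true_and]) <;> (repeat' with_reducible apply And.intro)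
        · ring
        · linear_combination hdet
        · linear_combination -hdet
        · ring)
    have h4 : 2 ≤ Nat.card (qPM F s hsF) := by
      by_contra h5
      have h6 : Nat.card (qPM F s hsF) = 1 := by
        have := Nat.card_pos (α := qPM F s hsF)
        omega
      have h7 := Subgroup.card_eq_one.1 h6
      have h8 : (-1 : (ZMod s)ˣ) ∈ qPM F s hsF := Subgroup.subset_closure (by simp)
      rw [h7, Subgroup.mem_bot] at h8
      have h9 : (-1 : ZMod s) = 1 := congrArg Units.val h8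
      have h10 : ((2 : ℕ) : ZMod s) = 0 := by
        rw [Nat.cast_ofNat]
        linear_combination -h9
      rw [ZMod.natCast_eq_zero_iff] at h10
      have := Nat.le_of_dvd (by norm_num) h10
      have := hs.out.two_le
      omega
    rw [Fintype.card_fin] at h3
    omega
  refine ⟨hn3, ?_, ?_⟩
  · by_cases h3 : 2 ≤ orderOf (qU F s hsF)
    · exact ⟨_, h3, by omega, hd⟩
    · refine ⟨2, le_rfl, by omega, ?_⟩
      have h4 : orderOf (qU F s hsF) = 1 := by omega
      rw [h4] at hd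
      exact hd.trans (Nat.pow_sub_one_dvd_pow_sub_one _ (by norm_num))
  · intro h3
    have h4 : orderOf (qU F s hsF) = 1 := by omega
    rw [h4, pow_one] at hd
    exact hd

end Cfsg.Agent.H442.Pi
end

-- part: H442/Pi/RowPSL
section
/-!
# S4324, PSL: the row of noncyclic Sylow subgroups (helper442)

`nr_psl` : `NR t K` for `K ≅ PSL_n(q)`, `q` a power of `t`.
-/

set_option autoImplicit false

namespace Cfsg.Agent.H442.Pi

open Cfsg Cfsg.Agent.H216.Pi
open Cfsg.Agent.ClassicalGeometry.AutPSL.Root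
open Cfsg.Agent.ClassicalGeometry.AutPSL.Auto
open Cfsg.Agent.ClassicalGeometry.AutPSL.Main

universe u

/-- **PSL, noncyclic Sylow subgroups** -/
theorem nr_psl {t : ℕ} (ht : t.Prime) {K : Type u} [Group K] [Finite K] (h : IsPSLChar t K) : NR t K := by
  obtain ⟨F, iF, iFt, iC, n, hn, h4, ⟨e⟩⟩ := h
  intro s r x hs hr hr3 hrs hrK hst hsK hP hx hxs hxr hPC hFC
  have : Fact s.Prime := ⟨hs⟩
  have : Fact t.Prime := ⟨ht⟩
  have hfin := Finite.of_surjective _ (pr_surjective (ι := Fin n) (F := F))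
  have hL : IsLieTypeChar t (Matrix.ProjectiveSpecialLinearGroup (Fin n) F) :=
    Or.inl ⟨F, iF, iFt, iC, n, hn, h4, ⟨MulEquiv.refl _⟩⟩
  have hs3 : 3 ≤ s := hr3.trans hrs
  have hsF : (s : F) ≠ 0 := by
    intro h0
    rw [CharP.cast_eq_zero_iff F t] at h0
    exact hst ((Nat.prime_dvd_prime_iff_eq ht hs).1 h0).symm
  obtain ⟨P⟩ : Nonempty (Sylow s (Matrix.ProjectiveSpecialLinearGroup (Fin n) F)) := inferInstance
  have hPc : ¬ IsCyclic P := by
    intro hc
    have hle : (P : Subgroup (Matrix.ProjectiveSpecialLinearGroup (Fin n) F)) ≤ e.toMonoidHom.range := by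
      intro y _
      exact ⟨e.symm y, e.apply_symm_apply y⟩
    have hc' : IsCyclic (P : Subgroup (Matrix.ProjectiveSpecialLinearGroup (Fin n) F)) := hc
    apply hP (P.comapOfInjective e.toMonoidHom e.injective hle)
    change IsCyclic ↥((P : Subgroup (Matrix.ProjectiveSpecialLinearGroup (Fin n) F)).comap e.toMonoidHom)
    refine (isCyclic_of_injective (e.toMonoidHom.subgroupComap (P : Subgroup _)) ?_ :)
    intro a b hab
    exact Subtype.ext (e.injective (congrArg Subtype.val hab))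
  obtain ⟨hn3, ⟨i, hi, hin, hd⟩, h3⟩ := exists_exponent hn (by omega) hsF P hPc
  have hcard : Nat.card (Matrix.ProjectiveSpecialLinearGroup (Fin n) F) = Nat.card K :=
    (Nat.card_congr e.toEquiv).symm
  have hPC' := hPC.tr e
  have hFC' := (hFC.eleven).tr e
  have ho : orderOf (H459.Rad.tr e x) = orderOf x := H459.Rad.orderOf_tr e x
  rcases surj_three t hn3 (H459.Rad.tr e x) with ⟨A, σ, hA⟩ | ⟨A, σ, hA⟩
  · rw [hA] at hPC' hFC' ho
    exact false_of_semi hn3 ht hs hs3 hst hL (by rw [hcard]; exact hsK) hi hin hd (fun h5 _ => h3 h5) hx hxs ho hPC'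
      hFC'
  · rw [hA] at hPC' ho
    exact false_of_graph hn3 hs hs3 hi hin hd (by rw [ho]; exact hx) hPC'

end Cfsg.Agent.H442.Pi
end

-- part: H470/PiRad/Gr
section
/-!
# S4324: parabolic subgroups invariant under automorphisms which induce a graph automorphism `σ` (helper470)

* `Dat.Gx x σ` : `x = conj c * z`, `z` normalises `B` and permutes the minimal parabolic subgroups by `σ`;
* `Dat.stable` : the type of an `x`-invariant standard parabolic subgroup is `σ`-stable;
* `Dat.F.up'`, `Dat.F.fx'` : the rules for `σ`-stable types;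
* `Dat.false_of_killed` : the type of an invariant parabolic subgroup is not connected, killed and moved;
* `Dat.exists_F'` : Borel–Tits.
-/

set_option autoImplicit false
set_option linter.unusedSectionVars false

namespace Cfsg.Agent.H470.PiRad.Mod

open Cfsg Subgroup Cfsg.Agent.H216.Pi Cfsg.Agent.H459.Gallery Cfsg.Agent.Schreier.BNSch
open Cfsg.Agent.H470.PiRad.CosetSys Cfsg.Agent.H470.PiRad.Par Cfsg.Agent.H470.PiRad.Orb
open CoxeterSystem Cfsg.Agent.ChevalleyStructure.CoxeterGeom Cfsg.Agent.Tits.Roots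
  Cfsg.Agent.Nodes.Reps Cfsg.Agent.Nodes.BNOf Cfsg.Agent.Nodes.LeviDec Cfsg.Agent.Nodes.Bruhat
  Cfsg.Agent.KFacts.RgdCharP Cfsg.Agent.KFacts.RgdVJ
open Cfsg.Agent.H459.Iface (FixR)

/-- **fixed cosets** -/
theorem exists_fix_coset {K : Type*} [Group K] [Finite K] {y : MulAut K} {p : ℕ} (hp : p.Prime) (hyp : y ^ p = 1)
    {G H : Subgroup K} (hyG : Iv y G) {c : K} (hcG : c ∈ G)
    (hzH : Iv ((MulAut.conj c)⁻¹ * y) H) (hN : normalizer (H : Set K) = H) (hd : ¬ p ∣ H.relIndex G) :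
    ∃ g : K, Iv (cx y g) H := by
  classical
  have : Fact p.Prime := ⟨hp⟩
  set z := (MulAut.conj c)⁻¹ * y with hz
  let σ : G ⧸ H.subgroupOf G → G ⧸ H.subgroupOf G :=
    Quotient.map' (fun g : G => (⟨y g * c, mul_mem (hyG g g.2) hcG⟩ : G)) (by
      intro a b hab
      rw [QuotientGroup.leftRel_apply] at hab ⊢
      rw [mem_subgroupOf] at hab ⊢
      show (y a * c)⁻¹ * (y b * c) ∈ H
      have h1 : (y a * c)⁻¹ * (y b * c) = z ((a : K)⁻¹ * b) := by
        rw [hz, MulAut.mul_apply, MulAut.conj_inv_apply, map_mul, map_inv]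
        group
      rw [h1]
      exact hzH _ hab)
  have hσmk : ∀ g : G, σ (QuotientGroup.mk g) = QuotientGroup.mk (⟨y g * c, mul_mem (hyG g g.2) hcG⟩ : G) := fun g => rfl
  have hpow : ∀ k : ℕ, ∃ ck : K, (ck ∈ G) ∧ Iv ((MulAut.conj ck)⁻¹ * y ^ k) H ∧ ∀ g : G, ∃ (hm : (y ^ k) g * ck ∈ G),
      σ^[k] (QuotientGroup.mk g) = QuotientGroup.mk (⟨(y ^ k) g * ck, hm⟩ : G) := by
    intro k
    induction k with
    | zero =>
      refine ⟨1, one_mem _, ?_, fun g => ⟨by simp, ?_⟩⟩
      · intro a ha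
        simp only [map_one, inv_one, pow_zero, mul_one, MulAut.one_apply]
        exact ha
      · simp
    | succ k ih =>
      obtain ⟨ck, h1, h2, h3⟩ := ih
      refine ⟨y ck * c, mul_mem (hyG _ h1) hcG, ?_, fun g => ?_⟩
      · have h4 : (MulAut.conj (y ck * c))⁻¹ * y ^ (k + 1) = z * ((MulAut.conj ck)⁻¹ * y ^ k) := by
          have h5 := conj_mul_eq y ck⁻¹
          rw [map_inv, map_inv, map_inv] at h5
          rw [hz, map_mul, mul_inv_rev, pow_succ', mul_assoc, mul_assoc, ← mul_assoc _ y, ← h5]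
          group
        rw [h4]
        exact iv_mul hzH h2
      · obtain ⟨hm, h4⟩ := h3 g
        have h5 : (y ^ (k + 1)) g * (y ck * c) = y ((y ^ k) g * ck) * c := by
          rw [map_mul, pow_succ', MulAut.mul_apply]; group
        have h6 : y ((y ^ k) g * ck) * c ∈ G := mul_mem (hyG _ hm) hcG
        refine ⟨by rw [h5]; exact h6, ?_⟩
        rw [Function.iterate_succ_apply', h4, hσmk]
        congr 1
        exact Subtype.ext h5.symm
  have hinv : σ^[p] = id := by
    obtain ⟨ck, h1, h2, h3⟩ := hpow p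
    have hck : ck ∈ H := by
      rw [hyp, mul_one] at h2
      have h5 := iv_inv h2
      rw [inv_inv] at h5
      have h6 : ck ∈ normalizer (H : Set K) := mem_normalizer_of fun r hr => h5 r hr
      rwa [hN] at h6
    funext w
    obtain ⟨g, rfl⟩ := QuotientGroup.mk_surjective w
    obtain ⟨hm, h4⟩ := h3 g
    rw [h4, id, QuotientGroup.eq, mem_subgroupOf]
    show ((y ^ p) g * ck)⁻¹ * g ∈ H
    rw [hyp, MulAut.one_apply]
    have h5 : ((g : K) * ck)⁻¹ * g = ck⁻¹ := by group
    rw [h5]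
    exact inv_mem hck
  have hp1 : p = p - 1 + 1 := by have := hp.pos; omega
  let e : Equiv.Perm (G ⧸ H.subgroupOf G) :=
    { toFun := σ
      invFun := σ^[p - 1]
      left_inv := fun w => by
        have h1 := congrFun hinv w
        rw [hp1, Function.iterate_succ_apply] at h1
        exact h1
      right_inv := fun w => by
        have h1 := congrFun hinv w
        rw [hp1, Function.iterate_succ_apply'] at h1
        exact h1 }
  have hep : e ^ p ^ 1 = 1 := by
    ext w
    rw [pow_one, ← Equiv.Perm.iterate_eq_pow]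
    exact congrFun hinv w
  have : Fintype (G ⧸ H.subgroupOf G) := Fintype.ofFinite _
  have hcard : ¬ p ∣ Fintype.card (G ⧸ H.subgroupOf G) := by
    rw [← Nat.card_eq_fintype_card]
    exact hd
  obtain ⟨w, hw⟩ := Equiv.Perm.exists_fixed_point_of_prime hcard hep
  obtain ⟨g, rfl⟩ := QuotientGroup.mk_surjective w
  have h1 : σ (QuotientGroup.mk g) = QuotientGroup.mk g := hw
  rw [hσmk, eq_comm, QuotientGroup.eq, mem_subgroupOf] at h1
  have h2 : (g : K)⁻¹ * (y g * c) ∈ H := h1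
  refine ⟨g, fun a ha => ?_⟩
  rw [cx_apply]
  have h3 : (g : K)⁻¹ * y (g * a * (g : K)⁻¹) * g = ((g : K)⁻¹ * (y g * c)) * z a * ((g : K)⁻¹ * (y g * c))⁻¹ := by
    rw [hz, MulAut.mul_apply, MulAut.conj_inv_apply, map_mul, map_mul, map_inv]
    group
  rw [h3]
  exact mul_mem (mul_mem h2 (hzH a ha)) (inv_mem h2)

variable {t q l : ℕ} {AL : List (List ℤ)} {cl : List ℕ} {M : CoxeterMatrix (Fin l)}
    {A : Fin l → Fin l → ℤ} {h : IsCartan M A} {G : Type*} [Group G] {T : Subgroup G} {n : Fin l → G}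
    {X : (Fin l → ℤ) → Subgroup G} (D : Dat t q AL cl h T n X)

/-- `x` is of type `σ` -/
def Dat.Gx (x : MulAut G) (σ : Equiv.Perm (Fin l)) : Prop := ∃ c : G, D.Sg ((MulAut.conj c)⁻¹ * x) σ

variable {D}

theorem Dat.Gx.cx [Finite G] {x : MulAut G} {σ : Equiv.Perm (Fin l)} (h : D.Gx x σ) (g : G) : D.Gx (cx x g) σ := by
  obtain ⟨c, hc⟩ := h
  refine ⟨g⁻¹ * x g * c, ?_⟩
  have h1 : (MulAut.conj (g⁻¹ * x g * c))⁻¹ * H459.Gallery.cx x g = (MulAut.conj c)⁻¹ * x := by
    ext a
    rw [MulAut.mul_apply, MulAut.mul_apply, MulAut.conj_inv_apply, MulAut.conj_inv_apply, cx_apply']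
    group
  rwa [h1]

theorem Dat.Sg.iv [Finite G] {z : MulAut G} {σ : Equiv.Perm (Fin l)} (hz : D.Sg z σ) {J : Finset (Fin l)}
    (hJ : ∀ i ∈ J, σ i ∈ J) : Iv z (D.par J) := by
  have h1 : D.par J ≤ (D.par J).comap z.toMonoidHom := by
    refine sup_le (fun b hb => B_le_parabolic _ _ (hz.1 b hb)) ((closure_le _).2 ?_)
    rintro _ ⟨i, hi, rfl⟩
    have h2 : z (n i) ∈ D.bn.parabolic {n (σ i)} := by
      rw [← hz.2 i]
      exact Subgroup.mem_map_of_mem _ (mem_parabolic_self _ _)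
    exact parabolic_mono D.bn (Set.singleton_subset_iff.2 (Set.mem_image_of_mem n (show σ i ∈ (J : Set (Fin l)) from hJ i hi))) h2
  exact fun a ha => h1 ha

theorem Dat.Sg.map_par [Finite G] {z : MulAut G} {σ : Equiv.Perm (Fin l)} (hz : D.Sg z σ) (J : Finset (Fin l)) :
    (D.par J).map z.toMonoidHom = D.par (J.image σ) := by
  apply le_antisymm
  · rw [Subgroup.map_le_iff_le_comap]
    refine sup_le (fun b hb => B_le_parabolic _ _ (hz.1 b hb)) ((closure_le _).2 ?_)
    rintro _ ⟨i, hi, rfl⟩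
    have h2 : z (n i) ∈ D.bn.parabolic {n (σ i)} := by
      rw [← hz.2 i]
      exact Subgroup.mem_map_of_mem _ (mem_parabolic_self _ _)
    exact parabolic_mono D.bn (Set.singleton_subset_iff.2 (Set.mem_image_of_mem n
      (show σ i ∈ ((J.image σ : Finset (Fin l)) : Set (Fin l)) from Finset.mem_coe.2 (Finset.mem_image_of_mem _ hi)))) h2
  · refine sup_le ?_ ((closure_le _).2 ?_)
    · have h1 := hz.1.map_eq
      intro b hb
      rw [← h1] at hb
      exact Subgroup.map_mono (B_le_parabolic _ _) hb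
    · rintro _ ⟨j, hj, rfl⟩
      rw [Finset.mem_coe, Finset.mem_image] at hj
      obtain ⟨i, hi, rfl⟩ := hj
      have h2 : n (σ i) ∈ (D.bn.parabolic {n i}).map z.toMonoidHom := by
        rw [hz.2 i]
        exact mem_parabolic_self _ _
      exact Subgroup.map_mono (parabolic_mono D.bn (Set.singleton_subset_iff.2
        (Set.mem_image_of_mem n (show i ∈ (J : Set (Fin l)) from hi)))) h2

theorem par_inj {J L : Finset (Fin l)} (h : D.par J = D.par L) : J = L := by
  have := D.fin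
  have h1 := S0314.result D.bn (img_sub D.rgd D.hgen _) (img_sub D.rgd D.hgen _) h
  exact Finset.coe_injective (Set.image_injective.2 D.rgd.n_injective h1)

/-- **the type of an invariant standard parabolic subgroup is `σ`-stable** -/
theorem Dat.Gx.stable [Finite G] {y : MulAut G} {σ : Equiv.Perm (Fin l)} (hy : D.Gx y σ) {J : Finset (Fin l)}
    (hI : Iv y (D.par J)) : ∀ i ∈ J, σ i ∈ J := by
  have := D.fin
  obtain ⟨c, hc⟩ := hy
  have h1 := hc.map_par J
  have h2 : (D.par J).map ((MulAut.conj c)⁻¹ * y).toMonoidHom = (D.par J).map (MulAut.conj c⁻¹).toMonoidHom := by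
    have e : ((MulAut.conj c)⁻¹ * y).toMonoidHom = (MulAut.conj c⁻¹).toMonoidHom.comp y.toMonoidHom := by
      rw [map_inv]; rfl
    rw [e, ← Subgroup.map_map, hI.map_eq]
  rw [h2] at h1
  have h3 := S0313.result D.bn (img_sub D.rgd D.hgen _) (img_sub D.rgd D.hgen _) c⁻¹ h1
  have h4 : J = J.image σ := par_inj (D := D) h3
  intro i hi
  rw [h4]
  exact Finset.mem_image_of_mem _ hi

/-- the translation part lies in the parabolic subgroup -/
theorem Dat.Gx.mem [Finite G] {y : MulAut G} {σ : Equiv.Perm (Fin l)} {c : G} (hc : D.Sg ((MulAut.conj c)⁻¹ * y) σ)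
    {J : Finset (Fin l)} (hI : Iv y (D.par J)) : c ∈ D.par J := by
  have := D.fin
  have h1 : Iv ((MulAut.conj c)⁻¹ * y) (D.par J) := hc.iv (Dat.Gx.stable ⟨c, hc⟩ hI)
  have h2 : Iv ((MulAut.conj c)⁻¹) (D.par J) := by
    have h3 := iv_mul h1 (iv_inv hI)
    rwa [mul_inv_cancel_right] at h3
  have h4 : Iv (MulAut.conj c) (D.par J) := by
    have h5 := iv_inv h2
    rwa [inv_inv] at h5
  have h6 : c ∈ normalizer (D.par J : Set G) := mem_normalizer_of fun r hr => h4 r hr
  have h7 := S0312.result D.bn (img_sub D.rgd D.hgen (J : Set (Fin l)))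
  unfold Dat.par at h6 ⊢
  rwa [h7] at h6

theorem Dat.Gx.up [Finite G] {y : MulAut G} {σ : Equiv.Perm (Fin l)} (hy : D.Gx y σ) {J L : Finset (Fin l)}
    (hI : Iv y (D.par J)) (hJL : J ⊆ L) (hL : ∀ i ∈ L, σ i ∈ L) : Iv y (D.par L) := by
  obtain ⟨c, hc⟩ := hy
  have h1 : c ∈ D.par L := parabolic_mono _ (Set.image_mono (Finset.coe_subset.2 hJL)) (Dat.Gx.mem hc hI)
  have h2 := iv_mul (x := MulAut.conj c) (fun a ha => mul_mem (mul_mem h1 ha) (inv_mem h1)) (hc.iv hL)
  rwa [mul_inv_cancel_left] at h2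

theorem Dat.F.up' [Finite G] {x : MulAut G} {σ : Equiv.Perm (Fin l)} {J L : Finset (Fin l)} (hx : D.F x J)
    (hσ : D.Gx x σ) (hJL : J ⊆ L) (hL : ∀ i ∈ L, σ i ∈ L) : D.F x L := by
  obtain ⟨g, hg⟩ := hx
  exact ⟨g, (hσ.cx g).up hg hJL hL⟩

theorem Dat.F.stable [Finite G] {x : MulAut G} {σ : Equiv.Perm (Fin l)} {J : Finset (Fin l)} (hx : D.F x J)
    (hσ : D.Gx x σ) : ∀ i ∈ J, σ i ∈ J := by
  obtain ⟨g, hg⟩ := hx
  exact (hσ.cx g).stable hg

/-- **fixed points** -/
theorem Dat.F.fx' [Finite G] {x : MulAut G} {σ : Equiv.Perm (Fin l)} {p : ℕ} {J L : Finset (Fin l)} (hx : D.F x J)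
    (hp : p.Prime) (hxp : x ^ p = 1) (hσ : D.Gx x σ) (hL : ∀ i ∈ L, σ i ∈ L)
    (hd : ¬ p ∣ (D.par L).relIndex (D.par J)) : D.F x L := by
  have := D.fin
  obtain ⟨g₀, hg₀⟩ := hx
  obtain ⟨c, hc⟩ := hσ.cx g₀
  have hyp : (cx x g₀) ^ p = 1 := by
    have h1 : cx x g₀ = MulAut.conj (MulAut.conj g₀)⁻¹ x := by
      rw [MulAut.conj_apply, inv_inv]; rfl
    rw [h1, ← map_pow, hxp, map_one]
  have hN : normalizer (D.par L : Set G) = D.par L := S0312.result D.bn (img_sub D.rgd D.hgen (L : Set (Fin l)))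
  obtain ⟨g, hg⟩ := exists_fix_coset hp hyp (G := D.par J) (H := D.par L) hg₀ (Dat.Gx.mem hc hg₀) (hc.iv hL) hN hd
  refine ⟨g₀ * g, ?_⟩
  rw [← cx_cx]
  exact hg

/-- **a connected killed type is not moved** -/
theorem Dat.F.false_of_killed [Finite G] {s : ℕ} {x : MulAut G} {σ : Equiv.Perm (Fin l)} {J : Finset (Fin l)}
    (hx : D.F x J) (hσ : D.Gx x σ) (hPC : PC s x) (hJ : J ≠ Finset.univ) (hc : D.C J) (hk : D.K s J) {i : Fin l}
    (hi : i ∈ J) (hne : σ i ≠ i) : False := by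
  have := D.fin
  obtain ⟨g, hg⟩ := hx
  obtain ⟨c, hcc⟩ := hσ.cx g
  set y := cx x g with hy
  have h1 : coreIn s (D.par J) ≤ D.bn.B := by
    have h2 := core_le_sdiff (P := D.bn) (img_sub D.rgd D.hgen (J : Set (Fin l))) (le_refl _) hc hk
    rwa [Set.sdiff_self, parabolic_empty] at h2
  have h2 : ∀ m ∈ D.par J, m⁻¹ * y m ∈ D.bn.B := fun m hm =>
    h1 (Gal.pc_cx hPC g _ (par_ne_top hJ) hg m hm)
  have h3 : ∀ L : Finset (Fin l), L ⊆ J → Iv y (D.par L) := by
    intro L hL m hm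
    have h4 : y m = m * (m⁻¹ * y m) := by group
    rw [h4]
    exact mul_mem hm (B_le_parabolic _ _ (h2 m (parabolic_mono _ (Set.image_mono (Finset.coe_subset.2 hL)) hm)))
  have h5 := Dat.Gx.stable (D := D) ⟨c, hcc⟩ (h3 {i} (Finset.singleton_subset_iff.2 hi)) i (Finset.mem_singleton_self i)
  exact hne (Finset.mem_singleton.1 h5)

/-- **Borel–Tits** -/
theorem Dat.exists_F' [Finite G] [IsSimpleGroup G] (ht : t.Prime) (hl : 0 < l) {x : MulAut G}
    (hx : FixR t x) : ∃ J : Finset (Fin l), J ≠ Finset.univ ∧ D.F x J := by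
  classical
  have := D.fin
  have : Fact t.Prime := ⟨ht⟩
  set! P := D.bn with hP
  have hmS : ∀ i, n i ∈ P.S := fun i => ⟨i, rfl⟩
  have hne : P.S.Nonempty := ⟨n ⟨0, hl⟩, hmS _⟩
  have hcore := Cfsg.Agent.Tits.OfBN.normalCore_eq_bot P hne
  have hsplit := Cfsg.Agent.FixBN.SplitRGD.split_of_rgd Fact.out D.rgd D.hgen hcore
  obtain ⟨U', hU'⟩ := Cfsg.Agent.H459.RgdRad.exists_sylow hsplit
  have hN : normalizer ((U' : Subgroup G) : Set G) = P.B := by rw [hU']; exact hsplit.normalizer_eq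
  have hns : ∀ V : Subgroup G, V ≠ ⊥ → V ≠ ⊤ → normalizer (V : Set G) ≠ ⊤ := by
    intro V h1 h2 h3
    rcases (Subgroup.normalizer_eq_top_iff.1 h3).eq_bot_or_eq_top with h4 | h4
    · exact h1 h4
    · exact h2 h4
  have hnB : n ⟨0, hl⟩ ∉ P.B := not_mem_B P (hmS _)
  have hnp : ¬ IsPGroup t G := by
    intro hG
    have h1 : (⊤ : Subgroup G) = (U' : Subgroup G) := by
      have h2 : IsPGroup t (⊤ : Subgroup G) := hG.of_equiv Subgroup.topEquiv.symm
      exact U'.is_maximal' h2 le_top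
    apply hnB
    rw [← hN]
    refine le_normalizer ?_
    rw [← h1]
    trivial
  obtain ⟨M₀, g₀, h1, h2, h3⟩ := Cfsg.Agent.H459.RgdRad.exists_par D.rgd D.hgen D.bt hns hnp hx
  obtain ⟨J, hJS, rfl⟩ := Cfsg.Agent.S0311.result P M₀ h1
  set! L : Finset (Fin l) := Finset.univ.filter (fun i => n i ∈ J) with hL
  have hLJ : n '' (L : Set (Fin l)) = J := by
    apply Set.Subset.antisymm
    · rintro _ ⟨i, hi, rfl⟩
      rw [Finset.mem_coe, hL, Finset.mem_filter] at hi
      exact hi.2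
    · intro y hy
      obtain ⟨i, rfl⟩ := hJS hy
      exact ⟨i, by rw [Finset.mem_coe, hL, Finset.mem_filter]; exact ⟨Finset.mem_univ _, hy⟩, rfl⟩
  refine ⟨L, ?_, g₀, ?_⟩
  · intro h4
    apply h2
    have h5 : J = P.S := by
      refine Set.Subset.antisymm hJS ?_
      rintro _ ⟨i, rfl⟩
      rw [← hLJ, h4]
      exact ⟨i, by simp only [_root_.Finset.coe_univ, _root_.Set.mem_univ], rfl⟩
    rw [h5]
    exact sup_closure_eq_top _
  · show Iv (cx x g₀) (P.parabolic (n '' (L : Set (Fin l))))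
    rw [hLJ]
    exact h3

end Cfsg.Agent.H470.PiRad.Mod
end

-- part: H470/PiRad/TabE6G
section
/-!
# S4324: orbit tables and indices, type E6G (helper470, generated)
-/

set_option autoImplicit false
set_option linter.unusedSectionVars false

namespace Cfsg.Agent.H470.PiRad.TabE6G

open Cfsg Subgroup Cfsg.Agent.H470.PiRad.Mod Cfsg.Agent.H470.PiRad.Orb
open Cfsg.Agent.ChevalleyStructure.CoxeterGeom Cfsg.Agent.H470.PiRad.TabE6

variable {t q : ℕ} {M : CoxeterMatrix (Fin 6)}
    {A : Fin 6 → Fin 6 → ℤ} {h : IsCartan M A} {G : Type*} [Group G] {T : Subgroup G} {n : Fin 6 → G}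
    {X : (Fin 6 → ℤ) → Subgroup G} (D : Dat t q AL cl h T n X)

/-- the orbit of the weight `1` under `W_{1,3}` -/
def t_13_1 : List Nd := [
  ⟨[0, 1, 0, 0, 0, 0], 0, 0, 0⟩, ⟨[0, -1, 0, 1, 0, 0], 1, 0, 1⟩, ⟨[0, 0, 1, -1, 1, 0], 2, 1, 3⟩]

theorem ok_13_1 : orbOK 6 1 [1, 3] cl AL t_13_1 = true := by decide +kernel

theorem S_13_1 (q : ℕ) : S q t_13_1 = 1 + q + q ^ 2 := by
  simp only [S, t_13_1, List.map_cons, List.map_nil, List.sum_cons, List.sum_nil]
  ring

theorem rel_13_1 [Finite G] : (D.par ({3} : Finset (Fin 6))).relIndex (D.par ({1, 3} : Finset (Fin 6))) =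
    1 + q + q ^ 2 := by
  rw [D.rel (k := 1) (JL := [1, 3]) (L := t_13_1) ok_13_1 (by decide) (by decide) (by decide), S_13_1]

/-- the orbit of the weight `1` under `W_{0,1,3,5}` -/
def t_0135_1 : List Nd := [
  ⟨[0, 1, 0, 0, 0, 0], 0, 0, 0⟩, ⟨[0, -1, 0, 1, 0, 0], 1, 0, 1⟩, ⟨[0, 0, 1, -1, 1, 0], 2, 1, 3⟩]

theorem ok_0135_1 : orbOK 6 1 [0, 1, 3, 5] cl AL t_0135_1 = true := by decide +kernel

theorem S_0135_1 (q : ℕ) : S q t_0135_1 = 1 + q + q ^ 2 := by
  simp only [S, t_0135_1, List.map_cons, List.map_nil, List.sum_cons, List.sum_nil]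
  ring

theorem rel_0135_1 [Finite G] : (D.par ({0, 3, 5} : Finset (Fin 6))).relIndex (D.par ({0, 1, 3, 5} : Finset (Fin 6))) =
    1 + q + q ^ 2 := by
  rw [D.rel (k := 1) (JL := [0, 1, 3, 5]) (L := t_0135_1) ok_0135_1 (by decide) (by decide) (by decide), S_0135_1]

/-- the orbit of the weight `5` under `W_{1,2,4,5}` -/
def t_1245_5 : List Nd := [
  ⟨[0, 0, 0, 0, 0, 1], 0, 0, 0⟩, ⟨[0, 0, 0, 0, 1, -1], 1, 0, 5⟩, ⟨[0, 0, 0, 1, -1, 0], 2, 1, 4⟩]

theorem ok_1245_5 : orbOK 6 5 [1, 2, 4, 5] cl AL t_1245_5 = true := by decide +kernel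

theorem S_1245_5 (q : ℕ) : S q t_1245_5 = 1 + q + q ^ 2 := by
  simp only [S, t_1245_5, List.map_cons, List.map_nil, List.sum_cons, List.sum_nil]
  ring

theorem rel_1245_5 [Finite G] : (D.par ({1, 2, 4} : Finset (Fin 6))).relIndex (D.par ({1, 2, 4, 5} : Finset (Fin 6))) =
    1 + q + q ^ 2 := by
  rw [D.rel (k := 5) (JL := [1, 2, 4, 5]) (L := t_1245_5) ok_1245_5 (by decide) (by decide) (by decide), S_1245_5]

end Cfsg.Agent.H470.PiRad.TabE6G
end

-- part: H470/PiRad/NRE6
section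
/-!
# S4324: the row `NR` of `E₆(q)` (helper470)

* `false_of_gr` : no involution which induces the graph automorphism normalises a parabolic subgroup (`PC`);
* `nr_E6`, `NR_E6` : the row.
-/

set_option autoImplicit false
set_option linter.unusedSectionVars false

namespace Cfsg.Agent.H470.PiRad.NRE6

open Cfsg Subgroup Cfsg.Agent.H216.Pi Cfsg.Agent.H470.PiRad.CosetSys Cfsg.Agent.H470.PiRad.Mod
open Cfsg.Agent.H470.PiRad.Orb Cfsg.Agent.H470.PiRad.TabE6 Cfsg.Agent.H470.PiRad.TabE6G Cfsg.Agent.H470.PiRad.RowE6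
open Cfsg.Agent.ChevalleyStructure.CoxeterGeom
open Cfsg.Agent.H459.Iface (FixR)

section

variable {t q s : ℕ}
    {A : Fin 6 → Fin 6 → ℤ} {h : IsCartan CoxeterMatrix.E₆ A} {G : Type*} [Group G] [Finite G] [IsSimpleGroup G]
    {T : Subgroup G} {n : Fin 6 → G} {X : (Fin 6 → ℤ) → Subgroup G} (D : Dat t q AL cl h T n X)

/-- the nontrivial diagram automorphism -/
theorem sigma_eq {σ : Equiv.Perm (Fin 6)}
    (h1 : ∀ i j, H580.Graph.Adj CoxeterMatrix.E₆ (σ i) (σ j) ↔ H580.Graph.Adj CoxeterMatrix.E₆ i j)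
    (h2 : ∀ i, σ i = i ∨ σ i = NRow.flip6 i) (h3 : σ ≠ 1) :
    σ 0 = 5 ∧ σ 1 = 1 ∧ σ 2 = 4 ∧ σ 3 = 3 ∧ σ 4 = 2 ∧ σ 5 = 0 := by
  have e1 : σ 1 = 1 := by rcases h2 1 with h | h <;> exact h
  have e3 : σ 3 = 3 := by rcases h2 3 with h | h <;> exact h
  have e0 : σ 0 = 0 ∨ σ 0 = 5 := h2 0
  have e2 : σ 2 = 2 ∨ σ 2 = 4 := h2 2
  have e4 : σ 4 = 4 ∨ σ 4 = 2 := h2 4
  have e5 : σ 5 = 5 ∨ σ 5 = 0 := h2 5
  have a02 := h1 0 2
  have a45 := h1 4 5
  have i24 : σ 2 ≠ σ 4 := fun h => absurd (σ.injective h) (by decide)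
  simp only [H580.Graph.Adj] at a02 a45
  rcases e2 with e2 | e2
  · exfalso
    have e4' : σ 4 = 4 := e4.resolve_right (fun h => i24 (e2.trans h.symm))
    have e0' : σ 0 = 0 := by
      refine e0.resolve_right fun h => ?_
      rw [h, e2] at a02
      revert a02
      decide
    have e5' : σ 5 = 5 := by
      refine e5.resolve_right fun h => ?_
      rw [h, e4'] at a45
      revert a45
      decide
    apply h3
    ext i
    fin_cases i
    · exact congrArg Fin.val e0'
    · exact congrArg Fin.val e1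
    · exact congrArg Fin.val e2
    · exact congrArg Fin.val e3
    · exact congrArg Fin.val e4'
    · exact congrArg Fin.val e5'
  · have e4' : σ 4 = 2 := e4.resolve_left (fun h => i24 (e2.trans h.symm))
    have e0' : σ 0 = 5 := by
      refine e0.resolve_left fun h => ?_
      rw [h, e2] at a02
      revert a02
      decide
    have e5' : σ 5 = 0 := by
      refine e5.resolve_left fun h => ?_
      rw [h, e4'] at a45
      revert a45
      decide
    exact ⟨e0', e1, e2, e3, e4', e5'⟩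

theorem k_d4 (ht : t.Prime) (hs : s.Prime) (hs3 : 3 ≤ s) (hst : s ≠ t) (hq : 1 ≤ q) {e : ℕ}
    (he : orderOf (q : ZMod s) = e) (h0 : e ∈ L6) : D.K s {1, 2, 3, 4} := by
  simp only [L6, Finset.mem_insert, Finset.mem_singleton] at h0
  rcases h0 with rfl | rfl | rfl | rfl | rfl
  · exact (D.kt ht hs hs3 hst (Num.dvd_sub_one hs hq he) 1 rfl).mono (by decide)
  · refine D.kk hs (by decide) (rel_1234_1 D) (Dvd.dvd.mul_right ?_ _)
    have h1 : 1 + q ∣ 1 + q ^ 3 := by
      have := Odd.nat_add_dvd_pow_add_pow 1 q (n := 3) (by decide)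
      rwa [one_pow] at this
    exact (Num.g2 hs he).trans h1
  · exact (D.kk hs (by decide) (rel_13_1 D) (Num.g3 hs he)).mono (by decide)
  · exact D.kk hs (by decide) (rel_1234_1 D) (Dvd.dvd.mul_left (Num.g4 hs he) _)
  · exact D.kk hs (by decide) (rel_1234_1 D) (Dvd.dvd.mul_right (Num.c6 hs he) _)

theorem odd_g3 (q : ℕ) : ¬ 2 ∣ 1 + q + q ^ 2 := by
  have h1 : 1 + q + q ^ 2 = 1 + q * (q + 1) := by ring
  rw [h1]
  have h2 := Nat.even_mul_succ_self q
  obtain ⟨k, hk⟩ := h2
  omega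

theorem false_of_gr (ht : t.Prime) (hs : s.Prime) (hs3 : 3 ≤ s) (hst : s ≠ t) (hq : 1 ≤ q) {e : ℕ}
    (he : orderOf (q : ZMod s) = e) (h0 : e ∈ L6) {x : MulAut G} (hx2 : x ^ 2 = 1) (hF : FixR t x) (hPC : PC s x)
    {σ : Equiv.Perm (Fin 6)} (hσ : D.Gx x σ)
    (hσ' : σ 0 = 5 ∧ σ 1 = 1 ∧ σ 2 = 4 ∧ σ 3 = 3 ∧ σ 4 = 2 ∧ σ 5 = 0) : False := by
  obtain ⟨e0, e1, e2, e3, e4, e5⟩ := hσ'
  have hf : ∀ i, σ i = NRow.flip6 i := by
    intro i
    fin_cases i
    · exact e0
    · exact e1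
    · exact e2
    · exact e3
    · exact e4
    · exact e5
  have st : ∀ {L : Finset (Fin 6)}, (∀ i ∈ L, NRow.flip6 i ∈ L) → ∀ i ∈ L, σ i ∈ L := by
    intro L hL i hi
    rw [hf]
    exact hL i hi
  have hst1 : ∀ i ∈ (Finset.univ.erase 1 : Finset (Fin 6)), σ i ∈ (Finset.univ.erase 1 : Finset (Fin 6)) :=
    st (by decide)
  have hst4 : ∀ i ∈ ({1, 2, 3, 4} : Finset (Fin 6)), σ i ∈ ({1, 2, 3, 4} : Finset (Fin 6)) := st (by decide)
  -- the two connected killed types
  have c1 : ∀ {J : Finset (Fin 6)}, D.F x J → 1 ∉ J → False := by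
    intro J hJ hJ1
    have h1 : D.F x (Finset.univ.erase 1) :=
      hJ.up' hσ (fun j hj => Finset.mem_erase.2 ⟨fun h2 => hJ1 (h2 ▸ hj), Finset.mem_univ _⟩) hst1
    exact h1.false_of_killed hσ hPC (by decide) (c_1 D) (k_1 D ht hs hs3 hst hq he h0) (i := 0) (by decide)
      (by rw [e0]; decide)
  have c4 : ∀ {J : Finset (Fin 6)}, D.F x J → J ⊆ {1, 2, 3, 4} → False := by
    intro J hJ hJ1
    have h1 : D.F x {1, 2, 3, 4} := hJ.up' hσ hJ1 hst4
    exact h1.false_of_killed hσ hPC (by decide) (D.cc [1, 2, 3, 4] (by decide) (by decide))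
      (k_d4 D ht hs hs3 hst hq he h0) (i := 2) (by decide) (by rw [e2]; decide)
  obtain ⟨J, hJne, hJ⟩ := D.exists_F' ht (by norm_num) hF
  have hJs := hJ.stable hσ
  by_cases j1 : (1 : Fin 6) ∈ J
  swap
  · exact c1 hJ j1
  by_cases j0 : (0 : Fin 6) ∈ J
  swap
  · have j5 : (5 : Fin 6) ∉ J := fun h5 => j0 (by have := hJs 5 h5; rwa [e5] at this)
    refine c4 hJ fun i hi => ?_
    fin_cases i
    · exact absurd hi j0
    · decide
    · decide
    · decide
    · decide
    · exact absurd hi j5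
  have j5 : (5 : Fin 6) ∈ J := by have := hJs 0 j0; rwa [e0] at this
  by_cases j3 : (3 : Fin 6) ∈ J
  swap
  · -- `J ⊆ S \ {3}`
    have h1 : D.F x {0, 1, 2, 4, 5} := by
      refine hJ.up' hσ (fun i hi => ?_) (st (by decide))
      fin_cases i <;> first | decide | exact absurd hi j3
    have h2 : D.F x {1, 2, 4} := by
      refine h1.fx' Nat.prime_two hx2 hσ (st (by decide)) ?_
      · have a1 : D.par ({1, 2, 4} : Finset (Fin 6)) ≤ D.par {1, 2, 4, 5} :=
          Cfsg.Agent.Schreier.BNSch.parabolic_mono _ (Set.image_mono (Finset.coe_subset.2 (by decide)))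
        have a2 : D.par ({1, 2, 4, 5} : Finset (Fin 6)) ≤ D.par {0, 1, 2, 4, 5} :=
          Cfsg.Agent.Schreier.BNSch.parabolic_mono _ (Set.image_mono (Finset.coe_subset.2 (by decide)))
        rw [← Subgroup.relIndex_mul_relIndex _ _ _ a1 a2, rel_1245_5 D, rel_01245_0 D]
        intro h3
        rcases (Nat.prime_two.dvd_mul).1 h3 with h4 | h4 <;> exact odd_g3 q h4
    exact c4 h2 (by decide)
  · -- `J ⊆ S \ {2, 4}`
    have j2 : (2 : Fin 6) ∉ J := by
      intro h2
      have h4 : (4 : Fin 6) ∈ J := by have := hJs 2 h2; rwa [e2] at this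
      apply hJne
      ext i
      simp only [Finset.mem_univ, iff_true]
      fin_cases i
      · exact j0
      · exact j1
      · exact h2
      · exact j3
      · exact h4
      · exact j5
    have j4 : (4 : Fin 6) ∉ J := fun h4 => j2 (by have := hJs 4 h4; rwa [e4] at this)
    have h1 : D.F x {0, 1, 3, 5} := by
      refine hJ.up' hσ (fun i hi => ?_) (st (by decide))
      fin_cases i <;> first | decide | exact absurd hi j2 | exact absurd hi j4
    have h2 : D.F x {0, 3, 5} := by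
      refine h1.fx' Nat.prime_two hx2 hσ (st (by decide)) ?_
      · rw [rel_0135_1 D]
        exact odd_g3 q
    exact c1 h2 (by decide)

end

open Cfsg.Lie Cfsg.Agent.H470.PiRad.NRow

/-- **`E₆(q)`** -/
theorem nr_E6 {F : Type} [Field F] [Fintype F] {t : ℕ} [Fact t.Prime] [hC : CharP F t]
    [IsSimpleGroup ↥(chevE6.group F)] : NR t ↥(chevE6.group F) := by
  intro s r x hs hr hr3 hrs _ hst hd hP hx hxs _ hPC hFC
  have ht : t.Prime := Fact.out
  obtain ⟨P⟩ : Nonempty (Sylow s ↥(chevE6.group F)) := inferInstance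
  have he := H320.Cyc.ord_E6 (t := t) (MulEquiv.refl _) hs (hr3.trans hrs) hst P (hP P)
  set! D := Inst.dat_E6 F t with hD
  rcases D.flip_of_inj ht (by norm_num) 4 flip6 (by decide +kernel) x with hTP | ⟨c, σ, h1, h2, h3, h4, h5⟩
  · exact tpr_E6 hs (hr3.trans hrs) hst hd he hx hTP (le_trans (by norm_num) (mm_ge r)) hPC hFC
  have hx2 : orderOf x = 2 := by
    rcases hx.eq_two_or_odd' with h6 | h6
    · exact h6
    · exfalso
      apply h4
      obtain ⟨m, hm⟩ := h6
      have h7 := h5 _ (pow_orderOf_eq_one x)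
      rw [hm, pow_succ, pow_mul, sq_of_flip (by decide) h3, one_pow, one_mul] at h7
      exact h7
  have hF : FixR t x := by
    by_cases hxt : orderOf x = t
    · exact FixR.of_card (dvd_card D ht (by norm_num)) ⟨1, by rw [pow_one, ← hxt]; exact pow_orderOf_eq_one x⟩
    by_contra hF
    exact Ell.false_of_not_fixR ht lie_E6 hs hst hd hx hxt (Or.inr hx2) hF (le_trans (by norm_num) (mm_ge r)) hFC
  exact false_of_gr D ht hs (hr3.trans hrs) hst one_le_card rfl he (by rw [← hx2]; exact pow_orderOf_eq_one x) hF hPC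
    ⟨c, h1⟩ (sigma_eq h2 h3 h4)

theorem NR_E6 (t : ℕ) (K : Type) [Group K] [Finite K] [IsSimpleGroup K] (ht : t.Prime)
    (h : ∃ (F : Type) (_ : Field F) (_ : Fintype F) (_ : CharP F t), Nonempty (K ≃* Lie.chevE6.group F)) : NR t K := by
  obtain ⟨F, _, _, hC, ⟨e⟩⟩ := h
  have : Fact t.Prime := ⟨ht⟩
  have : IsSimpleGroup ↥(Lie.chevE6.group F) := (MulEquiv.isSimpleGroup_congr e).1 inferInstance
  exact nr_congr e nr_E6

end Cfsg.Agent.H470.PiRad.NRE6
end

private theorem dce_b252c15a6700 : _root_.True := by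
  try have : _root_.True := by simp only [_root_.Cfsg.Agent.H470.PiRad.TabE6G.t_13_1.eq_1]
  try have : _root_.True := by simp only [_root_.Cfsg.Agent.H580.Graph.Adj.eq_1]
  try have : _root_.True := by simp only [_root_.Cfsg.Agent.H470.PiRad.TabE6G.t_1245_5.eq_1]
  try have : _root_.True := by simp only [_root_.Cfsg.Agent.H470.PiRad.TabE6G.t_0135_1.eq_1]
  try have : _root_.True := by simp only [_root_.ZMod.finEquiv.congr_simp]
  exact _root_.True.intro
end

-- part: H73/Pi/FieldGen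
section
prune_inst 0x21407444476200000018858233003c76fe0005b0006b8801c8600b400e886d6225020f60b4b01110922aa645203d0048131801f0420000000a000000011d0581000912069058a000600000000084000000000000000000000000000000010004200000000
set_option linter.all false
open scoped Cfsg.Agent.FastGrp

/-!
# At most eleven conjugates of an automorphism of field type of `E₆`, `E₇`, `E₈` (helper73, S4324)

`D` of type `E₆`, `E₇`, `E₈`, `x` an automorphism of prime order of `D.group F` of field type: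
* `inC_field` : `l + 3` conjugates of `x` generate a group containing the inner automorphisms (the conjugates by `1`, an
  element of the torus, the simple root elements and one element of the lowest root subgroup);
* `cases_of_FC` : an automorphism of prime order with `FC s m`, `m ≥ l + 3`, is inner-diagonal or of graph type.
-/

set_option autoImplicit false
set_option linter.unusedSectionVars false

namespace Cfsg.Agent.H73.Pi.FieldGen

open Subgroup Cfsg.Lie Cfsg.Agent.ChevalleyStructure Cfsg.Agent.ChevalleyStructure.Elts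
  Cfsg.Agent.ChevalleyStructure.RootWord Cfsg.Agent.ChevalleyStructure.RootCombGood
  Cfsg.Agent.H79.SimpleGen Cfsg.Agent.H412.OT Cfsg.Agent.H249.Pi.Fld Cfsg.Agent.ChevStructure.FieldMap
  Cfsg.Agent.H249.Pi.Gen Cfsg.Agent.H249.Pi.FldType

universe u

variable {F : Type u} [Field F] {D : ChevalleyDatum}

/-- the root `r + s` when the commutator formula has one term with coefficient `±1` -/
def stp (D : ChevalleyDatum) (r s : ℕ) : Option ℕ :=
  match D.commTerms r s with
  | [(l, c, 1, 1)] => if c == 1 || c == -1 then some l else none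
  | _ => none

theorem stp_eq {r s l : ℕ} (h : stp D r s = some l) : ∃ c : ℤ, (c = 1 ∨ c = -1) ∧ D.commTerms r s = [(l, c, 1, 1)] := by
  unfold stp at h
  split at h
  · rename_i l' c hc
    split_ifs at h with h1
    · rw [Option.some.injEq] at h
      subst h
      simp only [Bool.or_eq_true, beq_iff_eq] at h1
      exact ⟨c, h1, hc⟩
  · exact absurd h (by simp)

/-- the step: a full root subgroup and one element of another one -/
theorem spread (hD : InList D) {H : Subgroup ↥(D.group F)} {r s l : ℕ} (hr : r < D.nroots) (hs : s < D.nroots)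
    (hrs : s ≠ r) (hneg : s ≠ D.neg r) (h : stp D r s = some l) (hR : ∀ t, xS hD r t ∈ H) {d : F} (hd0 : d ≠ 0)
    (hS : xS hD s d ∈ H) (t : F) : xS hD l t ∈ H := by
  obtain ⟨c, hc, he⟩ := stp_eq h
  have hc0 : (c : F) ≠ 0 := by
    rcases hc with rfl | rfl <;> simp
  have key : ∀ v : F, xS hD s d * xS hD r v = xS hD r v * xS hD s d * xS hD l (-(c : F) * v * d) := by
    intro v
    have h1 := Cfsg.Agent.S1025.result (F := F) D hD r s hr hs hrs hneg v d
    have h2 : D.commWord F r s v d = [(l, -(c : F) * v * d)] := by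
      show (D.commTerms r s).map _ = _
      rw [he]
      simp only [List.map_cons, List.map_nil, pow_one]
      congr 2
      ring
    rw [h2, wordMat_cons, wordMat_nil, mul_one] at h1
    exact Subtype.ext (Units.ext h1)
  have h3 := key (-(c : F)⁻¹ * t * d⁻¹)
  have h4 : -(c : F) * (-(c : F)⁻¹ * t * d⁻¹) * d = t := by field_simp
  rw [h4] at h3
  have h5 : xS hD l t = (xS hD r (-(c : F)⁻¹ * t * d⁻¹) * xS hD s d)⁻¹ * (xS hD s d * xS hD r (-(c : F)⁻¹ * t * d⁻¹)) := by
    rw [h3]; group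
  rw [h5]
  exact H.mul_mem (H.inv_mem (H.mul_mem (hR _) hS)) (H.mul_mem hS (hR _))

/-- the chain of roots -/
def chk2 (D : ChevalleyDatum) (gens : List ℕ) : List ℕ → List (ℕ × ℕ) → Bool
  | full, [] => (List.range D.rank).all fun j => full.contains (D.simple j) && full.contains (D.neg (D.simple j))
  | full, (r, s) :: L =>
    full.contains r && (full.contains s || gens.contains s) && decide (r < D.nroots) && decide (s < D.nroots) &&
      (s != r) && (s != D.neg r) &&
      match stp D r s with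
      | some l => chk2 D gens (l :: full) L
      | none => false

theorem eq_top_of_chk2 (hD : InList D) {H : Subgroup ↥(D.group F)} {d : F} (hd0 : d ≠ 0) {gens : List ℕ}
    (hg : ∀ s ∈ gens, xS hD s d ∈ H) (L : List (ℕ × ℕ)) :
    ∀ full : List ℕ, (∀ r ∈ full, ∀ t, xS hD r t ∈ H) → chk2 D gens full L = true → H = ⊤ := by
  induction L with
  | nil =>
    intro full h1 h2
    have h3 : ∀ j < D.rank, D.simple j ∈ full ∧ D.neg (D.simple j) ∈ full := by
      intro j hj
      have h4 := List.all_eq_true.1 h2 j (List.mem_range.2 hj)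
      rw [Bool.and_eq_true, List.contains_iff_mem, List.contains_iff_mem] at h4
      exact h4
    exact eq_top_of_simple hD H (fun j hj => h1 _ (h3 j hj).1) (fun j hj => h1 _ (h3 j hj).2)
  | cons a L ih =>
    obtain ⟨r, s⟩ := a
    intro full h1 h2
    simp only [chk2, Bool.and_eq_true, decide_eq_true_eq, Bool.or_eq_true, bne_iff_ne, ne_eq,
      List.contains_iff_mem] at h2
    obtain ⟨⟨⟨⟨⟨⟨h3, h4⟩, h5⟩, h6⟩, h7⟩, h8⟩, h9⟩ := h2
    obtain ⟨l, hl⟩ : ∃ l, stp D r s = some l := by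
      cases h : stp D r s with
      | none => rw [h] at h9; exact absurd h9 (by simp)
      | some l => exact ⟨l, rfl⟩
    rw [hl] at h9
    refine ih (l :: full) ?_ h9
    intro r' hr' t
    rcases List.mem_cons.1 hr' with rfl | hr'
    · refine spread hD h5 h6 h7 h8 hl (h1 r h3) hd0 ?_ t
      rcases h4 with h4 | h4
      · exact h1 s h4 d
      · exact hg s h4
    · exact h1 r' hr' t

/-- the simple roots and the lowest root -/
def gens (D : ChevalleyDatum) : List ℕ := 0 :: (List.range D.rank).map D.simple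

/-- the combinatorial data: a fundamental root `i0`, the roots joined to it, the chain -/
structure Chk2 (D : ChevalleyDatum) (i0 : ℕ) (seeds : List ℕ) (L : List (ℕ × ℕ)) : Prop where
  hi : i0 < D.rank
  h0 : 0 < D.nroots
  sd : (seeds.all fun r => (gens D).contains r && decide (r < D.nroots) &&
    (decide (D.cartan i0 r = 1) || decide (D.cartan i0 r = -1))) = true
  chk : chk2 D (gens D) seeds L = true

theorem chk_E6 : Chk2 chevE6 1 [0, 39] ([(0, 46), (1, 39), (2, 42), (5, 56), (5, 37), (16, 37), (6, 39), (17, 39), (8, 46),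
    (19, 46), (19, 42), (11, 36), (26, 42), (26, 36), (22, 36), (12, 37), (30, 39), (30, 36), (27, 37), (23, 37),
    (13, 39), (33, 37), (33, 36), (31, 37), (28, 39), (24, 39), (14, 42)] ++
    [(39, 42), (43, 32), (42, 56), (57, 29), (39, 37), (40, 32), (37, 36), (38, 34), (39, 46), (47, 32)]) where
  hi := by decide
  h0 := by decide
  sd := by decide +kernel
  chk := by (delta Cfsg.Agent.H73.Pi.FieldGen.chk2 Cfsg.Agent.H73.Pi.FieldGen.chk2._f Cfsg.Agent.H73.Pi.FieldGen.stp; rewrite [Cfsg.Agent.ChevFast.E6.commTerms, Cfsg.Agent.ChevFast.E6.neg]; decide +kernel)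

theorem chk_E7 : Chk2 chevE7 0 [0, 73] ([(0, 93), (1, 73), (2, 69), (3, 78), (7, 66), (8, 69), (11, 73), (17, 93), (17, 64),
    (33, 64), (18, 66), (34, 66), (20, 69), (36, 69), (23, 78), (39, 78), (39, 73), (27, 63), (48, 73), (48, 63),
    (43, 63), (28, 64), (53, 69), (53, 63), (49, 64), (44, 64), (29, 66), (57, 66), (57, 63), (54, 64), (50, 66),
    (45, 66), (30, 69), (60, 64), (60, 63), (58, 64), (55, 66), (51, 69), (46, 69), (31, 73)] ++
    [(73, 93), (94, 52), (73, 69), (74, 52), (69, 78), (79, 56), (69, 66), (70, 56), (66, 64), (67, 59), (64, 63),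
    (65, 61)]) where
  hi := by decide
  h0 := by decide
  sd := by decide +kernel
  chk := by (delta Cfsg.Agent.H73.Pi.FieldGen.chk2 Cfsg.Agent.H73.Pi.FieldGen.chk2._f Cfsg.Agent.H73.Pi.FieldGen.stp; rewrite [Cfsg.Agent.ChevFast.E7.commTerms, Cfsg.Agent.ChevFast.E7.neg]; decide +kernel)

theorem chk_E8 : Chk2 chevE8 7 [0, 121] ([(0, 120), (1, 121), (2, 123), (3, 126), (4, 130), (5, 141), (7, 135), (8, 162),
    (15, 130), (16, 135), (21, 126), (22, 130), (26, 141), (36, 123), (37, 126), (40, 130), (46, 135), (56, 162),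
    (56, 121), (78, 121), (57, 123), (79, 123), (59, 126), (81, 126), (62, 130), (84, 130), (66, 141), (88, 141),
    (88, 135), (71, 120), (99, 135), (99, 120), (93, 120), (72, 121), (105, 130), (105, 120), (100, 121), (94, 121),
    (73, 123), (110, 126), (110, 120), (106, 121), (101, 123), (95, 123), (74, 126), (114, 123), (114, 120),
    (111, 121), (107, 123), (102, 126), (96, 126), (75, 130), (117, 121), (117, 120), (115, 121), (112, 123),
    (108, 126), (103, 130), (97, 130), (76, 135)] ++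
    [(121, 120), (122, 118), (121, 123), (124, 118), (123, 126), (127, 116), (126, 130), (131, 113), (130, 135),
    (136, 109), (135, 162), (163, 104), (130, 141), (142, 109)]) where
  hi := by decide
  h0 := by decide
  sd := by decide +kernel
  chk := by (delta Cfsg.Agent.H73.Pi.FieldGen.chk2 Cfsg.Agent.H73.Pi.FieldGen.chk2._f Cfsg.Agent.H73.Pi.FieldGen.stp; rewrite [Cfsg.Agent.ChevFast.E8.commTerms, Cfsg.Agent.ChevFast.E8.neg]; decide +kernel)

/-- the generation criterion -/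
theorem eq_top' [Finite F] (hD : InList D) {i0 : ℕ} {seeds : List ℕ} {L : List (ℕ × ℕ)} (C : Chk2 D i0 seeds L)
    {H : Subgroup ↥(D.group F)} {v : F} (hv : Gn v) (hv0 : v ≠ 0) (hz : hS hD (D.simple i0) v ∈ H)
    {d : F} (hd0 : d ≠ 0) (hd : ∀ s ∈ gens D, xS hD s d ∈ H) : H = ⊤ := by
  refine eq_top_of_chk2 hD hd0 hd L seeds ?_ C.chk
  intro r hr
  have h1 := List.all_eq_true.1 C.sd r hr
  simp only [Bool.and_eq_true, decide_eq_true_eq, Bool.or_eq_true, List.contains_iff_mem] at h1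
  obtain ⟨⟨h2, h3⟩, h4⟩ := h1
  have h5 : pr D (D.simple i0) r = D.cartan i0 r := car_simple (RootComb.good_of_mem hD) C.hi r
  exact span hD (simple_lt hD C.hi) h3 hv hv0 hz (by rw [h5]; exact h4) hd0 (hd r h2)

/-- **`l + 3` conjugates of a field automorphism generate all inner automorphisms** -/
theorem inC_field [Finite F] (hD : InList D) {i0 : ℕ} {seeds : List ℕ} {L : List (ℕ × ℕ)} (C : Chk2 D i0 seeds L)
    {τ : F ≃+* F} (hτ : τ ≠ 1) {x : MulAut ↥(D.group F)} (hx : IsFld hD τ x) (z : ↥(D.group F)) :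
    Cfsg.Agent.H216.Pi.InC (D.rank + 3) x (MulAut.conj z) := by
  obtain ⟨c, hc0, hc⟩ := exists_gen τ hτ
  obtain ⟨e, he⟩ := exists_ne τ hτ
  let f : Fin (D.rank + 3) → ↥(D.group F) := fun i =>
    if (i : ℕ) = 0 then 1 else if (i : ℕ) = 1 then hS hD (D.simple i0) c else
      if (i : ℕ) = 2 then xS hD 0 e else xS hD (D.simple ((i : ℕ) - 3)) e
  refine ⟨f, ?_⟩
  have h1 : f ⟨0, by omega⟩ = 1 := if_pos rfl
  have hτc : τ c ≠ 0 := by simpa using hc0
  have key : Hf x f = ⊤ := by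
    refine eq_top' hD C (v := c * (τ c)⁻¹) hc (mul_ne_zero hc0 (inv_ne_zero hτc)) ?_ (d := e - τ e) he ?_
    · have h2 := Hf_mem x f h1 ⟨1, by omega⟩
      have h3 : f ⟨1, by omega⟩ = hS hD (D.simple i0) c := by
        show (if (1 : ℕ) = 0 then _ else _) = _
        rw [if_neg one_ne_zero, if_pos rfl]
      rwa [h3, hx.h (simple_lt hD C.hi), hS_mul_inv hD (simple_lt hD C.hi) hc0 hτc] at h2
    · intro s hs
      unfold gens at hs
      rw [List.mem_cons, List.mem_map] at hs
      rcases hs with rfl | ⟨j, hj, rfl⟩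
      · have h2 := Hf_mem x f h1 ⟨2, by omega⟩
        have h3 : f ⟨2, by omega⟩ = xS hD 0 e := by
          show (if (2 : ℕ) = 0 then _ else _) = _
          rw [if_neg two_ne_zero, if_neg (by norm_num), if_pos rfl]
        rwa [h3, hx.x _ C.h0, xS_inv, xS_mul, ← sub_eq_add_neg] at h2
      · have hj' := List.mem_range.1 hj
        have h2 := Hf_mem x f h1 ⟨j + 3, by omega⟩
        have h3 : f ⟨j + 3, by omega⟩ = xS hD (D.simple j) e := by
          show (if (j + 3 : ℕ) = 0 then _ else _) = _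
          rw [if_neg (by omega), if_neg (by show ¬ (j + 3 : ℕ) = 1; omega), if_neg (by show ¬ (j + 3 : ℕ) = 2; omega)]
          rfl
        rwa [h3, hx.x _ (simple_lt hD hj'), xS_inv, xS_mul, ← sub_eq_add_neg] at h2
  have h2 : z ∈ Hf x f := by rw [key]; trivial
  exact h2

/-! ### the three types -/

/-- the types `E₆`, `E₇`, `E₈` -/
def E678 (D : ChevalleyDatum) : Prop := D ∈ [chevE6, chevE7, chevE8]

theorem E678.ex5 {D : ChevalleyDatum} (h : E678 D) : Ex5 D := by
  unfold E678 at h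
  unfold Ex5
  simp only [List.mem_cons, List.not_mem_nil, or_false] at h ⊢
  tauto

theorem E678.chk {D : ChevalleyDatum} (h : E678 D) : ∃ i0 seeds L, Chk2 D i0 seeds L := by
  unfold E678 at h
  simp only [List.mem_cons, List.not_mem_nil, or_false] at h
  rcases h with rfl | rfl | rfl
  · exact ⟨_, _, _, chk_E6⟩
  · exact ⟨_, _, _, chk_E7⟩
  · exact ⟨_, _, _, chk_E8⟩

theorem inC_E678 [Finite F] {D : ChevalleyDatum} (hE : E678 D) {τ : F ≃+* F} (hτ : τ ≠ 1) (z : ↥(D.group F)) :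
    Cfsg.Agent.H216.Pi.InC (D.rank + 3) (groupEquivOfRingEquiv D τ : MulAut ↥(D.group F)) (MulAut.conj z) := by
  obtain ⟨i0, seeds, L, C⟩ := hE.chk
  exact inC_field hE.ex5.inList C hτ (isFld_groupEquiv hE.ex5.inList τ) z

open Cfsg.Agent.BpExc.FamExt Cfsg.Agent.BpExc.FamInst Cfsg.Agent.BpExc.FamField Cfsg.Agent.H296.Core
  Cfsg.Agent.CpAut.RgdUntw Cfsg.Agent.ChevalleyStructure.CoxeterGeomTypes

/-- **Automorphisms of field type of prime order: `l + 3` conjugates.** -/
theorem inC_of_field [Finite F] {D : ChevalleyDatum} (hE : E678 D) {p : ℕ} (hpp : p.Prime)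
    {x : MulAut ↥(D.group F)} (hx : x ^ p = 1) {y : ↥(D.group F)} {d φ : MulAut ↥(D.group F)}
    (hd : D.IsDiagonalAut d) (hφ : D.IsFieldAut φ) (hφ1 : φ ≠ 1) (hxy : ∀ a, x a = y * d (φ a) * y⁻¹)
    (z : ↥(D.group F)) : Cfsg.Agent.H216.Pi.InC (D.rank + 3) x (MulAut.conj z) := by
  obtain ⟨l, M, hp, m, B, hm, hB⟩ := hE.ex5.data
  obtain ⟨r, hr⟩ := CharP.exists F
  have : Fact r.Prime := ⟨CharP.char_is_prime F r⟩
  have h1 := charP_closure F r
  have hk := locFin_closure F r
  obtain ⟨τ, rfl⟩ := Cfsg.Agent.H296.ESixGF.eq_fld hp hφ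
  have hτ1 : τ ≠ 1 := by
    rintro rfl
    exact hφ1 fld_one
  obtain ⟨i, τ', ζ, hτ', hζ⟩ := Cfsg.Agent.H249.Pi.Tra.main hp r (algebraMap F (AlgebraicClosure F)) hk
    (hE.ex5.center _) hB hm hpp hx hd hτ1 hxy
  exact inC_of_pow (inC_conj hζ (inC_E678 hE hτ')) z

/-- **The automorphisms of prime order with `FC`** are inner-diagonal or of graph type. -/
theorem cases_of_FC [Finite F] {D : ChevalleyDatum} (hE : E678 D) {x : MulAut ↥(D.group F)} (hx : (orderOf x).Prime)
    (hZ : Subgroup.center ↥(D.group F) = ⊥) {s m : ℕ} (hs : s.Prime) (hd : s ∣ Nat.card ↥(D.group F))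
    (hm : D.rank + 3 ≤ m) (hF : Cfsg.Agent.H216.Pi.FC s m x) :
    (∃ (y : ↥(D.group F)) (d : MulAut ↥(D.group F)), D.IsDiagonalAut d ∧ ∀ a, x a = y * d a * y⁻¹) ∨
    ∃ (y : ↥(D.group F)) (d g φ : MulAut ↥(D.group F)), D.IsDiagonalAut d ∧ D.IsGraphAut g ∧ g ≠ 1 ∧ D.IsFieldAut φ ∧
      ∀ a, x a = y * d (g (φ a)) * y⁻¹ := by
  obtain ⟨y, d, g, φ, hd', hg, hφ, e⟩ := Cfsg.Agent.H79.Steinberg.exists_fac hE.ex5.inList x
  by_cases hg1 : g = 1
  · subst hg1
    by_cases hφ1 : φ = 1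
    · subst hφ1
      exact Or.inl ⟨y, d, hd', e⟩
    · exfalso
      exact not_fc_of_all hs hd hZ (inC_of_field hE hx (pow_orderOf_eq_one x) hd' hφ hφ1 e) (hF.mono hm)
  · exact Or.inr ⟨y, d, g, φ, hd', hg, hg1, hφ, e⟩

open Cfsg.Agent.H79.FieldAuts Cfsg.Agent.H79.OutChev Cfsg.Agent.H79.DiagAuts

/-- **`E₈`** -/
theorem cases_E8 [Finite F] {x : MulAut ↥(chevE8.group F)} (hx : (orderOf x).Prime)
    (hZ : Subgroup.center ↥(chevE8.group F) = ⊥) {s m : ℕ} (hs : s.Prime) (hd : s ∣ Nat.card ↥(chevE8.group F))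
    (hm : 11 ≤ m) (hF : Cfsg.Agent.H216.Pi.FC s m x) :
    ∃ (y : ↥(chevE8.group F)) (d : MulAut ↥(chevE8.group F)), chevE8.IsDiagonalAut d ∧ ∀ a, x a = y * d a * y⁻¹ := by
  rcases cases_of_FC (D := chevE8) (by simp [E678]) hx hZ hs hd hm hF with h | ⟨y, d, g, φ, -, hg, hg1, -⟩
  · exact h
  · exfalso
    obtain ⟨π, hπs, hπ⟩ := isGraphAut_isGr (by simp) hg
    obtain rfl := Cfsg.Agent.H79.DiagSymm.eq_one_E8 hπs
    exact hg1 (isGr_one hπ)

end Cfsg.Agent.H73.Pi.FieldGen

private theorem dce_3e0b4d66907c : _root_.True := by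
  try have : _root_.True := by simp only [_root_.Cfsg.Agent.H73.Pi.FieldGen.stp._sparseCasesOn_1.else_eq]
  try have : _root_.True := by simp only [_root_.Cfsg.Agent.H73.Pi.FieldGen.stp._sparseCasesOn_2.else_eq]
  try have : _root_.True := by simp only [_root_.Cfsg.Agent.H79.FieldAuts.fieldHom.congr_simp]
  try have : _root_.True := by simp only [_root_.Cfsg.Agent.H73.Pi.FieldGen.chk2.eq_1]
  try have : _root_.True := by simp only [_root_.Cfsg.Agent.H73.Pi.FieldGen.chk2.eq_def]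
  try have : _root_.True := by simp only [_root_.Cfsg.Agent.H73.Pi.FieldGen.chk2.eq_2]
  try have : _root_.True := by simp only [_root_.Cfsg.Agent.H73.Pi.FieldGen.E678.eq_1]
  exact _root_.True.intro
end

-- part: H320/Cyc/LeftE8
section
prune_inst 0x1403044434002000000858291001c1290000420004b8800c8600a000208682285022660000001020a0a200100050000000800e00000000000000000000405010000000091480000400008000080000000000000000000000000000000010004200000000
set_option linter.all false
open scoped Cfsg.Agent.FastGrp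

-- part: H320/Cyc/E8Tab
section
/-!
# S4324, `E₈(q)`: the `ℤ/2`-grading by the coefficient of the fundamental root with index `1`: tables (helper320)
-/

set_option autoImplicit false
set_option linter.unusedSectionVars false

namespace Cfsg.Agent.H320.Cyc.E8Tab

open Cfsg.Lie Cfsg.Agent.ChevalleyStructure.RootVec

/-- all chains have length at most one -/
def chkOne (D : ChevalleyDatum) : Bool := D.chain.toList.all fun row => row.toList.all fun e => e.2.toList.length ≤ 1

theorem chkOne_E8 : chkOne chevE8 = true := by decide +kernel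

/-- the roots of level two -/
def L2 : List ℕ := [204, 205, 206, 207, 208, 209, 210, 211, 212, 213, 214, 215, 216, 217, 218, 219, 220, 221, 222, 223,
  224, 226, 227, 228, 229, 230, 231, 232]

theorem mem_L2 : ((List.range 240).all fun r => decide (rt chevE8 r 1 = 2 → r ∈ L2)) = true := by decide +kernel

theorem L2_lev : (L2.all fun r => decide (r < 240) && decide (rt chevE8 r 1 = 2)) = true := by decide +kernel

theorem lev_le : ((List.range 240).all fun r => decide (rt chevE8 r 1 ≤ 3)) = true := by decide +kernel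

theorem le_top : ((List.range 240).all fun r => (List.range 8).all fun k =>
    decide (rt chevE8 r k ≤ rt chevE8 239 k)) = true := by decide +kernel

/-- the image of the root `a` under the commutator with `x_b(1)` -/
def st (b a : ℕ) : Option ℕ :=
  match chevE8.commTerms b a with
  | [(l, c, 1, 1)] => if c == 1 || c == -1 then some l else none
  | _ => none

/-- the isolating words -/
def wds : List (ℕ × List ℕ) := [(204, [139, 168]), (205, [138, 168]), (206, [138, 167]), (207, [137, 168]),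
  (208, [137, 167]), (209, [137, 166]), (210, [136, 168]), (211, [136, 167]), (212, [136, 166]), (213, [136, 165]),
  (214, [135, 168]), (215, [135, 167]), (216, [135, 166]), (217, [135, 165]), (218, [135, 164]), (219, [162, 140]),
  (220, [162, 139]), (221, [162, 138]), (222, [162, 137]), (223, [162, 136]), (224, [162, 135]), (226, [77, 168]),
  (227, [77, 167]), (228, [77, 166]), (229, [77, 165]), (230, [77, 164]), (231, [77, 163]), (232, [71, 162, 140])]

/-- the images under a word -/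
def runF (f : ℕ → ℕ → Option ℕ) : List ℕ → ℕ → Option ℕ
  | [], a => some a
  | b :: w, a => match f b a with
    | none => none
    | some c => runF f w c

/-- the condition `g` holds when the word stops -/
def okF (g : ℕ → ℕ → Bool) (f : ℕ → ℕ → Option ℕ) : List ℕ → ℕ → Bool
  | [], _ => true
  | b :: w, a => match f b a with
    | none => g b a
    | some c => okF g f w c

theorem runF_nil (f : ℕ → ℕ → Option ℕ) (a : ℕ) : runF f [] a = some a := rfl

theorem runF_none {f : ℕ → ℕ → Option ℕ} {b a : ℕ} {w : List ℕ} (h : f b a = none) : runF f (b :: w) a = none := by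
  show (match f b a with | none => none | some c => runF f w c) = none
  rw [h]

theorem runF_some {f : ℕ → ℕ → Option ℕ} {b a c : ℕ} {w : List ℕ} (h : f b a = some c) :
    runF f (b :: w) a = runF f w c := by
  show (match f b a with | none => none | some c => runF f w c) = runF f w c
  rw [h]

theorem okF_none {g : ℕ → ℕ → Bool} {f : ℕ → ℕ → Option ℕ} {b a : ℕ} {w : List ℕ} (h : f b a = none)
    (hk : okF g f (b :: w) a = true) : g b a = true := by
  have h2 : (match f b a with | none => g b a | some c => okF g f w c) = true := hk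
  rwa [h] at h2

theorem okF_some {g : ℕ → ℕ → Bool} {f : ℕ → ℕ → Option ℕ} {b a c : ℕ} {w : List ℕ} (h : f b a = some c)
    (hk : okF g f (b :: w) a = true) : okF g f w c = true := by
  have h2 : (match f b a with | none => g b a | some c => okF g f w c) = true := hk
  rwa [h] at h2

/-- no commutator terms -/
def em (b a : ℕ) : Bool := (chevE8.commTerms b a).isEmpty

theorem em_nil {b a : ℕ} (h : em b a = true) : chevE8.commTerms b a = [] := by
  unfold em at h
  generalize chevE8.commTerms b a = L at h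
  exact List.isEmpty_iff.1 h

theorem wds_ok : (wds.all fun p => L2.all fun a => okF em st p.2 a &&
    (runF st p.2 a == if a == p.1 then some 232 else none)) = true := by (delta Cfsg.Agent.H320.Cyc.E8Tab.em Cfsg.Agent.H320.Cyc.E8Tab.st; rewrite [Cfsg.Agent.ChevFast.E8.commTerms]; decide +kernel)

theorem wds_lev : (wds.all fun p => p.2.all fun b => decide (b < 240) && decide (rt chevE8 b 1 = 0)) = true := by
  decide +kernel

theorem wds_cov : (L2.all fun a => wds.any fun p => p.1 == a) = true := by decide +kernel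

theorem L2_nodup : L2.Nodup := by decide +kernel

/-- the chain of roots of even level -/
def chkF (f : ℕ → ℕ → Option ℕ) (ev : ℕ → Bool) (ng : ℕ → ℕ) : List ℕ → List (ℕ × ℕ) → Bool
  | full, [] => (List.range 240).all fun r => !(ev r) || full.contains r
  | full, (r, b) :: L => full.contains r && decide (r < 240) && decide (b < 240) && ev b &&
      (b != r) && (b != ng r) &&
      match f r b with
      | some l => chkF f ev ng (l :: full) L
      | none => false

/-- the level is even -/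
def ev (r : ℕ) : Bool := decide (rt chevE8 r 1 % 2 = 0)

/-- induction along the chain -/
theorem chkF_all {f : ℕ → ℕ → Option ℕ} {ev : ℕ → Bool} {ng : ℕ → ℕ} (P : ℕ → Prop)
    (hP : ∀ r b l, P r → r < 240 → b < 240 → ev b = true → b ≠ r → b ≠ ng r → f r b = some l → P l) :
    ∀ (L : List (ℕ × ℕ)) (full : List ℕ), (∀ r ∈ full, P r) → chkF f ev ng full L = true →
      ∀ r < 240, ev r = true → P r := by
  intro L
  induction L with
  | nil =>
    intro full h1 h2 r hr hev
    have h3 := List.all_eq_true.1 h2 r (List.mem_range.2 hr)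
    rw [hev] at h3
    simp only [Bool.not_true, Bool.false_or, List.contains_iff_mem] at h3
    exact h1 r h3
  | cons a L ih =>
    obtain ⟨r, b⟩ := a
    intro full h1 h2
    simp only [chkF, Bool.and_eq_true, decide_eq_true_eq, bne_iff_ne, ne_eq, List.contains_iff_mem] at h2
    obtain ⟨⟨⟨⟨⟨⟨h3, h4⟩, h5⟩, h6⟩, h7⟩, h8⟩, h9⟩ := h2
    cases h : f r b with
    | none => rw [h] at h9; exact absurd h9 (by simp)
    | some l =>
      rw [h] at h9
      refine ih (l :: full) ?_ h9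
      intro r' hr'
      rcases List.mem_cons.1 hr' with rfl | hr'
      · exact hP r b _ (h1 r h3) h4 h5 h6 h7 h8 h
      · exact h1 r' hr'

/-- the steps -/
def spr : List (ℕ × ℕ) := [
  (135, 7), (135, 16), (135, 17), (135, 18), (135, 19), (135, 20), (135, 76), (135, 99), (135, 100), (135, 101),
  (135, 102), (135, 103), (135, 130), (135, 131), (135, 132), (135, 133), (135, 134), (135, 162), (135, 214),
  (135, 215), (135, 216), (135, 217), (135, 218), (135, 231), (8, 104), (8, 130), (8, 131), (8, 132), (8, 133),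
  (8, 134), (8, 162), (8, 214), (8, 215), (8, 216), (8, 217), (8, 218), (21, 104), (21, 131), (21, 132), (21,
  133), (21, 134), (21, 214), (21, 215), (21, 216), (21, 217), (21, 231), (22, 104), (22, 132), (22, 133), (22,
  134), (22, 214), (22, 215), (22, 216), (22, 218), (22, 231), (23, 104), (23, 133), (23, 134), (23, 214), (23,
  215), (23, 217), (23, 218), (23, 231), (24, 104), (24, 134), (24, 214), (24, 216), (24, 217), (24, 218), (24,
  231), (25, 104), (25, 215), (25, 216), (25, 217), (25, 218), (25, 231), (77, 104), (77, 231), (105, 104),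
  (105, 215), (105, 216), (105, 217), (105, 218), (105, 231), (106, 104), (106, 216), (106, 217), (106, 218),
  (106, 231), (107, 104), (107, 217), (107, 218), (107, 231), (108, 104), (108, 218), (108, 231), (109, 104),
  (109, 231), (136, 104), (137, 104), (138, 104), (139, 104), (140, 104), (163, 104), (219, 104), (220, 104),
  (221, 104), (222, 104), (223, 104), (232, 104), (7, 231)]

theorem spr_ok : chkF st ev chevE8.neg [135] spr = true := by (delta Cfsg.Agent.H320.Cyc.E8Tab.st; rewrite [Cfsg.Agent.ChevFast.E8.commTerms, Cfsg.Agent.ChevFast.E8.neg]; decide +kernel)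

theorem st_first : st 8 232 = some 135 := by decide +kernel

/-- the word of an element of the Weyl group mapping `D₇` into the roots of even level -/
def w1 : List (Fin 8) := [1, 3, 2, 4, 3, 1, 5, 4, 3, 2, 6, 5, 4, 3, 1, 7, 6, 5, 4, 3, 2, 0]

/-- the word of an element of the Weyl group mapping the root `232` to the highest root -/
def w2 : List (Fin 8) := [7, 6, 5, 4, 3, 1]

/-- the action of a word on the indices -/
def act (ω : List (Fin 8)) (r : ℕ) : ℕ := ω.foldr (fun i r => chevE8.reflectRoot i r) r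

theorem w1_ok : ((List.range 8).all fun i => decide (i = 0) || decide (rt chevE8 (act w1 (chevE8.simple i)) 1 % 2 = 0)) =
    true := by (delta Cfsg.Agent.H320.Cyc.E8Tab.act Cfsg.Lie.ChevalleyDatum.chainRoot Cfsg.Lie.ChevalleyDatum.reflectRoot; rewrite [Cfsg.Agent.ChevFast.E8.cartan, Cfsg.Agent.ChevFast.E8.chainEntry, Cfsg.Agent.ChevFast.E8.neg]; decide +kernel)

theorem w2_ok : act w2 232 = 239 := by (delta Cfsg.Agent.H320.Cyc.E8Tab.act Cfsg.Lie.ChevalleyDatum.chainRoot Cfsg.Lie.ChevalleyDatum.reflectRoot; rewrite [Cfsg.Agent.ChevFast.E8.cartan, Cfsg.Agent.ChevFast.E8.chainEntry, Cfsg.Agent.ChevFast.E8.neg]; decide +kernel)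

theorem s7_ok : chevE8.reflectRoot 7 239 ≠ 239 := by decide +kernel

theorem cor_ok : (chevE8.coroot.getD (chevE8.simple 1) #[]).getD 1 0 = 1 := by decide +kernel

end Cfsg.Agent.H320.Cyc.E8Tab
end

-- part: H320/Cyc/LeftE8
section
/-!
# S4324, `E₈(q)`, `ord_s(q) ∈ {10, 12}`: the residue `A₇` (helper320)

The group `ME` of even level (type `D₈`) : generated by the torus and the root groups of the roots with even coefficient
on the fundamental root `1`; it is proper. An element `g` of the Levi subgroup of type `A₇` (level zero) lies in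
`N = O_{s'}(ME)`; if it moves an element of the abelian group `V2` of level two, then `N` contains a root element of
level two, hence all root groups of even level, and `s` divides the order of a conjugate of the group of type `D₇`. So
`g` centralises the root groups of level two and a conjugate of `g` lies in the parabolic subgroup of type `E₇`.

* `exists_conj_mem`, `xS_comm_one`, `all_mem`, `ME_ne_top`, `dvd_of_all`, `normalizer_le`;
* `left_inner` : inner automorphisms (from `PC` only); `left1`, `left1_false` : all automorphisms (`FC s m x`, `11 ≤ m`).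
-/

set_option autoImplicit false
set_option linter.unusedSectionVars false

namespace Cfsg.Agent.H320.Cyc.LeftE8

open Cfsg Subgroup Cfsg.Agent.H216.Pi Cfsg.Agent.H459.Gallery Cfsg.Agent.Schreier.BNSch
open Cfsg.Agent.H470.PiRad.CosetSys Cfsg.Agent.H470.PiRad.Par Cfsg.Agent.H470.PiRad.Mod
open CoxeterSystem Cfsg.Agent.ChevalleyStructure.CoxeterGeom Cfsg.Agent.Tits.Roots
  Cfsg.Agent.Nodes.Reps Cfsg.Agent.Nodes.BNOf Cfsg.Agent.Nodes.LeviDec Cfsg.Agent.Nodes.Bruhat
  Cfsg.Agent.KFacts.RgdCharP Cfsg.Agent.KFacts.RgdVJ Cfsg.Agent.Nodes.Comb Cfsg.Agent.Nodes.StabComb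
open Cfsg.Lie Cfsg.Agent.ChevalleyStructure Cfsg.Agent.ChevalleyStructure.Elts
  Cfsg.Agent.ChevalleyStructure.RootVec Cfsg.Agent.ChevalleyStructure.RootVecTab
  Cfsg.Agent.ChevalleyStructure.NPerm Cfsg.Agent.ChevalleyStructure.CoxeterGeomTypes
open Cfsg.Agent.Nodes.RGDChev Cfsg.Agent.H35.ExcIdx Cfsg.Agent.H79.SimpleGen
open Cfsg.Agent.H320.Cyc.E8Tab

/-! ### Conjugation into a complement -/

section Gp

variable {G : Type*} [Group G] [Finite G]

theorem card_sup_dvd' {U N : Subgroup G} (hN : N ≤ normalizer (U : Set G)) :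
    Nat.card (U ⊔ N : Subgroup G) ∣ Nat.card U * Nat.card N := by
  set V : Subgroup G := U ⊔ N with hV
  have hcN : (U.subgroupOf V).Normal :=
    Subgroup.normal_subgroupOf_of_le_normalizer (sup_le le_normalizer hN)
  have h7 := Lib.Cores.card_sup_dvd (U.subgroupOf V) (N.subgroupOf V) hcN
  have h8 : U.subgroupOf V ⊔ N.subgroupOf V = ⊤ := by
    rw [← Subgroup.subgroupOf_sup le_sup_left le_sup_right, Subgroup.subgroupOf_self]
  rwa [h8, Subgroup.card_top, Nat.card_congr (subgroupOfEquivOfLe (le_sup_left : U ≤ V)).toEquiv,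
    Nat.card_congr (subgroupOfEquivOfLe (le_sup_right : N ≤ V)).toEquiv] at h7

/-- an element of prime order `p` of `L U`, `L` normalising the `p'`-group `U`, is conjugate into `L` -/
theorem exists_conj_mem {L U : Subgroup G} (hn : L ≤ normalizer (U : Set G)) {p : ℕ} (hp : p.Prime)
    (hU : ¬ p ∣ Nat.card U) {g l u : G} (hl : l ∈ L) (hu : u ∈ U) (hg : g = l * u) (ho : orderOf g = p) :
    ∃ h : G, h * g * h⁻¹ ∈ L := by
  have : Fact p.Prime := ⟨hp⟩
  have hgN : g ∈ normalizer (U : Set G) := by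
    rw [hg]; exact mul_mem (hn hl) (le_normalizer hu)
  set H : Subgroup G := U ⊔ zpowers g with hH
  have hgH : g ∈ H := (le_sup_right : zpowers g ≤ H) (mem_zpowers g)
  have hUH : U ≤ H := le_sup_left
  have hlH : l ∈ H := by
    have h1 : l = g * u⁻¹ := by rw [hg]; group
    rw [h1]
    exact mul_mem hgH (inv_mem (hUH hu))
  -- the order of `H`
  have hcard : Nat.card H ∣ Nat.card U * p := by
    have h1 := card_sup_dvd' (U := U) (N := zpowers g) ((zpowers_le).2 hgN)
    rwa [Nat.card_zpowers, ho] at h1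
  -- `p` divides the order of `l`
  have hpl : p ∣ orderOf l := by
    by_contra hcon
    have h1 : (orderOf l).Coprime p := ((Nat.Prime.coprime_iff_not_dvd hp).2 hcon).symm
    -- `g ^ orderOf l ∈ U`
    have hUn : (U.subgroupOf H).Normal :=
      Subgroup.normal_subgroupOf_of_le_normalizer (sup_le le_normalizer ((zpowers_le).2 hgN))
    have h2 : ∀ k : ℕ, g ^ k * (l ^ k)⁻¹ ∈ U := by
      intro k
      induction k with
      | zero => simp
      | succ k ih =>
        have h3 : g ^ (k + 1) * (l ^ (k + 1))⁻¹ = g * (g ^ k * (l ^ k)⁻¹) * g⁻¹ * (g * l⁻¹) := by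
          rw [pow_succ', pow_succ']; group
        rw [h3]
        refine mul_mem ((Subgroup.mem_normalizer_iff.1 hgN _).1 ih) ?_
        have h4 : g * l⁻¹ = l * u * l⁻¹ := by rw [hg]
        rw [h4]
        exact (Subgroup.mem_normalizer_iff.1 (hn hl) _).1 hu
    have h5 := h2 (orderOf l)
    rw [pow_orderOf_eq_one, inv_one, mul_one] at h5
    have h6 : orderOf (g ^ orderOf l) ∣ Nat.card U := Subgroup.orderOf_dvd_natCard _ h5
    have h7 : orderOf (g ^ orderOf l) = p := by
      rw [Nat.Coprime.orderOf_pow (by rw [ho]; exact h1.symm), ho]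
    rw [h7] at h6
    exact hU h6
  -- an element of order `p` of `L`
  obtain ⟨k, hk⟩ := hpl
  have hk0 : k ≠ 0 := by
    rintro rfl
    have := orderOf_pos l
    omega
  have hl' : orderOf (l ^ k) = p := by
    rw [orderOf_pow' l hk0, hk, Nat.gcd_mul_left_left, Nat.mul_div_cancel _ (Nat.pos_of_ne_zero hk0)]
  -- Sylow
  have hz : ∀ y : H, orderOf y = p → ∃ P : Sylow p H, zpowers y = (P : Subgroup H) := by
    intro y hy
    have h1 : IsPGroup p (zpowers y) := by
      refine IsPGroup.of_card (n := 1) ?_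
      rw [Nat.card_zpowers, hy, pow_one]
    obtain ⟨P, hP⟩ := h1.exists_le_sylow
    refine ⟨P, Subgroup.eq_of_le_of_card_ge hP ?_⟩
    rw [Nat.card_zpowers, hy]
    obtain ⟨n, hn'⟩ := IsPGroup.iff_card.1 P.2
    have h2 : p ^ n ∣ Nat.card U * p := by
      rw [← hn']
      exact (Subgroup.card_subgroup_dvd_card (P : Subgroup H)).trans hcard
    rcases Nat.lt_or_ge n 2 with h3 | h3
    · rw [hn']
      interval_cases n
      · rw [pow_zero]; exact hp.one_lt.le
      · rw [pow_one]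
    · exfalso
      have h4 : p ^ 2 ∣ Nat.card U * p := (pow_dvd_pow p h3).trans h2
      rw [pow_two] at h4
      exact hU (Nat.dvd_of_mul_dvd_mul_right hp.pos h4)
  have hg' : orderOf (⟨g, hgH⟩ : H) = p := by
    rw [← ho]; exact Subgroup.orderOf_mk g hgH
  have hlk : l ^ k ∈ H := H.pow_mem hlH k
  have hl'' : orderOf (⟨l ^ k, hlk⟩ : H) = p := by
    rw [← hl']; exact Subgroup.orderOf_mk _ hlk
  obtain ⟨P, hP⟩ := hz _ hg'
  obtain ⟨Q, hQ⟩ := hz _ hl''
  obtain ⟨y, hy⟩ := MulAction.exists_smul_eq H P Q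
  refine ⟨y, ?_⟩
  have h1 : y * ⟨g, hgH⟩ * y⁻¹ ∈ (Q : Subgroup H) := by
    rw [← hy, Sylow.coe_subgroup_smul]
    refine Subgroup.smul_mem_pointwise_smul ⟨g, hgH⟩ (MulAut.conj y) (P : Subgroup H) ?_
    rw [← hP]
    exact mem_zpowers _
  rw [← hQ] at h1
  obtain ⟨m, hm⟩ := Subgroup.mem_zpowers_iff.1 h1
  have h2 : (y : G) * g * (y : G)⁻¹ = (l ^ k) ^ m := by
    have := congrArg Subtype.val hm
    simpa only [_root_.Subgroup.coe_mul, _root_.InvMemClass.coe_inv, _root_.SubgroupClass.coe_zpow] using this.symm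
  rw [h2]
  exact L.zpow_mem (L.pow_mem hl k) m

end Gp

/-! ### Commutators of root elements -/

theorem nroots_E8 : chevE8.nroots = 240 := by decide +kernel

theorem chk8 : Checked chevE8 := hpE8.checked

theorem entry_len (r s : ℕ) : (chevE8.chainEntry r s).length ≤ 1 := by
  by_cases h : chevE8.chainEntry r s = []
  · rw [h]; simp
  · obtain ⟨e, he, -, h2⟩ := chainEntry_eq_some (D := chevE8) r s h
    rw [h2]
    have h3 := List.all_eq_true.1 chkOne_E8 (chevE8.chain.getD r #[]) (by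
      by_cases hr : r < chevE8.chain.size
      · rw [Array.getD_eq_getD_getElem?, Array.getElem?_eq_getElem hr, Option.getD_some]
        exact Array.getElem_mem_toList hr
      · exfalso
        have h4 : chevE8.chain.getD r #[] = #[] := by
          rw [Array.getD_eq_getD_getElem?, Array.getElem?_eq_none (by omega)]; rfl
        change e ∈ (chevE8.chain.getD r #[]).toList at he
        rw [h4] at he
        simp at he)
    have h4 := List.all_eq_true.1 h3 e he
    simpa using h4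

theorem chainRoot_none {r s k : ℕ} (hk : 2 ≤ k) : chevE8.chainRoot r s k = none := by
  have hdef : chevE8.chainRoot r s k = ((chevE8.chainEntry r s)[k - 1]?).map Prod.fst := rfl
  rw [hdef, List.getElem?_eq_none, Option.map_none]
  have := entry_len r s
  omega

theorem commTerms_cases (r s : ℕ) : chevE8.commTerms r s = [] ∨ ∃ l c, chevE8.commTerms r s = [(l, c, 1, 1)] := by
  have hdef : chevE8.commTerms r s = ([ (chevE8.chainRoot r s 1, chevE8.chainM r s 1, 1, 1),
      (chevE8.chainRoot r s 2, chevE8.chainM r s 2, 2, 1),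
      (chevE8.chainRoot s r 2, chevE8.chainM s r 2, 1, 2),
      (chevE8.chainRoot r s 3, chevE8.chainM r s 3, 3, 1),
      (chevE8.chainRoot s r 3, - chevE8.chainM s r 3, 1, 3),
      ((chevE8.chainRoot r s 3).bind fun k => chevE8.chainRoot k s 1,
        ((chevE8.chainRoot r s 1).map fun k => chevE8.chainM k r 2 / 3).getD 0, 3, 2),
      ((chevE8.chainRoot s r 3).bind fun k => chevE8.chainRoot k r 1,
        ((chevE8.chainRoot r s 1).map fun k => -2 * chevE8.chainM k s 2 / 3).getD 0, 2, 3) ] :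
      List (Option ℕ × ℤ × ℕ × ℕ)).filterMap fun c => c.1.map fun k => (k, c.2) := rfl
  rw [hdef, chainRoot_none (k := 2) (le_refl 2), chainRoot_none (k := 2) (le_refl 2),
    chainRoot_none (k := 3) (by norm_num), chainRoot_none (k := 3) (by norm_num)]
  cases h : chevE8.chainRoot r s 1 with
  | none => left; simp only [_root_.Option.bind_none, _root_.Option.map_none, _root_.Option.getD_none, _root_.Int.reduceNeg, _root_.neg_mul, _root_.List.filterMap_cons_none, _root_.List.filterMap_nil]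
  | some l => right; exact ⟨l, chevE8.chainM r s 1, by simp only [_root_.Option.bind_none, _root_.Option.map_some, _root_.Option.getD_some, _root_.Int.reduceNeg, _root_.neg_mul, _root_.Option.some.injEq, _root_.List.filterMap_cons_some, _root_.Option.map_none, _root_.List.filterMap_cons_none, _root_.List.filterMap_nil]⟩

section Gen

variable {F : Type} [Field F] {D : ChevalleyDatum} (hD : InList D)

theorem xS_comm {r s : ℕ} (hr : r < D.nroots) (hs : s < D.nroots) (h1 : s ≠ r) (h2 : s ≠ D.neg r) (v u : F) :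
    xS hD s u * xS hD r v = xS hD r v * xS hD s u * ⟨wordG hD (D.commWord F r s v u), wordG_mem_group _ _⟩ := by
  apply Subtype.ext
  apply Units.ext
  have h3 := Cfsg.Agent.S1025.result (F := F) D hD r s hr hs h1 h2 v u
  rw [← coe_wordG hD] at h3
  exact h3

theorem xS_comm_nil {r s : ℕ} (hr : r < D.nroots) (hs : s < D.nroots) (h1 : s ≠ r) (h2 : s ≠ D.neg r)
    (h : D.commTerms r s = []) (v u : F) : xS hD s u * xS hD r v = xS hD r v * xS hD s u := by
  have h3 := xS_comm hD hr hs h1 h2 v u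
  have h4 : D.commWord F r s v u = [] := by
    show (D.commTerms r s).map _ = _
    rw [h]; rfl
  have h5 : (⟨wordG hD (D.commWord F r s v u), wordG_mem_group _ _⟩ : ↥(D.group F)) = 1 := by
    apply Subtype.ext
    show wordG hD (D.commWord F r s v u) = 1
    rw [h4, wordG_nil]
  rw [h3, h5, mul_one]

theorem xS_comm_one {r s l : ℕ} {c : ℤ} (hr : r < D.nroots) (hs : s < D.nroots) (h1 : s ≠ r) (h2 : s ≠ D.neg r)
    (h : D.commTerms r s = [(l, c, 1, 1)]) (v u : F) :
    xS hD s u * xS hD r v = xS hD r v * xS hD s u * xS hD l (-(c : F) * v * u) := by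
  have h3 := xS_comm hD hr hs h1 h2 v u
  have h4 : D.commWord F r s v u = [(l, -(c : F) * v * u)] := by
    show (D.commTerms r s).map _ = _
    rw [h]
    simp only [List.map_cons, List.map_nil, pow_one]
    congr 2
    ring
  rw [h3]
  congr 1
  apply Subtype.ext
  show wordG hD (D.commWord F r s v u) = _
  rw [h4, wordG_cons, wordG_nil, mul_one]
  rfl

end Gen

section Com

variable {F : Type} [Field F]

/-- the root elements -/
abbrev xx (r : ℕ) (v : F) : ↥(chevE8.group F) := xS hpE8.inList r v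

theorem lt_n {r : ℕ} (hr : r < 240) : r < chevE8.nroots := by rw [nroots_E8]; exact hr

theorem xx_comm_nil {r s : ℕ} (hr : r < 240) (hs : s < 240) (h1 : s ≠ r) (h2 : s ≠ chevE8.neg r)
    (h : chevE8.commTerms r s = []) (v u : F) : xx s u * xx r v = xx r v * xx s u :=
  xS_comm_nil hpE8.inList (lt_n hr) (lt_n hs) h1 h2 h v u

theorem xx_comm_one {r s l : ℕ} {c : ℤ} (hr : r < 240) (hs : s < 240) (h1 : s ≠ r) (h2 : s ≠ chevE8.neg r)
    (h : chevE8.commTerms r s = [(l, c, 1, 1)]) (v u : F) :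
    xx s u * xx r v = xx r v * xx s u * xx l (-(c : F) * v * u) :=
  xS_comm_one hpE8.inList (lt_n hr) (lt_n hs) h1 h2 h v u

theorem term_rt {r s l : ℕ} {c : ℤ} (h : chevE8.commTerms r s = [(l, c, 1, 1)]) :
    l < 240 ∧ ∀ a, rt chevE8 l a = rt chevE8 r a + rt chevE8 s a := by
  have h1 := commTerms_rt chk8 (r := r) (s := s) (u := l) (i := 1) (j := 1) (C := c) (by rw [h]; simp)
  refine ⟨by rw [← nroots_E8]; exact h1.1, fun a => ?_⟩
  have := h1.2.2.2.2.2 a
  simpa using this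

theorem st_eq {b a l : ℕ} (h : st b a = some l) :
    ∃ c : ℤ, (c = 1 ∨ c = -1) ∧ chevE8.commTerms b a = [(l, c, 1, 1)] := by
  unfold st at h
  split at h
  · rename_i l' c hc
    split_ifs at h with h1
    · rw [Option.some.injEq] at h
      subst h
      simp only [Bool.or_eq_true, beq_iff_eq] at h1
      exact ⟨c, h1, hc⟩
  · exact absurd h (by simp)

theorem lev_lt {r : ℕ} (hr : r < 240) : rt chevE8 r 1 ≤ 3 := by
  have := List.all_eq_true.1 lev_le r (List.mem_range.2 hr)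
  simpa using this

theorem top_le {r k : ℕ} (hr : r < 240) (hk : k < 8) : rt chevE8 r k ≤ rt chevE8 239 k := by
  have := List.all_eq_true.1 (List.all_eq_true.1 _root_.Cfsg.Agent.H320.Cyc.E8Tab.le_top r (List.mem_range.2 hr)) k (List.mem_range.2 hk)
  simpa using this

theorem neg_lev {r : ℕ} (hr : r < 240) (a : ℕ) : rt chevE8 (chevE8.neg r) a = - rt chevE8 r a :=
  rt_neg chk8 (lt_n hr) a

/-- the Coxeter system -/
abbrev cs8 : CoxeterSystem CoxeterMatrix.E₈ CoxeterMatrix.E₈.Group := CoxeterMatrix.E₈.toCoxeterSystem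

variable (F) in
/-- the root groups -/
abbrev X8 (x : Fin 8 → ℤ) : Subgroup ↥(chevE8.group F) := XX chevE8 8 F x

variable (F) in
/-- the torus -/
abbrev T8 : Subgroup ↥(chevE8.group F) := TT chevE8 F

theorem mem_X8 {r : ℕ} (hr : r < 240) {g : ↥(chevE8.group F)} : g ∈ X8 F (vec chevE8 8 r) ↔ ∃ u, g = xx r u := by
  rw [Subgroup.mem_subgroupOf, XV_vec hpE8 F (lt_n hr), mem_rootSubgroup_iff hpE8.inList]
  constructor
  · rintro ⟨u, hu⟩
    exact ⟨u, Subtype.ext hu⟩
  · rintro ⟨u, rfl⟩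
    exact ⟨u, rfl⟩

theorem root8 {x : Fin 8 → ℤ} (hx : IsRoot cs8 hpE8.isCartan x) : ∃ r < 240, vec chevE8 8 r = x := by
  obtain ⟨r, hr, e⟩ := (isRoot_iff hpE8 cs8 x).1 hx
  exact ⟨r, by rw [← nroots_E8]; exact hr, e⟩

theorem isRoot8 {r : ℕ} (hr : r < 240) : IsRoot cs8 hpE8.isCartan (vec chevE8 8 r) :=
  isRoot_vec hpE8 cs8 (lt_n hr)

/-- the roots with a condition on the coefficient of the fundamental root `1` -/
def RS (P : ℤ → Prop) : Set (Fin 8 → ℤ) := {x | IsRoot cs8 hpE8.isCartan x ∧ P (x 1)}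

variable (F) in
/-- the subgroup generated by the root groups of level two -/
def V2 : Subgroup ↥(chevE8.group F) := RGD.Sup (X8 F) (RS fun z => z = 2)

variable (F) in
/-- the subgroup generated by the torus and the root groups of even level -/
def ME : Subgroup ↥(chevE8.group F) := T8 F ⊔ RGD.Sup (X8 F) (RS fun z => z % 2 = 0)

theorem xx_mem_Sup {P : ℤ → Prop} {r : ℕ} (hr : r < 240) (h : P (rt chevE8 r 1)) (u : F) :
    xx r u ∈ RGD.Sup (X8 F) (RS P) :=
  RGD.le_Sup (X := X8 F) (S := RS P) (z := vec chevE8 8 r) ⟨isRoot8 hr, h⟩ ((mem_X8 hr).2 ⟨u, rfl⟩)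

theorem Sup_le8 {P : ℤ → Prop} {K : Subgroup ↥(chevE8.group F)}
    (h : ∀ r < 240, P (rt chevE8 r 1) → ∀ u, xx r u ∈ K) : RGD.Sup (X8 F) (RS P) ≤ K := by
  refine RGD.Sup_le ?_
  rintro x ⟨hx, hP⟩
  obtain ⟨r, hr, rfl⟩ := root8 hx
  intro g hg
  obtain ⟨u, rfl⟩ := (mem_X8 hr).1 hg
  exact h r hr hP u

theorem V2_le_ME : V2 F ≤ ME F :=
  le_trans (RGD.Sup_mono (S := RS fun z => z = 2) (S' := RS fun z => z % 2 = 0) fun x hx => ⟨hx.1, by
    have : x 1 = 2 := hx.2
    rw [this]; rfl⟩) le_sup_right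

/-- the Levi subgroup of type `A₇` -/
abbrev J1 : Set (Fin 8) := ((Finset.univ.erase 1 : Finset (Fin 8)) : Set (Fin 8))

theorem rootsJ_sub : RootsJ cs8 hpE8.isCartan J1 ⊆ RS fun z => z = 0 := by
  rintro x ⟨hx, h⟩
  exact ⟨hx, h 1 (by simp [J1])⟩

theorem LJ_le_ME : LJ cs8 hpE8.isCartan (T8 F) (X8 F) J1 ≤ ME F := by
  refine sup_le_sup_left (RGD.Sup_mono (S := RootsJ cs8 hpE8.isCartan J1) (S' := RS fun z => z % 2 = 0) fun x hx => ?_) _
  have h1 := rootsJ_sub hx
  exact ⟨h1.1, by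
    have : x 1 = 0 := h1.2
    rw [this]; rfl⟩

/-- level zero acts on level two -/
theorem conj_two {b a : ℕ} (hb : b < 240) (ha : a < 240) (hb0 : rt chevE8 b 1 = 0) (ha2 : rt chevE8 a 1 = 2) (v u : F) :
    (xx b v)⁻¹ * xx a u * xx b v ∈ V2 F ∧ (xx a u)⁻¹ * ((xx b v)⁻¹ * xx a u * xx b v) ∈ V2 F := by
  have h1 : a ≠ b := by
    intro h
    rw [h, hb0] at ha2
    exact absurd ha2 (by norm_num)
  have h2 : a ≠ chevE8.neg b := by
    intro h
    rw [h, neg_lev hb, hb0] at ha2
    exact absurd ha2 (by norm_num)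
  have hau : xx a u ∈ V2 F := xx_mem_Sup (P := fun z => z = 2) ha ha2 u
  rcases commTerms_cases b a with h | ⟨l, c, h⟩
  · have h3 := xx_comm_nil hb ha h1 h2 h v u
    have h4 : (xx b v)⁻¹ * xx a u * xx b v = xx a u := by
      rw [mul_assoc, h3]; group
    rw [h4]
    exact ⟨hau, by rw [inv_mul_cancel]; exact one_mem _⟩
  · have h3 := xx_comm_one hb ha h1 h2 h v u
    obtain ⟨hl, hlr⟩ := term_rt h
    have h4 : (xx b v)⁻¹ * xx a u * xx b v = xx a u * xx l (-(c : F) * v * u) := by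
      rw [mul_assoc, h3]; group
    have h5 : xx l (-(c : F) * v * u) ∈ V2 F :=
      xx_mem_Sup (P := fun z => z = 2) hl (by rw [hlr, hb0, ha2]; rfl) _
    rw [h4]
    refine ⟨mul_mem hau h5, ?_⟩
    rw [inv_mul_cancel_left]
    exact h5

theorem comm_two {b a : ℕ} (hb : b < 240) (ha : a < 240) (hb0 : rt chevE8 b 1 = 2) (ha2 : rt chevE8 a 1 = 2) (v u : F) :
    xx a u * xx b v = xx b v * xx a u := by
  by_cases h1 : a = b
  · subst h1
    rw [xS_mul, xS_mul, add_comm]
  have h2 : a ≠ chevE8.neg b := by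
    intro h
    rw [h, neg_lev hb, hb0] at ha2
    exact absurd ha2 (by norm_num)
  rcases commTerms_cases b a with h | ⟨l, c, h⟩
  · exact xx_comm_nil hb ha h1 h2 h v u
  · exfalso
    obtain ⟨hl, hlr⟩ := term_rt h
    have h4 := lev_lt hl
    rw [hlr, hb0, ha2] at h4
    exact absurd h4 (by norm_num)

theorem V2_comm {v v' : ↥(chevE8.group F)} (hv : v ∈ V2 F) (hv' : v' ∈ V2 F) : v * v' = v' * v := by
  have h1 : V2 F ≤ centralizer (V2 F : Set ↥(chevE8.group F)) := by
    refine Sup_le8 fun r hr h u => ?_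
    have h2 : V2 F ≤ centralizer ({xx r u} : Set ↥(chevE8.group F)) := by
      refine Sup_le8 fun r' hr' h' u' => ?_
      rw [mem_centralizer_iff]
      intro y hy
      rw [Set.mem_singleton_iff] at hy
      subst hy
      exact comm_two hr' hr h' h u' u
    rw [mem_centralizer_iff]
    intro y hy
    exact (mem_centralizer_iff.1 (h2 hy) _ (Set.mem_singleton _)).symm
  exact (mem_centralizer_iff.1 (h1 hv) _ hv').symm

variable [Fintype F] (t : ℕ) [Fact t.Prime] [CharP F t]

/-- the root group datum -/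
abbrev D8 := Cfsg.Agent.H470.PiRad.Inst.dat_E8 F t

include t in
theorem LJ_conj_V2 {g v : ↥(chevE8.group F)} (hg : g ∈ LJ cs8 hpE8.isCartan (T8 F) (X8 F) J1) (hv : v ∈ V2 F) :
    g * v * g⁻¹ ∈ V2 F := by
  have key : LJ cs8 hpE8.isCartan (T8 F) (X8 F) J1 ≤ normalizer (V2 F : Set ↥(chevE8.group F)) := by
    refine sup_le ?_ ?_
    · intro g hg
      refine mem_normalizer_of fun r hr => ?_
      have h1 : V2 F ≤ (V2 F).comap (MulAut.conj g).toMonoidHom := by
        refine RGD.Sup_le fun x hx y hy => ?_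
        show g * y * g⁻¹ ∈ V2 F
        refine RGD.le_Sup (X := X8 F) (S := RS fun z => z = 2) hx ?_
        have h2 : _root_.Cfsg.Agent.Nodes.Reps.cj g (X8 F x) = X8 F x := (D8 (F := F) t).rgd.tor x hx.1 g hg
        have h3 : g * y * g⁻¹ ∈ _root_.Cfsg.Agent.Nodes.Reps.cj g (X8 F x) := conj_mem_cj.2 hy
        rw [h2] at h3
        exact h3
      exact h1 hr
    · refine le_trans (RGD.Sup_mono rootsJ_sub) (Sup_le8 fun b hb hb0 v => ?_)
      refine mem_normalizer_of fun r hr => ?_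
      have h1 : V2 F ≤ (V2 F).comap (MulAut.conj (xx b v)).toMonoidHom := by
        refine Sup_le8 fun a ha ha2 u => ?_
        show xx b v * xx a u * (xx b v)⁻¹ ∈ V2 F
        have h2 := (conj_two hb ha hb0 ha2 (-v) u).1
        rw [xS_inv, _root_.neg_neg] at h2
        rw [xS_inv]
        exact h2
      exact h1 hr
  exact (Subgroup.mem_normalizer_iff.1 (key hg) v).1 hv

/-! ### The commutator maps -/

omit [Fintype F] in
/-- the commutator with `x_b(1)` -/
def cm (b : ℕ) (v : ↥(chevE8.group F)) : ↥(chevE8.group F) := v⁻¹ * ((xx b 1)⁻¹ * v * xx b 1)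

omit [Fintype F] in
theorem cm_one (b : ℕ) : cm b (1 : ↥(chevE8.group F)) = 1 := by
  unfold cm; group

include t in
theorem cm_mem {b : ℕ} (hb : b < 240) (hb0 : rt chevE8 b 1 = 0) {v : ↥(chevE8.group F)} (hv : v ∈ V2 F) :
    cm b v ∈ V2 F ∧ (xx b 1)⁻¹ * v * xx b 1 ∈ V2 F := by
  have h1 : (xx b (1 : F))⁻¹ ∈ LJ cs8 hpE8.isCartan (T8 F) (X8 F) J1 := by
    refine inv_mem ((le_sup_right : _ ≤ LJ cs8 hpE8.isCartan (T8 F) (X8 F) J1) ?_)
    refine RGD.le_Sup (X := X8 F) (S := RootsJ cs8 hpE8.isCartan J1) (z := vec chevE8 8 b) ⟨isRoot8 hb, ?_⟩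
      ((mem_X8 hb).2 ⟨1, rfl⟩)
    intro k hk
    have hk1 : k = 1 := by
      by_contra hne
      exact hk (by simp [J1, hne])
    subst hk1
    exact hb0
  have h2 := LJ_conj_V2 t h1 hv
  rw [inv_inv] at h2
  exact ⟨mul_mem (inv_mem hv) h2, h2⟩

include t in
theorem cm_mul {b : ℕ} (hb : b < 240) (hb0 : rt chevE8 b 1 = 0) {v v' : ↥(chevE8.group F)} (hv : v ∈ V2 F)
    (hv' : v' ∈ V2 F) : cm b (v * v') = cm b v * cm b v' := by
  have h1 := (cm_mem t hb hb0 hv).2
  have h2 := (cm_mem t hb hb0 hv).1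
  have h3 : cm b (v * v') = v'⁻¹ * cm b v * ((xx b 1)⁻¹ * v' * xx b 1) := by
    unfold cm; group
  rw [h3, V2_comm (inv_mem hv') h2, mul_assoc]
  rfl

omit [Fintype F] in
/-- the composite of the commutator maps -/
def rn : List ℕ → ↥(chevE8.group F) → ↥(chevE8.group F)
  | [], v => v
  | b :: w, v => rn w (cm b v)

omit [Fintype F] in
theorem rn_one : ∀ w : List ℕ, rn w (1 : ↥(chevE8.group F)) = 1
  | [] => rfl
  | b :: w => by rw [rn, cm_one, rn_one w]

include t in
theorem rn_mul : ∀ (w : List ℕ), (∀ b ∈ w, b < 240 ∧ rt chevE8 b 1 = 0) → ∀ {v v' : ↥(chevE8.group F)}, v ∈ V2 F →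
    v' ∈ V2 F → rn w (v * v') = rn w v * rn w v'
  | [], _, _, _, _, _ => rfl
  | b :: w, h, v, v', hv, hv' => by
    rw [rn, rn, rn]
    obtain ⟨h1, h2⟩ := h b List.mem_cons_self
    rw [cm_mul t h1 h2 hv hv']
    exact rn_mul w (fun c hc => h c (List.mem_cons_of_mem _ hc)) (cm_mem t h1 h2 hv).1 (cm_mem t h1 h2 hv').1

include t in
theorem rn_prod (w : List ℕ) (hw : ∀ b ∈ w, b < 240 ∧ rt chevE8 b 1 = 0) (L : List ↥(chevE8.group F))
    (hL : ∀ v ∈ L, v ∈ V2 F) : rn w L.prod = (L.map (rn w)).prod := by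
  induction L with
  | nil => exact rn_one w
  | cons v L ih =>
    rw [List.prod_cons, List.map_cons, List.prod_cons, rn_mul t w hw (hL v List.mem_cons_self)
      ((V2 F).list_prod_mem fun x hx => hL x (List.mem_cons_of_mem _ hx)), ih fun x hx => hL x (List.mem_cons_of_mem _ hx)]

omit [Fintype F] in
/-- the commutator map on a root element -/
theorem cm_xx {b a : ℕ} (hb : b < 240) (ha : a < 240) (hb0 : rt chevE8 b 1 = 0) (ha2 : rt chevE8 a 1 = 2) (u : F) :
    (chevE8.commTerms b a = [] → cm b (xx a u) = 1) ∧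
    ∀ l, st b a = some l → l < 240 ∧ rt chevE8 l 1 = 2 ∧ (cm b (xx a u) = xx l u ∨ cm b (xx a u) = xx l (-u)) := by
  have h1 : a ≠ b := by
    intro h
    rw [h, hb0] at ha2
    exact absurd ha2 (by norm_num)
  have h2 : a ≠ chevE8.neg b := by
    intro h
    rw [h, neg_lev hb, hb0] at ha2
    exact absurd ha2 (by norm_num)
  constructor
  · intro h
    have h3 := xx_comm_nil hb ha h1 h2 h (1 : F) u
    have h4 : (xx b (1 : F))⁻¹ * xx a u * xx b 1 = xx a u := by
      rw [mul_assoc, h3]; group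
    unfold cm
    rw [h4, inv_mul_cancel]
  · intro l hl
    obtain ⟨c, hc, h⟩ := st_eq hl
    obtain ⟨hl240, hlr⟩ := term_rt h
    have h3 := xx_comm_one hb ha h1 h2 h (1 : F) u
    have h4 : cm b (xx a u) = xx l (-(c : F) * 1 * u) := by
      unfold cm
      rw [mul_assoc (xx b (1 : F))⁻¹, h3]; group
    refine ⟨hl240, by rw [hlr, hb0, ha2]; rfl, ?_⟩
    rcases hc with rfl | rfl
    · right; rw [h4]; simp
    · left; rw [h4]; simp

omit [Fintype F] in
theorem rn_xx (w : List ℕ) : (∀ b ∈ w, b < 240 ∧ rt chevE8 b 1 = 0) → ∀ {a : ℕ}, a < 240 → rt chevE8 a 1 = 2 →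
    okF _root_.Cfsg.Agent.H320.Cyc.E8Tab.em st w a = true → ∀ u : F, (runF st w a = none → rn w (xx a u) = 1) ∧
      ∀ l, runF st w a = some l → rn w (xx a u) = xx l u ∨ rn w (xx a u) = xx l (-u) := by
  induction w with
  | nil =>
    intro _ a _ _ _ u
    refine ⟨fun h => ?_, fun l h => ?_⟩
    · rw [runF_nil] at h
      exact absurd h (Option.some_ne_none a)
    · rw [runF_nil] at h
      rw [Option.some.inj h]
      exact Or.inl rfl
  | cons b w ihw =>
    intro hw a ha ha2 hok u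
    obtain ⟨hb, hb0⟩ := hw b List.mem_cons_self
    obtain ⟨k1, k2⟩ := cm_xx hb ha hb0 ha2 u
    rw [rn]
    cases hst : st b a with
    | none =>
      rw [k1 (em_nil (okF_none hst hok)), rn_one, runF_none hst]
      exact ⟨fun _ => rfl, fun l h => absurd h.symm (Option.some_ne_none l)⟩
    | some c =>
      obtain ⟨hc, hc2, h3⟩ := k2 c hst
      have ih := fun u : F => ihw (fun c hc => hw c (List.mem_cons_of_mem _ hc)) hc hc2 (okF_some hst hok) u
      rw [runF_some hst]
      rcases h3 with h3 | h3 <;> rw [h3]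
      · exact ih u
      · refine ⟨(ih (-u)).1, fun l hl => ?_⟩
        have h4 := (ih (-u)).2 l hl
        rw [_root_.neg_neg] at h4
        exact h4.symm

/-! ### Coordinates -/

omit [Fintype F] in
theorem prod_add (L : List ℕ) (hL : ∀ a ∈ L, a < 240 ∧ rt chevE8 a 1 = 2) (w w' : ℕ → F) :
    (L.map fun a => xx a (w a + w' a)).prod = (L.map fun a => xx a (w a)).prod * (L.map fun a => xx a (w' a)).prod := by
  induction L with
  | nil => simp
  | cons a L ih =>
    have hL' : ∀ a ∈ L, a < 240 ∧ rt chevE8 a 1 = 2 := fun b hb => hL b (List.mem_cons_of_mem _ hb)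
    obtain ⟨ha, ha2⟩ := hL a List.mem_cons_self
    rw [List.map_cons, List.prod_cons, List.map_cons, List.prod_cons, List.map_cons, List.prod_cons, ih hL',
      show xx a (w a + w' a) = xx a (w a) * xx a (w' a) from (xS_mul hpE8.inList a (w a) (w' a)).symm]
    have h1 : (L.map fun a => xx a (w a)).prod ∈ V2 F := by
      refine (V2 F).list_prod_mem fun y hy => ?_
      obtain ⟨b, hb, rfl⟩ := List.mem_map.1 hy
      exact xx_mem_Sup (P := fun z => z = 2) (hL' b hb).1 (hL' b hb).2 _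
    have h2 : xx a (w' a) ∈ V2 F := xx_mem_Sup (P := fun z => z = 2) ha ha2 _
    calc xx a (w a) * xx a (w' a) * ((L.map fun a => xx a (w a)).prod * (L.map fun a => xx a (w' a)).prod)
        = xx a (w a) * (xx a (w' a) * (L.map fun a => xx a (w a)).prod) * (L.map fun a => xx a (w' a)).prod := by group
      _ = _ := by rw [V2_comm h2 h1]; group

theorem prod_single {H : Type*} [Group H] (f : ℕ → H) (a : ℕ) : ∀ L : List ℕ, L.Nodup → a ∈ L →
    (∀ b ∈ L, b ≠ a → f b = 1) → (L.map f).prod = f a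
  | [], _, h, _ => absurd h (by simp)
  | c :: L, hn, h, hf => by
    rw [List.map_cons, List.prod_cons]
    rw [List.nodup_cons] at hn
    by_cases hca : c = a
    · subst hca
      have h1 : (L.map f).prod = 1 := by
        apply List.prod_eq_one
        intro y hy
        obtain ⟨b, hb, rfl⟩ := List.mem_map.1 hy
        exact hf b (List.mem_cons_of_mem _ hb) (fun e => hn.1 (e ▸ hb))
      rw [h1, mul_one]
    · rw [hf c List.mem_cons_self hca, one_mul]
      refine prod_single f a L hn.2 ?_ fun b hb hba => hf b (List.mem_cons_of_mem _ hb) hba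
      rcases List.mem_cons.1 h with h1 | h1
      · exact absurd h1.symm hca
      · exact h1

theorem L2_spec {a : ℕ} (ha : a ∈ L2) : a < 240 ∧ rt chevE8 a 1 = 2 := by
  have := List.all_eq_true.1 L2_lev a ha
  rwa [Bool.and_eq_true, decide_eq_true_eq, decide_eq_true_eq] at this

theorem mem_L2_of {a : ℕ} (ha : a < 240) (h : rt chevE8 a 1 = 2) : a ∈ L2 := by
  have := List.all_eq_true.1 mem_L2 a (List.mem_range.2 ha)
  rw [decide_eq_true_eq] at this
  exact this h

variable (F) in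
omit [Fintype F] in
/-- the subgroup of the products of root elements of level two -/
def PV : Subgroup ↥(chevE8.group F) where
  carrier := {v | ∃ w : ℕ → F, v = (L2.map fun a => xx a (w a)).prod}
  mul_mem' := by
    rintro _ _ ⟨w, rfl⟩ ⟨w', rfl⟩
    exact ⟨fun a => w a + w' a, (prod_add L2 (fun a ha => L2_spec ha) w w').symm⟩
  one_mem' := by
    refine ⟨fun _ => 0, ?_⟩
    symm
    apply List.prod_eq_one
    intro y hy
    obtain ⟨b, hb, rfl⟩ := List.mem_map.1 hy
    exact xS_zero _ _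
  inv_mem' := by
    rintro _ ⟨w, rfl⟩
    refine ⟨fun a => - w a, ?_⟩
    rw [inv_eq_iff_mul_eq_one, ← prod_add L2 (fun a ha => L2_spec ha)]
    apply List.prod_eq_one
    intro y hy
    obtain ⟨b, hb, rfl⟩ := List.mem_map.1 hy
    rw [add_neg_cancel]
    exact xS_zero _ _

omit [Fintype F] in
theorem exists_coord {v : ↥(chevE8.group F)} (hv : v ∈ V2 F) : ∃ w : ℕ → F, v = (L2.map fun a => xx a (w a)).prod := by
  classical
  have h1 : V2 F ≤ PV F := by
    refine Sup_le8 fun r hr h u => ?_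
    refine ⟨fun a => if a = r then u else 0, ?_⟩
    rw [prod_single (fun a => xx a (if a = r then u else 0)) r L2 L2_nodup (mem_L2_of hr h)]
    · rw [if_pos rfl]
    · intro b _ hbr
      rw [if_neg hbr]
      exact xS_zero _ _
  exact h1 hv

/-! ### Normal subgroups of the group of even level -/

omit [Fintype F] in
theorem xx_mem_ME {r : ℕ} (hr : r < 240) (h : rt chevE8 r 1 % 2 = 0) (u : F) : xx r u ∈ ME F :=
  (le_sup_right : _ ≤ ME F) (xx_mem_Sup (P := fun z => z % 2 = 0) hr h u)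

section Norm

variable {N : Subgroup ↥(chevE8.group F)} (hN : ∀ g ∈ ME F, ∀ n ∈ N, g * n * g⁻¹ ∈ N)

include hN

omit [Fintype F] in
theorem rn_mem_N (w : List ℕ) : (∀ b ∈ w, b < 240 ∧ rt chevE8 b 1 = 0) → ∀ {v : ↥(chevE8.group F)}, v ∈ N →
    rn w v ∈ N := by
  induction w with
  | nil => exact fun _ v hv => hv
  | cons b w ih =>
    intro h v hv
    rw [rn]
    obtain ⟨h1, h2⟩ := h b List.mem_cons_self
    refine ih (fun c hc => h c (List.mem_cons_of_mem _ hc)) ?_
    have h3 := hN (xx b (1 : F))⁻¹ (inv_mem (xx_mem_ME h1 (by rw [h2]; rfl) 1)) v hv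
    rw [inv_inv] at h3
    exact mul_mem (inv_mem hv) h3

include t in
/-- an element of the highest root group of level two -/
theorem exists_single {v : ↥(chevE8.group F)} (hv : v ∈ V2 F) (hvN : v ∈ N) (hv1 : v ≠ 1) :
    ∃ u : F, u ≠ 0 ∧ xx 232 u ∈ N := by
  classical
  obtain ⟨w, hw⟩ := exists_coord hv
  obtain ⟨a, ha, hwa⟩ : ∃ a ∈ L2, w a ≠ 0 := by
    by_contra hcon
    push Not at hcon
    apply hv1
    rw [hw]
    apply List.prod_eq_one
    intro y hy
    obtain ⟨b, hb, rfl⟩ := List.mem_map.1 hy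
    rw [hcon b hb]
    exact xS_zero _ _
  obtain ⟨⟨a', ws⟩, hp, hpa⟩ := List.any_eq_true.1 (List.all_eq_true.1 wds_cov a ha)
  obtain rfl : a' = a := by simpa using hpa
  have hlev : ∀ b ∈ ws, b < 240 ∧ rt chevE8 b 1 = 0 := by
    intro b hb
    have h1 := List.all_eq_true.1 (List.all_eq_true.1 wds_lev _ hp) b hb
    rwa [Bool.and_eq_true, decide_eq_true_eq, decide_eq_true_eq] at h1
  have hok : ∀ c ∈ L2, okF _root_.Cfsg.Agent.H320.Cyc.E8Tab.em st ws c = true ∧ runF st ws c = if c == a' then some 232 else none := by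
    intro c hc
    have h1 := List.all_eq_true.1 (List.all_eq_true.1 wds_ok _ hp) c hc
    rw [Bool.and_eq_true, beq_iff_eq] at h1
    exact h1
  have h1 := rn_mem_N hN ws hlev hvN
  rw [hw, rn_prod t ws hlev _ (fun y hy => by
    obtain ⟨b, hb, rfl⟩ := List.mem_map.1 hy
    exact xx_mem_Sup (P := fun z => z = 2) (L2_spec hb).1 (L2_spec hb).2 _), List.map_map] at h1
  rw [prod_single _ a' L2 L2_nodup ha (fun b hb hba => by
    obtain ⟨h2, h3⟩ := hok b hb
    have h4 : (b == a') = false := by simpa using hba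
    rw [h4] at h3
    exact (rn_xx ws hlev (L2_spec hb).1 (L2_spec hb).2 h2 (w b)).1 h3)] at h1
  obtain ⟨h2, h3⟩ := hok a' ha
  rw [beq_self_eq_true] at h3
  rcases (rn_xx ws hlev (L2_spec ha).1 (L2_spec ha).2 h2 (w a')).2 232 h3 with h4 | h4
  · exact ⟨w a', hwa, by rw [← h4]; exact h1⟩
  · exact ⟨- w a', neg_ne_zero.2 hwa, by rw [← h4]; exact h1⟩

omit [Fintype F] in
/-- **a normal subgroup of the group of even level containing an element of level two contains all root groups of even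
level** -/
theorem all_mem {u : F} (hu : u ≠ 0) (h : xx 232 u ∈ N) : ∀ r < 240, rt chevE8 r 1 % 2 = 0 → ∀ v : F, xx r v ∈ N := by
  have key : ∀ r < 240, ev r = true → ∀ v : F, xx r v ∈ N := by
    refine chkF_all (f := st) (ev := ev) (ng := chevE8.neg) (fun r => ∀ v : F, xx r v ∈ N) ?_ spr [135] ?_ spr_ok
    · intro r b l hr hr1 hb1 hevb hbr hbn hst v
      obtain ⟨c, hc, hct⟩ := st_eq hst
      have hbe : rt chevE8 b 1 % 2 = 0 := by
        unfold ev at hevb
        exact of_decide_eq_true hevb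
      have h1 := xx_comm_one hr1 hb1 hbr hbn hct (-(c : F) * v) 1
      have h2 : -(c : F) * (-(c : F) * v) * 1 = v := by
        rcases hc with rfl | rfl <;> push_cast <;> ring
      rw [h2] at h1
      have h3 : xx l v = ((xx b 1)⁻¹ * (xx r (-(c : F) * v))⁻¹ * xx b 1) * xx r (-(c : F) * v) := by
        have h4 : xx l v = (xx r (-(c : F) * v) * xx b 1)⁻¹ * (xx b 1 * xx r (-(c : F) * v)) := by
          rw [h1]; group
        rw [h4]; group
      rw [h3]
      have h5 := hN (xx b (1 : F))⁻¹ (inv_mem (xx_mem_ME hb1 hbe 1)) _ (inv_mem (hr (-(c : F) * v)))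
      rw [inv_inv] at h5
      exact mul_mem h5 (hr _)
    · intro r hr v
      rw [List.mem_singleton] at hr
      subst hr
      obtain ⟨c, hc, hct⟩ := st_eq st_first
      have h8 : rt chevE8 8 1 % 2 = 0 := by decide +kernel
      have h1 := xx_comm_one (F := F) (by norm_num) (by norm_num) (by norm_num) (by decide +kernel) hct
        (-(c : F) * v * u⁻¹) u
      have h2 : -(c : F) * (-(c : F) * v * u⁻¹) * u = v := by
        have hc2 : (c : F) * (c : F) = 1 := by
          rcases hc with rfl | rfl <;> simp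
        calc -(c : F) * (-(c : F) * v * u⁻¹) * u = ((c : F) * (c : F)) * v * (u⁻¹ * u) := by ring
          _ = v := by rw [hc2, inv_mul_cancel₀ hu]; ring
      rw [h2] at h1
      have h3 : xx 135 v = (xx 232 u)⁻¹ * ((xx 8 (-(c : F) * v * u⁻¹))⁻¹ * xx 232 u * xx 8 (-(c : F) * v * u⁻¹)) := by
        have h4 : xx 135 v = (xx 8 (-(c : F) * v * u⁻¹) * xx 232 u)⁻¹ * (xx 232 u * xx 8 (-(c : F) * v * u⁻¹)) := by
          rw [h1]; group
        rw [h4]; group
      rw [h3]
      have h5 := hN (xx 8 (-(c : F) * v * u⁻¹))⁻¹ (inv_mem (xx_mem_ME (by norm_num) h8 _)) _ h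
      rw [inv_inv] at h5
      exact mul_mem (inv_mem h) h5
  intro r hr he v
  exact key r hr (by unfold ev; exact decide_eq_true he) v

end Norm

/-! ### The group of even level is proper -/

variable (F) in
omit [Fintype F] in
/-- the span of the root vectors of odd level -/
def LO : Submodule F (chevE8.Idx → F) where
  carrier := {v | ∀ i, (∀ r : Fin chevE8.nroots, i = Sum.inr r → rt chevE8 r 1 % 2 = 0) → v i = 0}
  add_mem' := fun {a b} ha hb i hi => by rw [Pi.add_apply, ha i hi, hb i hi, add_zero]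
  zero_mem' := fun i _ => rfl
  smul_mem' := fun c v hv i hi => by rw [Pi.smul_apply, hv i hi, smul_zero]

open Cfsg.Agent.ChevalleyStructure.XColumns in
omit [Fintype F] in
theorem ev_mem_LO {s : ℕ} (hs : rt chevE8 s 1 % 2 ≠ 0) : XColumns.ev chevE8 F s ∈ LO F := by
  intro i hi
  rcases i with i | r
  · rfl
  · rw [ev_inr, if_neg]
    intro h
    exact hs (h ▸ hi r rfl)

open Cfsg.Agent.ChevalleyStructure.XColumns in
omit [Fintype F] in
/-- the even root elements stabilise the odd part -/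
theorem xx_stab {r : ℕ} (hr : r < 240) (he : rt chevE8 r 1 % 2 = 0) (u : F) {v : chevE8.Idx → F} (hv : v ∈ LO F) :
    (chevE8.x F r u).mulVec v ∈ LO F := by
  classical
  -- `v` is a combination of root vectors of odd level
  have h1 : v = ∑ s : Fin chevE8.nroots, v (Sum.inr s) • XColumns.ev chevE8 F s := by
    funext i
    rw [Finset.sum_apply]
    rcases i with i | s
    · rw [hv (Sum.inl i) (fun r h => by simp at h)]
      symm
      apply Finset.sum_eq_zero
      intro s _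
      rw [Pi.smul_apply, ev_inl, smul_zero]
    · rw [Finset.sum_eq_single s]
      · rw [Pi.smul_apply, ev_inr, if_pos rfl, smul_eq_mul, mul_one]
      · intro b _ hb
        rw [Pi.smul_apply, ev_inr, if_neg (fun h => hb (Fin.ext h).symm), smul_zero]
      · intro h; exact absurd (Finset.mem_univ s) h
  rw [h1, Matrix.mulVec_sum]
  refine Submodule.sum_mem _ fun s _ => ?_
  rw [Matrix.mulVec_smul]
  by_cases hs : rt chevE8 s 1 % 2 = 0
  · have h2 : v (Sum.inr s) = 0 := hv (Sum.inr s) (fun r h => by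
      obtain rfl := Sum.inr.inj h
      exact hs)
    rw [h2, zero_smul]
    exact Submodule.zero_mem _
  · refine Submodule.smul_mem _ _ ?_
    have hsr : (s : ℕ) ≠ r := fun h => hs (h ▸ he)
    have hsn : (s : ℕ) ≠ chevE8.neg r := by
      intro h
      apply hs
      rw [h, neg_lev hr]
      omega
    rw [x_mulVec_ev (lt_n hr) s.2 hsr hsn
      (Cfsg.Agent.ChevalleyStructure.NConjSharp.nodup_row (Cfsg.Agent.ChevalleyStructure.Good.goodAt_of_mem chevE8 hpE8.inList r (lt_n hr))) u]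
    refine Submodule.add_mem _ (ev_mem_LO hs) ?_
    refine list_sum_mem fun y hy => ?_
    obtain ⟨q, hq, rfl⟩ := List.mem_map.1 hy
    refine Submodule.smul_mem _ _ (ev_mem_LO ?_)
    have h3 := List.mem_zipIdx_iff_getElem?.1 hq
    have h4 := (chainEntry_get chk8 (r := r) (s := s) (k := q.2) (q := q.1) h3).2.2.2 1
    rw [h4]
    intro h5
    apply hs
    have h6 : (2 : ℤ) ∣ rt chevE8 r 1 := Int.dvd_of_emod_eq_zero he
    obtain ⟨m, hm⟩ := h6
    rw [hm] at h5
    have h7 : rt chevE8 s 1 + ((q.2 + 1 : ℕ) : ℤ) * (2 * m) = rt chevE8 s 1 + 2 * (((q.2 + 1 : ℕ) : ℤ) * m) := by ring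
    rw [h7, Int.add_mul_emod_self_left] at h5
    exact h5

variable (F) in
omit [Fintype F] in
/-- the stabiliser of the odd part -/
def StO : Subgroup ↥(chevE8.group F) where
  carrier := {g | (∀ v ∈ LO F, ((g : GL chevE8.Idx F) : Matrix chevE8.Idx chevE8.Idx F).mulVec v ∈ LO F) ∧
    ∀ v ∈ LO F, ((g⁻¹ : ↥(chevE8.group F)) : GL chevE8.Idx F).val.mulVec v ∈ LO F}
  mul_mem' := by
    rintro a b ⟨ha, ha'⟩ ⟨hb, hb'⟩
    refine ⟨fun v hv => ?_, fun v hv => ?_⟩
    · rw [Subgroup.coe_mul, Units.val_mul, ← Matrix.mulVec_mulVec]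
      exact ha _ (hb v hv)
    · rw [mul_inv_rev, Subgroup.coe_mul, Units.val_mul, ← Matrix.mulVec_mulVec]
      exact hb' _ (ha' v hv)
  one_mem' := by
    refine ⟨fun v hv => ?_, fun v hv => ?_⟩
    · rw [Subgroup.coe_one, Units.val_one, Matrix.one_mulVec]; exact hv
    · rw [inv_one, Subgroup.coe_one, Units.val_one, Matrix.one_mulVec]; exact hv
  inv_mem' := by
    rintro a ⟨ha, ha'⟩
    exact ⟨ha', fun v hv => by rw [inv_inv]; exact ha v hv⟩

omit [Fintype F] in
theorem diag_stab {g : ↥(chevE8.group F)} (hg : g ∈ T8 F) {v : chevE8.Idx → F} (hv : v ∈ LO F) :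
    ((g : GL chevE8.Idx F) : Matrix chevE8.Idx chevE8.Idx F).mulVec v ∈ LO F := by
  obtain ⟨χ, hχ⟩ := HMatDiagAll.mem_torus.1 (HMatDiagAll.diagonalSubgroup_le_torus hpE8.inList hg)
  have hχ' : ((g : GL chevE8.Idx F) : Matrix chevE8.Idx chevE8.Idx F) =
      Matrix.diagonal (Sum.elim (fun _ => (1 : F)) χ) := hχ
  intro i hi
  rw [hχ', Matrix.mulVec_diagonal, hv i hi, mul_zero]

omit [Fintype F] in
theorem ME_le_StO : ME F ≤ StO F := by
  refine sup_le ?_ (Sup_le8 fun r hr he u => ?_)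
  · intro g hg
    exact ⟨fun v hv => diag_stab hg hv, fun v hv => diag_stab (inv_mem hg) hv⟩
  · refine ⟨fun v hv => xx_stab hr he u hv, fun v hv => ?_⟩
    rw [xS_inv]
    exact xx_stab hr he (-u) hv

open Cfsg.Agent.ChevalleyStructure.XColumns in
omit [Fintype F] in
theorem ME_ne_top : ME F ≠ ⊤ := by
  intro h
  have h1 : xx (chevE8.simple 1) (1 : F) ∈ StO F := ME_le_StO (by rw [h]; trivial)
  have hs : chevE8.simple 1 < 240 := by decide +kernel
  have hn : chevE8.neg (chevE8.simple 1) < 240 := by decide +kernel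
  have hne : chevE8.neg (chevE8.simple 1) ≠ chevE8.simple 1 := by decide +kernel
  have hr : rt chevE8 (chevE8.neg (chevE8.simple 1)) 1 % 2 ≠ 0 := by decide +kernel
  have h2 := h1.1 (XColumns.ev chevE8 F (chevE8.neg (chevE8.simple 1))) (ev_mem_LO hr)
  have h3 : (((xx (chevE8.simple 1) (1 : F) : ↥(chevE8.group F)) : GL chevE8.Idx F) : Matrix chevE8.Idx chevE8.Idx F) =
      chevE8.x F (chevE8.simple 1) 1 := rfl
  rw [h3, x_mulVec_ev_neg (lt_n hs) (lt_n hn) hne] at h2
  have h1r : (1 : ℕ) < chevE8.rank := by decide +kernel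
  have h4 := h2 (Sum.inl ⟨1, h1r⟩) (fun r h => absurd h Sum.inl_ne_inr)
  have h5 : (((chevE8.coroot.getD (chevE8.simple 1) #[]).getD 1 0 : ℤ) : F) = 1 := by
    rw [cor_ok, Int.cast_one]
  rw [Pi.sub_apply, Pi.add_apply, Pi.smul_apply, Pi.smul_apply, ev_inl, ev_inl, corv_inl, h5] at h4
  simp at h4

/-! ### Words -/

omit [Fintype F] in
theorem rep_act (ω : List (Fin 8)) {r : ℕ} (hr : r < 240) :
    _root_.Cfsg.Agent.H320.Cyc.E8Tab.act ω r < 240 ∧ rep cs8 hpE8.isCartan (cs8.wordProd ω) (vec chevE8 8 r) = vec chevE8 8 (_root_.Cfsg.Agent.H320.Cyc.E8Tab.act ω r) := by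
  induction ω with
  | nil =>
    refine ⟨hr, ?_⟩
    rw [wordProd_nil, map_one, Module.End.one_apply]
    rfl
  | cons i ω ih =>
    obtain ⟨h1, h2⟩ := ih
    have h3 : _root_.Cfsg.Agent.H320.Cyc.E8Tab.act (i :: ω) r = chevE8.reflectRoot i (_root_.Cfsg.Agent.H320.Cyc.E8Tab.act ω r) := rfl
    have h4 := reflectRoot_lt hpE8.inList (lt_rank hpE8 i) (lt_n h1)
    rw [nroots_E8] at h4
    rw [h3]
    exact ⟨h4, by rw [wordProd_cons, rep_mul_apply, h2, rep_vec hpE8 cs8 i (lt_n h1)]⟩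

/-- the nodes of the residue `D₇` -/
abbrev J0 : Set (Fin 8) := ((Finset.univ.erase 0 : Finset (Fin 8)) : Set (Fin 8))

theorem even_w1 {x : Fin 8 → ℤ} (hx : x ∈ RootsJ cs8 hpE8.isCartan J0) :
    rep cs8 hpE8.isCartan (cs8.wordProd w1) x ∈ RS fun z => z % 2 = 0 := by
  obtain ⟨hx1, hx0⟩ := hx
  refine ⟨hx1.act _, ?_⟩
  have h0 : x 0 = 0 := hx0 0 (by simp [J0])
  have h1 : x = ∑ i, x i • sr i := by
    funext j
    rw [Finset.sum_apply, Finset.sum_eq_single j]
    · rw [Pi.smul_apply, sr_self, smul_eq_mul, mul_one]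
    · intro b _ hb
      rw [Pi.smul_apply, sr_ne (Ne.symm hb), smul_zero]
    · intro h; exact absurd (Finset.mem_univ j) h
  have h2 : (rep cs8 hpE8.isCartan (cs8.wordProd w1) x) 1 =
      ∑ i, x i * (rep cs8 hpE8.isCartan (cs8.wordProd w1) (sr i)) 1 := by
    conv_lhs => rw [h1]
    rw [map_sum, Finset.sum_apply]
    refine Finset.sum_congr rfl fun i _ => ?_
    rw [map_smul, Pi.smul_apply, smul_eq_mul]
  show (rep cs8 hpE8.isCartan (cs8.wordProd w1) x) 1 % 2 = 0
  rw [h2]
  apply Int.emod_eq_zero_of_dvd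
  refine Finset.dvd_sum fun i _ => ?_
  by_cases hi : i = 0
  · rw [hi, h0, zero_mul]
    exact dvd_zero _
  · refine Dvd.dvd.mul_left (Int.dvd_of_emod_eq_zero ?_) _
    have hi' : (chevE8.simple i) < 240 := by
      rw [← nroots_E8]; exact NPerm.simple_lt hpE8.inList (lt_rank hpE8 i)
    rw [← vec_simple hpE8 i, (rep_act w1 hi').2, vec_apply]
    have h3 := List.all_eq_true.1 w1_ok i (List.mem_range.2 i.2)
    rw [Bool.or_eq_true, decide_eq_true_eq, decide_eq_true_eq] at h3
    rcases h3 with h3 | h3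
    · exact absurd (Fin.ext h3) hi
    · exact h3

/-! ### The order of the group of even level -/

section Dvd

variable {s : ℕ} (hs : s.Prime) (hst : s ≠ t)
  (he : orderOf ((Fintype.card F : ℕ) : ZMod s) = 10 ∨ orderOf ((Fintype.card F : ℕ) : ZMod s) = 12)

include hs he in
theorem not_dvd_T8 : ¬ s ∣ Nat.card (T8 F) := by
  intro hd
  have : Fact s.Prime := ⟨hs⟩
  obtain ⟨g, hg⟩ := exists_prime_orderOf_dvd_card' s hd
  obtain ⟨χ, hχ⟩ := HMatDiagAll.mem_torus.1 (HMatDiagAll.diagonalSubgroup_le_torus hpE8.inList g.2)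
  have hχ' : ((g : ↥(chevE8.group F)) : GL chevE8.Idx F).val = Matrix.diagonal (Sum.elim (fun _ => (1 : F)) χ) := hχ
  have h1 : ((g : ↥(chevE8.group F)) : GL chevE8.Idx F) ^ s = 1 := by
    rw [← SubgroupClass.coe_pow, ← SubgroupClass.coe_pow, ← hg, pow_orderOf_eq_one]; rfl
  have h2 : ∀ r, χ r ^ s = 1 := by
    intro r
    have h3 : (((g : ↥(chevE8.group F)) : GL chevE8.Idx F) : Matrix chevE8.Idx chevE8.Idx F) ^ s = 1 := by
      rw [← Units.val_pow_eq_pow_val, h1, Units.val_one]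
    rw [hχ', Matrix.diagonal_pow] at h3
    have h4 := congrFun (congrFun h3 (Sum.inr r)) (Sum.inr r)
    rwa [Matrix.diagonal_apply_eq, Matrix.one_apply_eq, Pi.pow_apply] at h4
  have h3 : ∃ r, χ r ≠ 1 := by
    by_contra hcon
    push Not at hcon
    have h4 : ((g : ↥(chevE8.group F)) : GL chevE8.Idx F) = 1 := by
      apply Units.ext
      rw [hχ', Units.val_one, ← Matrix.diagonal_one]
      congr 1
      funext i
      rcases i with i | i
      · rfl
      · exact hcon i
    have h5 : g = 1 := Subtype.ext (Subtype.ext h4)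
    rw [h5, orderOf_one] at hg
    exact hs.one_lt.ne hg
  obtain ⟨r, hr⟩ := h3
  have h4 : orderOf (χ r) = s := orderOf_eq_prime (h2 r) hr
  have h5 : χ r ≠ 0 := by
    intro h6
    have h7 := h2 r
    rw [h6, zero_pow hs.ne_zero] at h7
    exact zero_ne_one h7
  have h6 : s ∣ Fintype.card F - 1 := by
    rw [← h4]
    exact orderOf_dvd_of_pow_eq_one (FiniteField.pow_card_sub_one_eq_one (χ r) h5)
  have h7 : ((Fintype.card F : ℕ) : ZMod s) = 1 := by
    have h8 : ((Fintype.card F - 1 : ℕ) : ZMod s) = 0 := (ZMod.natCast_eq_zero_iff _ _).2 h6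
    have h9 : Fintype.card F = (Fintype.card F - 1) + 1 := (Nat.succ_pred_eq_of_pos Fintype.card_pos).symm
    rw [h9, Nat.cast_add, h8, Nat.cast_one, zero_add]
  rw [h7, orderOf_one] at he
  omega

include hs hst in
theorem not_dvd_VJ (J : Set (Fin 8)) : ¬ s ∣ Nat.card (VJ cs8 hpE8.isCartan (X8 F) J) := by
  have := (D8 (F := F) t).fin
  have h1 : IsPGroup t (VJ cs8 hpE8.isCartan (X8 F) J) := (D8 (F := F) t).rgd.isPGroup_Upos.to_le (VJ_le_U J)
  obtain ⟨k, hk⟩ := (IsPGroup.iff_card (p := t)).1 h1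
  rw [hk]
  intro h2
  exact hst ((Nat.prime_dvd_prime_iff_eq hs Fact.out).1 (hs.dvd_of_dvd_pow h2))

include hs hst he in
/-- `s` divides the order of the subgroup generated by the root groups of type `D₇` -/
theorem dvd_D7 : s ∣ Nat.card ↥(RGD.Sup (X8 F) (RootsJ cs8 hpE8.isCartan J0)) := by
  have := (D8 (F := F) t).fin
  have h1 : s ∣ Nat.card ((D8 (F := F) t).par (Finset.univ.erase 0)) := by
    rcases he with he | he
    · have h2 := (Cfsg.Agent.H470.PiRad.TabE8.rel_123456_6 (D8 (F := F) t))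
      have h3 : s ∣ ((D8 (F := F) t).par {1, 2, 3, 4, 5}).relIndex ((D8 (F := F) t).par {1, 2, 3, 4, 5, 6}) := by
        rw [h2]
        exact Dvd.dvd.mul_right (Cfsg.Agent.H470.PiRad.Num.c10 hs he) _
      refine (h3.trans (Subgroup.relIndex_dvd_card _ _)).trans (Subgroup.card_dvd_of_le ?_)
      exact parabolic_mono _ (Set.image_mono (Finset.coe_subset.2 (by decide)))
    · have h2 := (Cfsg.Agent.H470.PiRad.TabE8.rel_1234567_7 (D8 (F := F) t))
      have h3 : s ∣ ((D8 (F := F) t).par {1, 2, 3, 4, 5, 6}).relIndex ((D8 (F := F) t).par {1, 2, 3, 4, 5, 6, 7}) := by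
        rw [h2]
        exact Dvd.dvd.mul_right (Cfsg.Agent.H470.PiRad.Num.c12 hs he) _
      refine (h3.trans (Subgroup.relIndex_dvd_card _ _)).trans (Subgroup.card_dvd_of_le ?_)
      exact parabolic_mono _ (Set.image_mono (Finset.coe_subset.2 (by decide)))
  have h2 : (D8 (F := F) t).par (Finset.univ.erase 0) = PJ cs8 hpE8.isCartan (T8 F) (X8 F) J0 :=
    par_eq (D8 (F := F) t).rgd (D8 (F := F) t).hgen (D8 (F := F) t).gg J0
  have h3 : PJ cs8 hpE8.isCartan (T8 F) (X8 F) J0 = VJ cs8 hpE8.isCartan (X8 F) J0 ⊔ LJ cs8 hpE8.isCartan (T8 F) (X8 F) J0 :=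
    sup_comm _ _
  rw [h2, h3] at h1
  have h4 := h1.trans (card_sup_dvd' (U := VJ cs8 hpE8.isCartan (X8 F) J0)
    (LJ_le_normalizer_VJ (R := (D8 (F := F) t).rgd) J0))
  rcases hs.dvd_mul.1 h4 with h5 | h5
  · exact absurd h5 (not_dvd_VJ t hs hst J0)
  · have h6 : LJ cs8 hpE8.isCartan (T8 F) (X8 F) J0 = RGD.Sup (X8 F) (RootsJ cs8 hpE8.isCartan J0) ⊔ T8 F := sup_comm _ _
    rw [h6] at h5
    have h7 := h5.trans (card_sup_dvd' (U := RGD.Sup (X8 F) (RootsJ cs8 hpE8.isCartan J0)) (N := T8 F) (by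
      intro g hg
      refine mem_normalizer_of fun r hr => ?_
      have h8 : RGD.Sup (X8 F) (RootsJ cs8 hpE8.isCartan J0) ≤
          (RGD.Sup (X8 F) (RootsJ cs8 hpE8.isCartan J0)).comap (MulAut.conj g).toMonoidHom := by
        refine RGD.Sup_le fun x hx y hy => ?_
        show g * y * g⁻¹ ∈ RGD.Sup (X8 F) (RootsJ cs8 hpE8.isCartan J0)
        refine RGD.le_Sup (X := X8 F) (S := RootsJ cs8 hpE8.isCartan J0) hx ?_
        have h2 : _root_.Cfsg.Agent.Nodes.Reps.cj g (X8 F x) = X8 F x := (D8 (F := F) t).rgd.tor x hx.1 g hg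
        have h3 : g * y * g⁻¹ ∈ _root_.Cfsg.Agent.Nodes.Reps.cj g (X8 F x) := conj_mem_cj.2 hy
        rw [h2] at h3
        exact h3
      exact h8 hr))
    rcases hs.dvd_mul.1 h7 with h8 | h8
    · exact h8
    · exact absurd h8 (not_dvd_T8 hs he)

include hs hst he in
/-- `s` divides the order of a subgroup containing all root groups of even level -/
theorem dvd_of_all {N : Subgroup ↥(chevE8.group F)} (h : ∀ r < 240, rt chevE8 r 1 % 2 = 0 → ∀ v : F, xx r v ∈ N) :
    s ∣ Nat.card N := by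
  have := (D8 (F := F) t).fin
  obtain ⟨k, hk⟩ := exists_rp cs8 (D8 (F := F) t).rgd.nsys (cs8.wordProd w1)
  have h1 := dvd_D7 t hs hst he
  have h2 : (RGD.Sup (X8 F) (RootsJ cs8 hpE8.isCartan J0)).map (MulAut.conj k).toMonoidHom ≤ N := by
    rw [Subgroup.map_le_iff_le_comap]
    refine RGD.Sup_le fun x hx y hy => ?_
    show k * y * k⁻¹ ∈ N
    have h3 := (D8 (F := F) t).rgd.conj_mem hk hx.1 hy
    obtain ⟨h4, h5⟩ := even_w1 hx
    obtain ⟨r, hr, hrx⟩ := root8 h4
    rw [← hrx] at h3 h5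
    obtain ⟨u, hu⟩ := (mem_X8 hr).1 h3
    rw [hu]
    exact h r hr h5 u
  have h3 := Subgroup.card_dvd_of_le h2
  rw [Subgroup.card_map_of_injective (MulAut.conj k).injective] at h3
  exact h1.trans h3

end Dvd

/-! ### The normaliser of the highest root group -/

omit [Fintype F] in
theorem top_comm {r : ℕ} (hr : r < 240) (h0 : 0 ≤ vec chevE8 8 r) (v u : F) : xx 239 u * xx r v = xx r v * xx 239 u := by
  by_cases h1 : 239 = r
  · subst h1
    rw [xS_mul, xS_mul, add_comm]
  have h2 : 239 ≠ chevE8.neg r := by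
    intro h
    have h3 := neg_lev hr 7
    rw [← h] at h3
    have h4 : rt chevE8 239 7 = 2 := by decide +kernel
    have h5 : (0 : ℤ) ≤ rt chevE8 r 7 := h0 7
    rw [h4] at h3
    linarith only [h3, h5]
  rcases commTerms_cases r 239 with h | ⟨l, c, h⟩
  · exact xx_comm_nil hr (by norm_num) h1 h2 h v u
  · exfalso
    obtain ⟨hl, hlr⟩ := term_rt h
    -- all coefficients of `r` vanish
    have h3 : vec chevE8 8 r = 0 := by
      funext k
      have h4 := top_le hl k.2
      rw [hlr] at h4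
      have h5 : (0 : ℤ) ≤ rt chevE8 r k := h0 k
      show rt chevE8 r k = 0
      linarith only [h4, h5]
    exact (isRoot8 hr).ne_zero h3

include t in
theorem B_le_normalizer : RGD.B cs8 hpE8.isCartan (T8 F) (X8 F) ≤
    normalizer ((X8 F (vec chevE8 8 239) : Subgroup ↥(chevE8.group F)) : Set ↥(chevE8.group F)) := by
  refine sup_le ?_ (RGD.Sup_le ?_)
  · intro g hg
    refine mem_normalizer_of fun y hy => ?_
    have h2 : _root_.Cfsg.Agent.Nodes.Reps.cj g (X8 F (vec chevE8 8 239)) = X8 F (vec chevE8 8 239) :=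
      (D8 (F := F) t).rgd.tor _ (isRoot8 (by norm_num)) g hg
    have h3 : g * y * g⁻¹ ∈ _root_.Cfsg.Agent.Nodes.Reps.cj g (X8 F (vec chevE8 8 239)) := conj_mem_cj.2 hy
    rw [h2] at h3
    exact h3
  · rintro x ⟨hx, hx0⟩ g hg
    obtain ⟨r, hr, rfl⟩ := root8 hx
    obtain ⟨v, rfl⟩ := (mem_X8 hr).1 hg
    refine mem_normalizer_of fun y hy => ?_
    obtain ⟨u, rfl⟩ := (mem_X8 (by norm_num)).1 hy
    rw [← top_comm hr hx0 v u, mul_inv_cancel_right]
    exact hy

/-- **the normaliser of the highest root group** lies in the parabolic subgroup of type `E₇` -/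
theorem normalizer_le : normalizer ((X8 F (vec chevE8 8 239) : Subgroup ↥(chevE8.group F)) : Set ↥(chevE8.group F)) ≤
    (D8 (F := F) t).par (Finset.univ.erase 7) := by
  have := (D8 (F := F) t).fin
  obtain ⟨J, hJS, hJ⟩ := Cfsg.Agent.S0311.result (D8 (F := F) t).bn _ (B_le_normalizer (F := F) t)
  rw [hJ]
  refine parabolic_mono _ ?_
  intro y hy
  obtain ⟨i, rfl⟩ := hJS hy
  refine ⟨i, ?_, rfl⟩
  rw [Finset.mem_coe, Finset.mem_erase]
  refine ⟨?_, Finset.mem_univ _⟩
  rintro rfl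
  have h1 : (⟨nn hpE8 F 7, nn_mem_group hpE8 7⟩ : ↥(chevE8.group F)) ∈
      normalizer ((X8 F (vec chevE8 8 239) : Subgroup ↥(chevE8.group F)) : Set ↥(chevE8.group F)) := by
    rw [hJ]
    exact (le_sup_right : _root_.Subgroup.closure J ≤ _) (_root_.Subgroup.subset_closure hy)
  rw [mem_normalizer_iff_cj] at h1
  have h2 := (D8 (F := F) t).rgd.conj 7 (vec chevE8 8 239) (isRoot8 (by norm_num))
  have h3 := rep_vec hpE8 cs8 7 (lt_n (r := 239) (by norm_num))
  have e7 : ((7 : Fin 8) : ℕ) = 7 := rfl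
  rw [e7] at h3
  have h5 : X8 F (vec chevE8 8 239) = X8 F (vec chevE8 8 (chevE8.reflectRoot 7 239)) := by
    have h6 : _root_.Cfsg.Agent.Nodes.Reps.cj (⟨nn hpE8 F 7, nn_mem_group hpE8 7⟩ : ↥(chevE8.group F)) (X8 F (vec chevE8 8 239)) =
        X8 F (rep cs8 hpE8.isCartan (cs8.simple 7) (vec chevE8 8 239)) := h2
    rw [h1] at h6
    exact h6.trans (congrArg (X8 F) h3)
  have h7 : chevE8.reflectRoot 7 239 < 240 := by
    have := reflectRoot_lt hpE8.inList (lt_rank hpE8 7) (lt_n (r := 239) (by norm_num))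
    rwa [nroots_E8] at this
  have h8 := Cfsg.Agent.Nodes.OppDec.X_injective (R := (D8 (F := F) t).rgd) (isRoot8 (by norm_num)) (isRoot8 h7) h5
  exact s7_ok (vec_inj hpE8 (lt_n h7) (lt_n (by norm_num)) h8.symm)

/-! ### The fixed points of an inner automorphism -/

theorem F_of_mem {g k : ↥(chevE8.group F)} {J : Finset (Fin 8)} (h : k * g * k⁻¹ ∈ (D8 (F := F) t).par J) :
    (D8 (F := F) t).F (MulAut.conj g) J := by
  have := (D8 (F := F) t).fin
  refine ⟨k⁻¹, fun a ha => ?_⟩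
  rw [cx_apply, inv_inv]
  have h1 : k * (MulAut.conj g) (k⁻¹ * a * k) * k⁻¹ = (k * g * k⁻¹) * a * (k * g * k⁻¹)⁻¹ := by
    rw [MulAut.conj_apply]; group
  rw [h1]
  exact mul_mem (mul_mem h ha) (inv_mem h)

theorem mem_of_F {g : ↥(chevE8.group F)} {J : Finset (Fin 8)} (h : (D8 (F := F) t).F (MulAut.conj g) J) :
    ∃ k, k * g * k⁻¹ ∈ (D8 (F := F) t).par J := by
  have := (D8 (F := F) t).fin
  obtain ⟨k, hk⟩ := h
  refine ⟨k⁻¹, ?_⟩
  have h0 : normalizer ((D8 (F := F) t).par J : Set ↥(chevE8.group F)) = (D8 (F := F) t).par J :=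
    Cfsg.Agent.S0312.result (D8 (F := F) t).bn (img_sub (D8 (F := F) t).rgd (D8 (F := F) t).hgen _)
  rw [← h0]
  refine mem_normalizer_of fun a ha => ?_
  have h1 := hk a ha
  rw [cx_apply, MulAut.conj_apply] at h1
  have h2 : k⁻¹ * g * k⁻¹⁻¹ * a * (k⁻¹ * g * k⁻¹⁻¹)⁻¹ = k⁻¹ * (g * (k * a * k⁻¹) * g⁻¹) * k := by group
  rw [h2]
  exact h1

/-- **the residue `A₇`**, inner automorphisms -/
theorem left_inner {g : ↥(chevE8.group F)} {s p : ℕ} (hs : s.Prime) (hst : s ≠ t)
    (he : orderOf ((Fintype.card F : ℕ) : ZMod s) = 10 ∨ orderOf ((Fintype.card F : ℕ) : ZMod s) = 12)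
    (hp : p.Prime) (hpt : p ≠ t) (hps : p ≠ s) (hg : orderOf g = p) (hPC : PC s (MulAut.conj g))
    (hF : (D8 (F := F) t).F (MulAut.conj g) (Finset.univ.erase 1)) :
    (D8 (F := F) t).F (MulAut.conj g) (Finset.univ.erase 7) := by
  classical
  have := (D8 (F := F) t).fin
  obtain ⟨k0, hk0⟩ := mem_of_F t hF
  have h2 : (D8 (F := F) t).par (Finset.univ.erase 1) = PJ cs8 hpE8.isCartan (T8 F) (X8 F) J1 :=
    par_eq (D8 (F := F) t).rgd (D8 (F := F) t).hgen (D8 (F := F) t).gg J1
  rw [h2, mem_PJ (R := (D8 (F := F) t).rgd)] at hk0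
  obtain ⟨l, hl, v, hv, hlv⟩ := hk0
  have ho0 : orderOf (k0 * g * k0⁻¹) = p := by
    rw [← MulAut.conj_apply, ← hg]
    exact orderOf_injective (MulAut.conj k0).toMonoidHom (MulAut.conj k0).injective g
  have hpV : ¬ p ∣ Nat.card (VJ cs8 hpE8.isCartan (X8 F) J1) := not_dvd_VJ t hp hpt J1
  obtain ⟨k1, hk1⟩ := exists_conj_mem (LJ_le_normalizer_VJ (R := (D8 (F := F) t).rgd) J1) hp hpV hl hv hlv ho0
  set g1 : ↥(chevE8.group F) := k1 * (k0 * g * k0⁻¹) * k1⁻¹ with hg1
  have hg1' : g1 = (k1 * k0) * g * (k1 * k0)⁻¹ := by rw [hg1]; group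
  have ho1 : orderOf g1 = p := by
    rw [hg1', ← MulAut.conj_apply, ← hg]
    exact orderOf_injective (MulAut.conj (k1 * k0)).toMonoidHom (MulAut.conj (k1 * k0)).injective g
  have hPC1 : PC s (MulAut.conj g1) := by
    rw [hg1', ← cj_conj]
    exact hPC.conj _
  -- `g1` lies in the core of the group of even level
  have hcore : g1 ∈ coreIn s (ME F) := hPC1.mem_coreIn hp hps hs ho1 ME_ne_top (LJ_le_ME hk1)
  set N := coreIn s (ME F) with hNdef
  have hN : ∀ g ∈ ME F, ∀ n ∈ N, g * n * g⁻¹ ∈ N := fun g hg n hn => coreIn_conj_mem hg hn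
  -- `g1` centralises the root groups of level two
  have hcent : ∀ v ∈ V2 F, g1 * v * g1⁻¹ = v := by
    intro v hv
    by_contra hne
    have h3 : g1 * v * g1⁻¹ * v⁻¹ ∈ V2 F := mul_mem (LJ_conj_V2 t hk1 hv) (inv_mem hv)
    have h4 : g1 * v * g1⁻¹ * v⁻¹ ∈ N := by
      have h5 : g1 * v * g1⁻¹ * v⁻¹ = g1 * (v * g1⁻¹ * v⁻¹) := by group
      rw [h5]
      exact mul_mem hcore (hN v (V2_le_ME hv) _ (inv_mem hcore))
    obtain ⟨u, hu0, hu⟩ := exists_single t hN h3 h4 (fun h => hne (mul_inv_eq_one.1 h))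
    have h5 := dvd_of_all t hs hst he (all_mem hN hu0 hu)
    exact hs.one_lt.ne' (Nat.Coprime.eq_one_of_dvd (coreIn_coprime (ME F)).symm h5)
  -- move the root group to the highest one
  obtain ⟨k2, hk2⟩ := exists_rp cs8 (D8 (F := F) t).rgd.nsys (cs8.wordProd w2)
  refine F_of_mem t (k := k2 * k1 * k0) (normalizer_le t ?_)
  have h6 : k2 * k1 * k0 * g * (k2 * k1 * k0)⁻¹ = k2 * g1 * k2⁻¹ := by rw [hg1']; group
  rw [h6]
  refine mem_normalizer_of fun y hy => ?_
  have h7 : k2⁻¹ * y * k2 ∈ X8 F (vec chevE8 8 232) := by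
    have h8 := (D8 (F := F) t).rgd.conj_mem' hk2 (isRoot8 (r := 239) (by norm_num)) hy
    have h9 := (rep_act w2 (r := 232) (by norm_num)).2
    rw [w2_ok] at h9
    rwa [← h9, rep_inv_apply] at h8
  have h8 : k2⁻¹ * y * k2 ∈ V2 F := RGD.le_Sup (X := X8 F) (S := RS fun z => z = 2)
    ⟨isRoot8 (by norm_num), (L2_spec (a := 232) (by decide)).2⟩ h7
  have h9 := hcent _ h8
  have h10 : k2 * g1 * k2⁻¹ * y * (k2 * g1 * k2⁻¹)⁻¹ = k2 * (g1 * (k2⁻¹ * y * k2) * g1⁻¹) * k2⁻¹ := by group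
  have h11 : k2 * (k2⁻¹ * y * k2) * k2⁻¹ = y := by group
  rw [h10, h9, h11]
  exact hy

/-! ### All automorphisms -/

open Cfsg.Agent.H79.FieldAuts Cfsg.Agent.H79.DiagAuts Cfsg.Agent.H79.OutChev Cfsg.Agent.H442.OutCyc in
omit t [Fact t.Prime] [CharP F t] in
/-- diagonal automorphisms of `E₈(F)` are inner -/
theorem inner_of_diag {d : MulAut ↥(chevE8.group F)} (hd : chevE8.IsDiagonalAut d) :
    ∃ c : ↥(chevE8.group F), d = MulAut.conj c := by
  have h1 : Nat.card (DB (D := chevE8) (by simp) F) ∣ 1 := Cfsg.Agent.H73.OI.card_DB_dvd _ F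
    (S1035.result (F := F) (q := Nat.card F) (Nat.card_eq_fintype_card (α := F)).symm (chevE8, 1) (by simp only [_root_.Nat.card_eq_fintype_card, _root_.List.mem_cons, _root_.Prod.mk.injEq, _root_.and_true, _root_.List.not_mem_nil, _root_.or_false, _root_.true_or, _root_.or_true]))
  have h2 : DB (D := chevE8) (by simp) F = ⊥ := Subgroup.card_eq_one.1 (Nat.dvd_one.1 h1)
  have h3 : (QuotientGroup.mk' (Inn ↥(chevE8.group F))) d ∈ DB (D := chevE8) (by simp) F := by
    obtain ⟨c, hc⟩ := (diagFacts (D := chevE8) (by simp) F).exists_c d hd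
    exact ⟨d, ⟨c, hc⟩, rfl⟩
  rw [h2, mem_bot] at h3
  obtain ⟨c, hc⟩ := (QuotientGroup.eq_one_iff (N := Inn ↥(chevE8.group F)) _).1 h3
  exact ⟨c, hc.symm⟩

include t in
theorem center_eq_bot [IsSimpleGroup ↥(chevE8.group F)] : Subgroup.center ↥(chevE8.group F) = ⊥ := by
  have := (D8 (F := F) t).fin
  rcases (inferInstance : (Subgroup.center ↥(chevE8.group F)).Normal).eq_bot_or_eq_top with h | h
  · exact h
  · exfalso
    refine par_ne_top (R := (D8 (F := F) t).rgd) (hgen := (D8 (F := F) t).hgen) (J := Finset.univ.erase 1) (by decide) ?_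
    have h0 := Cfsg.Agent.S0312.result (D8 (F := F) t).bn
      (img_sub (D8 (F := F) t).rgd (D8 (F := F) t).hgen ((Finset.univ.erase 1 : Finset (Fin 8)) : Set (Fin 8)))
    refine h0.symm.trans (eq_top_iff.2 fun g _ => mem_normalizer_of fun a ha => ?_)
    have h1 : g ∈ Subgroup.center ↥(chevE8.group F) := by rw [h]; trivial
    have h2 : g * a * g⁻¹ = a := by
      rw [← Subgroup.mem_center_iff.1 h1 a, mul_inv_cancel_right]
    rw [h2]
    exact ha

open Cfsg.Agent.H470.PiRad in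
/-- **the residue `A₇`** -/
theorem left1 [IsSimpleGroup ↥(chevE8.group F)] {x : MulAut ↥(chevE8.group F)} {s m : ℕ} (hs : s.Prime)
    (hst : s ≠ t) (hd : s ∣ Nat.card ↥(chevE8.group F))
    (he : orderOf ((Fintype.card F : ℕ) : ZMod s) = 10 ∨ orderOf ((Fintype.card F : ℕ) : ZMod s) = 12)
    (hx : (orderOf x).Prime) (hxs : orderOf x ≠ s) (hm : 11 ≤ m) (hTP : TP (D8 (F := F) t).bn x) (hPC : PC s x)
    (hFC : FC s m x) (hF : (D8 (F := F) t).F x (Finset.univ.erase 1)) :
    (D8 (F := F) t).F x (Finset.univ.erase 7) := by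
  have := (D8 (F := F) t).fin
  have ht : t.Prime := Fact.out
  by_cases hxt : orderOf x = t
  · -- the characteristic
    have h1 : (Finset.univ.erase 1 : Finset (Fin 8)) = {0, 2, 3, 4, 5, 6, 7} := by decide
    rw [h1] at hF
    have h2 : (D8 (F := F) t).F x {0, 2, 3, 4, 5, 6} := by
      refine hF.fx hx (pow_orderOf_eq_one x) hTP (by decide) ?_
      rw [TabE8.rel_0234567_7 (D8 (F := F) t), hxt]
      obtain ⟨k, -, hk⟩ := FiniteField.card F t
      have htq : t ∣ Fintype.card F := by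
        rw [hk]
        exact dvd_pow_self t k.pos.ne'
      intro h3
      have h4 : 1 + Fintype.card F + Fintype.card F ^ 2 + Fintype.card F ^ 3 + Fintype.card F ^ 4 +
          Fintype.card F ^ 5 + Fintype.card F ^ 6 + Fintype.card F ^ 7 = Fintype.card F * (1 + Fintype.card F +
          Fintype.card F ^ 2 + Fintype.card F ^ 3 + Fintype.card F ^ 4 + Fintype.card F ^ 5 + Fintype.card F ^ 6) + 1 := by
        ring
      rw [h4] at h3
      exact ht.one_lt.ne' (Nat.dvd_one.1 ((Nat.dvd_add_right (Dvd.dvd.mul_right htq _)).1 h3))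
    exact h2.up hTP (by decide)
  · have hZ := center_eq_bot (F := F) t
    obtain ⟨y, d, hdd, hxy⟩ := Cfsg.Agent.H73.Pi.FieldGen.cases_E8 hx hZ hs hd hm hFC
    obtain ⟨c, rfl⟩ := inner_of_diag hdd
    have h1 : x = MulAut.conj (y * c) := by
      ext1 a
      rw [hxy, MulAut.conj_apply, MulAut.conj_apply]
      group
    subst h1
    have h2 : orderOf (y * c) = orderOf (MulAut.conj (y * c)) := by
      refine (orderOf_injective (MulAut.conj : ↥(chevE8.group F) →* MulAut ↥(chevE8.group F)) ?_ _).symm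
      rw [injective_iff_map_eq_one]
      intro a ha
      have h3 : a ∈ Subgroup.center ↥(chevE8.group F) := by
        rw [Subgroup.mem_center_iff]
        intro b
        have h4 : a * b * a⁻¹ = b := by
          rw [← MulAut.conj_apply, ha]; rfl
        exact (mul_inv_eq_iff_eq_mul.1 h4).symm
      rwa [hZ, Subgroup.mem_bot] at h3
    exact left_inner t hs hst he hx hxt hxs h2 hPC hF

open Cfsg.Agent.H470.PiRad in
/-- the residue `A₇` does not occur -/
theorem left1_false [IsSimpleGroup ↥(chevE8.group F)] {x : MulAut ↥(chevE8.group F)} {s m : ℕ} (hs : s.Prime)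
    (hs3 : 3 ≤ s) (hst : s ≠ t) (hd : s ∣ Nat.card ↥(chevE8.group F))
    (he : orderOf ((Fintype.card F : ℕ) : ZMod s) = 10 ∨ orderOf ((Fintype.card F : ℕ) : ZMod s) = 12)
    (hx : (orderOf x).Prime) (hxs : orderOf x ≠ s) (hm : 11 ≤ m) (hTP : TP (D8 (F := F) t).bn x) (hPC : PC s x)
    (hFC : FC s m x) (hF : (D8 (F := F) t).F x (Finset.univ.erase 1)) : False := by
  have ht : t.Prime := Fact.out
  have h1 := left1 t hs hst hd he hx hxs hm hTP hPC hFC hF
  obtain ⟨e, he1, he2⟩ : ∃ e, orderOf ((Fintype.card F : ℕ) : ZMod s) = e ∧ e ∈ RowE8.L8 := by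
    rcases he with h | h
    · exact ⟨10, h, by decide⟩
    · exact ⟨12, h, by decide⟩
  have h2 := RowE8.leaf7 (D8 (F := F) t) ht hs hs3 hst Fintype.card_pos he1 he2 hTP hPC h1 (by decide)
  have h3 := RowE8.eq_one_of_empty (D8 (F := F) t) ht hs hs3 hst Fintype.card_pos he1 he2 hTP hPC h2
  rw [h3, orderOf_one] at hx
  exact absurd hx (by norm_num)

end Com

end Cfsg.Agent.H320.Cyc.LeftE8
end

private theorem dce_163d793ff284 : _root_.True := by
  try have : _root_.True := by simp only [_root_.Cfsg.Agent.H320.Cyc.LeftE8.rn.eq_1]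
  try have : _root_.True := by simp only [_root_.Cfsg.Agent.H320.Cyc.E8Tab.chkF.eq_2]
  try have : _root_.True := by simp only [_root_.Cfsg.Agent.H320.Cyc.E8Tab.chkF.eq_def]
  try have : _root_.True := by simp only [_root_.Cfsg.Agent.H320.Cyc.LeftE8.rn.eq_def]
  try have : _root_.True := by simp only [_root_.Cfsg.Agent.H320.Cyc.E8Tab.st._sparseCasesOn_1.else_eq]
  try have : _root_.True := by simp only [_root_.Cfsg.Agent.H320.Cyc.LeftE8.rn.eq_2]
  try have : _root_.True := by simp only [_root_.Cfsg.Agent.H320.Cyc.E8Tab.chkF.eq_1]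
  try have : _root_.True := by simp only [_root_.Cfsg.Agent.H320.Cyc.E8Tab.st._sparseCasesOn_2.else_eq]
  exact _root_.True.intro
end
end
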